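import Groth.Prelude.Def_CAlg
import Mathlib.RingTheory.Depth.Rees
import Mathlib.RingTheory.KrullDimension.Regular
import Mathlib.RingTheory.Ideal.AssociatedPrime.Finiteness
import Mathlib.RingTheory.Ideal.KrullsHeightTheorem

/-!
Regular sequences over Noetherian local rings: systems of parameters of a Cohen-Macaulay
local ring are regular sequences; cancellation lemmas for them.
-/

namespace Groth.Agent.LC16

universe u

set_option linter.unusedSectionVars false
set_option linter.overlappingInstances false

open IsLocalRing RingTheory.Sequence CategoryTheory CategoryTheory.Abelian Pointwise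

variable {R : Type u} [CommRing R] [IsNoetherianRing R] [IsLocalRing R]
variable {M : Type u} [AddCommGroup M] [Module R M] [Module.Finite R M]

lemma smul_top_lt_top [Nontrivial M] : maximalIdeal R • (⊤ : Submodule R M) < ⊤ := by
  refine lt_top_iff_ne_top.mpr fun h => ?_
  exact Submodule.top_ne_ideal_smul_of_le_jacobson_annihilator
    (maximalIdeal_le_jacobson (Module.annihilator R M)) h.symm

lemma isRegular_of_weakly [Nontrivial M] {rs : List R} (h : IsWeaklyRegular M rs)
    (hm : ∀ r ∈ rs, r ∈ maximalIdeal R) : IsRegular M rs := by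
  refine ⟨h, ?_⟩
  refine Submodule.top_ne_ideal_smul_of_le_jacobson_annihilator ?_
  exact le_trans (Ideal.span_le.mpr hm) (maximalIdeal_le_jacobson _)

lemma exists_regular_tail {rs : List R} (hr : IsRegular M rs) (hm : ∀ r ∈ rs, r ∈ maximalIdeal R)
    {k : ℕ} (hk : rs.length = k + 1) {y : R} (hy : IsSMulRegular M y) (hym : y ∈ maximalIdeal R) :
    ∃ ts : List R, ts.length = k ∧ (∀ r ∈ ts, r ∈ maximalIdeal R) ∧
      IsRegular (QuotSMulTop y M) ts := by
  have : Nontrivial M := hr.nontrivial
  let Mc := ModuleCat.of R M
  let N := ModuleCat.of R (R ⧸ maximalIdeal R)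
  have hs : Module.support R N = PrimeSpectrum.zeroLocus (maximalIdeal R : Set R) := by
    rw [Module.support_eq_zeroLocus, Ideal.annihilator_quotient]
  have h1 := ModuleCat.subsingleton_ext_of_exists_isRegular (maximalIdeal R) N hs.subset Mc
    smul_top_lt_top rs hm hr
  have : Nontrivial (QuotSMulTop y M) := by
    refine Submodule.Quotient.nontrivial_iff.mpr fun h => ?_
    exact Submodule.top_ne_pointwise_smul_of_mem_jacobson_annihilator
      (maximalIdeal_le_jacobson (Module.annihilator R M) hym) h.symm
  refine ModuleCat.exists_isRegular_of_exists_subsingleton_ext (maximalIdeal R) k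
    (ModuleCat.of R (QuotSMulTop y M)) smul_top_lt_top N hs fun i hi => ?_
  have zero1 := AddCommGrpCat.isZero_of_iff_subsingleton.mpr (h1 i (by omega))
  have zero2 := AddCommGrpCat.isZero_of_iff_subsingleton.mpr (h1 (i + 1) (by omega))
  have hyM : IsSMulRegular Mc y := hy
  exact AddCommGrpCat.subsingleton_of_isZero <| ShortComplex.Exact.isZero_of_both_zeros
    ((Ext.covariant_sequence_exact₃' N hyM.smulShortComplex_shortExact) i (i + 1) rfl)
    (zero1.eq_zero_of_src _) (zero2.eq_zero_of_tgt _)

lemma length_le_supportDim_quotient {rs : List R} (hr : IsRegular M rs)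
    (hm : ∀ r ∈ rs, r ∈ maximalIdeal R) {p : Ideal R} (hp : p ∈ associatedPrimes R M) :
    (rs.length : WithBot ℕ∞) ≤ Module.supportDim R (R ⧸ p) := by
  induction rs generalizing M p with
  | nil =>
    have : Nontrivial (R ⧸ p) := Ideal.Quotient.nontrivial_iff.mpr hp.isPrime.ne_top
    rw [List.length_nil, Nat.cast_zero]
    have h0 := (Module.supportDim_ne_bot_iff_nontrivial R (R ⧸ p)).mpr ‹_›
    rw [← WithBot.coe_unbot _ h0]
    exact WithBot.coe_le_coe.mpr bot_le
  | cons x xs ih =>
    obtain ⟨hx, hxs⟩ := (isRegular_cons_iff M x xs).mp hr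
    have hxm : x ∈ maximalIdeal R := hm x List.mem_cons_self
    have : p.IsPrime := hp.isPrime
    obtain ⟨w, hw⟩ := (isAssociatedPrime_iff.mp hp).2
    have hw0 : w ≠ 0 := by
      rintro rfl
      exact this.ne_top (by rw [hw]; simp)
    have hxp : x ∉ p := by
      intro h
      rw [hw, Submodule.mem_colon_singleton, Submodule.mem_bot] at h
      exact hw0 (hx.right_eq_zero_of_smul h)
    have hz : ∃ z : M, (∀ a ∈ p, a • z = 0) ∧ z ∉ x • (⊤ : Submodule R M) := by
      by_contra hcon
      simp only [not_exists, not_and, not_not] at hcon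
      let T : Submodule R M := Submodule.torsionBySet R M (p : Set R)
      have hT : T ≤ x • T := by
        intro z hz
        rw [Submodule.mem_torsionBySet_iff] at hz
        obtain ⟨v, -, rfl⟩ := hcon z (fun a ha => hz ⟨a, ha⟩)
        refine Submodule.smul_mem_pointwise_smul _ _ _ ?_
        rw [Submodule.mem_torsionBySet_iff]
        intro a
        refine hx.right_eq_zero_of_smul ?_
        rw [smul_comm]
        exact hz a
      have hT0 : T = ⊥ := Submodule.eq_bot_of_le_smul_of_le_jacobson_bot (Ideal.span {x}) T
        (IsNoetherian.noetherian _) (by rwa [Submodule.ideal_span_singleton_smul])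
        (by rw [jacobson_eq_maximalIdeal _ bot_ne_top, Ideal.span_singleton_le_iff_mem]; exact hxm)
      have : w ∈ T := by
        rw [Submodule.mem_torsionBySet_iff]
        rintro ⟨a, ha⟩
        rw [SetLike.mem_coe, hw, Submodule.mem_colon_singleton, Submodule.mem_bot] at ha
        exact ha
      rw [hT0, Submodule.mem_bot] at this
      exact hw0 this
    obtain ⟨z, hz1, hz2⟩ := hz
    obtain ⟨q, hq, hzq⟩ := exists_le_isAssociatedPrime_of_isNoetherianRing R
      (Submodule.Quotient.mk z : QuotSMulTop x M)
      (by rwa [ne_eq, Submodule.Quotient.mk_eq_zero])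
    have hle : p ⊔ Ideal.span {x} ≤ q := by
      refine sup_le (fun a ha => hzq ?_) ((Ideal.span_singleton_le_iff_mem _).mpr (hzq ?_)) <;>
        rw [Submodule.mem_colon_singleton, Submodule.mem_bot, ← Submodule.Quotient.mk_smul,
          Submodule.Quotient.mk_eq_zero]
      · rw [hz1 a ha]; exact zero_mem _
      · exact Submodule.smul_mem_pointwise_smul _ _ _ Submodule.mem_top
    have h2 := ih hxs (fun r hr => hm r (List.mem_cons_of_mem _ hr)) (p := q) hq
    have hreg : IsSMulRegular (R ⧸ p) x := by
      refine IsSMulRegular.of_right_eq_zero_of_smul fun v hv => ?_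
      obtain ⟨v, rfl⟩ := Submodule.Quotient.mk_surjective _ v
      rw [← Submodule.Quotient.mk_smul, Submodule.Quotient.mk_eq_zero, smul_eq_mul] at hv
      exact (Submodule.Quotient.mk_eq_zero _).mpr ((this.mem_or_mem hv).resolve_left hxp)
    have h3 := Module.supportDim_quotSMulTop_succ_eq_supportDim hreg hxm
    have h4 : Module.supportDim R (R ⧸ q) ≤ Module.supportDim R (QuotSMulTop x (R ⧸ p)) := by
      refine Module.supportDim_le_of_surjective
        (Submodule.liftQ _ (Submodule.factor (le_sup_left.trans hle)) ?_) ?_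
      · intro v hv
        obtain ⟨v, -, rfl⟩ := hv
        obtain ⟨v, rfl⟩ := Submodule.Quotient.mk_surjective _ v
        change (Submodule.Quotient.mk (x * v) : R ⧸ q) = 0
        rw [Submodule.Quotient.mk_eq_zero]
        exact q.mul_mem_right _ (hle (Ideal.mem_sup_right (Ideal.mem_span_singleton_self x)))
      · intro v
        obtain ⟨v, rfl⟩ := Submodule.Quotient.mk_surjective _ v
        exact ⟨Submodule.Quotient.mk (Submodule.Quotient.mk v), rfl⟩
    rw [List.length_cons, Nat.cast_add, Nat.cast_one, ← h3]
    exact add_le_add (h2.trans h4) le_rfl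

omit [Module.Finite R M] in
lemma le_annihilator_quotSMulTop (b : R) :
    Module.annihilator R M ⊔ Ideal.span {b} ≤ Module.annihilator R (QuotSMulTop b M) := by
  refine sup_le (LinearMap.annihilator_le_of_surjective (R := R) _ (Submodule.mkQ_surjective _)) ?_
  rw [Ideal.span_singleton_le_iff_mem, Module.mem_annihilator]
  intro v
  obtain ⟨v, rfl⟩ := Submodule.Quotient.mk_surjective _ v
  rw [← Submodule.Quotient.mk_smul, Submodule.Quotient.mk_eq_zero]
  exact Submodule.smul_mem_pointwise_smul _ _ _ Submodule.mem_top

lemma supportDim_le_of_le_radical (bs : List R) (hm : ∀ b ∈ bs, b ∈ maximalIdeal R)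
    (h : maximalIdeal R ≤ (Module.annihilator R M ⊔ Ideal.ofList bs).radical) :
    Module.supportDim R M ≤ (bs.length : WithBot ℕ∞) := by
  induction bs generalizing M with
  | nil =>
    rw [Ideal.ofList_nil, sup_bot_eq] at h
    have : Subsingleton (Module.support R M) := by
      refine ⟨fun p q => Subtype.ext (PrimeSpectrum.ext ?_)⟩
      have e : ∀ s : Module.support R M, s.1.asIdeal = maximalIdeal R := fun s =>
        le_antisymm (le_maximalIdeal s.1.2.ne_top)
          (h.trans (s.1.2.radical_le_iff.mpr (Module.mem_support_iff_of_finite.mp s.2)))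
      rw [e p, e q]
    exact Order.krullDim_nonpos_of_subsingleton
  | cons b bs ih =>
    rw [Ideal.ofList_cons, ← sup_assoc] at h
    have h1 := ih (M := QuotSMulTop b M) (fun r hr => hm r (List.mem_cons_of_mem _ hr))
      (h.trans (Ideal.radical_mono (sup_le_sup_right (le_annihilator_quotSMulTop b) _)))
    calc Module.supportDim R M ≤ Module.supportDim R (QuotSMulTop b M) + 1 :=
          Module.supportDim_le_supportDim_quotSMulTop_succ (hm b List.mem_cons_self)
      _ ≤ (bs.length : WithBot ℕ∞) + 1 := add_le_add h1 le_rfl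
      _ = _ := by rw [List.length_cons, Nat.cast_add, Nat.cast_one]

lemma isWeaklyRegular_of_le_radical (rs bs : List R) (hr : IsRegular M rs)
    (hrm : ∀ r ∈ rs, r ∈ maximalIdeal R) (hlen : bs.length = rs.length)
    (hbm : ∀ b ∈ bs, b ∈ maximalIdeal R)
    (h : maximalIdeal R ≤ (Module.annihilator R M ⊔ Ideal.ofList bs).radical) :
    IsWeaklyRegular M bs := by
  induction bs generalizing M rs with
  | nil => exact .nil R M
  | cons b bs ih =>
    rw [List.length_cons] at hlen
    rw [Ideal.ofList_cons, ← sup_assoc] at h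
    have hb : IsSMulRegular M b := by
      refine IsSMulRegular.of_right_eq_zero_of_smul fun v hv => ?_
      by_contra hv0
      obtain ⟨p, hp, hle⟩ := exists_le_isAssociatedPrime_of_isNoetherianRing R v hv0
      have hbp : b ∈ p := hle (by rwa [Submodule.mem_colon_singleton, Submodule.mem_bot])
      have hann : Module.annihilator R M ≤ p := fun a ha =>
        hle (by rw [Submodule.mem_colon_singleton, Submodule.mem_bot]
                exact Module.mem_annihilator.mp ha v)
      have h1 := length_le_supportDim_quotient hr hrm (p := p) hp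
      have h2 : Module.supportDim R (R ⧸ p) ≤ (bs.length : WithBot ℕ∞) := by
        refine supportDim_le_of_le_radical bs (fun r hr => hbm r (List.mem_cons_of_mem _ hr))
          (h.trans (Ideal.radical_mono (sup_le_sup_right ?_ _)))
        rw [Ideal.annihilator_quotient]
        exact sup_le hann ((Ideal.span_singleton_le_iff_mem _).mpr hbp)
      have h3 := h1.trans h2
      rw [← hlen, Nat.cast_le] at h3
      omega
    obtain ⟨ts, hts, htm, htr⟩ := exists_regular_tail hr hrm hlen.symm hb (hbm b List.mem_cons_self)
    exact (isWeaklyRegular_cons_iff M b bs).mpr ⟨hb, ih ts htr htm hts.symm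
      (fun r hr => hbm r (List.mem_cons_of_mem _ hr))
      (h.trans (Ideal.radical_mono (sup_le_sup_right (le_annihilator_quotSMulTop b) _)))⟩

lemma exists_isRegular_of_CM [LocCoh.IsCohenMacaulayLocalRing R] {n : ℕ}
    (hdim : ringKrullDim R = n) :
    ∃ rs : List R, rs.length = n ∧ (∀ r ∈ rs, r ∈ maximalIdeal R) ∧ IsRegular R rs := by
  have h := LocCoh.IsCohenMacaulayLocalRing.supportDim_eq_depth (R := R)
  rw [Module.supportDim_self_eq_ringKrullDim, hdim] at h
  have hd : LocCoh.depth R R = (n : ℕ∞) := by
    rw [← WithBot.coe_inj, ← h]; rfl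
  rcases Nat.eq_zero_or_pos n with rfl | hn
  · exact ⟨[], rfl, by simp, IsRegular.nil R R⟩
  rw [LocCoh.depth, LocCoh.idealDepth, if_neg smul_top_lt_top.ne] at hd
  have h1 : ((n - 1 : ℕ) : ℕ∞) < (n : ℕ∞) := by exact_mod_cast (show n - 1 < n by omega)
  rw [← hd] at h1
  obtain ⟨rs, hrs⟩ := lt_iSup_iff.mp h1
  obtain ⟨⟨hreg, hmem⟩, hlt⟩ := lt_iSup_iff.mp hrs
  have hlt' : n - 1 < rs.length := by exact_mod_cast hlt
  refine ⟨rs.take n, by simp; omega, fun r hr => hmem r (List.mem_of_mem_take hr), ?_⟩
  refine isRegular_of_weakly ?_ (fun r hr => hmem r (List.mem_of_mem_take hr))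
  rw [← List.take_append_drop n rs, isWeaklyRegular_append_iff] at hreg
  exact hreg.1

/-- in a Cohen-Macaulay local ring an element of a system of parameters is regular
modulo the ideal of the others -/
theorem sop_cancel [LocCoh.IsCohenMacaulayLocalRing R] {n : ℕ} (hdim : ringKrullDim R = n)
    (a : Fin n → R) (hsop : (Ideal.span (Set.range a)).radical = maximalIdeal R) (i : Fin n)
    {z : R} (hz : z * a i ∈ Ideal.span (a '' {j | j ≠ i})) : z ∈ Ideal.span (a '' {j | j ≠ i}) := by
  classical
  obtain ⟨rs, hlen, hrm, hrs⟩ := exists_isRegular_of_CM hdim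
  set others := ((List.finRange n).erase i).map a with hothers
  have ham : ∀ j, a j ∈ maximalIdeal R := fun j =>
    hsop ▸ Ideal.le_radical (Ideal.subset_span ⟨j, rfl⟩)
  have hspan : Ideal.ofList others = Ideal.span (a '' {j | j ≠ i}) := by
    refine congrArg Ideal.span (Set.ext fun x => ?_)
    simp [hothers, (List.nodup_finRange n).mem_erase_iff, and_comm]
  have hlen' : (others ++ [a i]).length = rs.length := by
    have := i.2
    simp [hothers, List.length_erase_of_mem (List.mem_finRange i), hlen]
    omega
  have hreg : IsWeaklyRegular R (others ++ [a i]) := by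
    refine isWeaklyRegular_of_le_radical rs _ hrs hrm hlen' ?_ ?_
    · intro b hb
      simp only [hothers, List.mem_append, List.mem_map, List.mem_singleton] at hb
      rcases hb with ⟨j, -, rfl⟩ | rfl <;> exact ham _
    · rw [← hsop]
      refine Ideal.radical_mono (le_trans (Ideal.span_le.mpr ?_) le_sup_right)
      rintro _ ⟨j, rfl⟩
      refine Ideal.subset_span ?_
      show a j ∈ others ++ [a i]
      by_cases hj : j = i
      · simp [hj]
      · simp only [hothers, List.mem_append, List.mem_map]
        exact Or.inl ⟨j, (List.nodup_finRange n).mem_erase_iff.mpr ⟨hj, List.mem_finRange j⟩, rfl⟩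
  rw [isWeaklyRegular_append_iff, isWeaklyRegular_singleton_iff] at hreg
  rw [← hspan] at hz ⊢
  have h := hreg.2.right_eq_zero_of_smul (x := Submodule.Quotient.mk z) (by
    rw [← Submodule.Quotient.mk_smul, Submodule.Quotient.mk_eq_zero, smul_eq_mul, smul_eq_mul,
      Ideal.mul_top, mul_comm]
    exact hz)
  rwa [Submodule.Quotient.mk_eq_zero, smul_eq_mul, Ideal.mul_top] at h

end Groth.Agent.LC16
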