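import Groth.Agent.LC16.ExtDepthSheaf
import Groth.Agent.E4O.JacobsonLocalDim
import Groth.Agent.Cyc90.FieldSetup
import Groth.Agent.CAlg1.AB
import Groth.Agent.CAlg1.Serre
import Groth.Agent.Div89.FreeStalks
import Groth.Agent.QC70.PushClosed
import Groth.Agent.QC70.CohOps
import Groth.Agent.Props58.LocFree.Criteria

set_option autoImplicit false
set_option backward.isDefEq.respectTransparency.types false
set_option linter.style.haveILetI false

/-!
Vanishing of the `Ext` sheaves of a closed subscheme below the codimension.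
-/

noncomputable section

universe u

open CategoryTheory Limits AlgebraicGeometry TopologicalSpace

namespace Groth.Agent.LC16.ExtCodim

/-- At a point of a scheme of pure dimension `n` over a field, the dimension of the local ring is at
least `n` minus the dimension of the closure. -/
theorem natCast_le_dim_stalk {k : Type u} [Field k] {P : Scheme.{u}} (g : P ⟶ Spec (CommRingCat.of k))
    [LocallyOfFiniteType g] (n : ℕ)
    (hP : ∀ Z : Set ↥P, Z ∈ irreducibleComponents ↥P → topologicalKrullDim ↥Z = (n : WithBot ℕ∞))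
    (x : P) :
    ∃ N M : ℕ, topologicalKrullDim ↥(closure ({x} : Set P)) = (N : WithBot ℕ∞) ∧
      (M : WithBot ℕ∞) ≤ ringKrullDim (P.presheaf.stalk x) ∧ n ≤ N + M := by
  haveI : IsLocallyNoetherian P := LocallyOfFiniteType.isLocallyNoetherian g
  haveI : JacobsonSpace P := LocallyOfFiniteType.jacobsonSpace g
  obtain ⟨δ, hδ, h0⟩ := E4O.exists_dimFun_lft g (fun _ => 0) (Cyc90.isSetup_spec_field k) fun _ _ => rfl
  obtain ⟨η, hηx, hη⟩ := E4O.exists_component_generic_jac x
  have h1 := hP _ hη
  rw [Cyc90.topologicalKrullDim_closure hδ.2.2 h0 η] at h1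
  have h2 : ((δ η - δ x).toNat : WithBot ℕ∞) ≤ topologicalKrullDim ↥{t : P | t ⤳ x} :=
    E4O.delta_sub_le_dim hδ.2.2 _ hηx fun t _ h => h
  rw [← P.range_fromSpecStalk,
    ← IsHomeomorph.topologicalKrullDim_eq _
      (P.fromSpecStalk x).isEmbedding.toHomeomorph.isHomeomorph] at h2
  refine ⟨(δ x).toNat, (δ η - δ x).toNat, Cyc90.topologicalKrullDim_closure hδ.2.2 h0 x, ?_, ?_⟩
  · exact h2.trans (le_of_eq (PrimeSpectrum.topologicalKrullDim_eq_ringKrullDim _))
  · have h3 : (δ η).toNat = n := by exact_mod_cast h1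
    omega

theorem isCoh_structureModule (X : Scheme.{u}) [IsLocallyNoetherian X] : Coh.IsCoh (Coh.structureModule X) :=
  QC70.isCoh_unit

/-- **Vanishing below the codimension.** -/
theorem isZero_extSh_of_codim {k : Type u} [Field k] {P X : Scheme.{u}} (g : P ⟶ Spec (CommRingCat.of k))
    [LocallyOfFiniteType g] (hreg : ∀ p : P, IsRegularLocalRing (P.presheaf.stalk p)) (n r : ℕ)
    (hP : ∀ Z : Set ↥P, Z ∈ irreducibleComponents ↥P → topologicalKrullDim ↥Z = (n : WithBot ℕ∞))
    (ι : X ⟶ P) [IsClosedImmersion ι] (hX : topologicalKrullDim ↥X + (r : WithBot ℕ∞) ≤ (n : WithBot ℕ∞))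
    (E : P.Modules) (hE : FlatMod.IsFinLocFree E)
    [ModSite.HasSheafHom (O := P.sheaf) ((Scheme.Modules.pushforward ι).obj (Coh.structureModule X))]
    [HasInjectiveResolutions (ModSite.Mod P.sheaf)] (i : ℕ) (hi : i < r) :
    IsZero ((ModSite.extSh (O := P.sheaf)
      ((Scheme.Modules.pushforward ι).obj (Coh.structureModule X)) i).obj E) := by
  haveI : IsLocallyNoetherian P := LocallyOfFiniteType.isLocallyNoetherian g
  haveI : IsLocallyNoetherian X := LocallyOfFiniteType.isLocallyNoetherian ι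
  haveI : (Coh.structureModule X).IsFiniteType := (isCoh_structureModule X).2
  have hE' : Coh.IsCoh E :=
    ⟨Props58.LocFree.isQuasicoherent_of_isFinLocFree hE, Props58.LocFree.isFiniteType_of_isFinLocFree hE⟩
  refine ExtDepthSheaf.isZero_extSh_of_depth_ge hE'
    (QC70.isCoh_pushforward ι (Coh.structureModule X) (isCoh_structureModule X)) r (fun p hp => ?_) i hi
  obtain ⟨y, rfl⟩ := QC70.support_pushforward_subset ι (Coh.structureModule X) hp
  have : Module.Free (P.presheaf.stalk (ι y)) (E.presheaf.stalk (ι y)) :=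
    (Div89.isFinLocFree_iff_free_stalks hE').1 hE _
  haveI := hE'.1
  haveI := hE'.2
  haveI : Module.Finite (P.presheaf.stalk (ι y)) (E.presheaf.stalk (ι y)) := QC70.finite_stalk E _
  rcases subsingleton_or_nontrivial (E.presheaf.stalk (ι y)) with h | h
  · rw [EGA4Alg4.depth_of_subsingleton]
    exact le_top
  rw [CAlg1.depth_eq_of_free]
  haveI := hreg (ι y)
  obtain ⟨N, M, hN, hM, hnNM⟩ := natCast_le_dim_stalk g n hP (ι y)
  have hcl : topologicalKrullDim ↥(closure ({ι y} : Set P)) ≤ topologicalKrullDim ↥X := by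
    have hsub : closure ({ι y} : Set P) ⊆ Set.range ι :=
      closure_minimal (Set.singleton_subset_iff.2 ⟨y, rfl⟩) ι.isClosedEmbedding.isClosed_range
    refine (Topology.IsEmbedding.inclusion hsub).isInducing.topologicalKrullDim_le.trans ?_
    exact (IsHomeomorph.topologicalKrullDim_eq _
      ι.isClosedEmbedding.isEmbedding.toHomeomorph.isHomeomorph).ge
  rw [hN] at hcl
  have h4 : ((N + r : ℕ) : WithBot ℕ∞) ≤ (n : WithBot ℕ∞) := by
    rw [Nat.cast_add]
    exact (add_le_add_left hcl _).trans hX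
  have h5 : N + r ≤ n := by exact_mod_cast h4
  have h6 : ((LocCoh.depth (P.presheaf.stalk (ι y)) (P.presheaf.stalk (ι y)) : ℕ∞) : WithBot ℕ∞) =
      ringKrullDim (P.presheaf.stalk (ι y)) := by
    obtain ⟨d, hd⟩ : ∃ d : ℕ, ringKrullDim (P.presheaf.stalk (ι y)) = (d : WithBot ℕ∞) :=
      ⟨_, IsRegularLocalRing.spanFinrank_maximalIdeal.symm⟩
    rw [CAlg1.depth_regular _ hd, hd]
    rfl
  rw [← h6] at hM
  have h7 : ((M : ℕ) : ℕ∞) ≤ LocCoh.depth (P.presheaf.stalk (ι y)) (P.presheaf.stalk (ι y)) := by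
    exact_mod_cast hM
  exact le_trans (by exact_mod_cast (show r ≤ M by omega)) h7

end Groth.Agent.LC16.ExtCodim
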