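import Groth.Agent.LC16.DualAnn
import Groth.Prelude.Def_Formal2
import Mathlib.RingTheory.Spectrum.Prime.Topology

/-!
`Formal2.dimBetween` and the dimension function of a dualizing complex.
-/

set_option autoImplicit false

noncomputable section

universe u

open CategoryTheory
attribute [local instance] HasDerivedCategory.standard

namespace Groth.Agent.LC16.DimBetween

variable {A : Type u} [CommRing A] (p q : PrimeSpectrum A)

/-- the ring of the interval -/
abbrev Ring' : Type u :=
  Localization.AtPrime q.asIdeal ⧸ p.asIdeal.map (algebraMap A (Localization.AtPrime q.asIdeal))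

/-- the interval as primes of `A` -/
def toSpec (r : PrimeSpectrum (Ring' p q)) : PrimeSpectrum A :=
  PrimeSpectrum.comap (algebraMap A (Localization.AtPrime q.asIdeal))
    (PrimeSpectrum.comap (Ideal.Quotient.mk _) r)

theorem toSpec_le_iff {r r' : PrimeSpectrum (Ring' p q)} : toSpec p q r ≤ toSpec p q r' ↔ r ≤ r' := by
  refine ⟨fun h => ?_, fun h => Ideal.comap_mono (Ideal.comap_mono h)⟩
  have h1 := Ideal.map_mono (f := algebraMap A (Localization.AtPrime q.asIdeal))
    (show (toSpec p q r).asIdeal ≤ (toSpec p q r').asIdeal from h)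
  have e : ∀ x : PrimeSpectrum (Ring' p q), (toSpec p q x).asIdeal.map
      (algebraMap A (Localization.AtPrime q.asIdeal)) =
      (PrimeSpectrum.comap (Ideal.Quotient.mk _) x).asIdeal := fun x =>
    IsLocalization.map_under q.asIdeal.primeCompl (Localization.AtPrime q.asIdeal) _
  rw [e, e] at h1
  let π : Localization.AtPrime q.asIdeal →+* Ring' p q := Ideal.Quotient.mk _
  have hπ : Function.Surjective π := Ideal.Quotient.mk_surjective
  have h2 : Ideal.comap π r.asIdeal ≤ Ideal.comap π r'.asIdeal := h1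
  show r.asIdeal ≤ r'.asIdeal
  intro x hx
  obtain ⟨y, rfl⟩ := hπ x
  exact h2 hx

theorem toSpec_strictMono : StrictMono (toSpec p q) := fun r r' h =>
  lt_of_le_not_ge ((toSpec_le_iff p q).2 h.le) fun h' => h.not_ge ((toSpec_le_iff p q).1 h')

theorem toSpec_mem (r : PrimeSpectrum (Ring' p q)) : p ≤ toSpec p q r ∧ toSpec p q r ≤ q := by
  refine ⟨fun a ha => ?_, ?_⟩
  · show Ideal.Quotient.mk _ (algebraMap A _ a) ∈ r.asIdeal
    rw [Ideal.Quotient.eq_zero_iff_mem.2 (Ideal.mem_map_of_mem _ ha)]
    exact zero_mem _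
  · intro a ha
    by_contra haq
    let B := Localization.AtPrime q.asIdeal
    let π : B →+* Ring' p q := Ideal.Quotient.mk _
    have hu : IsUnit (π (algebraMap A B a)) :=
      (IsLocalization.map_units B (⟨a, haq⟩ : q.asIdeal.primeCompl)).map π
    exact r.2.ne_top (Ideal.eq_top_of_isUnit_mem _ ha hu)

theorem exists_toSpec {r : PrimeSpectrum A} (h : p ≤ r) (h' : r ≤ q) : ∃ r', toSpec p q r' = r := by
  have hd : Disjoint (q.asIdeal.primeCompl : Set A) (r.asIdeal : Set A) :=
    Set.disjoint_left.2 fun a ha har => ha (h' har)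
  have hp : (r.asIdeal.map (algebraMap A (Localization.AtPrime q.asIdeal))).IsPrime :=
    IsLocalization.isPrime_of_isPrime_disjoint q.asIdeal.primeCompl _ _ r.2 hd
  have hc := IsLocalization.comap_map_of_isPrime_disjoint q.asIdeal.primeCompl
    (Localization.AtPrime q.asIdeal) r.2 hd
  haveI := hp
  have hker : RingHom.ker (Ideal.Quotient.mk (p.asIdeal.map (algebraMap A (Localization.AtPrime q.asIdeal)))) ≤
      r.asIdeal.map (algebraMap A (Localization.AtPrime q.asIdeal)) := by
    rw [Ideal.mk_ker]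
    exact Ideal.map_mono h
  refine ⟨⟨(r.asIdeal.map (algebraMap A _)).map (Ideal.Quotient.mk _),
    Ideal.map_isPrime_of_surjective Ideal.Quotient.mk_surjective hker⟩, PrimeSpectrum.ext ?_⟩
  show (Ideal.comap _ (Ideal.comap _ (Ideal.map _ _))) = r.asIdeal
  rw [Ideal.comap_map_of_surjective _ Ideal.Quotient.mk_surjective, ← RingHom.ker_eq_comap_bot,
    sup_eq_left.2 hker]
  exact hc

/-- chains between `p` and `q` are bounded by the dimension -/
theorem length_le {d : ℕ} (hd : Formal2.dimBetween A p.asIdeal q.asIdeal ≤ ((d : ℕ∞) : WithBot ℕ∞))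
    (l : LTSeries (PrimeSpectrum A)) (hl : l.head = p) (hl' : l.last = q) : l.length ≤ d := by
  have hmem : ∀ k, ∃ r', toSpec p q r' = l k := fun k =>
    exists_toSpec p q (hl ▸ LTSeries.head_le l k) (hl' ▸ l.monotone (Fin.le_last k))
  choose g hg using hmem
  let m : LTSeries (PrimeSpectrum (Ring' p q)) :=
    { length := l.length
      toFun := g
      step := fun k => by
        have hs : l k.castSucc < l k.succ := l.step k
        rw [← hg k.castSucc, ← hg k.succ] at hs
        exact lt_of_le_not_ge ((toSpec_le_iff p q).1 hs.le) fun h => hs.not_ge ((toSpec_le_iff p q).2 h) }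
  have := (Order.LTSeries.length_le_krullDim m).trans hd
  have h2 : (m.length : ℕ) ≤ d := by exact_mod_cast this
  exact h2

variable {ω : Dual.D A} (hω : Dual.IsDualizing A ω)

theorem mu_sub_le {d : ℕ} (h : p ≤ q)
    (hd : Formal2.dimBetween A p.asIdeal q.asIdeal ≤ ((d : ℕ∞) : WithBot ℕ∞)) :
    DualAnn.mu hω q - DualAnn.mu hω p ≤ d :=
  DualAnn.mu_sub_le_dim hω h fun l h1 h2 => length_le p q hd l h1 h2

/-- the dimension is at most the difference of `mu` -/
theorem dimBetween_le (h : p ≤ q) :
    Formal2.dimBetween A p.asIdeal q.asIdeal ≤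
      (((DualAnn.mu hω q - DualAnn.mu hω p).toNat : ℕ∞) : WithBot ℕ∞) := by
  refine iSup_le fun l => ?_
  have h1 := DualAnn.mu_chain hω (l.map (toSpec p q) (toSpec_strictMono p q))
  rw [LTSeries.head_map, LTSeries.last_map] at h1
  have h2 := DualAnn.mu_mono hω (toSpec_mem p q l.head).1
  have h3 := DualAnn.mu_mono hω (toSpec_mem p q l.last).2
  simp only [LTSeries.map_length] at h1
  exact_mod_cast (show l.length ≤ (DualAnn.mu hω q - DualAnn.mu hω p).toNat by omega)

/-- Converting a strict inequality with a depth. -/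
theorem lt_of_lt_add {n k m : ℕ} {e : WithBot ℕ∞} (he : e ≤ ((m : ℕ∞) : WithBot ℕ∞))
    (h : ((n : ℕ∞) : WithBot ℕ∞) < ((k : ℕ∞) : WithBot ℕ∞) + e) : n < k + m := by
  have h1 := h.trans_le (add_le_add le_rfl he)
  rw [← WithBot.coe_add, WithBot.coe_lt_coe] at h1
  exact_mod_cast h1

end Groth.Agent.LC16.DimBetween
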