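import Groth.Agent.LC16.SuppT2
import Mathlib.Order.KrullDimension

/-!
# Pro-zero and injectivity of images for `H_T` from pointwise conditions
-/

set_option autoImplicit false
set_option maxHeartbeats 1000000

noncomputable section

universe u

open CategoryTheory

namespace Groth.Agent.LC16.SuppT

open Groth.Agent.LC15 Groth.Agent.LC16.LocH

variable {A : Type u} [CommRing A]

/-- `T` has no chain of length `e`. -/
def DimLt (T : Set (PrimeSpectrum A)) (e : ℕ) : Prop := ∀ l : LTSeries T, l.length < e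

theorem dimLt_drop {T : Set (PrimeSpectrum A)} {e : ℕ} (h : DimLt T (e + 1)) : DimLt (drop T) e := by
  intro l
  obtain ⟨p, hp, hlt⟩ := l.head.2.2
  let ι : ↥(drop T) → ↥T := fun q => ⟨q.1, q.2.1⟩
  have hι : StrictMono ι := fun _ _ hab => hab
  have := h ((l.map ι hι).cons ⟨p, hp⟩ (by rw [LTSeries.head_map]; exact hlt))
  simp only [RelSeries.cons_length, LTSeries.map_length] at this
  omega

theorem eq_empty_of_dimLt_zero {T : Set (PrimeSpectrum A)} (h : DimLt T 0) : T = ∅ :=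
  Set.eq_empty_of_forall_notMem fun p hp =>
    Nat.not_lt_zero _ (h (RelSeries.singleton _ (⟨p, hp⟩ : T)))

theorem dimLt_succ_of_krullDim_le {T : Set (PrimeSpectrum A)} {e : ℕ}
    (he : Order.krullDim ↥T ≤ (e : WithBot ℕ∞)) : DimLt T (e + 1) := fun l => by
  have h1 : ((l.length : ℕ∞) : WithBot ℕ∞) ≤ ((e : ℕ∞) : WithBot ℕ∞) := (le_iSup (fun l : LTSeries T =>
    ((l.length : ℕ∞) : WithBot ℕ∞)) l).trans he
  rw [WithBot.coe_le_coe, Nat.cast_le] at h1
  omega

theorem HT_subsingleton_of_empty {T : Set (PrimeSpectrum A)} (hT : T = ∅) (i : ℕ) (M : Type u)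
    [AddCommGroup M] [Module A M] (y : Dual2.HT T i M) : y = 0 := by
  obtain ⟨I, hI, z, rfl⟩ := toT_surj T i M y
  have htop : I = ⊤ := PrimeSpectrum.zeroLocus_empty_iff_eq_top.1 (Set.subset_eq_empty (hT ▸ hI) rfl)
  subst htop
  haveI : Subsingleton (LocCoh.H (⊤ : Ideal A) i M) :=
    subsingleton_H_of_smul_bijective ⊤ (a := 1) Submodule.mem_top
      (by simp only [one_smul]; exact Function.bijective_id) i
  rw [Subsingleton.elim z 0, map_zero]

variable [IsNoetherianRing A] (p : PrimeSpectrum A)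

/-- The functor on localized local cohomology. -/
abbrev locMapH (i : ℕ) {M N : Type u} [AddCommGroup M] [Module A M] [AddCommGroup N] [Module A N]
    (f : M →ₗ[A] N) :=
  (localCohomology (IsLocalRing.maximalIdeal (Localization.AtPrime p.asIdeal)) i).map
    (ModuleCat.ofHom (LocalizedModule.map p.asIdeal.primeCompl f))

theorem local_image {I : Ideal A} (hI : I ≤ p.asIdeal)
    (hmin : ∀ q : PrimeSpectrum A, I ≤ q.asIdeal → q ≤ p → q = p) (i : ℕ) {M N : Type u}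
    [AddCommGroup M] [Module A M] [AddCommGroup N] [Module A N] (f : M →ₗ[A] N)
    (z : LocCoh.H I i M)
    (w : LocCoh.H (IsLocalRing.maximalIdeal (Localization.AtPrime p.asIdeal)) i
      (LocalizedModule p.asIdeal.primeCompl N))
    (hw : HofLE (IS_le_maximal p hI) i _ w = L p.asIdeal.primeCompl I i N (Hmap I i f z)) :
    ∃ w₀, (locMapH p i f).hom w₀ = w ∧
      HofLE (IS_le_maximal p hI) i _ w₀ = L p.asIdeal.primeCompl I i M z := by
  have hbij := fun (W : Type u) [AddCommGroup W] [Module (Localization.AtPrime p.asIdeal) W] =>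
    HofLE_bijective_radical (M := W) (IS_le_maximal p hI) i (maximal_le_radical p hmin)
  obtain ⟨w₀, hw₀⟩ := (hbij _).2 (L p.asIdeal.primeCompl I i M z)
  refine ⟨w₀, (hbij _).1 ?_, hw₀⟩
  show HofLE (IS_le_maximal p hI) i _
    (Hmap (IsLocalRing.maximalIdeal (Localization.AtPrime p.asIdeal)) i
      (LocalizedModule.map p.asIdeal.primeCompl f) w₀) = _
  rw [HofLE_Hmap, hw₀, hw, L_natural]

/-- Pointwise zero maps kill off the prime. -/
theorem killed_of_map_eq_zero {I : Ideal A} (hI : I ≤ p.asIdeal)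
    (hmin : ∀ q : PrimeSpectrum A, I ≤ q.asIdeal → q ≤ p → q = p) (i : ℕ) {M N : Type u}
    [AddCommGroup M] [Module A M] [AddCommGroup N] [Module A N] (f : M →ₗ[A] N)
    (h : locMapH p i f = 0) (z : LocCoh.H I i M) :
    ∃ a, a ∉ p.asIdeal ∧ a • Hmap I i f z = 0 :=
  exists_smul_eq_zero_of_local p hI hmin i _ fun w hw => by
    obtain ⟨w₀, rfl, -⟩ := local_image p hI hmin i f z w hw
    rw [h]
    rfl

omit p

variable (M : ℕ → Type u) [∀ n, AddCommGroup (M n)] [∀ n, Module A (M n)]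
  (φ : ∀ k m : ℕ, m ≤ k → (M k →ₗ[A] M m))
  (hφ : ∀ (k l m : ℕ) (h₁ : m ≤ l) (h₂ : l ≤ k), φ k m (h₁.trans h₂) = φ l m h₁ ∘ₗ φ k l h₂)
  (i : ℕ) (m' : ℕ → ℕ) (hm' : ∀ m, m ≤ m' m)

include hφ in
theorem Hmap_comp_phi (I : Ideal A) (j : ℕ) {k l m : ℕ} (h₁ : m ≤ l) (h₂ : l ≤ k)
    (z : LocCoh.H I j (M k)) :
    Hmap I j (φ l m h₁) (Hmap I j (φ k l h₂) z) = Hmap I j (φ k m (h₁.trans h₂)) z := by
  rw [← LinearMap.comp_apply, ← Hmap_comp, ← hφ]

include hφ hm' in
/-- Pointwise pro-zero gives pro-zero. -/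
theorem map_eq_zero : ∀ (e : ℕ) (T : Set (PrimeSpectrum A)), DimLt T e →
    (∀ (p : PrimeSpectrum A), p ∈ T → ∀ (m k : ℕ) (h : m ≤ k), m' m ≤ k →
      locMapH p i (φ k m h) = 0) →
    ∀ (m k : ℕ) (h : m ≤ k), (m'^[e]) m ≤ k → ∀ y, HTmap T i (φ k m h) y = 0 := by
  intro e
  induction e with
  | zero => intro T hT _ m k h _ y; exact HT_subsingleton_of_empty (eq_empty_of_dimLt_zero hT) i _ _
  | succ e ih =>
    intro T hT hloc m k h hk y
    obtain ⟨I, hI, z, rfl⟩ := toT_surj T i (M k) y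
    rw [Function.iterate_succ_apply'] at hk
    have hml : m ≤ (m'^[e]) m := Function.id_le_iterate_of_id_le (f := m') (fun x => hm' x) e m
    have hlk : (m'^[e]) m ≤ k := (hm' _).trans hk
    obtain ⟨s, hs, hs'⟩ := exists_finset_minimal T hI
    let z' := Hmap I i (φ k _ hlk) z
    obtain ⟨a, ha, haz⟩ := exists_killer z' s fun p hp =>
      killed_of_map_eq_zero p (hs p hp).2.2.1 (hs p hp).2.2.2 i _
        (hloc p (hs p hp).1 _ k hlk hk) z
    obtain ⟨w, hw⟩ := exists_preimage z' a haz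
    have hJd := subset_drop T hI hs' ha
    have hzero := ih (drop T) (dimLt_drop hT) (fun p hp => hloc p hp.1) m _ hml le_rfl
      (toT (drop T) i _ _ hJd w)
    rw [HTmap_toT] at hzero
    obtain ⟨J', hle, hJ', h0⟩ := toT_eq_zero (drop T) i _ hJd hzero
    rw [HTmap_toT, ← Hmap_comp_phi M φ hφ I i hml hlk,
      show Hmap I i (φ k _ hlk) z = z' from rfl, ← hw, ← HofLE_Hmap,
      toT_HofLE T i _ le_sup_left (hJd.trans fun q hq => hq.1) hI,
      ← toT_HofLE T i _ hle (hJd.trans fun q hq => hq.1) (hJ'.trans fun q hq => hq.1), h0, map_zero]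

theorem qOfLE_trans {I J K : Ideal A} (h : I ≤ J) (h' : J ≤ K) (n : ℕ) :
    qOfLE h n ≫ qOfLE h' n = qOfLE (h.trans h') n :=
  ModuleCat.hom_ext (LinearMap.ext fun q => by
    obtain ⟨r, rfl⟩ := Submodule.Quotient.mk_surjective _ q
    rfl)

theorem HofLE_trans {I J K : Ideal A} (h : I ≤ J) (h' : J ≤ K) (j : ℕ) (N : Type u) [AddCommGroup N]
    [Module A N] (v : LocCoh.H K j N) :
    HofLE h j N (HofLE h' j N v) = HofLE (h.trans h') j N v := by
  obtain ⟨n, x, rfl⟩ := toH_surj K j N v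
  rw [HofLE_toH, HofLE_toH, HofLE_toH, Abelian.Ext.mk₀_comp_mk₀_assoc, qOfLE_trans]

theorem injective_punit : Module.Injective A PUnit.{u + 1} :=
  ⟨fun _ _ _ _ _ _ _ _ _ => ⟨0, fun _ => Subsingleton.elim _ _⟩⟩

theorem kill_of_pointwise {T : Set (PrimeSpectrum A)} {N₁ N₂ : Type u} [AddCommGroup N₁]
    [Module A N₁] [AddCommGroup N₂] [Module A N₂] (f : N₁ →ₗ[A] N₂)
    (h : 0 < i → ∀ p : PrimeSpectrum A, p ∈ T → locMapH p (i - 1) f = 0)
    {J : Ideal A} (hJ : PrimeSpectrum.zeroLocus (J : Set A) ⊆ drop T) (v : LocCoh.H J i N₁)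
    (hv : toT T i N₁ J (hJ.trans fun q hq => hq.1) v = 0) :
    toT (drop T) i N₂ J hJ (Hmap J i f v) = 0 := by
  obtain ⟨I, hIJ, hI, hIv⟩ := toT_eq_zero T i _ (hJ.trans fun q hq => hq.1) hv
  rcases i with - | j
  · rw [HofLE_zero_injective hIJ (hIv.trans (map_zero _).symm), map_zero, map_zero]
  obtain ⟨s, hs, hs'⟩ := exists_finset_minimal T hI
  obtain ⟨b, hbJ, hb⟩ := exists_avoid s id J fun p hp hle => (hs p hp).2.1 (hJ hle)
  let S : Submonoid A := ⨅ p ∈ s, p.asIdeal.primeCompl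
  have memS : ∀ x : A, x ∈ S ↔ ∀ p ∈ s, x ∉ p.asIdeal := fun x => by
    simp only [S, Submonoid.mem_iInf]
    exact Iff.rfl
  have hle₁ : I ⊔ Ideal.span {b} ≤ J := sup_le hIJ ((Ideal.span_singleton_le_iff_mem J).2 hbJ)
  have hker : HofLE (le_sup_left : I ≤ I ⊔ Ideal.span {b}) (j + 1) N₁ (HofLE hle₁ (j + 1) N₁ v) = 0 := by
    exact (HofLE_trans _ hle₁ (j + 1) N₁ v).trans hIv
  obtain ⟨t, ht, hle, h0⟩ := exists_shrink S I b ((memS b).2 hb) j N₁ N₂ f (fun c => by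
    obtain ⟨a, ha, hac⟩ := exists_killer (Hmap I j f c) s fun p hp =>
      killed_of_map_eq_zero p (hs p hp).2.2.1 (hs p hp).2.2.2 j f
        (h (Nat.succ_pos j) p (hs p hp).1) c
    exact ⟨a, (memS a).2 ha, PUnit.{u + 1}, inferInstance, inferInstance, injective_punit, 0, 0,
      by rw [hac, map_zero]⟩) _ hker
  have hd := subset_drop T hI hs' (a := b * t) fun p hp hmem =>
    (p.isPrime.mem_or_mem hmem).elim (hb p hp) ((memS t).1 ht p hp)
  rw [← toT_HofLE (drop T) (j + 1) _ (hle.trans hle₁) hJ hd, HofLE_Hmap]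
  rw [HofLE_Hmap] at h0
  rw [HofLE_trans] at h0
  rw [h0, map_zero]

include hφ hm' in
/-- Pointwise conditions give injectivity of images. -/
theorem image_injective : ∀ (e : ℕ) (T : Set (PrimeSpectrum A)), DimLt T e →
    (0 < i → ∀ (p : PrimeSpectrum A), p ∈ T → ∀ (m k : ℕ) (h : m ≤ k), m' m ≤ k →
      locMapH p (i - 1) (φ k m h) = 0) →
    (∀ (p : PrimeSpectrum A), p ∈ T → ∀ (m k : ℕ) (h : m ≤ k), m' m ≤ k →
      LinearMap.range (locMapH p i (φ k m h)).hom =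
        LinearMap.range (locMapH p i (φ (m' m) m (hm' m))).hom) →
    (∀ (p : PrimeSpectrum A), p ∈ T → ∀ (m : ℕ) (x),
      x ∈ LinearMap.range (locMapH p i (φ (m' m) m (hm' m))).hom →
      (locMapH p i (φ m 0 (Nat.zero_le m))).hom x = 0 → x = 0) →
    ∃ m₀ : ℕ, ∀ m : ℕ, ∀ (hm : m₀ ≤ m), ∃ m'' : ℕ, m ≤ m'' ∧ ∀ (k : ℕ) (h : m ≤ k), m'' ≤ k →
      ∀ y, HTmap T i (φ m m₀ hm) (HTmap T i (φ k m h) y) = 0 → HTmap T i (φ k m h) y = 0 := by
  intro e
  induction e with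
  | zero =>
    intro T hT _ _ _
    exact ⟨0, fun m _ => ⟨m, le_rfl, fun k h _ y _ =>
      HT_subsingleton_of_empty (eq_empty_of_dimLt_zero hT) i _ _⟩⟩
  | succ e ih =>
    intro T hT h1 h2 h3
    obtain ⟨n₀, hn₀⟩ := ih (drop T) (dimLt_drop hT) (fun hi p hp => h1 hi p hp.1)
      (fun p hp => h2 p hp.1) (fun p hp => h3 p hp.1)
    refine ⟨m' n₀, fun m hm => ?_⟩
    have hnm : n₀ ≤ m := (hm' n₀).trans hm
    obtain ⟨l, hml, hl⟩ := hn₀ m hnm
    refine ⟨m' l, hml.trans (hm' l), fun k h hk y hy => ?_⟩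
    have hlk : l ≤ k := (hm' l).trans hk
    obtain ⟨I, hI, z, rfl⟩ := toT_surj T i (M k) y
    rw [HTmap_toT, HTmap_toT, Hmap_comp_phi M φ hφ I i hm h] at hy
    obtain ⟨J, hJI, hJ, hz⟩ := toT_eq_zero T i _ hI hy
    rw [HofLE_Hmap] at hz
    rw [← toT_HofLE T i _ hJI hI hJ z, HTmap_toT]
    revert hz
    generalize HofLE hJI i (M k) z = z₁
    intro hz
    obtain ⟨s, hs, hs'⟩ := exists_finset_minimal T hJ
    let zl := Hmap J i (φ k l hlk) z₁
    obtain ⟨a, ha, haz⟩ := exists_killer zl s fun p hp =>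
      exists_smul_eq_zero_of_local p (hs p hp).2.2.1 (hs p hp).2.2.2 i zl fun w hw => by
        have hpT := (hs p hp).1
        obtain ⟨w₀, rfl, hw₀⟩ := local_image p (hs p hp).2.2.1 (hs p hp).2.2.2 i _ z₁ w hw
        refine h3 p hpT l _ ((h2 p hpT l k hlk hk).le ⟨w₀, rfl⟩) ?_
        have hbij := HofLE_bijective_radical (M := LocalizedModule p.asIdeal.primeCompl (M 0))
          (IS_le_maximal p (hs p hp).2.2.1) i (maximal_le_radical p (hs p hp).2.2.2)
        refine hbij.1 (Eq.trans ?_ (map_zero _).symm)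
        show HofLE _ i _ (Hmap (IsLocalRing.maximalIdeal (Localization.AtPrime p.asIdeal)) i
          (LocalizedModule.map p.asIdeal.primeCompl (φ l 0 (Nat.zero_le l))) _) = 0
        rw [HofLE_Hmap, hw, ← L_natural, Hmap_comp_phi M φ hφ J i (Nat.zero_le l) hlk,
          ← Hmap_comp_phi M φ hφ J i (Nat.zero_le (m' n₀)) (hm.trans h), hz, map_zero, map_zero]
    obtain ⟨w, hw⟩ := exists_preimage zl a haz
    have hd := subset_drop T hJ hs' ha
    have hk₁ : toT (drop T) i _ _ hd (Hmap (J ⊔ Ideal.span {a}) i (φ l n₀ (hnm.trans hml)) w) = 0 := by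
      rw [← Hmap_comp_phi M φ hφ _ i (hm' n₀) (hm.trans hml)]
      refine kill_of_pointwise i (φ (m' n₀) n₀ (hm' n₀))
        (fun hi p hp => h1 hi p hp n₀ (m' n₀) (hm' n₀) le_rfl) hd _ ?_
      rw [← toT_HofLE T i _ le_sup_left (hd.trans fun q hq => hq.1) hJ, HofLE_Hmap, hw,
        Hmap_comp_phi M φ hφ J i (hm.trans hml) hlk, hz, map_zero]
    have hres := hl l hml le_rfl (toT (drop T) i _ _ hd w) (by
      rw [HTmap_toT, HTmap_toT, Hmap_comp_phi M φ hφ _ i hnm hml]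
      exact hk₁)
    rw [HTmap_toT] at hres
    obtain ⟨J', hle, hJ', h0⟩ := toT_eq_zero (drop T) i _ hd hres
    rw [← Hmap_comp_phi M φ hφ J i hml hlk, show Hmap J i (φ k l hlk) z₁ = zl from rfl, ← hw,
      ← HofLE_Hmap, toT_HofLE T i _ le_sup_left (hd.trans fun q hq => hq.1) hJ,
      ← toT_HofLE T i _ hle (hd.trans fun q hq => hq.1) (hJ'.trans fun q hq => hq.1), h0, map_zero]

end Groth.Agent.LC16.SuppT
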