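import Groth.Agent.LC15.Gamma
import Mathlib.Algebra.Homology.DerivedCategory.Ext.Map
import Mathlib.Algebra.Category.ModuleCat.Localization
import Mathlib.Algebra.Module.LocalizedModule.Exact
import Mathlib.RingTheory.LocalProperties.Injective

/-!
# Local cohomology commutes with localization, naturally

`L : H^i_I(M) → H^i_{IS⁻¹A}(S⁻¹M)` is natural in `M`; its kernel is the `S`-torsion and every element
of the target is, up to an element of `S`, in its image (`A` Noetherian).
-/

set_option autoImplicit false

noncomputable section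

universe u

open CategoryTheory CategoryTheory.Limits CategoryTheory.Abelian

namespace Groth.Agent.LC16.LocH

open Groth.Agent.LC15

variable {R : Type u} [CommRing R] (S : Submonoid R) (I : Ideal R)

/-- The localized ideal. -/
abbrev IS : Ideal (Localization S) := I.map (algebraMap R (Localization S))

/-- Localization as a functor. -/
def LF : ModuleCat.{u} R ⥤ ModuleCat.{u} (Localization S) where
  obj M := ModuleCat.of (Localization S) (LocalizedModule S M)
  map f := ModuleCat.ofHom (LocalizedModule.map S f.hom)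
  map_id M := ModuleCat.hom_ext <| LinearMap.ext fun z => by
    induction z using LocalizedModule.induction_on with
    | h m s => exact LocalizedModule.map_mk (S := S) LinearMap.id m s
  map_comp f g := ModuleCat.hom_ext <| LinearMap.ext fun z => by
    induction z using LocalizedModule.induction_on with
    | h m s =>
      refine (LocalizedModule.map_mk (S := S) (g.hom ∘ₗ f.hom) m s).trans ?_
      exact ((congrArg (LocalizedModule.map S g.hom) (LocalizedModule.map_mk (S := S) f.hom m s)).trans
        (LocalizedModule.map_mk (S := S) g.hom (f.hom m) s)).symm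

instance LF_additive : (LF S).Additive where
  map_add {M N f g} := ModuleCat.hom_ext (map_add (LocalizedModule.map S) f.hom g.hom)

theorem LF_exact (T : ShortComplex (ModuleCat.{u} R)) (h : T.Exact) : (T.map (LF S)).Exact := by
  rw [ShortComplex.ShortExact.moduleCat_exact_iff_function_exact] at h ⊢
  exact LocalizedModule.map_exact S T.f.hom T.g.hom h

instance : PreservesFiniteLimits (LF S) := by
  have := ((Functor.exact_tfae (LF S)).out 1 3).mp (LF_exact S)
  exact this.1

instance : PreservesFiniteColimits (LF S) := by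
  have := ((Functor.exact_tfae (LF S)).out 1 3).mp (LF_exact S)
  exact this.2

theorem isUnit_smul_bijective (M : Type u) [AddCommGroup M] [Module (Localization S) M] {s : R}
    (hs : s ∈ S) : Function.Bijective fun z : M => algebraMap R (Localization S) s • z := by
  obtain ⟨e, he⟩ := IsLocalization.map_units (Localization S) (⟨s, hs⟩ : S)
  rw [← show (e : Localization S) = algebraMap R (Localization S) s from he]
  exact ⟨fun a b h => by simpa [smul_smul] using congrArg (fun z => (↑e⁻¹ : Localization S) • z) h,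
    fun z => ⟨(↑e⁻¹ : Localization S) • z, by simp [smul_smul]⟩⟩

/-- The comparison of cyclic modules. -/
def theta (n : ℕ) : quotPow (IS S I) n ⟶ (LF S).obj (quotPow I n) :=
  ModuleCat.ofHom (Submodule.liftQ _
    (LinearMap.toSpanSingleton (Localization S) (LocalizedModule S (R ⧸ I ^ n))
      (LocalizedModule.mk (Submodule.Quotient.mk (1 : R) : R ⧸ I ^ n) 1)) (by
    have hmap : (IS S I) ^ n = (I ^ n).map (algebraMap R (Localization S)) :=
      (Ideal.map_pow _ I n).symm
    rw [hmap]
    refine Ideal.span_le.2 ?_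
    rintro _ ⟨a, ha, rfl⟩
    show algebraMap R (Localization S) a •
      (LocalizedModule.mk (Submodule.Quotient.mk (1 : R)) (1 : S) : LocalizedModule S (R ⧸ I ^ n)) = 0
    rw [algebraMap_smul, LocalizedModule.smul'_mk, ← Submodule.Quotient.mk_smul, smul_eq_mul, mul_one,
      (Submodule.Quotient.mk_eq_zero _).2 ha, LocalizedModule.zero_mk]))

theorem theta_mk_one (n : ℕ) :
    theta S I n (Submodule.Quotient.mk 1) =
      (LocalizedModule.mk (Submodule.Quotient.mk 1) 1 : LocalizedModule S (R ⧸ I ^ n)) :=
  (Submodule.liftQ_apply _ _ _).trans (one_smul (Localization S) _)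

theorem theta_qmap {n m : ℕ} (h : n ≤ m) :
    theta S I m ≫ (LF S).map (qmap I h) = qmap (IS S I) h ≫ theta S I n := by
  refine ModuleCat.hom_ext (LinearMap.ext fun q => ?_)
  obtain ⟨r, rfl⟩ := Submodule.Quotient.mk_surjective _ q
  rw [show (Submodule.Quotient.mk r : Localization S ⧸ (IS S I) ^ m) = r • Submodule.Quotient.mk 1 by
    rw [← Submodule.Quotient.mk_smul, smul_eq_mul, mul_one], map_smul, map_smul]
  congr 1
  refine (congrArg ((LF S).map (qmap I h)).hom (theta_mk_one S I m)).trans ?_
  refine (LocalizedModule.map_mk (S := S) (qmap I h).hom _ 1).trans ?_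
  exact (theta_mk_one S I n).symm

variable (i : ℕ) (M : Type u) [AddCommGroup M] [Module R M]

/-- The comparison at one stage. -/
def Ln (n : ℕ) : Ext (quotPow I n) (ModuleCat.of R M) i →+
    LocCoh.H (IS S I) i (LocalizedModule S M) :=
  (toH (IS S I) i (LocalizedModule S M) n).toAddMonoidHom.comp
    (AddMonoidHom.mk' (fun x => (Ext.mk₀ (theta S I n)).comp (x.mapExactFunctor (LF S)) (zero_add i))
      fun x y => by rw [Ext.mapExactFunctor_add]; exact Ext.comp_add _ _ _ _)

theorem Ln_apply (n : ℕ) (x : Ext (quotPow I n) (ModuleCat.of R M) i) :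
    Ln S I i M n x = toH (IS S I) i (LocalizedModule S M) n
      ((Ext.mk₀ (theta S I n)).comp (x.mapExactFunctor (LF S)) (zero_add i)) := rfl

theorem Ln_precomp {n m : ℕ} (h : n ≤ m) (x : Ext (quotPow I n) (ModuleCat.of R M) i) :
    Ln S I i M m ((Ext.mk₀ (qmap I h)).comp x (zero_add i)) = Ln S I i M n x := by
  rw [Ln_apply, Ln_apply, Ext.mapExactFunctor_comp, Ext.mapExactFunctor_mk₀,
    Ext.mk₀_comp_mk₀_assoc, theta_qmap, ← Ext.mk₀_comp_mk₀_assoc]
  exact toH_precomp (IS S I) i (LocalizedModule S M) h _

theorem Ln_congr {n m : ℕ} {x : Ext (quotPow I n) (ModuleCat.of R M) i}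
    {x' : Ext (quotPow I m) (ModuleCat.of R M) i} (h : toH I i M n x = toH I i M m x') :
    Ln S I i M n x = Ln S I i M m x' := by
  have hn : n ≤ max n m := le_max_left _ _
  have hm : m ≤ max n m := le_max_right _ _
  rw [← toH_precomp I i M hn, ← toH_precomp I i M hm, ← sub_eq_zero, ← map_sub, toH_eq_zero_iff] at h
  obtain ⟨k, hk, h0⟩ := h
  have h1 := congrArg (Ln S I i M k) h0
  rw [map_zero, Ln_precomp, map_sub, sub_eq_zero, Ln_precomp, Ln_precomp] at h1
  exact h1

/-- The comparison map. -/
def L : LocCoh.H I i M →+ LocCoh.H (IS S I) i (LocalizedModule S M) :=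
  AddMonoidHom.mk' (fun y => Ln S I i M (toH_surj I i M y).choose (toH_surj I i M y).choose_spec.choose)
    fun a b => by
      obtain ⟨n, x, hx⟩ := toH_surj I i M a
      obtain ⟨m, hm, x', hx'⟩ := toH_surj_ge I i M b n
      rw [Ln_congr S I i M ((toH_surj I i M a).choose_spec.choose_spec.trans
          (hx.symm.trans (toH_precomp I i M hm x).symm)),
        Ln_congr S I i M ((toH_surj I i M b).choose_spec.choose_spec.trans hx'.symm), ← map_add]
      refine Ln_congr S I i M ((toH_surj I i M (a + b)).choose_spec.choose_spec.trans ?_)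
      rw [map_add, toH_precomp, hx, hx']

theorem L_toH (n : ℕ) (x : Ext (quotPow I n) (ModuleCat.of R M) i) :
    L S I i M (toH I i M n x) = Ln S I i M n x :=
  Ln_congr S I i M (toH_surj I i M (toH I i M n x)).choose_spec.choose_spec

variable {M} {N : Type u} [AddCommGroup N] [Module R N] {Q : Type u} [AddCommGroup Q] [Module R Q]

theorem L_natural (f : M →ₗ[R] N) (y : LocCoh.H I i M) :
    L S I i N (Hmap I i f y) = Hmap (IS S I) i (LocalizedModule.map S f) (L S I i M y) := by
  obtain ⟨n, x, rfl⟩ := toH_surj I i M y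
  rw [Hmap_toH, L_toH, L_toH, Ln_apply, Ln_apply, Hmap_toH, Ext.mapExactFunctor_comp,
    Ext.mapExactFunctor_mk₀]
  exact congrArg _ (Ext.comp_assoc_of_third_deg_zero _ _ _ _).symm

theorem map_lsmul (r : R) :
    LocalizedModule.map S (LinearMap.lsmul R M r) =
      LinearMap.lsmul (Localization S) (LocalizedModule S M) (algebraMap R (Localization S) r) :=
  LinearMap.ext fun z => by
    induction z using LocalizedModule.induction_on with
    | h m s =>
      rw [LocalizedModule.map_mk, LinearMap.lsmul_apply, LinearMap.lsmul_apply, algebraMap_smul,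
        LocalizedModule.smul'_mk]

theorem L_smul (r : R) (y : LocCoh.H I i M) :
    L S I i M (r • y) = algebraMap R (Localization S) r • L S I i M y := by
  rw [← Hmap_lsmul, L_natural, map_lsmul, Hmap_lsmul]

theorem lmap_exact {f : M →ₗ[R] N} {g : N →ₗ[R] Q} (h : Function.Exact f g) :
    Function.Exact (LocalizedModule.map S f) (LocalizedModule.map S g) :=
  LocalizedModule.map_exact S f g h

theorem h0_L (y : LocCoh.H I 0 M) :
    h0 (IS S I) (LocalizedModule S M) (L S I 0 M y) = LocalizedModule.mk (h0 I M y) 1 := by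
  obtain ⟨n, x, rfl⟩ := toH_surj I 0 M y
  obtain ⟨f, rfl⟩ := (Ext.mk₀_bijective _ _).2 x
  rw [L_toH, Ln_apply, Ext.mapExactFunctor_mk₀, Ext.mk₀_comp_mk₀, h0_toH]
  erw [h0_toH]
  refine (congrArg ((LF S).map f).hom (theta_mk_one S I n)).trans ?_
  exact LocalizedModule.map_mk (S := S) f.hom _ 1

variable {f : M →ₗ[R] N} {g : N →ₗ[R] Q} (hf : Function.Injective f) (hfg : Function.Exact f g)
  (hg : Function.Surjective g)

theorem L_Hδ (y : LocCoh.H I i Q) :
    L S I (i + 1) M (Hδ I i hf hfg hg y) =
      Hδ (IS S I) i (LocalizedModule.map_injective S f hf) (lmap_exact S hfg)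
        (LocalizedModule.map_surjective S g hg) (L S I i Q y) := by
  obtain ⟨n, x, rfl⟩ := toH_surj I i Q y
  rw [Hδ_toH, L_toH, L_toH, Ln_apply, Ln_apply, Hδ_toH, Ext.mapExactFunctor_comp,
    Ext.mapExactFunctor_extClass]
  exact congrArg _ (Ext.comp_assoc _ _ _ (zero_add i) rfl (by omega)).symm

variable [IsNoetherianRing R] [IsNoetherianRing (Localization S)]

/-- Kernel and image of the comparison map. -/
theorem L_iso : ∀ (i : ℕ) (M : Type u) [AddCommGroup M] [Module R M],
    (∀ y : LocCoh.H I i M, L S I i M y = 0 → ∃ s ∈ S, s • y = 0) ∧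
      ∀ z : LocCoh.H (IS S I) i (LocalizedModule S M), ∃ s ∈ S, ∃ y : LocCoh.H I i M,
        algebraMap R (Localization S) s • z = L S I i M y := by
  intro i
  induction i with
  | zero =>
    intro M _ _
    refine ⟨fun y hy => ?_, fun z => ?_⟩
    · have h := h0_L S I y
      rw [hy, map_zero, ← LocalizedModule.zero_mk 1, LocalizedModule.mk_eq] at h
      obtain ⟨c, hc⟩ := h
      simp only [one_smul, smul_zero] at hc
      refine ⟨c, c.2, h0_injective I M ?_⟩
      rw [map_smul, map_zero]
      exact hc.symm
    · obtain ⟨n, hn⟩ := (range_h0 (IS S I) (LocalizedModule S M)).le ⟨z, rfl⟩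
      obtain ⟨⟨m, c⟩, hmc⟩ := IsLocalizedModule.surj S (LocalizedModule.mkLinearMap S M)
        (h0 (IS S I) (LocalizedModule S M) z)
      obtain ⟨s, hs⟩ := IsNoetherian.noetherian (I ^ n)
      have hkill : ∀ a ∈ I ^ n, ∃ d : S, (d : R) • a • m = 0 := by
        intro a ha
        have h0' : LocalizedModule.mkLinearMap S M (a • m) = 0 := by
          rw [map_smul, ← hmc, Submonoid.smul_def, smul_comm, ← algebraMap_smul (Localization S) a,
            hn _ (by rw [IS, ← Ideal.map_pow]; exact Ideal.mem_map_of_mem _ ha), smul_zero]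
        obtain ⟨d, hd, hd0⟩ := LocalizedModule.mem_ker_mkLinearMap_iff.1 h0'
        exact ⟨⟨d, hd⟩, hd0⟩
      choose d hd using fun a : s => hkill a (hs ▸ Submodule.subset_span a.2)
      let D : S := ∏ a, d a
      have hgam : (D : R) • m ∈ gamma I M := ⟨n, fun a ha => by
        rw [← hs] at ha
        induction ha using Submodule.span_induction with
        | mem a ha =>
          obtain ⟨e, he⟩ := Finset.dvd_prod_of_mem d (Finset.mem_univ (⟨a, ha⟩ : s))
          rw [show (D : R) = (e : R) * (d ⟨a, ha⟩ : R) by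
            rw [show D = d ⟨a, ha⟩ * e from he, Submonoid.coe_mul, mul_comm], mul_smul, smul_comm a,
            smul_comm a, hd ⟨a, ha⟩, smul_zero]
        | zero => rw [zero_smul]
        | add x y _ _ hx hy => rw [add_smul, hx, hy, add_zero]
        | smul r x _ hx => rw [smul_eq_mul, mul_smul, hx, smul_zero]⟩
      obtain ⟨y, hy⟩ := (range_h0 I M).ge hgam
      refine ⟨(D * c : S), (D * c).2, y, h0_injective _ _ ?_⟩
      rw [map_smul, h0_L, hy, ← LocalizedModule.mkLinearMap_apply, map_smul, ← hmc,
        algebraMap_smul, Submonoid.coe_mul, mul_smul, ← Submonoid.smul_def c]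
  | succ i ih =>
    intro M _ _
    obtain ⟨E, _, _, f, hf, hE⟩ := exists_injective_embedding (R := R) M
    have hfg : Function.Exact f (LinearMap.range f).mkQ := LinearMap.exact_map_mkQ_range f
    have hg : Function.Surjective (LinearMap.range f).mkQ := Submodule.mkQ_surjective _
    haveI : Module.Injective (Localization S) (LocalizedModule S E) :=
      Module.injective_of_isLocalizedModule S (LocalizedModule.mkLinearMap S E)
    have hE₁ : Subsingleton (LocCoh.H I (i + 1) E) := subsingleton_H_succ_of_injective I i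
    have hE₂ : Subsingleton (LocCoh.H (IS S I) (i + 1) (LocalizedModule S E)) :=
      subsingleton_H_succ_of_injective (IS S I) i
    obtain ⟨ihQ₁, ihQ₂⟩ := ih (E ⧸ LinearMap.range f)
    refine ⟨fun y hy => ?_, fun z => ?_⟩
    · obtain ⟨q, rfl⟩ := Hδ_surjective I i hf hfg hg hE₁ y
      rw [L_Hδ] at hy
      obtain ⟨w', hw'⟩ := (H_exact₃ (IS S I) i _ _ _ _).1 hy
      obtain ⟨s, hs, w, hw⟩ := (ih E).2 w'
      have h1 : L S I i _ (s • q - Hmap I i (LinearMap.range f).mkQ w) = 0 := by
        rw [map_sub, L_smul, L_natural, ← hw, map_smul, hw', sub_self]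
      obtain ⟨t, ht, h2⟩ := ihQ₁ _ h1
      refine ⟨t * s, S.mul_mem ht hs, ?_⟩
      rw [smul_sub, sub_eq_zero, smul_smul, ← map_smul] at h2
      rw [← map_smul, h2]
      exact (H_exact₃ I i hf hfg hg).apply_apply_eq_zero _
    · obtain ⟨q', rfl⟩ := Hδ_surjective (IS S I) i (LocalizedModule.map_injective S f hf)
        (lmap_exact S hfg) (LocalizedModule.map_surjective S _ hg) hE₂ z
      obtain ⟨s, hs, q, hq⟩ := ihQ₂ q'
      refine ⟨s, hs, Hδ I i hf hfg hg q, ?_⟩
      rw [L_Hδ, ← hq, map_smul]

theorem L_eq_zero_iff (y : LocCoh.H I i M) : L S I i M y = 0 ↔ ∃ s ∈ S, s • y = 0 := by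
  refine ⟨(L_iso S I i M).1 y, fun ⟨s, hs, hy⟩ => ?_⟩
  apply (isUnit_smul_bijective S _ hs).1
  show algebraMap R (Localization S) s • L S I i M y = algebraMap R (Localization S) s • 0
  rw [← L_smul, hy, map_zero, smul_zero]

end Groth.Agent.LC16.LocH
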