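import Groth.Agent.InjHull18.Matlis
import Groth.Agent.CAlg4.ArtinRees
import Mathlib.RingTheory.Nakayama
import Mathlib.Algebra.BigOperators.WithTop
import Mathlib.RingTheory.Finiteness.Cardinality

/-!
Duals into the injective hull of the residue field, for finite modules over a Noetherian local ring.
-/

namespace Groth.Agent.LC16.MatlisBasic

universe u

set_option autoImplicit false

open IsLocalRing InjHull18

variable {R : Type u} [CommRing R] [IsNoetherianRing R]

section surj

variable [IsLocalRing R] {M : Type u} [AddCommGroup M] [Module R M] [Module.Finite R M]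
  {N : Type u} [AddCommGroup N] [Module R N] [Module.Finite R N]

/-- isomorphic truncations give a surjection -/
theorem exists_surjective
    (h : ∀ n : ℕ, Nonempty ((M ⧸ (maximalIdeal R ^ n • ⊤ : Submodule R M)) ≃ₗ[R]
      (N ⧸ (maximalIdeal R ^ n • ⊤ : Submodule R N)))) :
    ∃ g : M →ₗ[R] N, Function.Surjective g := by
  obtain ⟨c, hc⟩ := CAlg4.AR.exists_lift_hom (maximalIdeal R) M N
  obtain ⟨e⟩ := h (1 + c)
  let ψ := e.toLinearMap ∘ₗ (maximalIdeal R ^ (1 + c) • ⊤ : Submodule R M).mkQ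
  obtain ⟨g, hg⟩ := hc 1 ψ
  refine ⟨g, LinearMap.range_eq_top.mp (top_le_iff.mp ?_)⟩
  refine Submodule.le_of_le_smul_of_le_jacobson_bot (I := maximalIdeal R) Module.Finite.fg_top
    (maximalIdeal_le_jacobson _) fun y _ => ?_
  obtain ⟨m, hm⟩ := Submodule.mkQ_surjective _ (e.symm (Submodule.Quotient.mk y))
  have h1 := hg m y (by simp [ψ, hm])
  rw [pow_one] at h1
  exact Submodule.mem_sup.mpr ⟨g m, ⟨m, rfl⟩, -(g m - y), neg_mem h1, by abel⟩

/-- isomorphic truncations give an isomorphism -/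
theorem nonempty_equiv_of_quot
    (h : ∀ n : ℕ, Nonempty ((M ⧸ (maximalIdeal R ^ n • ⊤ : Submodule R M)) ≃ₗ[R]
      (N ⧸ (maximalIdeal R ^ n • ⊤ : Submodule R N)))) :
    Nonempty (M ≃ₗ[R] N) := by
  obtain ⟨g, hg⟩ := exists_surjective h
  obtain ⟨k, hk⟩ := exists_surjective fun n => (h n).map LinearEquiv.symm
  have hb : Function.Injective (k ∘ₗ g) :=
    OrzechProperty.injective_of_surjective_endomorphism _ (hk.comp hg)
  exact ⟨LinearEquiv.ofBijective g ⟨fun a b hab => hb (by simp [hab]), hg⟩⟩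

end surj

section dual

variable {E : Type u} [AddCommGroup E] [Module R E] {X Y : Type u} [AddCommGroup X] [Module R X]
  [AddCommGroup Y] [Module R Y]

omit [IsNoetherianRing R] in
/-- dual of the quotient by an ideal -/
def quotDualEquiv (I : Ideal R) :
    ((X ⧸ (I • ⊤ : Submodule R X)) →ₗ[R] E) ≃ₗ[R] LocCoh.torsionBy I (X →ₗ[R] E) where
  toFun φ := ⟨φ ∘ₗ Submodule.mkQ _, (Submodule.mem_torsionBySet_iff _ _).2 fun a =>
    LinearMap.ext fun x => by
      rw [LinearMap.smul_apply, LinearMap.comp_apply, ← map_smul, Submodule.mkQ_apply,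
        ← Submodule.Quotient.mk_smul, (Submodule.Quotient.mk_eq_zero _).2
        (Submodule.smul_mem_smul a.2 Submodule.mem_top), map_zero, LinearMap.zero_apply]⟩
  map_add' _ _ := rfl
  map_smul' _ _ := rfl
  invFun ψ := Submodule.liftQ _ ψ.1 (Submodule.smul_le.2 fun a ha x _ => by
    rw [LinearMap.mem_ker, map_smul, ← LinearMap.smul_apply,
      (Submodule.mem_torsionBySet_iff _ _).1 ψ.2 ⟨a, ha⟩, LinearMap.zero_apply])
  left_inv φ := Submodule.linearMap_qext _ rfl
  right_inv ψ := Subtype.ext rfl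

omit [IsNoetherianRing R] in
/-- torsion parts of isomorphic modules -/
def torsionByEquiv (I : Ideal R) (e : X ≃ₗ[R] Y) :
    LocCoh.torsionBy I X ≃ₗ[R] LocCoh.torsionBy I Y where
  toFun x := ⟨e x.1, (Submodule.mem_torsionBySet_iff _ _).2 fun a => by
    rw [← map_smul, (Submodule.mem_torsionBySet_iff _ _).1 x.2 a, map_zero]⟩
  invFun y := ⟨e.symm y.1, (Submodule.mem_torsionBySet_iff _ _).2 fun a => by
    rw [← map_smul, (Submodule.mem_torsionBySet_iff _ _).1 y.2 a, map_zero]⟩
  left_inv x := Subtype.ext (e.symm_apply_apply _)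
  right_inv y := Subtype.ext (e.apply_symm_apply _)
  map_add' x y := Subtype.ext (map_add e _ _)
  map_smul' r x := Subtype.ext (map_smul e r _)

variable [IsLocalRing R] {f : ResidueField R →ₗ[R] E}

omit [IsNoetherianRing R] in
/-- the dual detects the zero module -/
theorem subsingleton_of_dual (hf : InjHull.IsInjectiveHull f) [Subsingleton (X →ₗ[R] E)] :
    Subsingleton X := by
  refine subsingleton_of_forall_eq 0 fun x => ?_
  by_contra hx
  obtain ⟨φ, hφ⟩ := exists_map_ne_zero_local hf hx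
  exact hφ (by rw [Subsingleton.elim φ 0, LinearMap.zero_apply])

omit [IsNoetherianRing R] in
/-- a map is determined by its transpose -/
theorem ext_of_dual (hf : InjHull.IsInjectiveHull f) {g h : X →ₗ[R] Y}
    (e : ∀ φ : Y →ₗ[R] E, φ ∘ₗ g = φ ∘ₗ h) : g = h := by
  refine LinearMap.ext fun x => sub_eq_zero.mp ?_
  by_contra hx
  obtain ⟨φ, hφ⟩ := exists_map_ne_zero_local hf hx
  exact hφ (by rw [map_sub, sub_eq_zero]; exact LinearMap.congr_fun (e φ) x)

omit [IsNoetherianRing R] in
/-- surjective on duals means injective -/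
theorem injective_of_dual_surjective (hf : InjHull.IsInjectiveHull f) {g : X →ₗ[R] Y}
    (e : ∀ ψ : X →ₗ[R] E, ∃ φ : Y →ₗ[R] E, φ ∘ₗ g = ψ) : Function.Injective g := by
  refine (injective_iff_map_eq_zero g).2 fun x hx => ?_
  by_contra hx'
  obtain ⟨ψ, hψ⟩ := exists_map_ne_zero_local hf hx'
  obtain ⟨φ, rfl⟩ := e ψ
  exact hψ (by rw [LinearMap.comp_apply, hx, map_zero])

omit [IsNoetherianRing R] in
/-- injective gives surjective on duals -/
theorem dual_surjective_of_injective (hf : InjHull.IsInjectiveHull f) {g : X →ₗ[R] Y}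
    (hg : Function.Injective g) (ψ : X →ₗ[R] E) : ∃ φ : Y →ₗ[R] E, φ ∘ₗ g = ψ := by
  obtain ⟨φ, hφ⟩ := hf.isInjective.out g hg ψ
  exact ⟨φ, LinearMap.ext hφ⟩

/-- truncations of finite modules have finite length -/
theorem isFiniteLength_quot_pow [Module.Finite R X] (n : ℕ) :
    IsFiniteLength R (X ⧸ (maximalIdeal R ^ n • ⊤ : Submodule R X)) := by
  obtain ⟨k, s, hs⟩ := Module.Finite.exists_fin (R := R) (M := X)
  let π : (Fin k → R ⧸ maximalIdeal R ^ n) →ₗ[R] X ⧸ (maximalIdeal R ^ n • ⊤ : Submodule R X) :=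
    LinearMap.lsum R (fun _ => R ⧸ maximalIdeal R ^ n) R fun i =>
      Submodule.liftQ _ (LinearMap.toSpanSingleton R _ (Submodule.Quotient.mk (s i))) fun a ha => by
        rw [LinearMap.mem_ker, LinearMap.toSpanSingleton_apply, ← Submodule.Quotient.mk_smul,
          Submodule.Quotient.mk_eq_zero]
        exact Submodule.smul_mem_smul ha Submodule.mem_top
  have hπ : Function.Surjective π := by
    rw [← LinearMap.range_eq_top, eq_top_iff]
    rintro y -
    obtain ⟨x, rfl⟩ := Submodule.Quotient.mk_surjective _ y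
    have hx : x ∈ Submodule.span R (Set.range s) := hs ▸ trivial
    induction hx using Submodule.span_induction with
    | mem x hx =>
      obtain ⟨i, rfl⟩ := hx
      refine ⟨Pi.single i (Submodule.Quotient.mk 1), ?_⟩
      simp only [π, LinearMap.lsum_apply, LinearMap.coe_sum, Finset.sum_apply, LinearMap.comp_apply, LinearMap.proj_apply]
      rw [Finset.sum_eq_single i]
      · rw [Pi.single_eq_same, Submodule.liftQ_apply, LinearMap.toSpanSingleton_apply, one_smul]
      · intro j _ hj
        rw [Pi.single_eq_of_ne hj, map_zero]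
      · simp
    | zero => exact zero_mem _
    | add a b _ _ ha hb => exact add_mem ha hb
    | smul r a _ ha => exact Submodule.smul_mem _ r ha
  have hlen : Module.length R (Fin k → R ⧸ maximalIdeal R ^ n) ≠ ⊤ := by
    rw [Module.length_pi_of_fintype]
    exact WithTop.sum_ne_top.mpr fun i _ =>
      Module.length_ne_top_iff.2 (isFiniteLength_quotient_pow n)
  refine Module.length_ne_top_iff.1 (ne_top_of_le_ne_top hlen ?_)
  exact Module.length_le_of_surjective π hπ

/-- finite modules with isomorphic duals are isomorphic -/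
theorem nonempty_equiv_of_dual (hf : InjHull.IsInjectiveHull f) [Module.Finite R X]
    [Module.Finite R Y] (e : (X →ₗ[R] E) ≃ₗ[R] (Y →ₗ[R] E)) : Nonempty (X ≃ₗ[R] Y) := by
  refine nonempty_equiv_of_quot fun n => ?_
  let eD : ((X ⧸ (maximalIdeal R ^ n • ⊤ : Submodule R X)) →ₗ[R] E) ≃ₗ[R]
      ((Y ⧸ (maximalIdeal R ^ n • ⊤ : Submodule R Y)) →ₗ[R] E) :=
    quotDualEquiv _ ≪≫ₗ torsionByEquiv _ e ≪≫ₗ (quotDualEquiv _).symm
  have htor : ∀ (Z : Type u) [AddCommGroup Z] [Module R Z],
      LocCoh.IsPowerTorsion (maximalIdeal R) (Z ⧸ (maximalIdeal R ^ n • ⊤ : Submodule R Z)) := by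
    intro Z _ _ z
    refine ⟨n, fun a ha => ?_⟩
    obtain ⟨z, rfl⟩ := Submodule.Quotient.mk_surjective _ z
    rw [← Submodule.Quotient.mk_smul, Submodule.Quotient.mk_eq_zero]
    exact Submodule.smul_mem_smul ha Submodule.mem_top
  exact ⟨LinearEquiv.ofBijective _ (applyₗ_bijective hf (isFiniteLength_quot_pow n) (htor X)) ≪≫ₗ
    LinearEquiv.congrLeft E R eD ≪≫ₗ
      (LinearEquiv.ofBijective _ (applyₗ_bijective hf (isFiniteLength_quot_pow n) (htor Y))).symm⟩

end dual

end Groth.Agent.LC16.MatlisBasic
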