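import Groth.Agent.LC15.Finiteness
import Groth.Agent.LC16.MatlisBasic
import Groth.Agent.LC17.DualG
import Groth.Agent.LC17.IDepth

/-!
Over a local ring with normalised dualizing complex `ω`, powers of the annihilators of
`Hom(M[0], ω⟦-j⟧)`, `j ≤ i`, kill `H^i_m(M)`.
-/

set_option autoImplicit false

noncomputable section

universe u

open CategoryTheory
open scoped Pointwise

attribute [local instance] HasDerivedCategory.standard

namespace Groth.Agent.LC16.DualKill

open Groth.Agent.LC15 Groth.Agent.LC17 IsLocalRing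

variable {A : Type u} [CommRing A]

/-- the product of the annihilators in degrees `0, …, -i` -/
def P (ω : Dual.D A) (i : ℕ) (M : Type u) [AddCommGroup M] [Module A M] : Ideal A :=
  ∏ j ∈ Finset.range (i + 1), gAnn ω (ModuleCat.of A M) (-(j : ℤ))

theorem P_le (ω : Dual.D A) {i j : ℕ} (h : j ≤ i) (M : Type u) [AddCommGroup M] [Module A M] :
    P ω i M ≤ gAnn ω (ModuleCat.of A M) (-(j : ℤ)) :=
  Ideal.le_of_dvd (Finset.dvd_prod_of_mem _ (Finset.mem_range.2 (Nat.lt_succ_of_le h)))

variable [IsLocalRing A] [IsNoetherianRing A] {ω : Dual.D A}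

theorem isFiniteLength_gamma (M : Type u) [AddCommGroup M] [Module A M] [Module.Finite A M] :
    IsFiniteLength A (gamma (maximalIdeal A) M) := by
  classical
  obtain ⟨t, ht⟩ := (inferInstance : Module.Finite A (gamma (maximalIdeal A) M)).fg_top
  choose n hn using isPowerTorsion_gamma (maximalIdeal A) (M := M)
  have hk : maximalIdeal A ^ t.sup n • (⊤ : Submodule A (gamma (maximalIdeal A) M)) = ⊥ := by
    rw [eq_bot_iff, Submodule.smul_le]
    intro a ha y hy0
    clear hy0
    have hy : y ∈ Submodule.span A (t : Set (gamma (maximalIdeal A) M)) := ht.symm ▸ Submodule.mem_top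
    rw [Submodule.mem_bot]
    induction hy using Submodule.span_induction with
    | mem w hw => exact hn w a (Ideal.pow_le_pow_right (Finset.le_sup hw) ha)
    | zero => rw [smul_zero]
    | add a b _ _ ha hb => rw [smul_add, ha, hb, add_zero]
    | smul r a _ ha => rw [smul_comm, ha, smul_zero]
  exact (MatlisBasic.isFiniteLength_quot_pow (R := A) (X := gamma (maximalIdeal A) M) (t.sup n)).of_injective
    (f := (Submodule.quotEquivOfEqBot _ hk).symm.toLinearMap) (LinearEquiv.injective _)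

variable (hω : Dual.IsDualizing A ω) (hn : Dual.IsNormalized A ω)
include hω hn

theorem gAnn_le_quot_gamma (M : Type u) [AddCommGroup M] [Module A M] [Module.Finite A M] (j : ℕ) :
    gAnn ω (ModuleCat.of A M) (-(j : ℤ)) ≤
      gAnn ω (ModuleCat.of A (M ⧸ gamma (maximalIdeal A) M)) (-(j : ℤ)) := by
  let Γ := gamma (maximalIdeal A) M
  have hS := shortExact_of_exact Γ.subtype Γ.mkQ Γ.injective_subtype (Submodule.mkQ_surjective _)
    (LinearMap.exact_subtype_mkQ Γ)
  have h := gAnn_right ω hS (-(j : ℤ)) (-(j : ℤ) - 1) (by omega)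
  simp only [ModuleCat.of_coe] at h
  rw [show gAnn ω (ModuleCat.of A Γ) (-(j : ℤ) - 1) = ⊤ from
    gAnn_finLen hω hn Γ (isFiniteLength_gamma M) (by omega), Ideal.top_mul] at h
  exact h

theorem smul_H_zero (M : Type u) [AddCommGroup M] [Module A M] [Module.Finite A M] {a : A}
    (ha : a ∈ gAnn ω (ModuleCat.of A M) 0) (y : LocCoh.H (maximalIdeal A) 0 M) : a • y = 0 := by
  let Γ := gamma (maximalIdeal A) M
  have hS := shortExact_of_exact Γ.subtype Γ.mkQ Γ.injective_subtype (Submodule.mkQ_surjective _)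
    (LinearMap.exact_subtype_mkQ Γ)
  have haΓ : a ∈ gAnn ω (ModuleCat.of A Γ) 0 := (mem_gAnn ω).2 fun f => by
    obtain ⟨g, rfl⟩ := pre_surjective_of_gAnn_eq_top ω hS 0 1 rfl
      (gAnn_pos hω hn (M ⧸ Γ) one_pos) f
    rw [← map_smul, (mem_gAnn ω).1 ha g, map_zero]
  have hk := gAnn_zero_le_annihilator hω hn Γ (isFiniteLength_gamma M) haΓ
  refine h0_injective (maximalIdeal A) M ?_
  rw [map_smul, map_zero]
  exact congrArg Subtype.val
    (Module.mem_annihilator.1 hk ⟨_, (range_h0 (maximalIdeal A) M).le ⟨y, rfl⟩⟩)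

theorem smul_H_eq_zero : ∀ (i : ℕ) (M : Type u) [AddCommGroup M] [Module A M] [Module.Finite A M]
    (a : A), a ∈ P ω i M ^ 2 ^ i → ∀ y : LocCoh.H (maximalIdeal A) i M, a • y = 0 := by
  intro i
  induction i with
  | zero =>
    intro M _ _ _ a ha y
    rw [pow_zero, pow_one] at ha
    have h := P_le ω (le_refl 0) M ha
    rw [Nat.cast_zero, neg_zero] at h
    exact smul_H_zero hω hn M h y
  | succ i ih =>
    intro M _ _ _ a ha y
    let Γ := gamma (maximalIdeal A) M
    refine (Hmap_mkQ_gamma_bijective (maximalIdeal A) (M := M) i.succ_pos).1 ?_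
    rw [map_smul, map_zero]
    have hP : P ω (i + 1) M ≤ P ω (i + 1) (M ⧸ Γ) :=
      Finset.prod_le_prod' fun j _ => gAnn_le_quot_gamma hω hn M j
    replace ha := Ideal.pow_right_mono hP _ ha
    generalize Hmap (maximalIdeal A) (i + 1) Γ.mkQ y = z
    obtain ⟨x, hx, hreg⟩ := exists_isSMulRegular_mem (gamma_quot_gamma (maximalIdeal A) (M := M))
    obtain ⟨N, hN⟩ := isPowerTorsion_H (maximalIdeal A) (i + 1) (M := M ⧸ Γ) z
    have hses := regular_ses (hreg.pow N)
    have hg := Submodule.mkQ_surjective (x ^ N • (⊤ : Submodule A (M ⧸ Γ)))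
    obtain ⟨w, rfl⟩ := (H_exact₁ (maximalIdeal A) i hses.1 hses.2 hg z).1 (by
      rw [Hmap_lsmul]; exact hN _ (Ideal.pow_mem_pow hx N))
    rw [← map_smul, ih _ a ?_ w, map_zero]
    -- the annihilators of the quotient
    have hS := shortExact_of_exact _ _ hses.1 hg hses.2
    have hQ : P ω (i + 1) (M ⧸ Γ) * P ω (i + 1) (M ⧸ Γ) ≤
        P ω i ((M ⧸ Γ) ⧸ x ^ N • (⊤ : Submodule A (M ⧸ Γ))) := by
      have h1 : P ω (i + 1) (M ⧸ Γ) ≤
          ∏ j ∈ Finset.range (i + 1), gAnn ω (ModuleCat.of A (M ⧸ Γ)) (-((j + 1 : ℕ) : ℤ)) := by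
        rw [P, Finset.prod_range_succ']
        exact Ideal.mul_le_left
      have h2 : P ω (i + 1) (M ⧸ Γ) ≤ P ω i (M ⧸ Γ) := by
        rw [P, Finset.prod_range_succ]
        exact Ideal.mul_le_left
      refine le_trans (Ideal.mul_mono h1 h2) ?_
      rw [P, P, ← Finset.prod_mul_distrib]
      refine Finset.prod_le_prod' fun j _ => ?_
      exact gAnn_right ω hS (-(j : ℤ)) (-((j + 1 : ℕ) : ℤ)) (by omega)
    refine Ideal.pow_right_mono hQ _ ?_
    rwa [mul_pow, ← pow_add, ← two_mul, ← pow_succ']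

end Groth.Agent.LC16.DualKill
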