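import Groth.Agent.LC15.Punctured
import Groth.Agent.LC15.Gamma
import Groth.Agent.Crv77.HH
import Groth.Agent.Coh69.OpenSub
import Groth.Agent.Coh69.Restrict
import Groth.Agent.QC70.InjQcoh
import Groth.Agent.QC70.InjStalk
import Groth.Agent.S9498
import Groth.Agent.ZClos93.Exact
import Groth.Prelude.Def_Wider
import Mathlib.LinearAlgebra.Isomorphisms

/-!
# Cohomology of a punctured spectrum and local cohomology

`H^p(U, M~) ≅ H^{p+1}_I(M)` linearly over `A` for `p ≥ 1`, `A` Noetherian, `U = Spec A - V(I)`.
-/

set_option autoImplicit false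
set_option maxHeartbeats 400000
set_option backward.isDefEq.respectTransparency.types false

noncomputable section

universe u

open CategoryTheory Limits AlgebraicGeometry TopologicalSpace Opposite

namespace Groth.Agent.LC16.PH

open Groth.Agent.LC15 Groth.Agent.LC15.PU

theorem additive_tilde (R : CommRingCat.{u}) : (tilde.functor R).Additive := inferInstance

theorem isIso_top {R : CommRingCat.{u}} (T : ModuleCat.{u} R) : IsIso (tilde.toOpen T ⊤) :=
  inferInstance

variable {A : Type u} [CommRing A] (I : Ideal A)

/-- The open complement of `V(I)`. -/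
abbrev UU : (Spec (CommRingCat.of A)).Opens := LocCoh.puncturedOpen A I

/-- The punctured spectrum as a scheme. -/
abbrev US : Scheme.{u} := ↑(UU I)

/-- The sheaf attached to a module. -/
def psiF : ModuleCat.{u} A ⥤ (US I).Modules :=
  tilde.functor (CommRingCat.of A) ⋙ Scheme.Modules.restrictFunctor (UU I).ι

/-- The sheaf attached to a module, on objects. -/
abbrev psi (T : ModuleCat.{u} A) : (US I).Modules :=
  (tilde (R := CommRingCat.of A) T).restrict (UU I).ι

/-- Linearity of the map on cohomology induced by multiplication. -/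
theorem hmap_smul_id (T : ModuleCat.{u} A) (a : A) (p : ℕ) (x : Coh.HH (US I) (psi I T) p) :
    Crv77.hmap A ((psiF I).map (a • 𝟙 T)) p x = a • x :=
  (LC15.PU.HHmap_tilde_smul I T a p x)

instance psiF_additive : (psiF I).Additive := by
  haveI : (tilde.functor (CommRingCat.of A)).Additive := additive_tilde _
  haveI := Limits.preservesBinaryBiproducts_of_preservesBinaryCoproducts
    (Scheme.Modules.restrictFunctor (UU I).ι)
  haveI : (Scheme.Modules.restrictFunctor (UU I).ι).Additive :=
    Functor.additive_of_preservesBinaryBiproducts _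
  unfold psiF
  infer_instance

theorem psiF_shortExact {S : ShortComplex (ModuleCat.{u} A)} (hS : S.ShortExact) :
    (S.map (psiF I)).ShortExact := by
  haveI : PreservesFiniteLimits (tilde.functor (CommRingCat.of A)) :=
    (Groth.Agent.S9498.tilde_exact (CommRingCat.of A)).1
  haveI : PreservesFiniteColimits (tilde.functor (CommRingCat.of A)) :=
    (Groth.Agent.S9498.tilde_exact (CommRingCat.of A)).2
  haveI : (tilde.functor (CommRingCat.of A)).Additive := additive_tilde _
  have h1 := hS.map_of_exact (tilde.functor (CommRingCat.of A))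
  haveI : PreservesColimitsOfSize.{0, 0} (Scheme.Modules.restrictFunctor (UU I).ι) :=
    (Scheme.Modules.restrictAdjunction (UU I).ι).leftAdjoint_preservesColimits
  haveI : PreservesFiniteColimits (Scheme.Modules.restrictFunctor (UU I).ι) :=
    PreservesColimitsOfSize.preservesFiniteColimits _
  haveI : PreservesFiniteLimits (Scheme.Modules.restrictFunctor (UU I).ι) :=
    ZClos93.preservesFiniteLimits_restrictFunctor _
  haveI := Limits.preservesBinaryBiproducts_of_preservesBinaryCoproducts
    (Scheme.Modules.restrictFunctor (UU I).ι)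
  haveI : (Scheme.Modules.restrictFunctor (UU I).ι).Additive :=
    Functor.additive_of_preservesBinaryBiproducts _
  exact h1.map_of_exact (Scheme.Modules.restrictFunctor (UU I).ι)

/-- The image of the top open of the punctured spectrum. -/
abbrev V : (Spec (CommRingCat.of A)).Opens := (UU I).ι ''ᵁ ⊤

theorem V_eq : V I = UU I := (UU I).ι_image_top

/-- Degree zero cohomology is the module of sections. -/
def e0 (T : ModuleCat.{u} A) :
    Coh.HH (US I) (psi I T) 0 ≃+ Γ(tilde (R := CommRingCat.of A) T, V I) :=
  Sheaf.H.equiv₀ (Coh.toAb (psi I T)) (isTerminalTop (α := (US I).Opens))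

theorem e0_map {T T' : ModuleCat.{u} A} (f : T ⟶ T') (x : Coh.HH (US I) (psi I T) 0) :
    e0 I T' (Crv77.hmap A ((psiF I).map f) 0 x) =
      (tilde.map (R := CommRingCat.of A) f).app (V I) (e0 I T x) :=
  (Sheaf.H.equiv₀_naturality (f := (SheafOfModules.toSheaf _).map ((psiF I).map f))
    (isTerminalTop (α := (US I).Opens)) x).symm

/-- The canonical map to the sections, additively. -/
def sec (T : ModuleCat.{u} A) : T →+ Γ(tilde (R := CommRingCat.of A) T, V I) :=
  (tilde.toOpen (R := CommRingCat.of A) T (V I)).hom.toAddMonoidHom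

theorem sec_apply (T : ModuleCat.{u} A) (t : T) (y : V I) :
    (sec I T t).1 y = LocalizedModule.mk t 1 := rfl

theorem sec_natural {T T' : ModuleCat.{u} A} (f : T ⟶ T') (t : T) :
    (tilde.map (R := CommRingCat.of A) f).app (V I) (sec I T t) = sec I T' (f t) := by
  refine Subtype.ext (funext fun y => ?_)
  rw [sec_apply, tilde_map_apply, sec_apply, LocalizedModule.map_mk]

/-- The canonical map to `H^0`, additively. -/
def etaAdd (T : ModuleCat.{u} A) : T →+ Coh.HH (US I) (psi I T) 0 :=
  (e0 I T).symm.toAddMonoidHom.comp (sec I T)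

theorem etaAdd_natural {T T' : ModuleCat.{u} A} (f : T ⟶ T') (t : T) :
    Crv77.hmap A ((psiF I).map f) 0 (etaAdd I T t) = etaAdd I T' (f t) := by
  apply (e0 I T').injective
  rw [e0_map]
  change (tilde.map (R := CommRingCat.of A) f).app (V I) (e0 I T ((e0 I T).symm (sec I T t))) =
    e0 I T' ((e0 I T').symm (sec I T' (f t)))
  rw [AddEquiv.apply_symm_apply, AddEquiv.apply_symm_apply, sec_natural]

/-- The canonical map to `H^0`. -/
def eta (T : ModuleCat.{u} A) : T →ₗ[A] Coh.HH (US I) (psi I T) 0 where
  toFun := etaAdd I T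
  map_add' := map_add _
  map_smul' a t := by
    rw [RingHom.id_apply, ← hmap_smul_id, etaAdd_natural]
    rfl

theorem eta_natural {T T' : ModuleCat.{u} A} (f : T ⟶ T') (t : T) :
    Crv77.hmap A ((psiF I).map f) 0 (eta I T t) = eta I T' (f t) :=
  etaAdd_natural I f t

theorem eta_eq_zero_iff [IsNoetherianRing A] (T : ModuleCat.{u} A) (t : T) :
    eta I T t = 0 ↔ t ∈ gamma I T := by
  have h0 : eta I T t = 0 ↔ sec I T t = 0 := (e0 I T).symm.map_eq_zero_iff
  rw [h0, mem_gamma]
  constructor
  · intro h
    have hle : I ≤ (Submodule.span A {t}).annihilator.radical := by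
      rw [Ideal.radical_eq_sInf]
      refine le_sInf ?_
      rintro p ⟨hp, hpp⟩
      by_contra hIp
      have hy : (⟨p, hpp⟩ : PrimeSpectrum A) ∈ V I := by
        rw [V_eq]
        exact hIp
      have h1 := congrArg (fun z => z.1 (⟨_, hy⟩ : V I)) h
      change LocalizedModule.mk t 1 = 0 at h1
      rw [← LocalizedModule.zero_mk 1, LocalizedModule.mk_eq] at h1
      obtain ⟨c, hc⟩ := h1
      simp only [one_smul, smul_zero] at hc
      exact c.2 (hp ((Submodule.mem_annihilator_span_singleton t (c : A)).2 hc))
    obtain ⟨n, hn⟩ := Ideal.exists_pow_le_of_le_radical_of_fg hle (IsNoetherian.noetherian I)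
    exact ⟨n, fun a ha => (Submodule.mem_annihilator_span_singleton t a).1 (hn ha)⟩
  · rintro ⟨n, hn⟩
    refine Subtype.ext (funext fun y => ?_)
    change LocalizedModule.mk t 1 = 0
    have hy : ¬ I ≤ (y.1 : PrimeSpectrum A).asIdeal := (V_eq I).le y.2
    obtain ⟨c, hcI, hcp⟩ := SetLike.not_le_iff_exists.1 hy
    rw [← LocalizedModule.zero_mk 1, LocalizedModule.mk_eq]
    refine ⟨⟨c ^ n, fun h => hcp ((y.1 : PrimeSpectrum A).isPrime.mem_of_pow_mem n h)⟩, ?_⟩
    simp only [one_smul, smul_zero]
    exact hn _ (Ideal.pow_mem_pow hcI n)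

theorem sec_surjective_of_injective [IsNoetherianRing A] (T : ModuleCat.{u} A)
    (hT : Module.Injective A T) : Function.Surjective (sec I T) := by
  haveI : Injective (tilde (R := CommRingCat.of A) T) :=
    QC70.injective_tilde (R := CommRingCat.of A) T hT
  intro s
  obtain ⟨z, hz⟩ := QC70.restriction_surjective_of_injective
    (tilde (R := CommRingCat.of A) T) (le_top : V I ≤ ⊤) s
  haveI := isIso_top (R := CommRingCat.of A) T
  obtain ⟨t, ht⟩ := (ConcreteCategory.bijective_of_isIso
    (tilde.toOpen (R := CommRingCat.of A) T ⊤)).2 z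
  refine ⟨t, ?_⟩
  rw [← hz, ← ht]
  rfl

theorem eta_surjective_of_injective [IsNoetherianRing A] (T : ModuleCat.{u} A)
    (hT : Module.Injective A T) : Function.Surjective (eta I T) :=
  (e0 I T).symm.surjective.comp (sec_surjective_of_injective I T hT)

theorem subsingleton_HH_of_injective [IsNoetherianRing A] (T : ModuleCat.{u} A)
    (hT : Module.Injective A T) (n : ℕ) : Subsingleton (Coh.HH (US I) (psi I T) (n + 1)) := by
  haveI : Injective (tilde (R := CommRingCat.of A) T) :=
    QC70.injective_tilde (R := CommRingCat.of A) T hT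
  haveI : TopCat.Sheaf.IsFlasque (Coh.toAb (psi I T)) := ⟨fun {W W'} i => by
    rw [AddCommGrpCat.epi_iff_surjective]
    exact QC70.restriction_surjective_of_injective (tilde (R := CommRingCat.of A) T)
      (((UU I).ι.opensFunctor).map i.unop).le⟩
  haveI : Subsingleton (Coh69.HE (Coh.toAb (psi I T)) (n + 1) (⊤ : (US I).Opens)) :=
    TopCoh49.subsingleton_E_of_isFlasque n (Coh.toAb (psi I T)) ⊤
  exact (Coh69.hhEquiv (psi I T) (n + 1)).injective.subsingleton

end Groth.Agent.LC16.PH
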