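import Groth.Agent.SpSeq40.Pages

/-!
An abutment concentrated at the corner position of one total degree.
-/

set_option autoImplicit false

universe v u

open CategoryTheory CategoryTheory.Limits

namespace Groth.Agent.LC16.AbutCorner

variable {C : Type u} [Category.{v} C] [Abelian C]

theorem nonempty_iso_corner {E : CohomologicalSpectralSequence C 2} {H : ℤ → C}
    (a : SpSeq.Abutment E H) (hfin : ∀ n, a.IsFinite n) (p : ℤ)
    (hneg : ∀ pq : ℤ × ℤ, pq.1 < 0 → IsZero ((E.page 2 le_rfl).X pq))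
    (hout : ∀ pq : ℤ × ℤ, 0 < pq.1 → pq.2 < p → IsZero ((E.page 2 le_rfl).X pq)) :
    Nonempty (H p ≅ (E.page 2 le_rfl).X (0, p)) := by
  have hst : SpSeq.StationaryAt E (0, p - 0) 2 := ⟨le_rfl, fun r h₀ hr => by
    refine ⟨(SpSeq40.isZero_page_from E le_rfl (hneg _ ?_) r hr).eq_of_src _ _,
      (SpSeq40.isZero_page_from E le_rfl (hout _ ?_ ?_) r hr).eq_of_tgt _ _⟩
    · change (0 : ℤ) - r < 0
      omega
    · change 0 < (0 : ℤ) + r
      omega
    · change p - 0 + (1 - r) < p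
      omega⟩
  have hz : ∀ i, i ≠ 0 → a.fil p (i + 1) = a.fil p i := fun i hi =>
    SpSeq40.fil_succ_eq a p i 2 le_rfl (by
      rcases lt_or_gt_of_ne hi with h | h
      · exact hneg _ h
      · exact hout (i, p - i) h (show p - i < p by omega))
  obtain ⟨⟨s, hs⟩, ⟨t, ht⟩⟩ := hfin p
  have hs : a.fil p s = ⊤ := hs
  have ht : a.fil p t = ⊥ := ht
  have hbot : a.fil p 1 = ⊥ := by
    rcases le_total t 1 with h | h
    · exact le_bot_iff.1 (ht ▸ a.anti p h)
    · exact (SpSeq40.fil_eq_of_zero a p h fun i h1 _ => hz i (by omega)).symm.trans ht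
  have htop : a.fil p 0 = ⊤ := by
    rcases le_total 0 s with h | h
    · exact top_le_iff.1 (hs ▸ a.anti p h)
    · exact (SpSeq40.fil_eq_of_zero a p h fun i _ h2 => hz i (by omega)).trans hs
  have hsq : ∀ (F : ℤ → Subobject (H p)) (hF : Antitone F), F 0 = ⊤ → F (0 + 1) = ⊥ →
      Nonempty (SpSeq.grPiece F hF 0 ≅ H p) := by
    intro F hF h1 h2
    have : IsIso (F 0).arrow := (Subobject.isIso_arrow_iff_eq_top _).2 h1
    have h3 : ∀ (B : Subobject (H p)) (hB : B ≤ F 0), B = ⊥ →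
        Nonempty (SpSeq.subquot (F 0) B hB ≅ H p) := by
      rintro _ hB rfl
      exact ⟨SpSeq40.subquotBotIso _ hB ≪≫ asIso (F 0).arrow⟩
    exact h3 _ _ h2
  obtain ⟨e⟩ := hsq _ (a.anti p) htop hbot
  obtain ⟨e'⟩ := SpSeq40.nonempty_gr_iso a p 0 2 hst
  exact ⟨(e' ≪≫ e).symm ≪≫ eqToIso (congrArg (fun q => (E.page 2 le_rfl).X (0, q)) (sub_zero p))⟩

end Groth.Agent.LC16.AbutCorner
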