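import Groth.Agent.LC16.ExtResolution

/-!
Relative `Ext` sheaves `R^p(f_* 𝓗om(M, -))` as functors of `M`.
-/

set_option autoImplicit false
set_option backward.isDefEq.respectTransparency.types false
set_option linter.style.haveILetI false

noncomputable section

universe v u v' u'

open CategoryTheory CategoryTheory.Limits AlgebraicGeometry TopologicalSpace Opposite
open Groth.Agent.QC70

namespace Groth.Agent.LC16.RelExt

section Generic

variable {C : Type u} [Category.{v} C] [Abelian C] [HasInjectiveResolutions C]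
  {D : Type u'} [Category.{v'} D] [Abelian D]

/-- The long exact sequence of the derived functors of a sequence of functors which is short exact
on injectives. -/
theorem les {T₃ T₂ T₁ : C ⥤ D} [T₃.Additive] [T₂.Additive] [T₁.Additive] (α : T₃ ⟶ T₂)
    (β : T₂ ⟶ T₁)
    (h : ∀ I : C, Injective I → ∃ w : α.app I ≫ β.app I = 0, (ShortComplex.mk _ _ w).ShortExact)
    (G : C) :
    Mono ((NatTrans.rightDerived α 0).app G) ∧
    (∀ p : ℕ, ∃ w : (NatTrans.rightDerived α p).app G ≫ (NatTrans.rightDerived β p).app G = 0,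
      (ShortComplex.mk _ _ w).Exact) ∧
    ∃ δ : ∀ p : ℕ, (T₁.rightDerived p).obj G ⟶ (T₃.rightDerived (p + 1)).obj G,
      ∀ p : ℕ,
        (∃ w : (NatTrans.rightDerived β p).app G ≫ δ p = 0, (ShortComplex.mk _ _ w).Exact) ∧
        (∃ w : δ p ≫ (NatTrans.rightDerived α (p + 1)).app G = 0, (ShortComplex.mk _ _ w).Exact) := by
  let P := injectiveResolution G
  let c := ComplexShape.up ℕ
  let a := (NatTrans.mapHomologicalComplex α c).app P.cocomplex
  let b := (NatTrans.mapHomologicalComplex β c).app P.cocomplex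
  let S : ShortComplex (HomologicalComplex D c) := ShortComplex.mk a b
    (HomologicalComplex.hom_ext _ _ fun n => (h _ (P.injective n)).choose)
  have hS : S.ShortExact := HomologicalComplex.shortExact_of_degreewise_shortExact _ fun n =>
    (h _ (P.injective n)).choose_spec
  let e₃ : ∀ p, (T₃.rightDerived p).obj G ≅ S.X₁.homology p := fun p => P.isoRightDerivedObj T₃ p
  let e₂ : ∀ p, (T₂.rightDerived p).obj G ≅ S.X₂.homology p := fun p => P.isoRightDerivedObj T₂ p
  let e₁ : ∀ p, (T₁.rightDerived p).obj G ≅ S.X₃.homology p := fun p => P.isoRightDerivedObj T₁ p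
  have ha : ∀ p, (NatTrans.rightDerived α p).app G =
      (e₃ p).hom ≫ HomologicalComplex.homologyMap S.f p ≫ (e₂ p).inv := fun p =>
    InjectiveResolution.rightDerived_app_eq α P p
  have hb : ∀ p, (NatTrans.rightDerived β p).app G =
      (e₂ p).hom ≫ HomologicalComplex.homologyMap S.g p ≫ (e₁ p).inv := fun p =>
    InjectiveResolution.rightDerived_app_eq β P p
  refine ⟨?_, fun p => ?_, fun p => (e₁ p).hom ≫ hS.δ p (p + 1) rfl ≫ (e₃ (p + 1)).inv,
    fun p => ?_⟩
  · rw [ha 0]
    haveI : Mono (S.f.f 0) := (h _ (P.injective 0)).choose_spec.mono_f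
    haveI : Mono (HomologicalComplex.cyclesMap S.f 0) := by
      refine ⟨fun {Z} x y hxy => ?_⟩
      rw [← cancel_mono (S.X₁.iCycles 0), ← cancel_mono (S.f.f 0), Category.assoc, Category.assoc,
        ← HomologicalComplex.cyclesMap_i, reassoc_of% hxy]
    haveI : Mono (HomologicalComplex.homologyMap S.f 0) := by
      have e := HomologicalComplex.homologyπ_naturality S.f 0
      rw [← IsIso.eq_inv_comp] at e
      rw [e]
      exact mono_comp _ _
    haveI : Mono (HomologicalComplex.homologyMap S.f 0 ≫ (e₂ 0).inv) := mono_comp _ _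
    exact mono_comp _ _
  · have e : ((NatTrans.rightDerived α p).app G ≫ (NatTrans.rightDerived β p).app G) = 0 := by
      rw [ha, hb]
      simp only [Category.assoc, Iso.inv_hom_id_assoc]
      rw [← HomologicalComplex.homologyMap_comp_assoc, S.zero]
      simp
    refine ⟨e, ShortComplex.exact_of_iso
      (ShortComplex.isoMk (e₃ p).symm (e₂ p).symm (e₁ p).symm ?_ ?_) (hS.homology_exact₂ p)⟩
    · dsimp [S]
      rw [ha]
      exact (e₃ p).inv_hom_id_assoc _
    · dsimp [S]
      rw [hb]
      exact (e₂ p).inv_hom_id_assoc _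
  · have d₁ := hS.homology_exact₃ p (p + 1) rfl
    have d₃ := hS.homology_exact₁ p (p + 1) rfl
    refine ⟨⟨?_, ShortComplex.exact_of_iso
      (ShortComplex.isoMk (e₂ p).symm (e₁ p).symm (e₃ (p + 1)).symm ?_ ?_) d₁⟩,
      ⟨?_, ShortComplex.exact_of_iso
      (ShortComplex.isoMk (e₁ p).symm (e₃ (p + 1)).symm (e₂ (p + 1)).symm ?_ ?_) d₃⟩⟩
    · rw [hb]
      simp only [Category.assoc, Iso.inv_hom_id_assoc]
      have w := hS.comp_δ p (p + 1) rfl
      rw [reassoc_of% w]
      simp
    · dsimp [S]
      rw [hb]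
      exact (e₂ p).inv_hom_id_assoc _
    · dsimp [S]
      exact (e₁ p).inv_hom_id_assoc _
    · rw [ha]
      simp only [Category.assoc, Iso.inv_hom_id_assoc]
      have w := hS.δ_comp p (p + 1) rfl
      rw [reassoc_of% w]
      simp
    · dsimp [S]
      exact (e₁ p).inv_hom_id_assoc _
    · dsimp [S]
      rw [ha]
      exact (e₃ (p + 1)).inv_hom_id_assoc _

end Generic

variable {X : Scheme.{u}}

/-- Exactness of modules from exactness on sections, for short sequences. -/
theorem shortExact_pushforward_of_app {Y : Scheme.{u}} (f : X ⟶ Y) (S : ShortComplex X.Modules)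
    (hi : ∀ U, Function.Injective (S.f.app U))
    (he : ∀ (U : X.Opens) (φ : Γ(S.X₂, U)), S.g.app U φ = 0 → ∃ ψ, S.f.app U ψ = φ)
    (hs : ∀ U, Function.Surjective (S.g.app U)) :
    (S.map (Scheme.Modules.pushforward f)).ShortExact where
  exact := ExtResolution.exact_of_app _ fun U φ hφ => he (f ⁻¹ᵁ U) φ hφ
  mono_f := mono_of_app_injective _ fun U => hi (f ⁻¹ᵁ U)
  epi_g := epi_of_locally_surjective _ fun U s p hp => by
    obtain ⟨t, ht⟩ := hs (f ⁻¹ᵁ U) s
    refine ⟨U, le_rfl, t, hp, ?_⟩
    rw [res_self]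
    exact ht

variable {S : ShortComplex X.Modules}

theorem homComap_app_injective [Epi S.g] (G : X.Modules) (U : X.Opens) :
    Function.Injective (((homComap S.g).app G).app U) := fun φ ψ h => by
  let R := Scheme.Modules.restrictFunctor U.ι
  haveI : Epi (R.map S.g) := inferInstance
  refine HomOn.toRestrictHom_injective ((cancel_epi (R.map S.g)).mp ?_)
  rw [← HomOn.toRestrictHom_comp, ← HomOn.toRestrictHom_comp]
  exact congrArg HomOn.toRestrictHom h

theorem homComap_app_exact (hS : S.Exact) [Epi S.g] (G : X.Modules) (U : X.Opens)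
    (φ : Γ(homMod S.X₂ G, U)) (h : ((homComap S.f).app G).app U φ = 0) :
    ∃ ψ, ((homComap S.g).app G).app U ψ = φ := by
  let R := Scheme.Modules.restrictFunctor U.ι
  have hmap : (S.map R).Exact := hS.map R
  haveI : Epi (S.map R).g := inferInstanceAs (Epi (R.map S.g))
  have h0 : R.map S.f ≫ (ofSec φ).toRestrictHom = 0 := by
    rw [← HomOn.toRestrictHom_comp, ← HomOn.toRestrictHom_zero (M := S.X₁) (N := G) (U := U)]
    exact congrArg HomOn.toRestrictHom h
  refine ⟨(HomOn.ofRestrictHom (hmap.desc (ofSec φ).toRestrictHom h0)).toSec,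
    HomOn.toRestrictHom_injective ?_⟩
  refine (HomOn.toRestrictHom_comp _ _).trans ?_
  rw [HomOn.toRestrictHom_ofRestrictHom]
  exact hmap.g_desc _ h0

theorem homComap_app_surjective [Mono S.f] (I : X.Modules) [Injective I] (U : X.Opens) :
    Function.Surjective (((homComap S.f).app I).app U) := fun φ => by
  let R := Scheme.Modules.restrictFunctor U.ι
  haveI : Injective (I.restrict U.ι) := injective_restrict U.ι I
  haveI : Mono (R.map S.f) := inferInstance
  refine ⟨(HomOn.ofRestrictHom (Injective.factorThru (ofSec φ).toRestrictHom (R.map S.f))).toSec,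
    HomOn.toRestrictHom_injective ?_⟩
  refine (HomOn.toRestrictHom_comp _ _).trans ?_
  rw [HomOn.toRestrictHom_ofRestrictHom]
  exact Injective.comp_factorThru _ _

theorem sq_inv {A B A' B' : X.Modules} (p : A ≅ A') (q : B ≅ B') {a : A ⟶ B} {b : A' ⟶ B'}
    (h : a ≫ q.hom = p.hom ≫ b) : p.inv ≫ a = b ≫ q.inv := by
  rw [Iso.inv_comp_eq, ← Category.assoc, ← h, Category.assoc, Iso.hom_inv_id, Category.comp_id]

theorem comp_zero_of_sq {A B C A' B' C' : X.Modules} (p : A ≅ A') (q : B ≅ B') (r : C ≅ C')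
    {a : A ⟶ B} {b : B ⟶ C} {a' : A' ⟶ B'} {b' : B' ⟶ C'} (h : a ≫ q.hom = p.hom ≫ a')
    (h' : b ≫ r.hom = q.hom ≫ b') (w : a' ≫ b' = 0) : a ≫ b = 0 := by
  rw [← cancel_mono r.hom, zero_comp, Category.assoc, h', reassoc_of% h, w, comp_zero]

variable {Y : Scheme.{u}} (f : X ⟶ Y)

/-- `f_* 𝓗om(M, -)`. -/
abbrev relHom (M : X.Modules) [ModSite.HasSheafHom (O := X.sheaf) M] : X.Modules ⥤ Y.Modules :=
  ModSite.sheafHom (O := X.sheaf) M ⋙ Scheme.Modules.pushforward f

/-- The transition map of `relHom`. -/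
abbrev relMap {M M' : X.Modules} [ModSite.HasSheafHom (O := X.sheaf) M]
    [ModSite.HasSheafHom (O := X.sheaf) M'] (g : M' ⟶ M) : relHom f M ⟶ relHom f M' :=
  Functor.whiskerRight (ExtSupp.sheafHomMap (O := X.sheaf) g) (Scheme.Modules.pushforward f)

theorem additive_relHom (M : X.Modules) [ModSite.HasSheafHom (O := X.sheaf) M] :
    (relHom f M).Additive := by
  let T : X.Modules ⥤ X.Modules := ModSite.sheafHom (O := X.sheaf) M
  haveI := additive_homFunctor M
  haveI : T.Additive := Functor.additive_of_iso (sheafHomIso' M).symm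
  exact inferInstanceAs (T ⋙ Scheme.Modules.pushforward f).Additive

theorem sheafHomMap_comp {M M' M'' : X.Modules} [ModSite.HasSheafHom (O := X.sheaf) M]
    [ModSite.HasSheafHom (O := X.sheaf) M'] [ModSite.HasSheafHom (O := X.sheaf) M'']
    (h : M'' ⟶ M') (g : M' ⟶ M) :
    ExtSupp.sheafHomMap (O := X.sheaf) (h ≫ g) =
      ExtSupp.sheafHomMap (O := X.sheaf) g ≫ ExtSupp.sheafHomMap (O := X.sheaf) h := by
  refine Eq.trans ?_ (conjugateEquiv_comp _ _ _ _ _).symm
  exact congrArg (conjugateEquiv _ _) ((ModSite.tensorBi X.sheaf).flip.map_comp h g)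

theorem sheafHomMap_app {M M' : X.Modules} [ModSite.HasSheafHom (O := X.sheaf) M]
    [ModSite.HasSheafHom (O := X.sheaf) M'] (g : M' ⟶ M) (G : X.Modules) :
    (ExtSupp.sheafHomMap (O := X.sheaf) g).app G ≫ (sheafHomIso' M').hom.app G =
      (sheafHomIso' M).hom.app G ≫ (homComap g).app G :=
  congr_app (ExtResolution.sheafHomMap_comp_sheafHomIso' g) G

section

variable [ModSite.HasSheafHom (O := X.sheaf) S.X₁] [ModSite.HasSheafHom (O := X.sheaf) S.X₂]
  [ModSite.HasSheafHom (O := X.sheaf) S.X₃]

theorem relMap_comp_eq_zero (G : X.Modules) : (relMap f S.g).app G ≫ (relMap f S.f).app G = 0 := by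
  refine ((Scheme.Modules.pushforward f).map_comp _ _).symm.trans ?_
  refine Eq.trans ?_ ((Scheme.Modules.pushforward f).map_zero _ _)
  refine congrArg ((Scheme.Modules.pushforward f).map) ?_
  exact comp_zero_of_sq ((sheafHomIso' S.X₃).app G) ((sheafHomIso' S.X₂).app G)
    ((sheafHomIso' S.X₁).app G) (sheafHomMap_app S.g G) (sheafHomMap_app S.f G)
    (homComap_comp_eq_zero G)

/-- The comparison of the two sequences. -/
def relSeqIso (G : X.Modules) :
    (ShortComplex.mk ((homComap S.g).app G) ((homComap S.f).app G) (homComap_comp_eq_zero G)).map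
        (Scheme.Modules.pushforward f) ≅
      ShortComplex.mk ((relMap f S.g).app G) ((relMap f S.f).app G) (relMap_comp_eq_zero f G) :=
  ShortComplex.isoMk
    ((Scheme.Modules.pushforward f).mapIso ((sheafHomIso' S.X₃).app G).symm)
    ((Scheme.Modules.pushforward f).mapIso ((sheafHomIso' S.X₂).app G).symm)
    ((Scheme.Modules.pushforward f).mapIso ((sheafHomIso' S.X₁).app G).symm)
    (((Scheme.Modules.pushforward f).map_comp _ _).symm.trans
      ((congrArg _ (sq_inv ((sheafHomIso' S.X₃).app G) ((sheafHomIso' S.X₂).app G)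
        (sheafHomMap_app S.g G))).trans ((Scheme.Modules.pushforward f).map_comp _ _)))
    (((Scheme.Modules.pushforward f).map_comp _ _).symm.trans
      ((congrArg _ (sq_inv ((sheafHomIso' S.X₂).app G) ((sheafHomIso' S.X₁).app G)
        (sheafHomMap_app S.f G))).trans ((Scheme.Modules.pushforward f).map_comp _ _)))

theorem shortExact_relMap (hS : S.ShortExact) (I : X.Modules) [Injective I] :
    (ShortComplex.mk ((relMap f S.g).app I) ((relMap f S.f).app I)
      (relMap_comp_eq_zero f I)).ShortExact := by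
  have := hS.mono_f
  have := hS.epi_g
  exact ShortComplex.shortExact_of_iso (relSeqIso f I) (shortExact_pushforward_of_app f _
    (homComap_app_injective I) (homComap_app_exact hS.exact I) (homComap_app_surjective I))

theorem mono_exact_relMap (hS : S.Exact) [Epi S.g] (G : X.Modules) :
    Mono ((relMap f S.g).app G) ∧
      (ShortComplex.mk ((relMap f S.g).app G) ((relMap f S.f).app G)
        (relMap_comp_eq_zero f G)).Exact := by
  let e := relSeqIso (S := S) f G
  have hex : ((ShortComplex.mk ((homComap S.g).app G) ((homComap S.f).app G)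
      (homComap_comp_eq_zero G)).map (Scheme.Modules.pushforward f)).Exact :=
    ExtResolution.exact_of_app _ fun U φ hφ => homComap_app_exact hS G (f ⁻¹ᵁ U) φ hφ
  have hm : Mono ((Scheme.Modules.pushforward f).map ((homComap S.g).app G)) :=
    mono_of_app_injective _ fun U => homComap_app_injective G (f ⁻¹ᵁ U)
  refine ⟨?_, ShortComplex.exact_of_iso e hex⟩
  have h := e.hom.comm₁₂
  have e1 : (relMap f S.g).app G =
      inv e.hom.τ₁ ≫ (Scheme.Modules.pushforward f).map ((homComap S.g).app G) ≫ e.hom.τ₂ :=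
    (IsIso.eq_inv_comp _).2 h
  rw [e1]
  have h2 : Mono e.hom.τ₂ := @IsIso.mono_of_iso _ _ _ _ _ (ShortComplex.π₂.mapIso e).isIso_hom
  exact @mono_comp _ _ _ _ _ _ inferInstance _ (@mono_comp _ _ _ _ _ _ hm _ h2)

/-- The long exact sequence in the first variable. -/
theorem les_first (hS : S.ShortExact) [HasInjectiveResolutions (ModSite.Mod X.sheaf)]
    [(relHom f S.X₁).Additive] [(relHom f S.X₂).Additive] [(relHom f S.X₃).Additive] (G : X.Modules) :
    Mono ((NatTrans.rightDerived (relMap f S.g) 0).app G) ∧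
    (∀ p : ℕ, ∃ w : (NatTrans.rightDerived (relMap f S.g) p).app G ≫
        (NatTrans.rightDerived (relMap f S.f) p).app G = 0, (ShortComplex.mk _ _ w).Exact) ∧
    ∃ δ : ∀ p : ℕ, ((relHom f S.X₁).rightDerived p).obj G ⟶
        ((relHom f S.X₃).rightDerived (p + 1)).obj G,
      ∀ p : ℕ,
        (∃ w : (NatTrans.rightDerived (relMap f S.f) p).app G ≫ δ p = 0,
          (ShortComplex.mk _ _ w).Exact) ∧
        (∃ w : δ p ≫ (NatTrans.rightDerived (relMap f S.g) (p + 1)).app G = 0,
          (ShortComplex.mk _ _ w).Exact) := by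
  haveI : HasInjectiveResolutions X.Modules := ‹HasInjectiveResolutions (ModSite.Mod X.sheaf)›
  exact les (relMap f S.g) (relMap f S.f)
    (fun I hI => ⟨relMap_comp_eq_zero f I, shortExact_relMap f hS I⟩) G

end

end Groth.Agent.LC16.RelExt
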