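import Groth.Agent.LC16.AbutClass
import Groth.Agent.LC16.RelExt
import Groth.Agent.GSS45.SchemeSS
import Groth.Agent.RB70.Coherent
import Groth.Agent.QC70.CohOps
import Groth.Agent.Mod48.LocalCohIso

/-!
Relative `Ext` sheaves of coherent modules along proper morphisms are coherent.
-/

set_option autoImplicit false
set_option backward.isDefEq.respectTransparency.types false
set_option linter.style.haveILetI false

noncomputable section

universe u

open CategoryTheory CategoryTheory.Limits AlgebraicGeometry ZeroObject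
open Groth.Agent.QC70

namespace Groth.Agent.LC16.RelExtCoh

variable {X Y : Scheme.{u}} (f : X ⟶ Y)

theorem isCoh_relExt [IsProper f] [IsLocallyNoetherian Y] (F G : X.Modules) (hF : Coh.IsCoh F)
    (hG : Coh.IsCoh G) [ModSite.HasSheafHom (O := X.sheaf) F]
    [HasInjectiveResolutions (ModSite.Mod X.sheaf)] [hadd : (RelExt.relHom f F).Additive] (n : ℕ) :
    Coh.IsCoh (((RelExt.relHom f F).rightDerived n).obj G) := by
  haveI : HasInjectiveResolutions X.Modules := ‹HasInjectiveResolutions (ModSite.Mod X.sheaf)›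
  haveI : IsLocallyNoetherian X := LocallyOfFiniteType.isLocallyNoetherian f
  haveI a1 : (ModSite.sheafHom (O := X.sheaf) F ⋙ Scheme.Modules.pushforward (𝟙 X)).Additive :=
    RelExt.additive_relHom (𝟙 X) F
  haveI a2 : (ModSite.sheafHom (O := X.sheaf) F ⋙ Scheme.Modules.pushforward (𝟙 X ≫ f)).Additive :=
    RelExt.additive_relHom (𝟙 X ≫ f) F
  haveI a3 : (RelExt.relHom (𝟙 X) F).Additive := a1
  haveI a4 : (RelExt.relHom (𝟙 X ≫ f) F).Additive := a2
  let T : X.Modules ⥤ X.Modules := ModSite.sheafHom (O := X.sheaf) F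
  haveI := additive_homFunctor F
  haveI : T.Additive := Functor.additive_of_iso (sheafHomIso' F).symm
  have hE : ∀ q : ℕ, Coh.IsCoh (((RelExt.relHom (𝟙 X) F).rightDerived q).obj G) := fun q =>
    isCoh_of_iso ((Mod48.rightDerivedNatIso (show T ≅ RelExt.relHom (𝟙 X) F from
      T.rightUnitor.symm ≪≫ Functor.isoWhiskerLeft T (Scheme.Modules.pushforwardId X).symm) q).app G)
      (isCoh_extSh F G hF hG q)
  obtain ⟨ss, a, hfin, -, he⟩ := GSS45.exists_ss_Rpush_sheafHom (Z := Y) (𝟙 X) f F G
    (H := fun n : ℤ =>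
      if 0 ≤ n then ((RelExt.relHom (𝟙 X ≫ f) F).rightDerived n.toNat).obj G else (0 : Y.Modules))
    (fun n => ⟨eqToIso (by simp only [Nat.cast_nonneg, if_true, Int.toNat_natCast]; rfl)⟩)
    (fun n hn => by rw [if_neg (by lia)]; exact isZero_zero _)
    (E₂ := fun p q : ℤ => if 0 ≤ p ∧ 0 ≤ q then
      (Coh.Rpush f p.toNat).obj (((RelExt.relHom (𝟙 X) F).rightDerived q.toNat).obj G) else (0 : Y.Modules))
    (fun p q => ⟨eqToIso (by simp only [Nat.cast_nonneg, and_self, if_true, Int.toNat_natCast]; rfl)⟩)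
    (fun p q h => by rw [if_neg (by lia)]; exact isZero_zero _)
  have h₀ : ∀ pq : ℤ × ℤ, Coh.IsCoh ((ss.page 2 le_rfl).X pq) := by
    rintro ⟨p, q⟩
    obtain ⟨e⟩ := he p q
    refine isCoh_of_iso e.symm ?_
    split_ifs with h
    · exact RB70.isCoh_rpush f _ (hE _) _
    · exact isCoh_of_isZero (isZero_zero _)
  have hn := AbutClass.prop_abutment (C := Y.Modules) Coh.IsCoh (fun e h => isCoh_of_iso e h)
    (fun g hA hB => isCoh_kernel g hA hB.1) (fun g hA hB => isCoh_cokernel g hA.1 hB) a hfin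
    (fun A hA => isCoh_of_isZero hA) (fun S hS => isCoh_X₂ S hS) h₀ (n : ℤ)
  simp only [Nat.cast_nonneg, if_true, Int.toNat_natCast] at hn
  refine isCoh_of_iso ((Mod48.rightDerivedNatIso (show RelExt.relHom (𝟙 X ≫ f) F ≅ RelExt.relHom f F
    from Functor.isoWhiskerLeft T (Scheme.Modules.pushforwardCongr (Category.id_comp f))) n).app G) hn

end Groth.Agent.LC16.RelExtCoh
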