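import Groth.Agent.LC16.RelTwist
import Groth.Agent.LC16.RelExtCoh
import Groth.Agent.LC16.AbutCorner
import Groth.Agent.RB70.RelSerre
import Groth.Agent.EGA73.VeryAmplePnAmple
import Groth.Agent.Amp73.QA
import Groth.Agent.KRR40.TwistLES
import Groth.Agent.Props58.PullTensor

/-!
`g_* Ext^p_f(F, G(l)) = Ext^p_{gf}(F, G(l))` for large `l`.
-/

set_option autoImplicit false
set_option backward.isDefEq.respectTransparency.types false
set_option linter.style.haveILetI false

noncomputable section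

universe u

open CategoryTheory CategoryTheory.Limits AlgebraicGeometry ZeroObject
open Groth.Agent.QC70

namespace Groth.Agent.LC16.RelExtSerre

theorem nonempty_tensorPow_twistOver (n : ℕ) (S : Scheme.{u}) : ∀ k : ℕ,
    Nonempty (CohB1.tensorPow (Twist.twistOver n S 1) (k + 1) ≅
      Twist.twistOver n S ((k + 1 : ℕ) : ℤ))
  | 0 => ⟨EGA73.tensUnitLeft _⟩
  | k + 1 => by
    obtain ⟨e⟩ := nonempty_tensorPow_twistOver n S k
    obtain ⟨a⟩ := KRR40.nonempty_twistOver_add n S ((k + 1 : ℕ) : ℤ) 1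
    exact ⟨EGA73.tensIso e (Iso.refl _) ≪≫ a ≪≫
      eqToIso (congrArg _ (by push_cast; ring))⟩

variable {X Y Z : Scheme.{u}}

theorem isFinLocFree_of_isInvertible {L : X.Modules} (hL : PicF.IsInvertible L) :
    FlatMod.IsFinLocFree L := fun y => by
  obtain ⟨U, hy, ⟨e⟩⟩ := hL y
  exact ⟨U, 1, hy, ⟨e ≪≫
    (coproductUniqueIso (fun _ : Fin 1 => Coh.structureModule (↑U : Scheme.{u}))).symm⟩⟩

theorem exists_isZero_rpush_twist (m : ℕ) [IsNoetherian Z] (g : Y ⟶ Z)
    (e' : Y ⟶ CohB1.ProjSpaceOver m Z) [IsClosedImmersion e'] [IsProper g]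
    (he' : e' ≫ CohB1.ProjSpaceOver.toBase m Z = g) [HasInjectiveResolutions Y.Modules]
    (M : Y.Modules) (hM : Coh.IsCoh M) :
    ∃ N : ℕ, ∀ l : ℕ, N ≤ l → ∀ a : ℕ, 1 ≤ a → IsZero ((Coh.Rpush g a).obj
      (CohB1.tensorMod M ((Scheme.Modules.pullback e').obj (Twist.twistOver m Z (l : ℤ))))) := by
  have hamp : RelAmple.IsRelAmple g ((Scheme.Modules.pullback e').obj (Twist.twistOver m Z 1)) := by
    rw [← he']
    exact Amp73.isRelAmple_pullback_comp e' (Amp73.isQuasiAffine_of_isAffineHom e')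
      (EGA73.VeryAmplePnAmple.isRelAmple_twistOver m Z)
  obtain ⟨N, hN⟩ := RB70.exists_isZero_rpush g hamp hM
  refine ⟨N + 1, fun l hl a ha => ?_⟩
  obtain ⟨k, rfl⟩ : ∃ k, l = k + 1 := ⟨l - 1, by omega⟩
  obtain ⟨u⟩ := nonempty_tensorPow_twistOver m Z k
  obtain ⟨v⟩ := Props58.PullTensor.nonempty_pullPowIso e' (KRR40.isInvertible_twistOver m Z 1) (k + 1)
  exact (hN (k + 1) (by omega) a ha).of_iso ((Coh.Rpush g a).mapIso
    (EGA73.tensIso (Iso.refl M) ((Scheme.Modules.pullback e').mapIso u.symm ≪≫ v)))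

theorem nonempty_relExt_twist_vb (f : X ⟶ Y) (F G : X.Modules) (N : Y.Modules)
    (hN : FlatMod.IsFinLocFree N) (p : ℕ) [ModSite.HasSheafHom (O := X.sheaf) F]
    [HasInjectiveResolutions X.Modules] [(RelExt.relHom f F).Additive] :
    Nonempty (((RelExt.relHom f F).rightDerived p).obj
        (CohB1.tensorMod G ((Scheme.Modules.pullback f).obj N)) ≅
      CohB1.tensorMod (((RelExt.relHom f F).rightDerived p).obj G) N) := by
  haveI := RelTwist.additive_T f F
  let eF : RelExt.relHom f F ≅ RelTwist.T f F :=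
    Functor.isoWhiskerRight (sheafHomIso' F) (Scheme.Modules.pushforward f)
  obtain ⟨b⟩ := RelTwist.nonempty_rightDerived_twist f F G hN p
  exact ⟨(Mod48.rightDerivedNatIso eF p).app _ ≪≫ b ≪≫
    (ProjLocFree.tensR N).mapIso ((Mod48.rightDerivedNatIso eF p).app G).symm⟩

theorem exists_relExt_comp (m : ℕ) [IsNoetherian Z] (f : X ⟶ Y) (g : Y ⟶ Z)
    (e' : Y ⟶ CohB1.ProjSpaceOver m Z) [IsClosedImmersion e'] [IsProper g] [IsProper f]
    (he' : e' ≫ CohB1.ProjSpaceOver.toBase m Z = g) [IsLocallyNoetherian Y]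
    (F G : X.Modules) (hF : Coh.IsCoh F) (hG : Coh.IsCoh G) (p : ℕ)
    [ModSite.HasSheafHom (O := X.sheaf) F] [HasInjectiveResolutions (ModSite.Mod X.sheaf)]
    [HasInjectiveResolutions Y.Modules]
    [(ModSite.sheafHom (O := X.sheaf) F ⋙ Scheme.Modules.pushforward f).Additive]
    [(ModSite.sheafHom (O := X.sheaf) F ⋙ Scheme.Modules.pushforward (f ≫ g)).Additive] :
    ∃ l₀ : ℕ, ∀ l : ℕ, l₀ ≤ l →
      Nonempty ((Scheme.Modules.pushforward g).obj
          (((ModSite.sheafHom (O := X.sheaf) F ⋙ Scheme.Modules.pushforward f).rightDerived p).obj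
          (CohB1.tensorMod G ((Scheme.Modules.pullback f).obj
            ((Scheme.Modules.pullback e').obj (Twist.twistOver m Z (l : ℤ)))))) ≅
        ((ModSite.sheafHom (O := X.sheaf) F ⋙ Scheme.Modules.pushforward (f ≫ g)).rightDerived p).obj
          (CohB1.tensorMod G ((Scheme.Modules.pullback f).obj
            ((Scheme.Modules.pullback e').obj (Twist.twistOver m Z (l : ℤ)))))) := by
  haveI : HasInjectiveResolutions X.Modules := ‹HasInjectiveResolutions (ModSite.Mod X.sheaf)›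
  haveI a1 : (RelExt.relHom f F).Additive :=
    ‹(ModSite.sheafHom (O := X.sheaf) F ⋙ Scheme.Modules.pushforward f).Additive›
  haveI a2 : (RelExt.relHom (f ≫ g) F).Additive :=
    ‹(ModSite.sheafHom (O := X.sheaf) F ⋙ Scheme.Modules.pushforward (f ≫ g)).Additive›
  choose N hN using fun b : ℕ => exists_isZero_rpush_twist m g e' he' _
    (RelExtCoh.isCoh_relExt f F G hF hG b)
  refine ⟨(Finset.range (p + 1)).sup N, fun l hl => ?_⟩
  let W := (Scheme.Modules.pullback e').obj (Twist.twistOver m Z (l : ℤ))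
  have hW : FlatMod.IsFinLocFree W := isFinLocFree_of_isInvertible
    (Amp73.isInvertible_pullback _ (KRR40.isInvertible_twistOver m Z l))
  let G' := CohB1.tensorMod G ((Scheme.Modules.pullback f).obj W)
  obtain ⟨ss, a, hfin, -, he⟩ := GSS45.exists_ss_Rpush_sheafHom f g F G'
    (H := fun n : ℤ =>
      if 0 ≤ n then ((RelExt.relHom (f ≫ g) F).rightDerived n.toNat).obj G' else (0 : Z.Modules))
    (fun n => ⟨eqToIso (by simp only [Nat.cast_nonneg, if_true]; rfl)⟩)
    (fun n hn => by rw [if_neg (by lia)]; exact isZero_zero _)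
    (E₂ := fun p q : ℤ => if 0 ≤ p ∧ 0 ≤ q then
      (Coh.Rpush g p.toNat).obj (((RelExt.relHom f F).rightDerived q.toNat).obj G') else (0 : Z.Modules))
    (fun p q => ⟨eqToIso (by simp only [Nat.cast_nonneg, and_self, if_true]; rfl)⟩)
    (fun p q h => by rw [if_neg (by lia)]; exact isZero_zero _)
  obtain ⟨c⟩ := AbutCorner.nonempty_iso_corner (C := Z.Modules) a hfin (p : ℤ)
    (fun pq h => by
      obtain ⟨e⟩ := he pq.1 pq.2
      refine IsZero.of_iso ?_ e
      rw [if_neg (by omega)]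
      exact isZero_zero _)
    (fun pq h1 h2 => by
      obtain ⟨e⟩ := he pq.1 pq.2
      refine IsZero.of_iso ?_ e
      split_ifs with h
      · obtain ⟨t⟩ := nonempty_relExt_twist_vb f F G W hW pq.2.toNat
        refine (hN pq.2.toNat l ?_ pq.1.toNat (by omega)).of_iso ((Coh.Rpush g _).mapIso t)
        exact le_trans (Finset.le_sup (Finset.mem_range.2 (by omega))) hl
      · exact isZero_zero _)
  obtain ⟨e⟩ := he 0 p
  haveI : PreservesFiniteLimits (Scheme.Modules.pushforward g) :=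
    have : (Scheme.Modules.pushforward g).IsRightAdjoint :=
      (Scheme.Modules.pullbackPushforwardAdjunction g).isRightAdjoint
    inferInstance
  exact ⟨(eqToIso (by simp only [le_refl, Nat.cast_nonneg, and_self, if_true, Int.toNat_natCast,
      Int.toNat_zero]; rfl) ≪≫ (Scheme.Modules.pushforward g).rightDerivedZeroIsoSelf.app _).symm ≪≫
    e.symm ≪≫ c.symm ≪≫ eqToIso (by simp only [Nat.cast_nonneg, if_true]; rfl)⟩

end Groth.Agent.LC16.RelExtSerre
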