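import Groth.Agent.LC16.Acyclic

/-!
Independence of the base for local cohomology.
-/

namespace Groth.Agent.LC16.ChangeRings

universe u

open LC15

lemma exists_addEquiv_of_surjective {X A B : Type u} [AddCommGroup X] [AddCommGroup A]
    [AddCommGroup B] (p : X →+ A) (q : X →+ B) (hp : Function.Surjective p)
    (hq : Function.Surjective q) (hk : ∀ x, p x = 0 ↔ q x = 0) :
    ∃ φ : A ≃+ B, ∀ x, φ (p x) = q x := by
  let φ := p.liftOfSurjective hp ⟨q, fun x hx => (hk x).mp hx⟩
  have h : ∀ x, φ (p x) = q x := fun x =>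
    p.liftOfRightInverse_comp_apply _ (Function.rightInverse_surjInv hp) _ x
  refine ⟨AddEquiv.ofBijective φ ⟨(injective_iff_map_eq_zero φ).2 fun a ha => ?_, fun b => ?_⟩, h⟩
  · obtain ⟨x, rfl⟩ := hp a
    rw [h] at ha
    exact (hk x).mpr ha
  · obtain ⟨x, rfl⟩ := hq b
    exact ⟨p x, h x⟩

variable {R R' : Type u} [CommRing R] [CommRing R'] [Algebra R R'] (I : Ideal R)

/-- the extended ideal -/
local notation "I'" => Ideal.map (algebraMap R R') I

section zero

variable (M : Type u) [AddCommGroup M] [Module R' M] [Module R M] [IsScalarTower R R' M]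

/-- the two torsion submodules -/
def gammaEquiv : gamma I' M ≃+ gamma I M where
  toFun m := ⟨m.1, (Acyclic.mem_gamma_map_iff I m.1).mp m.2⟩
  invFun m := ⟨m.1, (Acyclic.mem_gamma_map_iff I m.1).mpr m.2⟩
  map_add' _ _ := rfl

/-- degree zero -/
noncomputable def zeroEquiv : LocCoh.H I' 0 M ≃+ LocCoh.H I 0 M :=
  ((H0equiv I' M).toAddEquiv.trans (gammaEquiv I M)).trans (H0equiv I M).symm.toAddEquiv

lemma h0_zeroEquiv (x : LocCoh.H I' 0 M) : h0 I M (zeroEquiv I M x) = h0 I' M x := by
  rw [← H0equiv_coe, ← H0equiv_coe]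
  simp [zeroEquiv, gammaEquiv]

lemma zeroEquiv_smul (r : R) (x : LocCoh.H I' 0 M) :
    zeroEquiv I M (algebraMap R R' r • x) = r • zeroEquiv I M x :=
  h0_injective I M (by rw [h0_zeroEquiv, map_smul, map_smul, h0_zeroEquiv, algebraMap_smul])

variable {M} {N : Type u} [AddCommGroup N] [Module R' N] [Module R N] [IsScalarTower R R' N]

lemma zeroEquiv_Hmap (f : M →ₗ[R'] N) (x : LocCoh.H I' 0 M) :
    zeroEquiv I N (Hmap I' 0 f x) = Hmap I 0 (f.restrictScalars R) (zeroEquiv I M x) :=
  h0_injective I N (by rw [h0_zeroEquiv, h0_Hmap, h0_Hmap, h0_zeroEquiv]; rfl)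

end zero

theorem exists_equiv [IsNoetherianRing R] [IsNoetherianRing R'] (i : ℕ) :
    ∀ (M : Type u) [AddCommGroup M] [Module R' M] [Module R M] [IsScalarTower R R' M],
      ∃ φ : LocCoh.H I' i M ≃+ LocCoh.H I i M,
        ∀ (r : R) (x : LocCoh.H I' i M), φ (algebraMap R R' r • x) = r • φ x := by
  induction i with
  | zero => exact fun M _ _ _ _ => ⟨zeroEquiv I M, zeroEquiv_smul I M⟩
  | succ i ih =>
    intro M _ _ _ _
    obtain ⟨E, _, _, f, hf, hE⟩ := exists_injective_embedding (R := R') M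
    let : Module R E := Module.compHom E (algebraMap R R')
    have : IsScalarTower R R' E := IsScalarTower.of_algebraMap_smul fun _ _ => rfl
    let g := (LinearMap.range f).mkQ
    have hex : Function.Exact f g := LinearMap.exact_map_mkQ_range f
    have hg : Function.Surjective g := Submodule.mkQ_surjective _
    have hfR : Function.Injective (f.restrictScalars R) := hf
    have hexR : Function.Exact (f.restrictScalars R) (g.restrictScalars R) := hex
    have hgR : Function.Surjective (g.restrictScalars R) := hg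
    have hv' : ∀ j, Subsingleton (LocCoh.H I' (j + 1) E) :=
      fun j => subsingleton_H_succ_of_injective I' j
    have hv : ∀ j, Subsingleton (LocCoh.H I (j + 1) E) := fun j =>
      Acyclic.subsingleton_H_of_injective_algebra (R' := R') I j.succ_pos
    rcases i with - | j
    · have h1 : Function.Surjective (Hδ I 0 hfR hexR hgR) :=
        Hδ_surjective I 0 hfR hexR hgR (hv 0)
      have h2 : Function.Surjective (Hδ I' 0 hf hex hg) := Hδ_surjective I' 0 hf hex hg (hv' 0)
      obtain ⟨φ, hφ⟩ := exists_addEquiv_of_surjective (Hδ I' 0 hf hex hg).toAddMonoidHom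
        ((Hδ I 0 hfR hexR hgR).toAddMonoidHom.comp (zeroEquiv I _).toAddMonoidHom) h2
        (h1.comp (zeroEquiv I _).surjective) fun x => by
          change Hδ I' 0 hf hex hg x = 0 ↔ Hδ I 0 hfR hexR hgR (zeroEquiv I _ x) = 0
          rw [H_exact₃ I' 0 hf hex hg x, H_exact₃ I 0 hfR hexR hgR]
          constructor
          · rintro ⟨w, rfl⟩
            exact ⟨zeroEquiv I E w, (zeroEquiv_Hmap I g w).symm⟩
          · rintro ⟨w, hw⟩
            obtain ⟨v, hv⟩ := (zeroEquiv (R' := R') I E).surjective w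
            rw [← hv, ← zeroEquiv_Hmap I g] at hw
            exact ⟨v, (zeroEquiv I _).injective hw⟩
      refine ⟨φ, fun r x => ?_⟩
      obtain ⟨w, rfl⟩ := h2 x
      have e : ∀ y, φ (Hδ I' 0 hf hex hg y) = Hδ I 0 hfR hexR hgR (zeroEquiv I _ y) := hφ
      rw [← map_smul, e, e, zeroEquiv_smul, map_smul]
    · obtain ⟨φ, hφ⟩ := ih (E ⧸ LinearMap.range f)
      let d' := HδEquiv I' (j + 1) hf hex hg (hv' j) (hv' (j + 1))
      let d := HδEquiv I (j + 1) hfR hexR hgR (hv j) (hv (j + 1))
      refine ⟨(d'.symm.toAddEquiv.trans φ).trans d.toAddEquiv, fun r x => ?_⟩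
      change d (φ (d'.symm (algebraMap R R' r • x))) = r • d (φ (d'.symm x))
      rw [map_smul, hφ, map_smul]

end Groth.Agent.LC16.ChangeRings
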