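import Groth.Agent.LC16.CanonDual
import Mathlib.Algebra.Module.FinitePresentation
import Mathlib.RingTheory.LocalProperties.Projective
import Mathlib.Algebra.Module.LocalizedModule.Exact

/-!
Ext of a finite module over a Noetherian ring commutes with localisation.
-/

namespace Groth.Agent.LC16.ExtLocal

universe u

set_option autoImplicit false

open CategoryTheory LC15 CanonDual

variable {R : Type u} [CommRing R] (S : Submonoid R)

/-- isomorphic cokernels -/
noncomputable def cokerCongr {A B C A' B' C' : Type u} [AddCommGroup A] [Module R A]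
    [AddCommGroup B] [Module R B] [AddCommGroup C] [Module R C] [AddCommGroup A'] [Module R A']
    [AddCommGroup B'] [Module R B'] [AddCommGroup C'] [Module R C'] {v : A →ₗ[R] B}
    {δ : B →ₗ[R] C} {v' : A' →ₗ[R] B'} {δ' : B' →ₗ[R] C'} (hδ : Function.Surjective δ)
    (hv : Function.Exact v δ) (hδ' : Function.Surjective δ') (hv' : Function.Exact v' δ')
    (eA : A ≃ₗ[R] A') (eB : B ≃ₗ[R] B') (h : ∀ a, eB (v a) = v' (eA a)) : C ≃ₗ[R] C' :=
  (δ.quotKerEquivOfSurjective hδ).symm ≪≫ₗ
    Submodule.Quotient.equiv _ (LinearMap.ker δ') eB (by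
      ext b
      constructor
      · rintro ⟨x, hx, rfl⟩
        obtain ⟨a, rfl⟩ := (hv x).1 hx
        exact (hv' _).2 ⟨eA a, (h a).symm⟩
      · intro hb
        obtain ⟨a, rfl⟩ := (hv' b).1 hb
        exact ⟨v (eA.symm a), (hv _).2 ⟨_, rfl⟩, by
          rw [LinearEquiv.coe_coe, h, eA.apply_symm_apply]⟩) ≪≫ₗ
      δ'.quotKerEquivOfSurjective hδ'

variable [IsNoetherianRing R] (N : Type u) [AddCommGroup N] [Module R N]

local notation "Rₛ" => Localization S

/-- localised maps are maps of the localisations -/
noncomputable def homEquiv (M : Type u) [AddCommGroup M] [Module R M] [Module.Finite R M] :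
    LocalizedModule S (M →ₗ[R] N) ≃ₗ[Rₛ] (LocalizedModule S M →ₗ[Rₛ] LocalizedModule S N) :=
  have := Module.finitePresentation_of_finite R M
  LinearEquiv.extendScalarsOfIsLocalization S Rₛ
    (IsLocalizedModule.iso S (LocalizedModule.map S (M := M) (N := N)))

lemma homEquiv_mk {M : Type u} [AddCommGroup M] [Module R M] [Module.Finite R M] (g : M →ₗ[R] N)
    (m : M) : homEquiv S N M (LocalizedModule.mkLinearMap S _ g) (LocalizedModule.mkLinearMap S M m) =
      LocalizedModule.mkLinearMap S N (g m) := by
  have := Module.finitePresentation_of_finite R M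
  have h : homEquiv S N M (LocalizedModule.mkLinearMap S _ g) = LocalizedModule.map S g :=
    (IsLocalizedModule.iso_apply_mk _ _ g 1).trans (IsLocalizedModule.mk'_one _ _ g)
  rw [h, LocalizedModule.mkLinearMap_apply, LocalizedModule.map_mk,
    LocalizedModule.mkLinearMap_apply]

lemma homEquiv_natural {M M' : Type u} [AddCommGroup M] [Module R M] [Module.Finite R M]
    [AddCommGroup M'] [Module R M'] [Module.Finite R M'] (f : M' →ₗ[R] M)
    (z : LocalizedModule S (M →ₗ[R] N)) :
    homEquiv S N M' (LocalizedModule.map S (LinearMap.lcomp R N f) z) =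
      homEquiv S N M z ∘ₗ LocalizedModule.map S f := by
  obtain ⟨⟨g, s⟩, hz⟩ := IsLocalizedModule.surj S (LocalizedModule.mkLinearMap S _) z
  have hu : IsUnit (algebraMap R Rₛ s) := IsLocalization.map_units _ s
  refine (IsUnit.smul_left_cancel hu).1 ?_
  rw [← map_smul, ← map_smul, ← LinearMap.smul_comp, ← map_smul]
  simp only [algebraMap_smul]
  rw [Submonoid.smul_def] at hz
  rw [hz]
  apply LinearMap.restrictScalars_injective R
  refine IsLocalizedModule.linearMap_ext S (LocalizedModule.mkLinearMap S M')
    (LocalizedModule.mkLinearMap S N) (LinearMap.ext fun m => ?_)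
  simp only [LinearMap.coe_comp, LinearMap.coe_restrictScalars, Function.comp_apply]
  rw [LocalizedModule.mkLinearMap_apply (M := M →ₗ[R] N), LocalizedModule.map_mk,
    ← LocalizedModule.mkLinearMap_apply, homEquiv_mk, LocalizedModule.mkLinearMap_apply (M := M'),
    LocalizedModule.map_mk, ← LocalizedModule.mkLinearMap_apply, ← LocalizedModule.mkLinearMap_apply,
    homEquiv_mk, LinearMap.lcomp_apply]

/-- Ext commutes with localisation -/
theorem nonempty_equiv : ∀ (i : ℕ) (M : Type u) [AddCommGroup M] [Module R M] [Module.Finite R M],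
    Nonempty (LocalizedModule S (EK (R := R) N M i) ≃ₗ[Rₛ]
      EK (R := Rₛ) (LocalizedModule S N) (LocalizedModule S M) i) := by
  intro i
  induction i with
  | zero =>
    intro M _ _ _
    exact ⟨IsLocalizedModule.mapEquiv S (LocalizedModule.mkLinearMap S _)
      (LocalizedModule.mkLinearMap S _) Rₛ (hom0 N M).symm ≪≫ₗ homEquiv S N M ≪≫ₗ
        hom0 (LocalizedModule S N) (LocalizedModule S M)⟩
  | succ i ih =>
    intro M _ _ _
    obtain ⟨k, π, hπ⟩ := Module.Finite.exists_fin' R M
    set ι := (LinearMap.ker π).subtype
    have hex : Function.Exact ι π := LinearMap.exact_subtype_ker_map π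
    have hι : Function.Injective ι := (LinearMap.ker π).injective_subtype
    let ι' : LocalizedModule S (LinearMap.ker π) →ₗ[Rₛ] LocalizedModule S (Fin k → R) :=
      LocalizedModule.map S ι
    let π' : LocalizedModule S (Fin k → R) →ₗ[Rₛ] LocalizedModule S M := LocalizedModule.map S π
    have hι' : Function.Injective ι' := LocalizedModule.map_injective S ι hι
    have hπ' : Function.Surjective π' :=
      LocalizedModule.map_surjective S π hπ
    have hex' : Function.Exact ι' π' :=
      LocalizedModule.map_exact S ι π hex
    have hproj : Projective (ModuleCat.of Rₛ (LocalizedModule S (Fin k → R))) :=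
      (IsProjective.iff_projective (R := Rₛ) (LocalizedModule S (Fin k → R))).1 inferInstance
    set δ := delta N hι hex hπ i
    set δ' := @delta Rₛ _ (LocalizedModule S N) _ _ (LocalizedModule S (LinearMap.ker π))
      (LocalizedModule S (Fin k → R)) (LocalizedModule S M) _ _ _ _ _ _ ι' π' hι' hex' hπ' i
    have hδ : Function.Surjective (LocalizedModule.map S δ) :=
      LocalizedModule.map_surjective S δ (delta_surjective N hι hex hπ i)
    rcases i with _ | i
    · let v := (hom0 N (LinearMap.ker π)).toLinearMap ∘ₗ LinearMap.lcomp R N ι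
      let v' := (hom0 (LocalizedModule S N) (LocalizedModule S (LinearMap.ker π))).toLinearMap ∘ₗ
        LinearMap.lcomp Rₛ (LocalizedModule S N) ι'
      have hv : Function.Exact v δ := by
        intro x
        obtain ⟨g, rfl⟩ := (hom0 N (LinearMap.ker π)).surjective x
        rw [delta_hom0_eq_zero]
        exact exists_congr fun h => ((hom0 N (LinearMap.ker π)).injective.eq_iff).symm
      have hv' : Function.Exact v' δ' := by
        intro x
        obtain ⟨g, rfl⟩ :=
          (hom0 (LocalizedModule S N) (LocalizedModule S (LinearMap.ker π))).surjective x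
        rw [delta_hom0_eq_zero]
        exact exists_congr fun h => ((hom0 (R := Rₛ) (LocalizedModule S N)
          (LocalizedModule S (LinearMap.ker π))).injective.eq_iff).symm
      let eB := IsLocalizedModule.mapEquiv S (LocalizedModule.mkLinearMap S _)
        (LocalizedModule.mkLinearMap S _) Rₛ (hom0 N (LinearMap.ker π)).symm ≪≫ₗ
          homEquiv S N (LinearMap.ker π) ≪≫ₗ
            hom0 (LocalizedModule S N) (LocalizedModule S (LinearMap.ker π))
      let vS : LocalizedModule S ((Fin k → R) →ₗ[R] N) →ₗ[Rₛ]
          LocalizedModule S (EK (R := R) N (LinearMap.ker π) 0) := LocalizedModule.map S v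
      let δS : LocalizedModule S (EK (R := R) N (LinearMap.ker π) 0) →ₗ[Rₛ]
          LocalizedModule S (EK (R := R) N M (0 + 1)) := LocalizedModule.map S δ
      have hvS : Function.Exact vS δS := LocalizedModule.map_exact S v δ hv
      have hδ' : Function.Surjective δ' := delta_surjective _ hι' hex' hπ' 0
      refine ⟨cokerCongr (v := vS) (δ := δS) (v' := v') (δ' := δ') hδ hvS hδ' hv'
        (homEquiv S N (Fin k → R)) eB fun a => ?_⟩
      have hcomp : LocalizedModule.map S (hom0 N (LinearMap.ker π)).symm.toLinearMap
          (LocalizedModule.map S v a) = LocalizedModule.map S (LinearMap.lcomp R N ι) a := by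
        induction a using LocalizedModule.induction_on with
        | _ x s => simp [LocalizedModule.map_mk, v]
      change hom0 _ _ (homEquiv S N _ (IsLocalizedModule.mapEquiv S (LocalizedModule.mkLinearMap S _)
        (LocalizedModule.mkLinearMap S _) Rₛ _ (LocalizedModule.map S v a))) = _
      rw [show IsLocalizedModule.mapEquiv S (LocalizedModule.mkLinearMap S _)
        (LocalizedModule.mkLinearMap S _) Rₛ (hom0 N (LinearMap.ker π)).symm
          (LocalizedModule.map S v a) = LocalizedModule.map S (LinearMap.lcomp R N ι) a from hcomp,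
        homEquiv_natural]
      rfl
    · obtain ⟨e⟩ := ih (LinearMap.ker π)
      have hb : Function.Bijective (LocalizedModule.map S δ) :=
        ⟨LocalizedModule.map_injective S δ (delta_injective N hι hex hπ i), hδ⟩
      exact ⟨(LinearEquiv.ofBijective _ hb).symm ≪≫ₗ e ≪≫ₗ LinearEquiv.ofBijective δ'
        ⟨delta_injective _ hι' hex' hπ' i, delta_surjective _ hι' hex' hπ' (i + 1)⟩⟩

end Groth.Agent.LC16.ExtLocal
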