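import Groth.Agent.LC16.CanonExists
import Groth.Agent.LC16.ExtLocal
import Groth.Agent.LC16.MatlisBasic
import Groth.Agent.LC17.DepthLoc
import Groth.Agent.Gor18.Local
import Groth.Agent.EGA4Alg4.CMMod
import Mathlib.RingTheory.Localization.AtPrime.Basic
import Mathlib.Algebra.Module.LocalizedModule.IsLocalization

/-!
Localisation of a canonical module over a quotient of a Gorenstein local ring.
-/

namespace Groth.Agent.LC16.CanonLocal

universe u

set_option autoImplicit false
set_option linter.overlappingInstances false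

open CategoryTheory IsLocalRing LC15 CanonDual

section congr

variable {A : Type u} [CommRing A] {N N' M M' : Type u} [AddCommGroup N] [Module A N]
  [AddCommGroup N'] [Module A N'] [AddCommGroup M] [Module A M] [AddCommGroup M'] [Module A M']

/-- transport along isomorphisms on both sides -/
noncomputable def trans₂ (f : M' →ₗ[A] M) (g : N →ₗ[A] N') (i : ℕ) :
    EK (R := A) N M i →ₗ[A] EK (R := A) N' M' i where
  toFun x := (Abelian.Ext.mk₀ (ModuleCat.ofHom f)).comp
    (x.comp (Abelian.Ext.mk₀ (ModuleCat.ofHom g)) (add_zero i)) (zero_add i)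
  map_add' x y := by rw [Abelian.Ext.add_comp, Abelian.Ext.comp_add]
  map_smul' r x := by rw [Abelian.Ext.smul_comp, Abelian.Ext.comp_smul, RingHom.id_apply]

lemma trans₂_trans₂ {f : M' →ₗ[A] M} {g : N →ₗ[A] N'} {f' : M →ₗ[A] M'} {g' : N' →ₗ[A] N}
    (hf : f ∘ₗ f' = LinearMap.id) (hg : g' ∘ₗ g = LinearMap.id) (i : ℕ) (x : EK (R := A) N M i) :
    trans₂ f' g' i (trans₂ f g i x) = x := by
  have h1 : ModuleCat.ofHom f' ≫ ModuleCat.ofHom f = 𝟙 (ModuleCat.of A M) := ModuleCat.hom_ext hf
  have h2 : ModuleCat.ofHom g ≫ ModuleCat.ofHom g' = 𝟙 (ModuleCat.of A N) := ModuleCat.hom_ext hg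
  change (Abelian.Ext.mk₀ (ModuleCat.ofHom f')).comp
    (((Abelian.Ext.mk₀ (ModuleCat.ofHom f)).comp
      (x.comp (Abelian.Ext.mk₀ (ModuleCat.ofHom g)) (add_zero i)) (zero_add i)).comp
        (Abelian.Ext.mk₀ (ModuleCat.ofHom g')) (add_zero i)) (zero_add i) = x
  rw [Abelian.Ext.comp_assoc_of_third_deg_zero, Abelian.Ext.comp_assoc_of_third_deg_zero,
    Abelian.Ext.mk₀_comp_mk₀, h2, Abelian.Ext.comp_mk₀_id, Abelian.Ext.mk₀_comp_mk₀_assoc, h1,
    Abelian.Ext.mk₀_id_comp]

/-- Ext of isomorphic modules -/
noncomputable def extCongr (eM : M ≃ₗ[A] M') (eN : N ≃ₗ[A] N') (i : ℕ) :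
    EK (R := A) N M i ≃ₗ[A] EK (R := A) N' M' i :=
  { trans₂ eM.symm.toLinearMap eN.toLinearMap i with
    invFun := trans₂ eM.toLinearMap eN.symm.toLinearMap i
    left_inv := trans₂_trans₂ (by ext; simp) (by ext; simp) i
    right_inv := trans₂_trans₂ (by ext; simp) (by ext; simp) i }

end congr

/-- dimension formula in a Cohen–Macaulay local ring -/
theorem height_add_dim_quotient {A : Type u} [CommRing A] [LocCoh.IsCohenMacaulayLocalRing A]
    (q : Ideal A) [q.IsPrime] {n h a : ℕ} (hn : ringKrullDim A = n)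
    (hh : ringKrullDim (Localization.AtPrime q) = h) (ha : ringKrullDim (A ⧸ q) = a) : h + a = n := by
  have hs : Module.supportDim A A = (n : WithBot ℕ∞) :=
    (Module.supportDim_self_eq_ringKrullDim A).trans hn
  have hsupp : (⟨q, inferInstance⟩ : PrimeSpectrum A) ∈ Module.support A A := by
    rw [Module.support_eq_zeroLocus]
    intro x hx
    rw [SetLike.mem_coe, Module.mem_annihilator] at hx
    have := hx 1
    rw [smul_eq_mul, mul_one] at this
    exact this ▸ q.zero_mem
  have h1 := EGA4Alg4.supportDim_localizedModule_add_le A q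
  have e : LocalizedModule q.primeCompl A ≃ₗ[Localization.AtPrime q] Localization.AtPrime q :=
    LinearEquiv.extendScalarsOfIsLocalization q.primeCompl _
      (IsLocalizedModule.iso q.primeCompl (Algebra.linearMap A (Localization.AtPrime q)))
  rw [EGA4Alg4.supportDim_quotient_prime (p := ⟨q, inferInstance⟩) hsupp,
    Module.supportDim_eq_of_equiv e, Module.supportDim_self_eq_ringKrullDim, hh, hs] at h1
  rw [show ringKrullDim (A ⧸ (⟨q, inferInstance⟩ : PrimeSpectrum A).asIdeal) = a from ha] at h1
  have hle : h + a ≤ n := by exact_mod_cast h1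
  obtain ⟨xs, hlen, hmem, hreg⟩ := EGA4Alg4.exists_isWeaklyRegular_in_prime (n - a) (M := A)
    (LocCoh.IsCohenMacaulayLocalRing.supportDim_eq_depth (R := A))
    (p := ⟨q, inferInstance⟩) hsupp (by
      rw [hs, show ringKrullDim (A ⧸ (⟨q, inferInstance⟩ : PrimeSpectrum A).asIdeal) = a from ha]
      exact_mod_cast (show a + (n - a) = n by omega))
  have h2 : ((n - a : ℕ) : ℕ∞) ≤ LocCoh.idealDepth q A := by
    rw [LocCoh.idealDepth]
    split_ifs with hq
    · exact le_top
    · rw [← hlen]
      exact le_iSup₂ (f := fun (rs : List A) _ => (rs.length : ℕ∞)) xs ⟨hreg, hmem⟩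
  have h3 := h2.trans (LC17.idealDepth_le_depth_loc (p := q) (M := A) le_rfl)
  have : Nontrivial (LocalizedModule q.primeCompl A) := e.toEquiv.nontrivial
  have h4 := EGA4Alg4.depth_le_supportDim (A := Localization.AtPrime q)
    (M := LocalizedModule q.primeCompl A)
  rw [Module.supportDim_eq_of_equiv e, Module.supportDim_self_eq_ringKrullDim, hh] at h4
  have h5 : ((n - a : ℕ) : WithBot ℕ∞) ≤ (h : WithBot ℕ∞) :=
    le_trans (WithBot.coe_le_coe.2 h3) h4
  have : n - a ≤ h := by exact_mod_cast h5
  omega

/-- localisation of a canonical module -/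
theorem exists_dual_localization {R' R : Type u} [CommRing R'] [CommRing R] [Algebra R' R]
    [LocCoh.IsGorensteinLocalRing R'] [IsLocalRing R] [IsNoetherianRing R]
    (hg : Function.Surjective (algebraMap R' R)) {n' n c : ℕ} (hn' : ringKrullDim R' = n')
    (hn : ringKrullDim R = n) (hc : c + n = n') {K : Type u} [AddCommGroup K] [Module R' K]
    [Module R K] [IsScalarTower R' R K] (eK : EK (R := R') R' R c ≃ₗ[R'] K)
    (p : Ideal R) [p.IsPrime] (hp : Nontrivial (LocalizedModule p.primeCompl K)) (h : ℕ)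
    (hh : ringKrullDim (Localization.AtPrime p) = h) (E' : Type u) [AddCommGroup E']
    [Module (Localization.AtPrime p) E']
    (f' : ResidueField (Localization.AtPrime p) →ₗ[Localization.AtPrime p] E')
    (hf' : InjHull.IsInjectiveHull f') :
    Nonempty ((LocalizedModule p.primeCompl K →ₗ[Localization.AtPrime p] E') ≃ₗ[Localization.AtPrime p]
      LocCoh.H (maximalIdeal (Localization.AtPrime p)) h (Localization.AtPrime p)) := by
  have : Module.Finite R' R := Module.Finite.of_surjective (Algebra.linearMap R' R) hg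
  set q : Ideal R' := p.comap (algebraMap R' R) with hq
  set A := Localization.AtPrime q
  set B := Localization.AtPrime p
  -- the local rings
  let φ : A →+* B := Localization.localRingHom q p (algebraMap R' R) rfl
  let _ : Algebra A B := φ.toAlgebra
  have : IsScalarTower R' A B := IsScalarTower.of_algebraMap_eq fun x => by
    rw [IsScalarTower.algebraMap_apply R' R B]
    exact (Localization.localRingHom_to_map q p (algebraMap R' R) rfl x).symm
  have hsub : Algebra.algebraMapSubmonoid R q.primeCompl = p.primeCompl := by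
    refine le_antisymm ?_ fun y hy => ?_
    · rintro _ ⟨x, hx, rfl⟩
      exact hx
    · obtain ⟨x, rfl⟩ := hg y
      exact ⟨x, hy, rfl⟩
  have hsurj : Function.Surjective (algebraMap A B) := by
    intro y
    obtain ⟨x, s, rfl⟩ := IsLocalization.exists_mk'_eq p.primeCompl y
    obtain ⟨a, rfl⟩ := hg x
    obtain ⟨b, hb⟩ := hg s.1
    have hbq : b ∈ q.primeCompl := fun hmem => s.2 (hb ▸ hmem)
    refine ⟨IsLocalization.mk' A a ⟨b, hbq⟩, ?_⟩
    change φ _ = _
    rw [Localization.localRingHom_mk']
    exact congrArg _ (Subtype.ext hb)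
  have : IsLocalization (Algebra.algebraMapSubmonoid R q.primeCompl) B := by
    rw [hsub]
    infer_instance
  have hlocB : IsLocalizedModule q.primeCompl (IsScalarTower.toAlgHom R' R B).toLinearMap :=
    inferInstance
  let eB : LocalizedModule q.primeCompl R ≃ₗ[A] B :=
    LinearEquiv.extendScalarsOfIsLocalization q.primeCompl A
      (IsLocalizedModule.iso q.primeCompl (IsScalarTower.toAlgHom R' R B).toLinearMap)
  let eA : LocalizedModule q.primeCompl R' ≃ₗ[A] A :=
    LinearEquiv.extendScalarsOfIsLocalization q.primeCompl A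
      (IsLocalizedModule.iso q.primeCompl (Algebra.linearMap R' A))
  -- the localised module
  let Kp := LocalizedModule p.primeCompl K
  let _ : Module A Kp := Module.compHom Kp (algebraMap A B)
  have : IsScalarTower A B Kp := IsScalarTower.of_algebraMap_smul fun _ _ => rfl
  have : IsScalarTower R' A Kp := IsScalarTower.of_algebraMap_smul fun r x => by
    rw [← algebraMap_smul B (algebraMap R' A r) x, ← IsScalarTower.algebraMap_apply R' A B,
      IsScalarTower.algebraMap_apply R' R B, algebraMap_smul, algebraMap_smul]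
  have hlocK : IsLocalizedModule q.primeCompl
      ((LocalizedModule.mkLinearMap p.primeCompl K).restrictScalars R') := by
    refine ⟨fun x => ?_, fun y => ?_, fun {x₁ x₂} hx => ?_⟩
    · have hu := IsLocalizedModule.map_units (LocalizedModule.mkLinearMap p.primeCompl K)
        (⟨algebraMap R' R x, x.2⟩ : p.primeCompl)
      rw [Module.End.isUnit_iff] at hu ⊢
      have he : ∀ y : Kp, algebraMap R (Module.End R Kp) (algebraMap R' R x) y =
          algebraMap R' (Module.End R' Kp) x y := fun y => by
        simp [Module.algebraMap_end_apply]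
      rwa [show (⇑(algebraMap R (Module.End R Kp) (algebraMap R' R x))) =
        ⇑(algebraMap R' (Module.End R' Kp) x) from funext he] at hu
    · obtain ⟨⟨k, s⟩, hk⟩ := IsLocalizedModule.surj p.primeCompl
        (LocalizedModule.mkLinearMap p.primeCompl K) y
      obtain ⟨b, hb⟩ := hg s.1
      refine ⟨⟨k, ⟨b, fun hmem => s.2 (hb ▸ hmem)⟩⟩, ?_⟩
      rw [Submonoid.smul_def] at hk ⊢
      exact ((algebraMap_smul R b y).symm.trans (congrArg (· • y) hb)).trans hk
    · obtain ⟨s, hs⟩ := IsLocalizedModule.exists_of_eq (S := p.primeCompl)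
        (f := LocalizedModule.mkLinearMap p.primeCompl K) hx
      obtain ⟨b, hb⟩ := hg s.1
      refine ⟨⟨b, fun hmem => s.2 (hb ▸ hmem)⟩, ?_⟩
      rw [Submonoid.smul_def] at hs ⊢
      exact ((algebraMap_smul R b x₁).symm.trans (congrArg (· • x₁) hb)).trans
        (hs.trans ((algebraMap_smul R b x₂).symm.trans (congrArg (· • x₂) hb)).symm)
  let eKp : LocalizedModule q.primeCompl (EK (R := R') R' R c) ≃ₗ[A] Kp :=
    IsLocalizedModule.mapEquiv q.primeCompl (LocalizedModule.mkLinearMap q.primeCompl _)
      ((LocalizedModule.mkLinearMap p.primeCompl K).restrictScalars R') A eK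
  obtain ⟨eL⟩ := ExtLocal.nonempty_equiv q.primeCompl R' c R
  let eKc : EK (R := A) A B c ≃ₗ[A] Kp := (extCongr eB eA c).symm ≪≫ₗ eL.symm ≪≫ₗ eKp
  -- the numbers
  have : LocCoh.IsGorensteinLocalRing A := Gor18.gor_localization R' q
  have := Gor18.gor_cm R'
  have := Gor18.gor_cm A
  obtain ⟨h', hh'⟩ : ∃ h' : ℕ, ringKrullDim A = h' := Gor18.gor_cm.exists_ringKrullDim_eq_nat A
  obtain ⟨a, ha⟩ : ∃ a : ℕ, ringKrullDim (R ⧸ p) = a := by
    have : Nontrivial (R ⧸ p) := Ideal.Quotient.nontrivial_iff.mpr ‹p.IsPrime›.ne_top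
    obtain ⟨a, ha⟩ := EGA4Alg4.exists_supportDim_eq (A := R) (M := R ⧸ p)
    rw [Module.supportDim_quotient_eq_ringKrullDim] at ha
    exact ⟨a, ha⟩
  have ha' : ringKrullDim (R' ⧸ q) = a := by
    rw [← ha]
    refine ringKrullDim_eq_of_ringEquiv ((Ideal.quotEquivOfEq ?_).trans
      (RingHom.quotientKerEquivOfSurjective (f := (Ideal.Quotient.mk p).comp (algebraMap R' R))
        (Ideal.Quotient.mk_surjective.comp hg)))
    ext x
    simp only [hq, Ideal.mem_comap, RingHom.mem_ker, RingHom.comp_apply,
      Ideal.Quotient.eq_zero_iff_mem]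
  have hsum : h' + a = n' := height_add_dim_quotient q hn' hh' ha'
  have hle : h + a ≤ n := by
    have h1 := EGA4Alg4.supportDim_localizedModule_add_le R p
    have e : LocalizedModule p.primeCompl R ≃ₗ[B] B :=
      LinearEquiv.extendScalarsOfIsLocalization p.primeCompl _
        (IsLocalizedModule.iso p.primeCompl (Algebra.linearMap R B))
    have hsupp : (⟨p, inferInstance⟩ : PrimeSpectrum R) ∈ Module.support R R := by
      rw [Module.support_eq_zeroLocus]
      intro x hx
      rw [SetLike.mem_coe, Module.mem_annihilator] at hx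
      have := hx 1
      rw [smul_eq_mul, mul_one] at this
      exact this ▸ p.zero_mem
    rw [EGA4Alg4.supportDim_quotient_prime (p := ⟨p, inferInstance⟩) hsupp,
      Module.supportDim_eq_of_equiv e, Module.supportDim_self_eq_ringKrullDim, hh,
      Module.supportDim_self_eq_ringKrullDim, hn,
      show ringKrullDim (R ⧸ (⟨p, inferInstance⟩ : PrimeSpectrum R).asIdeal) = a from ha] at h1
    exact_mod_cast h1
  obtain ⟨f₀, hf₀⟩ := Gor18.exists_hull_H A h' hh'
  let eA' : (A →ₗ[A] LocCoh.H (maximalIdeal A) h' A) ≃ₗ[A] LocCoh.H (maximalIdeal A) h' A :=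
    LinearMap.ringLmapEquivSelf A A _
  have hKp : Nontrivial (EK (R := A) A B c) := eKc.toEquiv.nontrivial
  have hch : c ≤ h' := by
    by_contra hlt
    have := injDimLT hh' hf₀ eA'
    exact not_subsingleton_iff_nontrivial.2 hKp
      (HasInjectiveDimensionLT.subsingleton (ModuleCat.of A A) (h' + 1) c (by omega) _)
  have : Module.Finite A B := Module.Finite.of_surjective (Algebra.linearMap A B) hsurj
  have hnt : ¬ Subsingleton (LocCoh.H (maximalIdeal A) (h' - c) B) := fun hs =>
    not_subsingleton_iff_nontrivial.2 hKp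
      (subsingleton_EK_of_H hh' hf₀ eA' (i := c) (j := h' - c) (by omega) B hs)
  have hcle : h' - c ≤ h := by
    by_contra hlt
    refine hnt ?_
    obtain ⟨ψ, -⟩ := ChangeRings.exists_equiv (R := A) (R' := B) (maximalIdeal A) (h' - c) B
    have hs : Subsingleton (LocCoh.H ((maximalIdeal A).map (algebraMap A B)) (h' - c) B) :=
      cdLE_of_ringKrullDim_le _ hh.le B (h' - c) (by omega)
    exact ψ.symm.toEquiv.subsingleton
  exact CanonExists.exists_dual (R' := A) (R := B) hsurj hh' (c := c) (by omega) eKc hf'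

end Groth.Agent.LC16.CanonLocal
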