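import Groth.Agent.Amp73.Tensor
import Groth.Agent.Props58.LocFree.Basis
import Groth.Agent.QC70.Sections

/-!
Sections of `A ⊗ M` over opens on which `M` has a basis.
-/

set_option autoImplicit false
set_option backward.isDefEq.respectTransparency.types false
set_option linter.style.haveILetI false

noncomputable section

universe u

open CategoryTheory Limits AlgebraicGeometry TopologicalSpace Opposite
open Groth.Agent.QC70 Groth.Agent.Props58.LocFree

namespace Groth.Agent.LC16.TensorBasis

variable {X : Scheme.{u}} {A M : X.Modules} {U : X.Opens} {n : ℕ} {s : Fin n → Γ(M, U)}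

/-- Sections of the presheaf tensor product over `V`. -/
abbrev Pre (A M : X.Modules) (V : X.Opens) := (CohB1.tensorPre A M).obj (op V)

lemma tq_add_right {V : X.Opens} (m : Γ(A, V)) (x y : Γ(M, V)) :
    (Mero90.tq m (x + y) : Pre A M V) = Mero90.tq m x + Mero90.tq m y :=
  Mod48.tp_add_right (O := X.sheaf) (M := CohB1.toPMod A) (N := CohB1.toPMod M) (X := op V) m x y

lemma tq_add_left {V : X.Opens} (m m' : Γ(A, V)) (x : Γ(M, V)) :
    (Mero90.tq (m + m') x : Pre A M V) = Mero90.tq m x + Mero90.tq m' x :=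
  Mod48.tp_add_left (O := X.sheaf) (M := CohB1.toPMod A) (N := CohB1.toPMod M) (X := op V) m m' x

lemma tq_smul_comm {V : X.Opens} (c : Γ(X, V)) (m : Γ(A, V)) (x : Γ(M, V)) :
    (Mero90.tq m (c • x) : Pre A M V) = Mero90.tq (c • m) x :=
  (Mod48.tp_smul_right (O := X.sheaf) (M := CohB1.toPMod A) (N := CohB1.toPMod M) (X := op V) c m x).trans
    (Mod48.tp_smul_left (O := X.sheaf) (M := CohB1.toPMod A) (N := CohB1.toPMod M) (X := op V) c m x).symm

lemma map_tq {V W : X.Opens} (h : W ≤ V) (m : Γ(A, V)) (x : Γ(M, V)) :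
    (CohB1.tensorPre A M).map (homOfLE h).op (Mero90.tq m x) = Mero90.tq (res A h m) (res M h x) :=
  Mod48.map_tp (O := X.sheaf) (M := CohB1.toPMod A) (N := CohB1.toPMod M) (homOfLE h).op m x

variable (A s) in
/-- `∑ aᵢ ⊗ sᵢ` in the presheaf tensor product. -/
def comb (V : X.Opens) (hV : V ≤ U) (a : Fin n → Γ(A, V)) : Pre A M V :=
  ∑ i, Mero90.tq (a i) (res M hV (s i))

lemma map_comb {V W : X.Opens} (hV : V ≤ U) (h : W ≤ V) (a : Fin n → Γ(A, V)) :
    (CohB1.tensorPre A M).map (homOfLE h).op (comb A s V hV a) =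
      comb A s W (h.trans hV) (fun i => res A h (a i)) := by
  refine (map_sum ((CohB1.tensorPre A M).map (homOfLE h).op).hom _ _).trans ?_
  refine Finset.sum_congr rfl fun i _ => (map_tq h _ _).trans ?_
  rw [res_res]

variable (hs : StalkBasis s)

/-- The coordinates of a section of `M`. -/
def coord {V : X.Opens} (hV : V ≤ U) : (Fin n → Γ(X, V)) ≃ₗ[Γ(X, V)] Γ(M, V) :=
  LinearEquiv.ofBijective (Fintype.linearCombination Γ(X, V) (fun i => res M hV (s i)))
    (hs.bijective hV)

lemma coord_symm_res {V : X.Opens} (hV : V ≤ U) (j : Fin n) :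
    (coord hs hV).symm (res M hV (s j)) = Pi.single j 1 := by
  classical
  rw [LinearEquiv.symm_apply_eq]
  refine (one_smul Γ(X, V) (res M hV (s j))).symm.trans ?_
  exact (Fintype.linearCombination_apply_single (R := Γ(X, V)) (fun i => res M hV (s i)) j 1).symm

/-- The bilinear map behind `preCoord`. -/
def pairHom {V : X.Opens} (hV : V ≤ U) (j : Fin n) : Γ(A, V) →+ Γ(M, V) →+ Γ(A, V) where
  toFun m :=
    { toFun := fun x => (coord hs hV).symm x j • m
      map_zero' := by simp
      map_add' := fun x y => by simp [add_smul] }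
  map_zero' := AddMonoidHom.ext fun x => smul_zero _
  map_add' m m' := AddMonoidHom.ext fun x => smul_add _ _ _

/-- The `j`-th coordinate of a section of the presheaf tensor product. -/
def preCoord {V : X.Opens} (hV : V ≤ U) (j : Fin n) : Pre A M V →+ Γ(A, V) :=
  TensorProduct.liftAddHom (pairHom hs hV j)
    (fun c m x => by
      change (coord hs hV).symm (show Γ(M, V) from x) j • ((show Γ(X, V) from c) • (show Γ(A, V) from m)) =
        (coord hs hV).symm ((show Γ(X, V) from c) • (show Γ(M, V) from x)) j • (show Γ(A, V) from m)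
      rw [map_smul, Pi.smul_apply, smul_smul, smul_eq_mul, mul_comm])

lemma preCoord_tq {V : X.Opens} (hV : V ≤ U) (j : Fin n) (m : Γ(A, V)) (x : Γ(M, V)) :
    preCoord hs hV j (Mero90.tq m x) = (coord hs hV).symm x j • m := rfl

lemma preCoord_comb {V : X.Opens} (hV : V ≤ U) (j : Fin n) (a : Fin n → Γ(A, V)) :
    preCoord hs hV j (comb A s V hV a) = a j := by
  classical
  refine (map_sum (preCoord (A := A) hs hV j) _ _).trans ?_
  rw [Finset.sum_eq_single j]
  · rw [preCoord_tq, coord_symm_res, Pi.single_eq_same, one_smul]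
  · intro i _ hij
    rw [preCoord_tq, coord_symm_res, Pi.single_eq_of_ne (Ne.symm hij), zero_smul]
  · simp

include hs in
theorem bijective_comb {V : X.Opens} (hV : V ≤ U) : Function.Bijective (comb A s V hV) := by
  refine ⟨fun a b e => funext fun j => ?_, fun z => ⟨fun j => preCoord hs hV j z, ?_⟩⟩
  · rw [← preCoord_comb hs hV j a, e, preCoord_comb]
  · induction z using TensorProduct.induction_on with
    | zero =>
      refine Finset.sum_eq_zero fun i _ => ?_
      exact (congrArg (fun y => Mero90.tq y _) (map_zero (preCoord (A := A) hs hV i))).trans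
        (TensorProduct.zero_tmul _ _)
    | tmul m x =>
      have hx : ∑ i, (coord hs hV).symm (show Γ(M, V) from x) i • res M hV (s i) = x := by
        refine Eq.trans ?_ ((coord hs hV).apply_symm_apply (show Γ(M, V) from x))
        rfl
      change ∑ i, Mero90.tq ((coord hs hV).symm (show Γ(M, V) from x) i • (show Γ(A, V) from m))
        (res M hV (s i)) = Mero90.tq (show Γ(A, V) from m) (show Γ(M, V) from x)
      conv_rhs => rw [← hx]
      refine Eq.trans ?_ (map_sum ({ toFun := fun y => (Mero90.tq (show Γ(A, V) from m) y : Pre A M V)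
                                     map_zero' := TensorProduct.tmul_zero _ _
                                     map_add' := tq_add_right _ } : Γ(M, V) →+ Pre A M V) _ _).symm
      exact Finset.sum_congr rfl fun i _ => (tq_smul_comm _ _ _).symm
    | add z z' hz hz' =>
      refine Eq.trans ?_ (congrArg₂ (· + ·) hz hz')
      refine Eq.trans (Finset.sum_congr rfl fun i _ => ?_) Finset.sum_add_distrib
      exact (congrArg (fun y => Mero90.tq y _) (map_add (preCoord (A := A) hs hV i) z z')).trans
        (tq_add_left _ _ _)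

variable (A s) in
/-- `∑ aᵢ ⊗ sᵢ`. -/
def tcomb (V : X.Opens) (hV : V ≤ U) (a : Fin n → Γ(A, V)) : Γ(CohB1.tensorMod A M, V) :=
  ∑ i, Amp73.tm A M (a i) (res M hV (s i))

lemma tcomb_eq {V : X.Opens} (hV : V ≤ U) (a : Fin n → Γ(A, V)) :
    tcomb A s V hV a =
      (Mod48.shfU (O := X.sheaf) (CohB1.tensorPre A M)).app (op V) (comb A s V hV a) :=
  (map_sum ((Mod48.shfU (O := X.sheaf) (CohB1.tensorPre A M)).app (op V)).hom _ _).symm

lemma res_tcomb {V W : X.Opens} (hV : V ≤ U) (h : W ≤ V) (a : Fin n → Γ(A, V)) :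
    res (CohB1.tensorMod A M) h (tcomb A s V hV a) =
      tcomb A s W (h.trans hV) (fun i => res A h (a i)) := by
  rw [tcomb, res_sum]
  refine Finset.sum_congr rfl fun i _ => ?_
  exact (Amp73.res_tm h _ _).trans (congrArg _ (res_res hV h (s i)))

include hs in
/-- **Sections of `A ⊗ M` are `n`-tuples of sections of `A`.** -/
theorem bijective_tcomb {V : X.Opens} (hV : V ≤ U) : Function.Bijective (tcomb A s V hV) := by
  have hloc := (Mod48.isIso_shf_map_iff_isLocalIso (O := X.sheaf)
    (Mod48.shfU (CohB1.tensorPre A M))).mp inferInstance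
  have inj : ∀ (V : X.Opens) (hV : V ≤ U) (a b : Fin n → Γ(A, V)),
      tcomb A s V hV a = tcomb A s V hV b → a = b := fun V hV a b e => by
    rw [tcomb_eq, tcomb_eq] at e
    have hcov := hloc.inj.equalizerSieve_mem (X := op V) (comb A s V hV a) (comb A s V hV b) e
    choose W i hi hxW using hcov
    funext j
    refine section_ext' A (fun x : V => W x.1 x.2) (fun x => (i x.1 x.2).le)
      (fun x hx => Opens.mem_iSup.mpr ⟨⟨x, hx⟩, hxW x hx⟩) _ _ fun x => ?_
    have e' : (CohB1.tensorPre A M).map (homOfLE (i x.1 x.2).le).op (comb A s V hV a) =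
        (CohB1.tensorPre A M).map (homOfLE (i x.1 x.2).le).op (comb A s V hV b) := hi x.1 x.2
    rw [map_comb hV, map_comb hV] at e'
    exact congrFun ((bijective_comb hs _).1 e') j
  refine ⟨fun a b e => inj V hV a b e, fun t => ?_⟩
  have hcov := hloc.surj.imageSieve_mem (U := V) t
  choose W i hi hxW using hcov
  have hW : ∀ x : V, W x.1 x.2 ≤ V := fun x => (i x.1 x.2).le
  have hex : ∀ x : V, ∃ a : Fin n → Γ(A, W x.1 x.2),
      tcomb A s (W x.1 x.2) ((hW x).trans hV) a = res (CohB1.tensorMod A M) (hW x) t := fun x => by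
    obtain ⟨z, hz⟩ := hi x.1 x.2
    obtain ⟨a, ha⟩ := (bijective_comb hs ((hW x).trans hV)).2 z
    exact ⟨a, (tcomb_eq _ a).trans ((congrArg _ ha).trans hz)⟩
  choose a ha using hex
  have hc : ∀ (j : Fin n) (x y : V),
      res A (inf_le_left : W x.1 x.2 ⊓ W y.1 y.2 ≤ W x.1 x.2) (a x j) =
        res A (inf_le_right : W x.1 x.2 ⊓ W y.1 y.2 ≤ W y.1 y.2) (a y j) := fun j x y => by
    refine congrFun (inj _ ((inf_le_left : W x.1 x.2 ⊓ W y.1 y.2 ≤ W x.1 x.2).trans ((hW x).trans hV))
      (fun j => res A inf_le_left (a x j)) (fun j => res A inf_le_right (a y j)) ?_) j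
    rw [← res_tcomb ((hW x).trans hV), ← res_tcomb ((hW y).trans hV), ha, ha, res_res, res_res]
  have hle : V ≤ ⨆ x : V, W x.1 x.2 := fun x hx => Opens.mem_iSup.mpr ⟨⟨x, hx⟩, hxW x hx⟩
  choose b hb _ using fun j => TopCat.Sheaf.existsUnique_gluing' ⟨A.presheaf, A.isSheaf⟩
    (fun x : V => W x.1 x.2) V (fun x => homOfLE (hW x)) hle (fun x => a x j) (hc j)
  refine ⟨b, section_ext' _ (fun x : V => W x.1 x.2) hW hle _ _ fun x => ?_⟩
  rw [res_tcomb hV, ← ha x]
  exact congrArg _ (funext fun j => hb j x)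

end Groth.Agent.LC16.TensorBasis
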