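import Groth.Agent.ValVan29.PushTwist
import Groth.Agent.LC16.TensorBasis
import Groth.Agent.Pinch99.Faithful
import Groth.Agent.GRec72.Tensor
import Groth.Agent.QC70.HomTensor
import Groth.Agent.QC70.ExtCoh
import Groth.Agent.Formal27.QuasiAffine
import Groth.Agent.Mod48.DerivedPrecomp
import Groth.Agent.Mod48.LocalCohIso

/-!
The projection formula for finite locally free modules.
-/

set_option autoImplicit false
set_option backward.isDefEq.respectTransparency.types false
set_option linter.style.haveILetI false

noncomputable section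

universe u

open CategoryTheory CategoryTheory.Limits AlgebraicGeometry TopologicalSpace Opposite MonoidalCategory
open Groth.Agent.QC70 Groth.Agent.Props58.LocFree
open Groth.Agent.Amp73 (tm)

namespace Groth.Agent.LC16.ProjLocFree

variable {X Y : Scheme.{u}}

/-- `- ⊗ M`. -/
abbrev tensR (M : X.Modules) : X.Modules ⥤ X.Modules := Mod48.tR (O := X.sheaf) M

theorem tensR_map_tm {A B : X.Modules} (g : A ⟶ B) (M : X.Modules) (U : X.Opens) (m : Γ(A, U))
    (n : Γ(M, U)) : ((tensR M).map g).app U (tm A M m n) = tm B M (g.app U m) n := by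
  have h := Mod48.shfU_naturality (O := X.sheaf)
    (Mod48.fgt.map g ▷ Mod48.pre (O := X.sheaf) M : Mod48.pre (O := X.sheaf) A ⊗ Mod48.pre M ⟶ _)
  exact (congrArg (fun φ => (φ.app (op U)).hom (Mero90.tq m n)) h).symm

/-- `(m, φ) ↦ φ(-) m` as a pairing. -/
def dualPairing (E M : X.Modules) : Mero90.Pairing M (dualMod E) (homMod E M) where
  b U m φ := ((ofSec φ).formSmul m).toSec
  add_left U m m' φ := HomOn.ext' fun V hV s =>
    (congrArg ((toO ((ofSec φ).app V hV s)) • ·) (res_add hV m m')).trans (smul_add _ _ _)
  add_right U m φ φ' := HomOn.ext' fun V hV s =>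
    add_smul (toO ((ofSec φ).app V hV s)) (toO ((ofSec φ').app V hV s)) _
  smul_left U a m φ := HomOn.ext' fun V hV s => by
    change (toO ((ofSec φ).app V hV s)) • res M hV (a • m) =
      resO X hV a • ((toO ((ofSec φ).app V hV s)) • res M hV m)
    rw [res_smul, smul_smul, smul_smul, mul_comm]
  smul_right U a m φ := HomOn.ext' fun V hV s =>
    mul_smul (resO X hV a) (toO ((ofSec φ).app V hV s)) _
  nat U V h m φ := HomOn.ext' fun W hW s => by
    change (toO ((ofSec φ).app W _ s)) • res M hW (res M h m) =
      (toO ((ofSec φ).app W _ s)) • res M (hW.trans h) m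
    rw [res_res]

theorem isIso_dualPairing {E : X.Modules} (hE : FlatMod.IsFinLocFree E) (M : X.Modules) :
    IsIso (dualPairing E M).lift := by
  let q := dualPair E M
  have hq : Mod48.IsLocalIso q := by
    constructor
    · refine ⟨fun {W} z z' hz => fun x hx => ?_⟩
      obtain ⟨U, n, s, hxU, hs⟩ := isFinLocFree_iff.mp hE x
      refine ⟨W.unop ⊓ U, homOfLE inf_le_left, ?_, hx, hxU⟩
      refine (bijective_dualPair hs (inf_le_right : W.unop ⊓ U ≤ U)).1 ?_
      exact (PresheafOfModules.naturality_apply q (homOfLE inf_le_left).op z).trans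
        ((congrArg (fun w => (Mod48.pre (O := X.sheaf) (homMod E M)).map
          (homOfLE (inf_le_left : W.unop ⊓ U ≤ W.unop)).op w)
          (show (q.app W).hom z = (q.app W).hom z' from hz)).trans
          (PresheafOfModules.naturality_apply q (homOfLE inf_le_left).op z').symm)
    · refine ⟨fun {W} t => fun x hx => ?_⟩
      obtain ⟨U, n, s, hxU, hs⟩ := isFinLocFree_iff.mp hE x
      refine ⟨W ⊓ U, homOfLE inf_le_left, ?_, hx, hxU⟩
      exact (bijective_dualPair hs (inf_le_right : W ⊓ U ≤ U)).2 _
  haveI hi := (Mod48.isIso_shf_map_iff_isLocalIso q).mpr hq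
  have e : (dualPairing E M).preLift = q :=
    PresheafOfModules.hom_ext fun U => ModuleCat.MonoidalCategory.tensor_ext fun m φ => rfl
  unfold Mero90.Pairing.lift
  rw [e]
  exact IsIso.comp_isIso' hi inferInstance

/-- `- ⊗ E^∨ ≅ 𝓗om(E, -)`. -/
def tensDualIso {E : X.Modules} (hE : FlatMod.IsFinLocFree E) : tensR (dualMod E) ≅ homFunctor E :=
  NatIso.ofComponents (fun M => @asIso _ _ _ _ (dualPairing E M).lift (isIso_dualPairing hE M))
    (fun {M M'} g => by
      refine GRec72.hom_ext_tmul fun U m φ => ?_
      change (dualPairing E M').lift.app U (((tensR (dualMod E)).map g).app U (tm M (dualMod E) m φ)) =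
        (homMap E g).app U ((dualPairing E M).lift.app U (tm M (dualMod E) m φ))
      rw [tensR_map_tm]
      refine ((dualPairing E M').lift_tmul U _ _).trans ?_
      refine Eq.trans ?_ (congrArg ((homMap E g).app U) ((dualPairing E M).lift_tmul U m φ)).symm
      refine HomOn.ext' fun V hV s => ?_
      change (toO ((ofSec φ).app V hV s)) • res M' hV (g.app U m) =
        g.app V ((toO ((ofSec φ).app V hV s)) • res M hV m)
      rw [Scheme.Modules.Hom.app_smul, QC70.app_res g hV])

/-- `- ⊗ P` is `𝓗om(P^∨, -)`. -/
def tensHomIso {P : X.Modules} (hP : FlatMod.IsFinLocFree P) : tensR P ≅ homFunctor (dualMod P) :=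
  haveI := Formal27.isIso_bidual hP
  (NatIso.ofComponents (fun M => EGA73.tensIso (Iso.refl M) (asIso (Formal27.bidual P)))
    (fun {M M'} g => by
      refine GRec72.hom_ext_tmul fun U m n => ?_
      have key : ∀ (A : X.Modules) (a : Γ(A, U)) (b : Γ(P, U)),
          (EGA73.tensIso (Iso.refl A) (asIso (Formal27.bidual P))).hom.app U (tm A P a b) =
            tm A (dualMod (dualMod P)) a ((Formal27.bidual P).app U b) := fun A a b => by
        have h := Mod48.shfU_naturality (O := X.sheaf)
          ((Mod48.fgt (O := X.sheaf)).map (𝟙 A) ⊗ₘ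
            (Mod48.fgt (O := X.sheaf)).map (Formal27.bidual P))
        exact (congrArg (fun φ => (φ.app (op U)).hom (Mero90.tq a b)) h).symm
      change (EGA73.tensIso (Iso.refl M') (asIso (Formal27.bidual P))).hom.app U
          (((tensR P).map g).app U (tm M P m n)) =
        ((tensR (dualMod (dualMod P))).map g).app U
          ((EGA73.tensIso (Iso.refl M) (asIso (Formal27.bidual P))).hom.app U (tm M P m n))
      rw [tensR_map_tm, key, key, tensR_map_tm]) : tensR P ≅ tensR (dualMod (dualMod P))) ≪≫
    tensDualIso (Formal27.isFinLocFree_dualMod hP)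

theorem additive_tensR {P : X.Modules} (hP : FlatMod.IsFinLocFree P) : (tensR P).Additive :=
  haveI := additive_homFunctor (dualMod P)
  Functor.additive_of_iso (tensHomIso hP).symm

theorem preservesFiniteLimits_tensR {P : X.Modules} (hP : FlatMod.IsFinLocFree P) :
    PreservesFiniteLimits (tensR P) :=
  haveI := preservesFiniteLimits_homFunctor (dualMod P)
  preservesFiniteLimits_of_natIso (tensHomIso hP).symm

theorem preservesFiniteColimits_tensR {P : X.Modules} (hP : FlatMod.IsFinLocFree P) :
    PreservesFiniteColimits (tensR P) :=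
  haveI := additive_homFunctor (dualMod P)
  haveI := preservesHomology_homFunctor (Formal27.isFinLocFree_dualMod hP)
  haveI : PreservesFiniteColimits (homFunctor (dualMod P)) :=
    Functor.preservesFiniteColimits_of_preservesHomology _
  preservesFiniteColimits_of_natIso (tensHomIso hP).symm

theorem injective_tensR {P : X.Modules} (hP : FlatMod.IsFinLocFree P) (I : X.Modules) (hI : Injective I) :
    Injective ((tensR P).obj I) :=
  haveI := hI
  Injective.of_iso ((tensHomIso hP).app I).symm
    (injective_homMod (Formal27.isFinLocFree_dualMod hP) I)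

section Projection

variable (f : X ⟶ Y)

theorem isIso_projHom (F : X.Modules) {M : Y.Modules} (hM : FlatMod.IsFinLocFree M) :
    IsIso (ValVan29.projHom f F M) := by
  refine ValVan29.isIso_of_bijective_small _ fun y => ?_
  obtain ⟨U, n, s, hyU, hs⟩ := isFinLocFree_iff.mp hM y
  refine ⟨U, hyU, fun V hV => ?_⟩
  let t : Fin n → Γ((Scheme.Modules.pullback f).obj M, f ⁻¹ᵁ U) :=
    fun i => Amp73.pullS f M U (s i)
  have ht : StalkBasis t := Pinch99.stalkBasis_pullS f hs
  let ψ := TensorBasis.tcomb ((Coh.push f).obj F) s V hV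
  have hψ : Function.Bijective ψ := TensorBasis.bijective_tcomb hs hV
  have hcomp : ∀ a, (ValVan29.projHom f F M).app V (ψ a) =
      TensorBasis.tcomb F t (f ⁻¹ᵁ V) (f.preimage_mono hV) a := fun a => by
    refine (map_sum ((ValVan29.projHom f F M).app V).hom _ _).trans ?_
    refine Finset.sum_congr rfl fun i _ => ?_
    refine ((ValVan29.projPairing f F M).lift_tmul V (a i) (res M hV (s i))).trans ?_
    change tm F _ (a i) (Amp73.pullS f M V (res M hV (s i))) = _
    rw [← Amp73.res_pullS]
  have hbij : Function.Bijective ((ValVan29.projHom f F M).app V ∘ ψ) := by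
    have h2 := TensorBasis.bijective_tcomb (A := F) ht (f.preimage_mono hV)
    have e : ((ValVan29.projHom f F M).app V ∘ ψ : (Fin n → Γ(F, f ⁻¹ᵁ V)) → _) =
        TensorBasis.tcomb F t (f ⁻¹ᵁ V) (f.preimage_mono hV) := funext hcomp
    exact e.symm ▸ h2
  exact (Function.Bijective.of_comp_iff _ hψ).1 hbij

/-- The projection formula, natural in the module upstairs. -/
def projNatIso {M : Y.Modules} (hM : FlatMod.IsFinLocFree M) :
    Scheme.Modules.pushforward f ⋙ tensR M ≅
      tensR ((Scheme.Modules.pullback f).obj M) ⋙ Scheme.Modules.pushforward f :=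
  NatIso.ofComponents (fun F => @asIso _ _ _ _ (ValVan29.projHom f F M) (isIso_projHom f F hM))
    (fun {F F'} g => by
      refine GRec72.hom_ext_tmul fun U m n => ?_
      change (ValVan29.projHom f F' M).app U
          (((tensR M).map ((Scheme.Modules.pushforward f).map g)).app U
            (tm ((Scheme.Modules.pushforward f).obj F) M m n)) =
        ((tensR ((Scheme.Modules.pullback f).obj M)).map g).app (f ⁻¹ᵁ U)
          ((ValVan29.projHom f F M).app U (tm ((Scheme.Modules.pushforward f).obj F) M m n))
      rw [tensR_map_tm]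
      refine ((ValVan29.projPairing f F' M).lift_tmul U _ _).trans ?_
      refine Eq.trans ?_ (congrArg _ ((ValVan29.projPairing f F M).lift_tmul U m n)).symm
      exact (tensR_map_tm g _ _ _ _).symm)

/-- The projection formula for higher direct images. -/
theorem nonempty_rightDerived_projection [HasInjectiveResolutions X.Modules] (F : X.Modules)
    {M : Y.Modules} (hM : FlatMod.IsFinLocFree M)
    (hfM : FlatMod.IsFinLocFree ((Scheme.Modules.pullback f).obj M)) (q : ℕ) :
    Nonempty ((tensR M).obj (((Scheme.Modules.pushforward f).rightDerived q).obj F) ≅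
      ((Scheme.Modules.pushforward f).rightDerived q).obj
        ((tensR ((Scheme.Modules.pullback f).obj M)).obj F)) := by
  haveI := additive_tensR hM
  haveI := preservesFiniteLimits_tensR hM
  haveI := preservesFiniteColimits_tensR hM
  haveI := additive_tensR hfM
  haveI := preservesFiniteLimits_tensR hfM
  haveI := preservesFiniteColimits_tensR hfM
  haveI : (tensR M).PreservesHomology := Functor.preservesHomologyOfExact _
  exact ⟨((SiteCoh.rightDerivedCompExactIso (Scheme.Modules.pushforward f) (tensR M) q).app F).symm ≪≫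
    (Mod48.rightDerivedNatIso (projNatIso f hM) q).app F ≪≫
    (Mod48.rightDerivedPrecompIso (tensR ((Scheme.Modules.pullback f).obj M))
      (injective_tensR hfM) (Scheme.Modules.pushforward f) q).app F⟩

end Projection

end Groth.Agent.LC16.ProjLocFree
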