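import Groth.Agent.LC16.Filtered
import Groth.Agent.LC15.Gamma
import Mathlib.Algebra.Module.CharacterModule
import Mathlib.RingTheory.Flat.Basic

/-!
Local cohomology commutes with filtered colimits over a Noetherian ring.
-/

namespace Groth.Agent.LC16.Colim

universe u

set_option autoImplicit false

open CategoryTheory CategoryTheory.Limits LC15 Filtered

variable {R : Type u} [CommRing R]

section naturality

variable (I : Ideal R) (i : ℕ)
  {M N L M' N' L' : Type u} [AddCommGroup M] [Module R M] [AddCommGroup N] [Module R N]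
  [AddCommGroup L] [Module R L] [AddCommGroup M'] [Module R M'] [AddCommGroup N'] [Module R N']
  [AddCommGroup L'] [Module R L']
  {f : M →ₗ[R] N} {g : N →ₗ[R] L} (hf : Function.Injective f) (hfg : Function.Exact f g)
  (hg : Function.Surjective g)
  {f' : M' →ₗ[R] N'} {g' : N' →ₗ[R] L'} (hf' : Function.Injective f')
  (hfg' : Function.Exact f' g') (hg' : Function.Surjective g')
  (a : M →ₗ[R] M') (b : N →ₗ[R] N') (c : L →ₗ[R] L')

/-- naturality of the connecting map -/
theorem Hδ_naturality (h₁ : b ∘ₗ f = f' ∘ₗ a) (h₂ : c ∘ₗ g = g' ∘ₗ b) (y : LocCoh.H I i L) :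
    Hmap I (i + 1) a (Hδ I i hf hfg hg y) = Hδ I i hf' hfg' hg' (Hmap I i c y) := by
  obtain ⟨n, x, rfl⟩ := toH_surj I i L y
  rw [Hδ_toH, Hmap_toH, Hmap_toH, Hδ_toH]
  let φ : seqSC hfg ⟶ seqSC hfg' :=
    ⟨ModuleCat.ofHom a, ModuleCat.ofHom b, ModuleCat.ofHom c,
      ModuleCat.hom_ext h₁.symm, ModuleCat.hom_ext h₂.symm⟩
  refine congrArg _ ?_
  refine (Abelian.Ext.comp_assoc _ _ _ rfl (add_zero 1) (by omega)).trans ?_
  refine (congrArg (fun e => Abelian.Ext.comp x e _)
    (ShortComplex.ShortExact.extClass_naturality (seqSC_shortExact hf hfg hg)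
      (seqSC_shortExact hf' hfg' hg') φ)).trans ?_
  exact (Abelian.Ext.comp_assoc _ _ _ (add_zero i) (zero_add 1) (by omega)).symm

end naturality

section comp

variable (I : Ideal R) (i : ℕ) {M N L : Type u} [AddCommGroup M] [Module R M] [AddCommGroup N]
  [Module R N] [AddCommGroup L] [Module R L]

lemma Hmap_Hmap (g : N →ₗ[R] L) (f : M →ₗ[R] N) (h : M →ₗ[R] L) (e : g ∘ₗ f = h)
    (x : LocCoh.H I i M) : Hmap I i g (Hmap I i f x) = Hmap I i h x := by
  rw [← e, Hmap_comp]; rfl

end comp

section embed

variable (M : Type u) [AddCommGroup M] [Module R M]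

/-- a functorial injective module containing a given one -/
abbrev big : Type u := CharacterModule M → CharacterModule R

/-- the functorial embedding -/
noncomputable def emb : M →ₗ[R] big (R := R) M where
  toFun m φ := CharacterModule.dual (LinearMap.toSpanSingleton R M m) φ
  map_add' m m' := funext fun φ => DFunLike.ext _ _ fun r => by
    change φ (r • (m + m')) = φ (r • m) + φ (r • m')
    rw [smul_add, map_add]
  map_smul' a m := funext fun φ => DFunLike.ext _ _ fun r => by
    change φ (r • a • m) = φ ((a • r) • m)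
    rw [smul_eq_mul, smul_smul, mul_comm]

lemma emb_injective : Function.Injective (emb (R := R) M) := by
  refine (injective_iff_map_eq_zero _).2 fun m hm => CharacterModule.eq_zero_of_character_apply fun φ => ?_
  have := DFunLike.congr_fun (congr_fun hm φ) 1
  change φ ((1 : R) • m) = 0 at this
  rwa [one_smul] at this

lemma injective_big : Module.Injective R (big (R := R) M) := by
  have hE : Module.Injective R (CharacterModule R) :=
    Module.Flat.iff_characterModule_injective.mp inferInstance
  refine Module.Baer.injective fun J g => ?_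
  choose h hh using fun φ => Module.Baer.of_injective hE J ((LinearMap.proj φ).comp g)
  exact ⟨LinearMap.pi h, fun x mem => funext fun φ => hh φ x mem⟩

variable {M} {N : Type u} [AddCommGroup N] [Module R N]

/-- functoriality -/
def bigMap (f : M →ₗ[R] N) : big (R := R) M →ₗ[R] big (R := R) N where
  toFun x ψ := x (CharacterModule.dual f ψ)
  map_add' _ _ := rfl
  map_smul' _ _ := rfl

lemma bigMap_emb (f : M →ₗ[R] N) (m : M) : bigMap f (emb M m) = emb N (f m) :=
  funext fun ψ => DFunLike.ext _ _ fun r => by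
    change ψ (f (r • m)) = ψ (r • f m)
    rw [map_smul]

end embed

variable {Λ : Type u} [SmallCategory Λ] [IsFiltered Λ] (F : Λ ⥤ ModuleCat.{u} R)

/-- the injective envelopes of a diagram -/
noncomputable def EF : Λ ⥤ ModuleCat.{u} R where
  obj j := ModuleCat.of R (big (R := R) (F.obj j))
  map f := ModuleCat.ofHom (bigMap (F.map f).hom)
  map_id j := by
    rw [F.map_id]
    rfl
  map_comp f g := by
    rw [F.map_comp]
    rfl

lemma range_le {i j : Λ} (f : i ⟶ j) : LinearMap.range (emb (R := R) (F.obj i)) ≤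
    (LinearMap.range (emb (R := R) (F.obj j))).comap (bigMap (F.map f).hom) := by
  rintro _ ⟨m, rfl⟩
  exact ⟨(F.map f).hom m, (bigMap_emb _ m).symm⟩

/-- the cokernels of the embeddings -/
noncomputable def CF : Λ ⥤ ModuleCat.{u} R where
  obj j := ModuleCat.of R (big (R := R) (F.obj j) ⧸ LinearMap.range (emb (R := R) (F.obj j)))
  map f := ModuleCat.ofHom (Submodule.mapQ _ _ (bigMap (F.map f).hom) (range_le F f))
  map_id j := by
    ext x
    change Submodule.Quotient.mk ((EF F).map (𝟙 j) x) = _
    rw [(EF F).map_id]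
    rfl
  map_comp f g := by
    ext x
    change Submodule.Quotient.mk ((EF F).map (f ≫ g) x) = _
    rw [(EF F).map_comp]
    rfl

/-- the embedding as a natural transformation -/
noncomputable def toEF : F ⟶ EF F where
  app j := ModuleCat.ofHom (emb (R := R) (F.obj j))
  naturality i j f := ModuleCat.hom_ext (LinearMap.ext fun m => (bigMap_emb _ m).symm)

/-- the projection as a natural transformation -/
noncomputable def toCF : EF F ⟶ CF F where
  app j := ModuleCat.ofHom (LinearMap.range (emb (R := R) (F.obj j))).mkQ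

variable {F}

/-- elementwise form of commuting with a colimit -/
def Good (I : Ideal R) (i : ℕ) (F : Λ ⥤ ModuleCat.{u} R) (c : Cocone F) : Prop :=
  (∀ y : LocCoh.H I i c.pt, ∃ j x, Hmap I i (c.ι.app j).hom x = y) ∧
    (∀ (j : Λ) (x : LocCoh.H I i (F.obj j)), Hmap I i (c.ι.app j).hom x = 0 →
      ∃ (k : Λ) (f : j ⟶ k), Hmap I i (F.map f).hom x = 0)

variable [IsNoetherianRing R] (I : Ideal R)

lemma injective_colimit {c : Cocone F} (hc : IsColimit c)
    (h : ∀ j, Module.Injective R (F.obj j)) : Module.Injective R c.pt := by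
  refine Module.Baer.injective fun J g => ?_
  obtain ⟨j, g', hg'⟩ := exists_lift_hom hc g
  obtain ⟨e, he⟩ := Module.Baer.of_injective (h j) J g'
  exact ⟨(c.ι.app j).hom ∘ₗ e, fun x mem => by
    rw [LinearMap.comp_apply, he x mem, ← LinearMap.comp_apply, hg']⟩

lemma good_zero {c : Cocone F} (hc : IsColimit c) : Good I 0 F c := by
  constructor
  · intro y
    obtain ⟨n, hn⟩ := (H0equiv I c.pt y).2
    rw [H0equiv_coe] at hn
    obtain ⟨j, x, hx⟩ := exists_rep hc (h0 I c.pt y)
    obtain ⟨k, g, hg⟩ := exists_kills hc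
      (Submodule.FG.map (LinearMap.toSpanSingleton R (F.obj j) x) (IsNoetherian.noetherian (I ^ n)))
      (by
        rintro _ ⟨a, ha, rfl⟩
        rw [LinearMap.toSpanSingleton_apply, map_smul, hx]
        exact hn a ha)
    refine ⟨k, (H0equiv I (F.obj k)).symm ⟨(F.map g).hom x, n, fun a ha => ?_⟩,
      h0_injective I _ ?_⟩
    · rw [← map_smul]; exact hg _ ⟨a, ha, rfl⟩
    · rw [h0_Hmap, ← H0equiv_coe, LinearEquiv.apply_symm_apply]
      exact (app_map g x).trans hx
  · intro j x hx
    have h1 : (c.ι.app j).hom (h0 I (F.obj j) x) = (c.ι.app j).hom 0 := by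
      rw [← h0_Hmap, hx, map_zero, map_zero]
    obtain ⟨k, f, g, hfg⟩ := exists_map_eq hc h1
    refine ⟨k, f, h0_injective I _ ?_⟩
    rw [h0_Hmap, map_zero, hfg, map_zero]

lemma good (i : ℕ) : ∀ {F : Λ ⥤ ModuleCat.{u} R} {c : Cocone F}, IsColimit c → Good I i F c := by
  induction i with
  | zero => exact fun hc => good_zero I hc
  | succ i ih =>
    intro F c hc
    let cE := colimit.cocone (EF F)
    let cC := colimit.cocone (CF F)
    have hcE : IsColimit cE := colimit.isColimit _
    have hcC : IsColimit cC := colimit.isColimit _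
    let fI : c.pt ⟶ cE.pt := hc.map cE (toEF F)
    let gI : cE.pt ⟶ cC.pt := hcE.map cC (toCF F)
    have hfI : ∀ (j : Λ) (x : F.obj j), fI.hom ((c.ι.app j).hom x) = (cE.ι.app j).hom (emb _ x) :=
      fun j x => congr($(hc.ι_map cE (toEF F) j).hom x)
    have hgI : ∀ (j : Λ) (x : (EF F).obj j),
        gI.hom ((cE.ι.app j).hom x) = (cC.ι.app j).hom (Submodule.Quotient.mk x) :=
      fun j x => congr($(hcE.ι_map cC (toCF F) j).hom x)
    have hf : Function.Injective fI.hom := by
      refine (injective_iff_map_eq_zero _).2 fun x hx => ?_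
      obtain ⟨j, x, rfl⟩ := exists_rep hc x
      rw [hfI, ← map_zero (cE.ι.app j).hom] at hx
      obtain ⟨k, f, g, hfg⟩ := exists_map_eq hcE hx
      rw [map_zero] at hfg
      have h0 : (F.map f).hom x = 0 := emb_injective (R := R) _
        (((bigMap_emb (F.map f).hom x).symm.trans hfg).trans (map_zero _).symm)
      rw [← app_map f, h0, map_zero]
    have hex : Function.Exact fI.hom gI.hom := by
      intro y
      constructor
      · intro hy
        obtain ⟨j, y, rfl⟩ := exists_rep hcE y
        rw [hgI, ← map_zero (cC.ι.app j).hom] at hy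
        obtain ⟨k, f, g, hfg⟩ := exists_map_eq hcC hy
        rw [map_zero] at hfg
        obtain ⟨m, hm⟩ := (Submodule.Quotient.mk_eq_zero _).1
          (show Submodule.Quotient.mk (((EF F).map f).hom y) = 0 from hfg)
        exact ⟨(c.ι.app k).hom m, by rw [hfI, hm, app_map]⟩
      · rintro ⟨x, rfl⟩
        obtain ⟨j, x, rfl⟩ := exists_rep hc x
        rw [hfI]
        refine (hgI j _).trans ?_
        rw [(Submodule.Quotient.mk_eq_zero _).2 (LinearMap.mem_range_self _ x)]
        exact map_zero _
    have hg : Function.Surjective gI.hom := by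
      intro y
      obtain ⟨j, y, rfl⟩ := exists_rep hcC y
      obtain ⟨y, rfl⟩ := Submodule.Quotient.mk_surjective _ y
      exact ⟨(cE.ι.app j).hom y, hgI j y⟩
    have hEj : ∀ j, Module.Injective R ((EF F).obj j) := fun j => injective_big _
    have := injective_colimit hcE hEj
    have hfj : ∀ j, Function.Injective (emb (R := R) (F.obj j)) := fun j => emb_injective _
    have hexj : ∀ j, Function.Exact (emb (R := R) (F.obj j))
        (LinearMap.range (emb (R := R) (F.obj j))).mkQ := fun j => LinearMap.exact_map_mkQ_range _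
    have hgj : ∀ j, Function.Surjective (LinearMap.range (emb (R := R) (F.obj j))).mkQ :=
      fun j => Submodule.mkQ_surjective _
    have hnat : ∀ (j : Λ) (w : LocCoh.H I i ((CF F).obj j)),
        Hmap I (i + 1) (c.ι.app j).hom (Hδ I i (hfj j) (hexj j) (hgj j) w) =
          Hδ I i hf hex hg (Hmap I i (cC.ι.app j).hom w) := fun j w =>
      Hδ_naturality I i (hfj j) (hexj j) (hgj j) hf hex hg (c.ι.app j).hom (cE.ι.app j).hom
        (cC.ι.app j).hom (LinearMap.ext fun x => (hfI j x).symm)
        (LinearMap.ext fun x => (hgI j x).symm) w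
    constructor
    · intro y
      obtain ⟨w, rfl⟩ := Hδ_surjective I i hf hex hg (subsingleton_H_succ_of_injective I i) y
      obtain ⟨j, v, rfl⟩ := (ih hcC).1 w
      exact ⟨j, _, hnat j v⟩
    · intro j x hx
      obtain ⟨w, rfl⟩ := Hδ_surjective I i (hfj j) (hexj j) (hgj j)
        (haveI : Module.Injective R (big (R := R) (F.obj j)) := injective_big _
         subsingleton_H_succ_of_injective I i) x
      replace hx : Hδ I i hf hex hg (Hmap I i (cC.ι.app j).hom w) = 0 := (hnat j w).symm.trans hx
      obtain ⟨v, hv⟩ := (H_exact₃ I i hf hex hg _).1 hx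
      obtain ⟨k, v, rfl⟩ := (ih hcE).1 v
      obtain ⟨l, a, b, -⟩ := IsFilteredOrEmpty.cocone_objs j k
      let w' : LocCoh.H I i ((CF F).obj l) := Hmap I i ((CF F).map a).hom w
      let v' : LocCoh.H I i ((CF F).obj l) :=
        Hmap I i ((toCF F).app l).hom (Hmap I i ((EF F).map b).hom v)
      have hw' : Hmap I i (cC.ι.app l).hom w' = Hmap I i (cC.ι.app j).hom w :=
        Hmap_Hmap I i _ ((CF F).map a).hom _ (LinearMap.ext fun z => app_map a z) w
      have hv' : Hmap I i (cC.ι.app l).hom v' = Hmap I i gI.hom (Hmap I i (cE.ι.app k).hom v) :=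
        (congrArg _ (Hmap_Hmap I i ((toCF F).app l).hom ((EF F).map b).hom _ rfl v)).trans
          ((Hmap_Hmap I i _ _ (gI.hom ∘ₗ (cE.ι.app k).hom)
            (LinearMap.ext fun z => (hgI l _).symm.trans (congrArg gI.hom (app_map b z))) v).trans
          (Hmap_Hmap I i gI.hom (cE.ι.app k).hom _ rfl v).symm)
      obtain ⟨m, p, hp⟩ := (ih hcC).2 l (w' - v')
        (by rw [map_sub, sub_eq_zero]; exact hw'.trans (hv.symm.trans hv'.symm))
      refine ⟨m, a ≫ p, ?_⟩
      rw [map_sub, sub_eq_zero] at hp
      refine (Hδ_naturality I i (hfj j) (hexj j) (hgj j) (hfj m) (hexj m) (hgj m)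
        (F.map (a ≫ p)).hom ((EF F).map (a ≫ p)).hom ((CF F).map (a ≫ p)).hom
        (LinearMap.ext fun z => bigMap_emb _ z) (LinearMap.ext fun z => rfl) w).trans
        ((H_exact₃ I i (hfj m) (hexj m) (hgj m) _).2
          ⟨Hmap I i ((EF F).map (b ≫ p)).hom v, ?_⟩)
      refine Eq.trans ?_ (Hmap_Hmap I i ((CF F).map p).hom ((CF F).map a).hom _
        (by rw [← ModuleCat.hom_comp, ← Functor.map_comp]) w)
      refine Eq.trans ?_ hp.symm
      refine (Hmap_Hmap I i ((toCF F).app m).hom ((EF F).map (b ≫ p)).hom _ rfl v).trans ?_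
      refine Eq.trans ?_ (congrArg _ (Hmap_Hmap I i ((toCF F).app l).hom ((EF F).map b).hom _ rfl v)).symm
      refine Eq.trans ?_ (Hmap_Hmap I i _ _ _ rfl v).symm
      congr 2
      rw [Functor.map_comp]
      rfl

theorem preservesColimitsOfShape (i : ℕ) : PreservesColimitsOfShape Λ (localCohomology I i) where
  preservesColimit {F} := by
    refine preservesColimit_of_preserves_colimit_cocone (colimit.isColimit F)
      (isColimitOfReflects (forget (ModuleCat.{u} R))
        (Types.FilteredColimit.isColimitOf _ _ ?_ ?_))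
    · intro y
      obtain ⟨j, x, hx⟩ := (good I i (colimit.isColimit F)).1 y
      exact ⟨j, x, hx.symm⟩
    · intro j k x y h
      obtain ⟨l, a, b, -⟩ := IsFilteredOrEmpty.cocone_objs j k
      have e : ∀ {j} (a : j ⟶ l) (x : LocCoh.H I i (F.obj j)),
          Hmap I i ((colimit.cocone F).ι.app l).hom (Hmap I i (F.map a).hom x) =
            Hmap I i ((colimit.cocone F).ι.app j).hom x := fun a x => by
        rw [← LinearMap.comp_apply, ← Hmap_comp]
        congr 2
        exact LinearMap.ext fun z => app_map a z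
      obtain ⟨m, p, hp⟩ := (good I i (colimit.isColimit F)).2 l
        (Hmap I i (F.map a).hom x - Hmap I i (F.map b).hom y)
        (by rw [map_sub, e, e, sub_eq_zero]; exact h)
      refine ⟨m, a ≫ p, b ≫ p, ?_⟩
      rw [map_sub, sub_eq_zero] at hp
      have e2 : ∀ {j} (a : j ⟶ l) (x : LocCoh.H I i (F.obj j)),
          Hmap I i (F.map (a ≫ p)).hom x = Hmap I i (F.map p).hom (Hmap I i (F.map a).hom x) :=
        fun a x => by rw [← LinearMap.comp_apply, ← Hmap_comp, F.map_comp, ModuleCat.hom_comp]
      exact ((e2 a x).trans hp).trans (e2 b y).symm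

end Groth.Agent.LC16.Colim
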