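import Groth.Agent.LC16.SuppT
import Groth.Agent.LC15.HTFinite

/-!
If `H^a_T(M)` is `J`-power torsion for all `a ≤ i`, then `H^a_J(M) = H^a_T(M)` for `a ≤ i`.
-/

set_option autoImplicit false

noncomputable section

universe u

open CategoryTheory

namespace Groth.Agent.LC16.SuppStable

open Groth.Agent.LC15

variable {R : Type u} [CommRing R] (T : Set (PrimeSpectrum R))

/-- the `T`-torsion submodule -/
def gT (M : Type u) [AddCommGroup M] [Module R M] : Submodule R M := LinearMap.range (HT.t0 T M)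

theorem mem_gT {M : Type u} [AddCommGroup M] [Module R M] {m : M} :
    m ∈ gT T M ↔ ∃ J : Ideal R, PrimeSpectrum.zeroLocus (J : Set R) ⊆ T ∧ ∀ a ∈ J, a • m = 0 := by
  refine ⟨?_, fun ⟨J, hJ, h⟩ => HT.mem_range_t0 T M (HT.mkI J hJ) h⟩
  rintro ⟨y, rfl⟩
  obtain ⟨J, hJ⟩ := HT.exists_kills (T := T) (M := M) 0 y
  exact ⟨HT.idl J, HT.zeroLocus_idl J, fun a ha => by rw [← map_smul, hJ a ha, map_zero]⟩

theorem map_mem_gT {M N : Type u} [AddCommGroup M] [Module R M] [AddCommGroup N] [Module R N]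
    (f : M →ₗ[R] N) {m : M} (hm : m ∈ gT T M) : f m ∈ gT T N := by
  obtain ⟨J, hJ, h⟩ := (mem_gT T).1 hm
  exact (mem_gT T).2 ⟨J, hJ, fun a ha => by rw [← map_smul, h a ha, map_zero]⟩

/-- all elements are torsion -/
def IsTors (M : Type u) [AddCommGroup M] [Module R M] : Prop := ∀ m : M, m ∈ gT T M

theorem isTors_gT (M : Type u) [AddCommGroup M] [Module R M] : IsTors T (gT T M) := fun m => by
  obtain ⟨J, hJ, h⟩ := (mem_gT T).1 m.2
  exact (mem_gT T).2 ⟨J, hJ, fun a ha => Subtype.ext (h a ha)⟩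

theorem subsingleton_HT_injective (i : ℕ) (E : Type u) [AddCommGroup E] [Module R E]
    [Module.Injective R E] : Subsingleton (Dual2.HT T (i + 1) E) := by
  refine subsingleton_of_forall_eq 0 fun y => ?_
  obtain ⟨I, hI, z, rfl⟩ := SuppT.toT_surj T (i + 1) E y
  haveI := subsingleton_H_succ_of_injective I i (M := E)
  rw [Subsingleton.elim z 0, map_zero]

variable [IsNoetherianRing R]

/-- the torsion of an injective module is injective -/
theorem injective_gT (E : Type u) [AddCommGroup E] [Module R E] [Module.Injective R E] :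
    Module.Injective R (gT T E) := by
  refine Module.Baer.injective fun 𝔞 g => ?_
  obtain ⟨s, hs⟩ := (IsNoetherian.noetherian (⊤ : Submodule R 𝔞) : (⊤ : Submodule R 𝔞).FG)
  choose J hJ hJk using fun x : 𝔞 => (mem_gT T).1 (g x).2
  let K : Ideal R := ∏ x ∈ s, J x
  have hK : PrimeSpectrum.zeroLocus (K : Set R) ⊆ T := fun q hq => by
    rw [PrimeSpectrum.mem_zeroLocus, SetLike.coe_subset_coe] at hq
    obtain ⟨x, -, hx⟩ := (q.isPrime.prod_le).1 hq
    exact hJ x hx
  have hKg : ∀ x, g x ∈ (gamma K E).comap (gT T E).subtype := fun x => by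
    have hx : x ∈ Submodule.span R (s : Set 𝔞) := hs ▸ Submodule.mem_top
    induction hx using Submodule.span_induction with
    | mem y hy => exact ⟨1, fun a ha => hJk y a (Ideal.le_of_dvd (Finset.dvd_prod_of_mem J hy)
        (by rwa [pow_one] at ha))⟩
    | zero => rw [map_zero]; exact Submodule.zero_mem _
    | add y z _ _ hy hz => rw [map_add]; exact Submodule.add_mem _ hy hz
    | smul r y _ hy => rw [map_smul]; exact Submodule.smul_mem _ r hy
  let g' : 𝔞 →ₗ[R] gamma K E := ((gT T E).subtype.comp g).codRestrict _ hKg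
  obtain ⟨h, hh⟩ := (injective_gamma K E).out 𝔞.subtype 𝔞.injective_subtype g'
  have hle : ∀ e : gamma K E, (e : E) ∈ gT T E := fun e => by
    obtain ⟨n, hn⟩ := e.2
    refine (mem_gT T).2 ⟨K ^ n, ?_, hn⟩
    rcases n with - | n
    · simp
    · exact (PrimeSpectrum.zeroLocus_pow K (Nat.succ_ne_zero n)).le.trans hK
  exact ⟨((gamma K E).subtype.comp h).codRestrict _ fun r => hle _,
    fun x hx => Subtype.ext (congrArg (fun e : gamma K E => (e : E)) (hh ⟨x, hx⟩) :)⟩

/-- higher cohomology of torsion modules vanishes -/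
theorem subsingleton_HT_tors : ∀ (i : ℕ) (M : Type u) [AddCommGroup M] [Module R M],
    IsTors T M → Subsingleton (Dual2.HT T (i + 1) M) := by
  intro i
  induction i with
  | zero =>
    intro M _ _ hM
    obtain ⟨E, _, _, f, hf, hE⟩ := exists_injective_embedding (R := R) M
    haveI := hE
    haveI := injective_gT T E
    let f' : M →ₗ[R] gT T E := f.codRestrict _ fun m => map_mem_gT T f (hM m)
    have hf' : Function.Injective f' := fun a b h => hf (congrArg Subtype.val h)
    have hex := LinearMap.exact_map_mkQ_range f'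
    have hg := Submodule.mkQ_surjective (LinearMap.range f')
    refine subsingleton_of_forall_eq 0 fun y => ?_
    obtain ⟨w, rfl⟩ := (HT.T_exact₁ 0 hf' hex hg y).1
      (haveI := subsingleton_HT_injective T 0 (gT T E); Subsingleton.elim _ _)
    obtain ⟨x, hx⟩ := hg (HT.t0 T _ w)
    obtain ⟨v, hv⟩ := isTors_gT T E x
    have hvw : HT.Tmap T 0 (LinearMap.range f').mkQ v = w := HT.t0_injective T _ (by
      rw [← hx, ← hv]
      obtain ⟨J, u, rfl⟩ := HT.toT_surj 0 _ v
      obtain ⟨φ, rfl⟩ := (Abelian.Ext.mk₀_bijective _ _).2 u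
      rw [HT.Tmap_toT, Abelian.Ext.mk₀_comp_mk₀, HT.t0_toT, HT.t0_toT]
      rfl)
    rw [← hvw]
    exact (HT.T_exact₃ 0 hf' hex hg).apply_apply_eq_zero v
  | succ i ih =>
    intro M _ _ hM
    obtain ⟨E, _, _, f, hf, hE⟩ := exists_injective_embedding (R := R) M
    haveI := hE
    haveI := injective_gT T E
    let f' : M →ₗ[R] gT T E := f.codRestrict _ fun m => map_mem_gT T f (hM m)
    have hf' : Function.Injective f' := fun a b h => hf (congrArg Subtype.val h)
    have hex := LinearMap.exact_map_mkQ_range f'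
    have hg := Submodule.mkQ_surjective (LinearMap.range f')
    haveI := ih (gT T E ⧸ LinearMap.range f') fun x => by
      obtain ⟨y, rfl⟩ := hg x
      exact map_mem_gT T _ (isTors_gT T E y)
    refine subsingleton_of_forall_eq 0 fun y => ?_
    obtain ⟨w, rfl⟩ := (HT.T_exact₁ (i + 1) hf' hex hg y).1
      (haveI := subsingleton_HT_injective T (i + 1) (gT T E); Subsingleton.elim _ _)
    rw [Subsingleton.elim w 0, map_zero]

theorem gT_quot (M : Type u) [AddCommGroup M] [Module R M] : gT T (M ⧸ gT T M) = ⊥ := by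
  refine (Submodule.eq_bot_iff _).2 fun y hy => ?_
  obtain ⟨m, rfl⟩ := Submodule.mkQ_surjective _ y
  obtain ⟨J, hJ, h⟩ := (mem_gT T).1 hy
  obtain ⟨s, hs⟩ := (IsNoetherian.noetherian J : J.FG)
  have hex : ∀ a : R, ∃ K : Ideal R, PrimeSpectrum.zeroLocus (K : Set R) ⊆ T ∧
      (a ∈ J → ∀ b ∈ K, b • a • m = 0) := fun a => by
    by_cases ha : a ∈ J
    · obtain ⟨K, hK, hk⟩ := (mem_gT T).1 ((Submodule.Quotient.mk_eq_zero _).1 (h a ha))
      exact ⟨K, hK, fun _ => hk⟩
    · exact ⟨⊤, by simp, fun h' => absurd h' ha⟩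
  choose K hK hk using hex
  refine (Submodule.Quotient.mk_eq_zero _).2 ((mem_gT T).2 ⟨(∏ a ∈ s, K a) * J, fun q hq => ?_, ?_⟩)
  · rw [PrimeSpectrum.mem_zeroLocus, SetLike.coe_subset_coe] at hq
    rcases q.isPrime.mul_le.1 hq with hq | hq
    · obtain ⟨a, -, ha⟩ := (q.isPrime.prod_le).1 hq
      exact hK a ha
    · exact hJ hq
  · intro c hc
    induction hc using Submodule.mul_induction_on' with
    | add b _ b' _ hb hb' => rw [add_smul, hb, hb', add_zero]
    | mem_mul_mem b hb a ha =>
      rw [mul_smul]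
      rw [← hs] at ha
      induction ha using Submodule.span_induction with
      | mem x hx =>
        exact hk x (hs ▸ Submodule.subset_span hx) b (Ideal.le_of_dvd (Finset.dvd_prod_of_mem K hx) hb)
      | zero => rw [zero_smul, smul_zero]
      | add x y _ _ h₁ h₂ => rw [add_smul, smul_add, h₁, h₂, add_zero]
      | smul r x _ h₁ => rw [smul_eq_mul, mul_smul, smul_comm, h₁, smul_zero]

omit [IsNoetherianRing R] in
theorem HTmap_eq {M N : Type u} [AddCommGroup M] [Module R M] [AddCommGroup N] [Module R N] (i : ℕ)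
    (f : M →ₗ[R] N) : SuppT.HTmap T i f = HT.Tmap T i f := rfl

variable {T} {J : Ideal R} (hJ : PrimeSpectrum.zeroLocus (J : Set R) ⊆ T)

omit [IsNoetherianRing R] in
theorem toT_Hδ {M N L : Type u} [AddCommGroup M] [Module R M] [AddCommGroup N] [Module R N]
    [AddCommGroup L] [Module R L] {f : M →ₗ[R] N} {g : N →ₗ[R] L} (i : ℕ) (hf : Function.Injective f)
    (hfg : Function.Exact f g) (hg : Function.Surjective g) (z : LocCoh.H J i L) :
    SuppT.toT T (i + 1) M J hJ (Hδ J i hf hfg hg z) =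
      HT.Tδ T i hf hfg hg (SuppT.toT T i L J hJ z) := by
  obtain ⟨n, x, rfl⟩ := toH_surj J i L z
  rw [Hδ_toH, SuppT.toT_toH, SuppT.toT_toH]
  exact (HT.Tδ_toT i hf hfg hg (HT.mkI (J ^ n) (SuppT.zeroLocus_pow_subset T hJ n)) x).symm

omit [IsNoetherianRing R] in
theorem t0_toT' {M : Type u} [AddCommGroup M] [Module R M] (z : LocCoh.H J 0 M) :
    HT.t0 T M (SuppT.toT T 0 M J hJ z) = h0 J M z := by
  obtain ⟨n, x, rfl⟩ := toH_surj J 0 M z
  obtain ⟨φ, rfl⟩ := (Abelian.Ext.mk₀_bijective _ _).2 x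
  rw [SuppT.toT_toH, h0_toH]
  exact HT.t0_toT T M (HT.mkI (J ^ n) (SuppT.zeroLocus_pow_subset T hJ n)) φ

variable (J) in
/-- `J`-torsion in degree `a` -/
def Cond (a : ℕ) (M : Type u) [AddCommGroup M] [Module R M] : Prop :=
  ∀ y : Dual2.HT T a M, ∃ k : ℕ, ∀ c ∈ J ^ k, c • y = 0

/-- stabilisation -/
theorem toT_bijective : ∀ (i : ℕ) (M : Type u) [AddCommGroup M] [Module R M],
    (∀ a ≤ i, Cond (T := T) J a M) → Function.Bijective (SuppT.toT T i M J hJ) := by
  intro i
  induction i with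
  | zero =>
    intro M _ _ hc
    refine ⟨fun a b hab => h0_injective J M ?_, fun y => ?_⟩
    · rw [← t0_toT' hJ, ← t0_toT' hJ, hab]
    · obtain ⟨k, hk⟩ := hc 0 le_rfl y
      obtain ⟨z, hz⟩ := (range_h0 J M).ge
        (show HT.t0 T M y ∈ gamma J M from ⟨k, fun c hc' => by rw [← map_smul, hk c hc', map_zero]⟩)
      exact ⟨z, HT.t0_injective T M (by rw [t0_toT', hz])⟩
  | succ i ih =>
    intro M _ _ hc
    let Γ := gT T M
    have hΓtor : LocCoh.IsPowerTorsion J Γ := fun m => by
      obtain ⟨y, hy⟩ := m.2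
      obtain ⟨k, hk⟩ := hc 0 (Nat.zero_le _) y
      exact ⟨k, fun c hc' => Subtype.ext (by
        show c • (m : M) = 0
        rw [← hy, ← map_smul, hk c hc', map_zero])⟩
    have hΓex := LinearMap.exact_subtype_mkQ Γ
    have hΓs := Submodule.mkQ_surjective Γ
    have hΓi := Γ.injective_subtype
    have hTbij : ∀ a, Function.Bijective (HT.Tmap T (a + 1) Γ.mkQ) := fun a => by
      refine ⟨(injective_iff_map_eq_zero _).2 fun y hy => ?_, fun y => ?_⟩
      · obtain ⟨z, rfl⟩ := (HT.T_exact₂ (a + 1) hΓi hΓex hΓs y).1 hy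
        haveI := subsingleton_HT_tors T a Γ (isTors_gT T M)
        rw [Subsingleton.elim z 0, map_zero]
      · exact (HT.T_exact₃ (a + 1) hΓi hΓex hΓs y).1
          (haveI := subsingleton_HT_tors T (a + 1) Γ (isTors_gT T M); Subsingleton.elim _ _)
    have hHbij : Function.Bijective (Hmap J (i + 1) Γ.mkQ) := by
      refine ⟨(injective_iff_map_eq_zero _).2 fun y hy => ?_, fun y => ?_⟩
      · obtain ⟨z, rfl⟩ := (H_exact₂ J (i + 1) hΓi hΓex hΓs y).1 hy
        haveI := subsingleton_H_succ_of_powerTorsion J i hΓtor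
        rw [Subsingleton.elim z 0, map_zero]
      · exact (H_exact₃ J (i + 1) hΓi hΓex hΓs y).1
          (haveI := subsingleton_H_succ_of_powerTorsion J (i + 1) hΓtor; Subsingleton.elim _ _)
    suffices h : Function.Bijective (SuppT.toT T (i + 1) (M ⧸ Γ) J hJ) by
      have heq : HT.Tmap T (i + 1) Γ.mkQ ∘ SuppT.toT T (i + 1) M J hJ =
          SuppT.toT T (i + 1) (M ⧸ Γ) J hJ ∘ Hmap J (i + 1) Γ.mkQ :=
        funext fun z => SuppT.HTmap_toT T (i + 1) Γ.mkQ hJ z
      exact ((hTbij i).of_comp_iff' _).1 (heq ▸ h.comp hHbij)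
    -- the torsion free case
    obtain ⟨E, _, _, f, hf, hE⟩ := exists_injective_embedding (R := R) (M ⧸ Γ)
    haveI := hE
    haveI := injective_gT T E
    obtain ⟨r, hr⟩ := Module.Injective.out (gT T E).subtype (gT T E).injective_subtype LinearMap.id
    let E' := LinearMap.ker r
    haveI : Module.Injective R E' := by
      refine ⟨fun X Y _ _ _ _ φ hφ ψ => ?_⟩
      obtain ⟨h, hh⟩ := Module.Injective.out φ hφ (E'.subtype.comp ψ)
      have hmem : ∀ e, ((LinearMap.id - (gT T E).subtype.comp r).comp h) e ∈ LinearMap.ker r := by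
        intro e
        show r (h e - (r (h e) : E)) = 0
        rw [map_sub]
        exact sub_eq_zero.2 (hr (r (h e))).symm
      refine ⟨((LinearMap.id - (gT T E).subtype.comp r).comp h).codRestrict (LinearMap.ker r) hmem, ?_⟩
      intro e
      refine Subtype.ext ?_
      show h (φ e) - (r (h (φ e)) : E) = (ψ e : E)
      rw [hh]
      have hz : r (E'.subtype (ψ e)) = 0 := LinearMap.mem_ker.1 (ψ e).2
      rw [LinearMap.comp_apply, hz]
      simp
    let f' : (M ⧸ Γ) →ₗ[R] E' := ((LinearMap.id - (gT T E).subtype.comp r).comp f).codRestrict _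
      fun y => by
        show r (f y - (r (f y) : E)) = 0
        rw [map_sub]
        exact sub_eq_zero.2 (hr (r (f y))).symm
    have hMΓ : gT T (M ⧸ Γ) = ⊥ := gT_quot T M
    have hf' : Function.Injective f' := by
      refine (injective_iff_map_eq_zero _).2 fun y hy => ?_
      have h1 : f y = (r (f y) : E) := sub_eq_zero.1 (congrArg Subtype.val hy)
      obtain ⟨K, hK, hk⟩ := (mem_gT T).1 (show f y ∈ gT T E by rw [h1]; exact (r (f y)).2)
      have h2 : y ∈ gT T (M ⧸ Γ) := (mem_gT T).2 ⟨K, hK, fun a ha => hf (by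
        rw [map_smul, hk a ha, map_zero])⟩
      rwa [hMΓ, Submodule.mem_bot] at h2
    have hgE : ∀ e : E', e ∈ gT T E' → e = 0 := fun e he => by
      refine Subtype.ext ?_
      have h1 := hr ⟨e.1, map_mem_gT T E'.subtype he⟩
      rw [show r ((gT T E).subtype ⟨e.1, map_mem_gT T E'.subtype he⟩) = 0 from LinearMap.mem_ker.1 e.2] at h1
      exact (congrArg Subtype.val h1).symm
    have h0E : Subsingleton (Dual2.HT T 0 E') := subsingleton_of_forall_eq 0 fun y =>
      HT.t0_injective T E' ((hgE _ ⟨y, rfl⟩).trans (map_zero _).symm)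
    have h0H : Subsingleton (LocCoh.H J 0 E') := subsingleton_of_forall_eq 0 fun z =>
      h0_injective J E' ((hgE _ ⟨_, t0_toT' hJ z⟩).trans (map_zero _).symm)
    have hex := LinearMap.exact_map_mkQ_range f'
    have hg := Submodule.mkQ_surjective (LinearMap.range f')
    have hTE : ∀ a, Subsingleton (Dual2.HT T a E') := fun a => by
      rcases a with - | a
      exacts [h0E, subsingleton_HT_injective T a E']
    have hδ : ∀ a, Function.Bijective (HT.Tδ T a hf' hex hg) := fun a => by
      refine ⟨(injective_iff_map_eq_zero _).2 fun y hy => ?_, fun y => ?_⟩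
      · obtain ⟨z, rfl⟩ := (HT.T_exact₃ a hf' hex hg y).1 hy
        haveI := hTE a
        rw [Subsingleton.elim z 0, map_zero]
      · exact (HT.T_exact₁ a hf' hex hg y).1 (haveI := hTE (a + 1); Subsingleton.elim _ _)
    have hδH : Function.Bijective (Hδ J i hf' hex hg) := by
      refine ⟨(injective_iff_map_eq_zero _).2 fun y hy => ?_, fun y => ?_⟩
      · obtain ⟨z, rfl⟩ := (H_exact₃ J i hf' hex hg y).1 hy
        haveI : Subsingleton (LocCoh.H J i E') := by
          rcases i with - | j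
          exacts [h0H, subsingleton_H_succ_of_injective J j]
        rw [Subsingleton.elim z 0, map_zero]
      · exact Hδ_surjective J i hf' hex hg (subsingleton_H_succ_of_injective J i) y
    have hL := ih (E' ⧸ LinearMap.range f') fun a ha y => by
      obtain ⟨x, hx⟩ := (hTbij a).2 (HT.Tδ T a hf' hex hg y)
      obtain ⟨k, hk⟩ := hc (a + 1) (by omega) x
      exact ⟨k, fun c hc' => (hδ a).1 (by rw [map_smul, ← hx, ← map_smul, hk c hc', map_zero, map_zero])⟩
    have heq : SuppT.toT T (i + 1) (M ⧸ Γ) J hJ ∘ Hδ J i hf' hex hg =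
        HT.Tδ T i hf' hex hg ∘ SuppT.toT T i _ J hJ :=
      funext fun z => toT_Hδ hJ i hf' hex hg z
    exact (hδH.of_comp_iff _).1 (heq ▸ (hδ i).comp hL)

end Groth.Agent.LC16.SuppStable
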