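import Groth.Agent.LC16.DT
import Mathlib.RingTheory.Filtration
import Mathlib.RingTheory.Noetherian.Basic

/-!
The universal property of the ideal transform with respect to maps with torsion kernel and cokernel.
-/

namespace Groth.Agent.LC16.DT

universe u

set_option linter.unusedSectionVars false

open LocCoh Pointwise

variable {R : Type u} [CommRing R] [IsNoetherianRing R] {I : Ideal R}
variable {M M' K : Type u} [AddCommGroup M] [Module R M] [AddCommGroup M'] [Module R M']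
  [AddCommGroup K] [Module R K]

lemma mem_torsionSub {m : M} : m ∈ DRing.torsionSub I M ↔ ∃ n, ∀ a ∈ I ^ n, a • m = 0 := Iff.rfl

lemma isPowerTorsion_iff : IsPowerTorsion I M ↔ DRing.torsionSub I M = ⊤ :=
  ⟨fun h => eq_top_iff.mpr fun m _ => h m, fun h m => (h ▸ Submodule.mem_top : m ∈ DRing.torsionSub I M)⟩

lemma exists_kill {P : Submodule R M} (hfg : P.FG) (h : P ≤ DRing.torsionSub I M) :
    ∃ n, ∀ a ∈ I ^ n, ∀ x ∈ P, a • x = 0 := by
  classical
  obtain ⟨s, rfl⟩ := hfg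
  have h' : ∀ x : s, ∃ n, ∀ a ∈ I ^ n, a • (x : M) = 0 := fun x => h (Submodule.subset_span x.2)
  choose N hN using h'
  refine ⟨∑ x : s, N x, fun a ha => ?_⟩
  intro x hx
  induction hx using Submodule.span_induction with
  | mem x hx =>
    exact hN ⟨x, hx⟩ a (Ideal.pow_le_pow_right
      (Finset.single_le_sum (fun _ _ => Nat.zero_le _) (Finset.mem_univ ⟨x, hx⟩)) ha)
  | zero => exact smul_zero a
  | add x y _ _ hx hy => rw [smul_add, hx, hy, add_zero]
  | smul c x _ hx => rw [smul_comm, hx, smul_zero]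

lemma range_fg (J : Ideal R) (f : ↥J →ₗ[R] M) : (LinearMap.range f).FG := by
  rw [LinearMap.range_eq_map]
  exact Submodule.FG.map f (IsNoetherian.noetherian _)

lemma inc_eq_zero_of_le_torsion {t : ℕ} (f : ↥(I ^ t) →ₗ[R] M)
    (h : LinearMap.range f ≤ DRing.torsionSub I M) : inc I M t f = 0 := by
  obtain ⟨n, hn⟩ := exists_kill (range_fg _ f) h
  rw [inc_eq_zero_iff']
  refine ⟨n + t, by omega, fun r hr hrk => ?_⟩
  rw [pow_add] at hrk
  have key : ∀ r ∈ I ^ n * I ^ t, ∀ hr : r ∈ I ^ t, f ⟨r, hr⟩ = 0 := by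
    intro r hr
    induction hr using Submodule.mul_induction_on' with
    | mem_mul_mem a ha b hb =>
      intro hab
      rw [show (⟨a * b, hab⟩ : ↥(I ^ t)) = a • ⟨b, hb⟩ from Subtype.ext rfl, map_smul]
      exact hn a ha _ (LinearMap.mem_range_self f _)
    | add x hx y hy ihx ihy =>
      intro hxy
      rw [show (⟨x + y, hxy⟩ : ↥(I ^ t)) = ⟨x, Ideal.mul_le_right hx⟩ + ⟨y, Ideal.mul_le_right hy⟩
        from Subtype.ext rfl, map_add, ihx, ihy, add_zero]
  exact key r hrk hr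

theorem subsingleton_of_isPowerTorsion (h : IsPowerTorsion I M) : Subsingleton (DT I M) := by
  refine subsingleton_of_forall_eq 0 fun x => ?_
  obtain ⟨t, f, rfl⟩ := inc_surjective x
  exact inc_eq_zero_of_le_torsion f ((isPowerTorsion_iff.mp h) ▸ le_top)

theorem torsionSub_DT : DRing.torsionSub I (DT I M) = ⊥ := by
  refine eq_bot_iff.mpr fun x hx => ?_
  obtain ⟨t, f, rfl⟩ := inc_surjective x
  obtain ⟨n, hn⟩ := hx
  rw [Submodule.mem_bot]
  obtain ⟨s, hs⟩ := IsNoetherian.noetherian (I ^ n)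
  classical
  have h : ∀ a : s, ∃ k, t ≤ k ∧ ∀ (r : R) (hr : r ∈ I ^ t), r ∈ I ^ k → (a : R) • f ⟨r, hr⟩ = 0 := by
    intro a
    have h0 := hn a (hs ▸ Submodule.subset_span a.2)
    rw [← map_smul] at h0
    exact (inc_eq_zero_iff' _).mp h0
  choose k hk1 hk2 using h
  set N := t + ∑ a : s, k a with hN
  rw [inc_eq_zero_iff']
  refine ⟨n + N, by omega, fun r hr hrk => ?_⟩
  rw [pow_add] at hrk
  have key : ∀ r ∈ I ^ n * I ^ N, ∀ hr : r ∈ I ^ t, f ⟨r, hr⟩ = 0 := by
    intro r hr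
    induction hr using Submodule.mul_induction_on' with
    | mem_mul_mem a ha b hb =>
      intro hab
      have hb' : b ∈ I ^ t := Ideal.pow_le_pow_right (by omega) hb
      rw [show (⟨a * b, hab⟩ : ↥(I ^ t)) = a • ⟨b, hb'⟩ from Subtype.ext rfl, map_smul]
      rw [← hs] at ha
      induction ha using Submodule.span_induction with
      | mem a ha =>
        refine hk2 ⟨a, ha⟩ b hb' (Ideal.pow_le_pow_right ?_ hb)
        exact (Finset.single_le_sum (fun _ _ => Nat.zero_le _) (Finset.mem_univ (⟨a, ha⟩ : s))).trans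
          (Nat.le_add_left _ _)
      | zero => exact zero_smul _ _
      | add x y _ _ hx hy =>
        rw [add_smul, hx (Ideal.mul_mem_left _ _ hb'), hy (Ideal.mul_mem_left _ _ hb'), add_zero]
      | smul c x _ hx => rw [smul_assoc, hx (Ideal.mul_mem_left _ _ hb'), smul_zero]
    | add x hx y hy ihx ihy =>
      intro hxy
      have h1 : I ^ n * I ^ N ≤ I ^ t := Ideal.mul_le_right.trans (Ideal.pow_le_pow_right (by omega))
      rw [show (⟨x + y, hxy⟩ : ↥(I ^ t)) = ⟨x, h1 hx⟩ + ⟨y, h1 hy⟩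
        from Subtype.ext rfl, map_add, ihx, ihy, add_zero]
  exact key r hrk hr

lemma eq_of_smul_eq {x y : DT I M} (n : ℕ) (h : ∀ a ∈ I ^ n, a • x = a • y) : x = y := by
  have h1 : x - y ∈ DRing.torsionSub I (DT I M) :=
    ⟨n, fun a ha => by rw [smul_sub, h a ha, sub_self]⟩
  rw [torsionSub_DT, Submodule.mem_bot, sub_eq_zero] at h1
  exact h1

theorem ker_toDT : LinearMap.ker (toDT I M) = DRing.torsionSub I M := by
  ext m
  rw [LinearMap.mem_ker, toDT_apply, inc_eq_zero_iff']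
  constructor
  · rintro ⟨k, -, hk⟩
    exact ⟨k, fun a ha => hk a (by rw [pow_zero, Ideal.one_eq_top]; trivial) ha⟩
  · rintro ⟨n, hn⟩
    exact ⟨n, Nat.zero_le n, fun r hr hrk => hn r hrk⟩

theorem isPowerTorsion_coker_toDT : IsPowerTorsion I (DT I M ⧸ LinearMap.range (toDT I M)) := by
  intro x
  obtain ⟨x, rfl⟩ := Submodule.Quotient.mk_surjective _ x
  obtain ⟨t, f, rfl⟩ := inc_surjective x
  refine ⟨t, fun a ha => ?_⟩
  rw [← Submodule.Quotient.mk_smul, Submodule.Quotient.mk_eq_zero, smul_inc_eq_toDT f ⟨a, ha⟩]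
  exact LinearMap.mem_range_self _ _

lemma exists_pow_smul_range_le {t : ℕ} (e : M →ₗ[R] M')
    (hcoker : IsPowerTorsion I (M' ⧸ LinearMap.range e)) (h : ↥(I ^ t) →ₗ[R] M') :
    ∃ n, ∀ r ∈ I ^ (n + t), ∀ hr : r ∈ I ^ t, h ⟨r, hr⟩ ∈ LinearMap.range e := by
  have h0 : inc I (M' ⧸ LinearMap.range e) t ((LinearMap.range e).mkQ ∘ₗ h) = 0 :=
    inc_eq_zero_of_le_torsion _ ((isPowerTorsion_iff.mp hcoker) ▸ le_top)
  obtain ⟨k, hk, hk'⟩ := (inc_eq_zero_iff' _).mp h0
  refine ⟨k - t, fun r hr hr' => ?_⟩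
  rw [Nat.sub_add_cancel hk] at hr
  exact (Submodule.Quotient.mk_eq_zero _).mp (hk' r hr' hr)

lemma exists_lift {t : ℕ} (e : M →ₗ[R] M') (hker : LinearMap.ker e ≤ DRing.torsionSub I M)
    (h : ↥(I ^ t) →ₗ[R] M') (him : LinearMap.range h ≤ LinearMap.range e) :
    ∃ k, ∃ hk : t ≤ k, ∃ f : ↥(I ^ k) →ₗ[R] M, e ∘ₗ f = res I hk h := by
  classical
  obtain ⟨s, hs⟩ := IsNoetherian.noetherian (I ^ t)
  let g : s → ↥(I ^ t) := fun x => ⟨x.1, hs ▸ Submodule.subset_span x.2⟩
  let π : (s → R) →ₗ[R] ↥(I ^ t) := Fintype.linearCombination R g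
  have hπ : Function.Surjective π := by
    rw [← LinearMap.range_eq_top, Fintype.range_linearCombination, eq_top_iff,
      ← Submodule.map_le_map_iff_of_injective (Submodule.injective_subtype _), Submodule.map_span,
      Submodule.map_top, Submodule.range_subtype, ← Set.range_comp]
    refine hs.ge.trans (Submodule.span_mono fun x hx => ⟨⟨x, hx⟩, rfl⟩)
  have hv : ∀ x : s, ∃ m, e m = h (g x) := fun x => him (LinearMap.mem_range_self h _)
  choose v hv using hv
  let φ : (s → R) →ₗ[R] M := Fintype.linearCombination R v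
  have hφ : e ∘ₗ φ = h ∘ₗ π := by
    refine LinearMap.ext fun x => ?_
    simp [φ, π, Fintype.linearCombination_apply, hv]
  have hker' : (LinearMap.ker π).map φ ≤ DRing.torsionSub I M := by
    rintro _ ⟨x, hx, rfl⟩
    refine hker ?_
    rw [LinearMap.mem_ker, ← LinearMap.comp_apply, hφ, LinearMap.comp_apply,
      LinearMap.mem_ker.mp hx, map_zero]
  obtain ⟨n, hn⟩ := exists_kill (Submodule.FG.map φ (IsNoetherian.noetherian _)) hker'
  obtain ⟨c₀, hc₀⟩ := I.exists_pow_inf_eq_pow_smul (LinearMap.ker π)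
  set c := n + c₀ with hc
  let P : Submodule R (s → R) := I ^ c • ⊤
  have hP : P ⊓ LinearMap.ker π ≤ LinearMap.ker φ := by
    rw [hc₀ c (by omega), Submodule.smul_le]
    intro a ha x hx
    rw [LinearMap.mem_ker, map_smul]
    exact hn a (Ideal.pow_le_pow_right (by omega) ha) _ ⟨x, hx.2, rfl⟩
  have hmap : (P.map π).map (I ^ t).subtype = I ^ (c + t) := by
    rw [Submodule.map_smul'', Submodule.map_top, LinearMap.range_eq_top.mpr hπ,
      Submodule.map_smul'', Submodule.map_top, Submodule.range_subtype, smul_eq_mul]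
    simp only [hc, pow_add]
  refine ⟨c + t, Nat.le_add_left _ _, ?_⟩
  let ι : ↥(I ^ (c + t)) →ₗ[R] ↥(I ^ t) :=
    Submodule.inclusion (Ideal.pow_le_pow_right (Nat.le_add_left t c))
  have hι : ∀ y, ι y ∈ P.map π := by
    intro y
    have hy : (y : R) ∈ (P.map π).map (I ^ t).subtype := hmap.symm ▸ y.2
    obtain ⟨z, hz, hzy⟩ := hy
    exact (Subtype.ext hzy : z = ι y) ▸ hz
  let πP : P →ₗ[R] ↥(P.map π) := π.submoduleMap P
  have hπP : Function.Surjective πP := π.submoduleMap_surjective P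
  have hkerle : LinearMap.ker πP ≤ LinearMap.ker (φ ∘ₗ P.subtype) := by
    intro x hx
    exact hP ⟨x.2, LinearMap.mem_ker.mpr (congrArg Subtype.val (LinearMap.mem_ker.mp hx))⟩
  let fP : ↥(P.map π) →ₗ[R] M :=
    Submodule.liftQ _ (φ ∘ₗ P.subtype) hkerle ∘ₗ (πP.quotKerEquivOfSurjective hπP).symm.toLinearMap
  refine ⟨fP ∘ₗ ι.codRestrict _ hι, LinearMap.ext fun y => ?_⟩
  obtain ⟨x, hx⟩ := hπP ⟨ι y, hι y⟩
  have e1 : (πP.quotKerEquivOfSurjective hπP).symm ⟨ι y, hι y⟩ = Submodule.Quotient.mk x := by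
    rw [LinearEquiv.symm_apply_eq, ← hx]
    exact (LinearMap.quotKerEquivOfSurjective_apply_mk πP hπP x).symm
  have hx' : π x.1 = ι y := congrArg Subtype.val hx
  change e (Submodule.liftQ _ (φ ∘ₗ P.subtype) hkerle
    ((πP.quotKerEquivOfSurjective hπP).symm ⟨ι y, hι y⟩)) = h (ι y)
  rw [e1, Submodule.liftQ_apply, LinearMap.comp_apply, Submodule.subtype_apply,
    ← LinearMap.comp_apply, hφ, LinearMap.comp_apply, hx']

theorem map_bijective (e : M →ₗ[R] M') (hker : LinearMap.ker e ≤ DRing.torsionSub I M)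
    (hcoker : IsPowerTorsion I (M' ⧸ LinearMap.range e)) : Function.Bijective (map (I := I) e) := by
  refine ⟨?_, ?_⟩
  · rw [← LinearMap.ker_eq_bot, eq_bot_iff]
    intro x hx
    obtain ⟨t, f, rfl⟩ := inc_surjective x
    rw [LinearMap.mem_ker, map_inc, inc_eq_zero_iff] at hx
    obtain ⟨k, hk, hfk⟩ := hx
    rw [Submodule.mem_bot, ← inc_res hk]
    refine inc_eq_zero_of_le_torsion _ ?_
    rintro _ ⟨y, rfl⟩
    exact hker (congr($hfk y))
  · intro x
    obtain ⟨t, h, rfl⟩ := inc_surjective x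
    obtain ⟨n, hn⟩ := exists_pow_smul_range_le e hcoker h
    obtain ⟨k, hk, f, hf⟩ := exists_lift e hker (res I (Nat.le_add_left t n) h) (by
      rintro _ ⟨y, rfl⟩
      exact hn y.1 y.2 _)
    exact ⟨inc I M k f, by rw [map_inc, hf, inc_res, inc_res]⟩

/-- the inverse of the map induced by a map with torsion kernel and cokernel -/
noncomputable def mapEquiv (e : M →ₗ[R] M') (hker : LinearMap.ker e ≤ DRing.torsionSub I M)
    (hcoker : IsPowerTorsion I (M' ⧸ LinearMap.range e)) : DT I M ≃ₗ[R] DT I M' :=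
  LinearEquiv.ofBijective (map e) (map_bijective e hker hcoker)

theorem ext_of_comp_eq (e : M →ₗ[R] M') (hcoker : IsPowerTorsion I (M' ⧸ LinearMap.range e))
    {ψ ψ' : M' →ₗ[R] DT I K} (h : ψ ∘ₗ e = ψ' ∘ₗ e) : ψ = ψ' := by
  refine LinearMap.ext fun x => ?_
  obtain ⟨n, hn⟩ := hcoker (Submodule.Quotient.mk x)
  refine eq_of_smul_eq n fun a ha => ?_
  have h1 := hn a ha
  rw [← Submodule.Quotient.mk_smul, Submodule.Quotient.mk_eq_zero] at h1
  obtain ⟨m, hm⟩ := h1
  rw [← map_smul, ← map_smul, ← hm]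
  exact congr($h m)

theorem existsUnique_factor (e : M →ₗ[R] M') (hker : LinearMap.ker e ≤ DRing.torsionSub I M)
    (hcoker : IsPowerTorsion I (M' ⧸ LinearMap.range e)) (ψ : M →ₗ[R] K) :
    ∃! ψ' : M' →ₗ[R] DT I K, ψ' ∘ₗ e = toDT I K ∘ₗ ψ := by
  refine ⟨map ψ ∘ₗ (mapEquiv e hker hcoker).symm.toLinearMap ∘ₗ toDT I M', ?_, fun φ hφ => ?_⟩
  · refine LinearMap.ext fun m => ?_
    have h1 : (mapEquiv e hker hcoker).symm (toDT I M' (e m)) = toDT I M m := by
      rw [LinearEquiv.symm_apply_eq]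
      exact (map_toDT e m).symm
    simp only [LinearMap.comp_apply, LinearEquiv.coe_toLinearMap, h1]
    exact map_toDT ψ m
  · refine ext_of_comp_eq e hcoker ?_
    rw [hφ]
    refine LinearMap.ext fun m => ?_
    have h1 : (mapEquiv e hker hcoker).symm (toDT I M' (e m)) = toDT I M m := by
      rw [LinearEquiv.symm_apply_eq]
      exact (map_toDT e m).symm
    simp only [LinearMap.comp_apply, LinearEquiv.coe_toLinearMap, h1]
    exact (map_toDT ψ m).symm

theorem map_toDT_bijective : Function.Bijective (map (I := I) (toDT I M)) :=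
  map_bijective _ ker_toDT.le isPowerTorsion_coker_toDT

theorem map_toDT_eq : map (I := I) (toDT I M) = toDT I (DT I M) :=
  ext_of_comp_eq (toDT I M) isPowerTorsion_coker_toDT
    (LinearMap.ext fun m => map_toDT (toDT I M) m)

theorem toDT_DT_bijective : Function.Bijective (toDT I (DT I M)) := by
  rw [← map_toDT_eq]
  exact map_toDT_bijective

theorem factor_bijective (e : M →ₗ[R] M') (hker : LinearMap.ker e ≤ DRing.torsionSub I M)
    (hcoker : IsPowerTorsion I (M' ⧸ LinearMap.range e)) (ψ : M →ₗ[R] K)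
    (hψ : Function.Bijective ψ) (ψ' : M' →ₗ[R] DT I K) (h : ψ' ∘ₗ e = toDT I K ∘ₗ ψ)
    (hη : Function.Bijective (toDT I M')) : Function.Bijective ψ' := by
  have e1 : ψ' = map ψ ∘ₗ (mapEquiv e hker hcoker).symm.toLinearMap ∘ₗ toDT I M' := by
    refine ext_of_comp_eq e hcoker ?_
    rw [h]
    refine LinearMap.ext fun m => ?_
    have h1 : (mapEquiv e hker hcoker).symm (toDT I M' (e m)) = toDT I M m := by
      rw [LinearEquiv.symm_apply_eq]
      exact (map_toDT e m).symm
    simp only [LinearMap.comp_apply, LinearEquiv.coe_toLinearMap, h1]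
    exact (map_toDT ψ m).symm
  have h2 : Function.Bijective (map (I := I) ψ) := by
    refine map_bijective ψ ?_ ?_
    · rw [LinearMap.ker_eq_bot.mpr hψ.1]
      exact bot_le
    · intro x
      obtain ⟨x, rfl⟩ := Submodule.Quotient.mk_surjective _ x
      refine ⟨0, fun a _ => ?_⟩
      rw [← Submodule.Quotient.mk_smul, Submodule.Quotient.mk_eq_zero]
      exact hψ.2 _
  rw [e1, LinearMap.coe_comp, LinearMap.coe_comp]
  exact h2.comp ((mapEquiv e hker hcoker).symm.bijective.comp hη)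

end Groth.Agent.LC16.DT
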