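import Groth.Agent.LC16.Acyclic
import Mathlib.RingTheory.Flat.Basic
import Mathlib.LinearAlgebra.TensorProduct.Pi
import Mathlib.LinearAlgebra.TensorProduct.RightExactness

/-!
Flat base change for local cohomology.
-/

namespace Groth.Agent.LC16.FlatBC

universe u

open LC15 TensorProduct

variable {R : Type u} [CommRing R] [IsNoetherianRing R] (R' : Type u) [CommRing R'] [Algebra R R']
  (I : Ideal R) (M : Type u) [AddCommGroup M] [Module R M]

local notation "I'" => Ideal.map (algebraMap R R') I

/-- inclusion of the base changed torsion -/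
noncomputable def incl : R' ⊗[R] gamma I M →ₗ[R'] R' ⊗[R] M :=
  (gamma I M).subtype.baseChange R'

omit [IsNoetherianRing R] in
lemma incl_mem (z : R' ⊗[R] gamma I M) : incl R' I M z ∈ gamma I' (R' ⊗[R] M) := by
  induction z using TensorProduct.induction_on with
  | zero => rw [map_zero]; exact zero_mem _
  | tmul r m =>
    rw [Acyclic.mem_gamma_map_iff]
    obtain ⟨n, hn⟩ := m.2
    refine ⟨n, fun a ha => ?_⟩
    rw [incl, LinearMap.baseChange_tmul, ← TensorProduct.tmul_smul, Submodule.subtype_apply,
      hn a ha, TensorProduct.tmul_zero]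
  | add x y hx hy => rw [map_add]; exact add_mem hx hy

variable [Module.Flat R R']

omit [IsNoetherianRing R] in
lemma incl_injective : Function.Injective (incl R' I M) := by
  rw [incl, LinearMap.baseChange_eq_ltensor]
  exact Module.Flat.lTensor_preserves_injective_linearMap _ (gamma I M).injective_subtype

lemma exists_incl {y : R' ⊗[R] M} (hy : y ∈ gamma I' (R' ⊗[R] M)) :
    ∃ z, incl R' I M z = y := by
  classical
  obtain ⟨n, hn⟩ := (Acyclic.mem_gamma_map_iff I y).mp hy
  obtain ⟨t, ht⟩ := (IsNoetherian.noetherian (I ^ n) : Submodule.FG (I ^ n))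
  let φ : M →ₗ[R] (t → M) := LinearMap.pi fun a => LinearMap.lsmul R M a
  have hle : LinearMap.ker φ ≤ gamma I M := fun m hm => by
    refine ⟨n, fun a ha => ?_⟩
    have key : Ideal.span (t : Set R) ≤ LinearMap.ker (LinearMap.toSpanSingleton R M m) :=
      Ideal.span_le.mpr fun b hb => congr_fun (LinearMap.mem_ker.mp hm) ⟨b, hb⟩
    exact key (ht.ge ha)
  have hcomp : (TensorProduct.piRight R R R' fun _ : t => M).toLinearMap ∘ₗ φ.lTensor R' =
      LinearMap.pi fun a : t => LinearMap.lsmul R (R' ⊗[R] M) a := by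
    refine TensorProduct.ext' fun r m => funext fun a => ?_
    simp [φ, TensorProduct.tmul_smul]
  have h0 : φ.lTensor R' y = 0 := by
    refine (TensorProduct.piRight R R R' fun _ : t => M).injective ?_
    rw [map_zero]
    refine (LinearMap.congr_fun hcomp y).trans (funext fun a => ?_)
    exact hn a (ht.le (Submodule.subset_span a.2))
  obtain ⟨z, rfl⟩ := (Module.Flat.lTensor_exact R' (LinearMap.exact_subtype_ker_map φ) y).mp h0
  refine ⟨(Submodule.inclusion hle).lTensor R' z, ?_⟩
  rw [incl, LinearMap.baseChange_eq_ltensor, ← LinearMap.lTensor_comp_apply]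
  rfl

/-- torsion commutes with flat base change -/
noncomputable def gammaEquiv : R' ⊗[R] gamma I M ≃ₗ[R'] gamma I' (R' ⊗[R] M) :=
  LinearEquiv.ofBijective ((incl R' I M).codRestrict _ (incl_mem R' I M))
    ⟨fun _ _ h => incl_injective R' I M (congrArg Subtype.val h), fun y => by
      obtain ⟨z, hz⟩ := exists_incl R' I M y.2
      exact ⟨z, Subtype.ext hz⟩⟩

/-- degree zero -/
noncomputable def zeroEquiv :
    R' ⊗[R] LocCoh.H I 0 M ≃ₗ[R'] LocCoh.H I' 0 (R' ⊗[R] M) :=
  (LinearEquiv.baseChange R R' _ _ (H0equiv I M) ≪≫ₗ gammaEquiv R' I M) ≪≫ₗ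
    (H0equiv I' (R' ⊗[R] M)).symm

lemma h0_zeroEquiv (w : R' ⊗[R] LocCoh.H I 0 M) :
    h0 I' (R' ⊗[R] M) (zeroEquiv R' I M w) = (h0 I M).baseChange R' w := by
  rw [← H0equiv_coe]
  simp only [zeroEquiv, LinearEquiv.trans_apply, LinearEquiv.apply_symm_apply]
  induction w using TensorProduct.induction_on with
  | zero => simp
  | tmul r m =>
    rw [LinearMap.baseChange_tmul]
    rfl
  | add x y hx hy => simp only [map_add, Submodule.coe_add, hx, hy]

lemma zeroEquiv_Hmap {N : Type u} [AddCommGroup N] [Module R N] (f : M →ₗ[R] N)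
    (w : R' ⊗[R] LocCoh.H I 0 M) :
    zeroEquiv R' I N ((Hmap I 0 f).baseChange R' w) =
      Hmap I' 0 (f.baseChange R') (zeroEquiv R' I M w) := by
  refine h0_injective I' _ ?_
  rw [h0_zeroEquiv, h0_Hmap, h0_zeroEquiv]
  induction w using TensorProduct.induction_on with
  | zero => simp
  | tmul r m => simp only [LinearMap.baseChange_tmul, h0_Hmap]
  | add x y hx hy => simp only [map_add, hx, hy]

variable [IsNoetherianRing R']

/-- base change of an injective module is acyclic -/
theorem subsingleton_H_baseChange_injective (E : Type u) [AddCommGroup E] [Module R E]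
    [Module.Injective R E] {i : ℕ} (hi : 0 < i) :
    Subsingleton (LocCoh.H I' i (R' ⊗[R] E)) := by
  classical
  obtain ⟨s₀, rfl⟩ := (IsNoetherian.noetherian I : Submodule.FG I)
  change Subsingleton (LocCoh.H (Ideal.map (algebraMap R R') (Ideal.span (s₀ : Set R))) i _)
  rw [Ideal.map_span, ← Finset.coe_image]
  refine Acyclic.subsingleton_H_of_div (Set.range (algebraMap R R')) (fun s hs x hx m hm => ?_) _
    (by rw [Finset.coe_image]; exact Set.image_subset_range _ _) i hi
  obtain ⟨x, rfl⟩ := hx
  have hJ : (Ideal.span (algebraMap R R' ⁻¹' (s : Set R'))).map (algebraMap R R') =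
      Ideal.span (s : Set R') := by
    rw [Ideal.map_span, Set.image_preimage_eq_of_subset hs]
  set J := Ideal.span (algebraMap R R' ⁻¹' (s : Set R')) with hJdef
  rw [← hJ] at hm ⊢
  obtain ⟨z, rfl⟩ := exists_incl R' J E hm
  have := injective_gamma J E
  clear hm
  induction z using TensorProduct.induction_on with
  | zero => exact ⟨0, zero_mem _, 0, by simp⟩
  | tmul r g =>
    obtain ⟨e, n, hn⟩ := Acyclic.exists_div_of_injective x g
    refine ⟨incl R' J E (r ⊗ₜ e), incl_mem R' J E _, n, ?_⟩
    rw [← map_pow, algebraMap_smul, algebraMap_smul]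
    have h1 : x ^ n • (x • (r ⊗ₜ[R] e) - r ⊗ₜ[R] g) = 0 := by
      rw [← TensorProduct.tmul_smul, ← TensorProduct.tmul_sub, ← TensorProduct.tmul_smul, hn,
        TensorProduct.tmul_zero]
    simpa only [LinearMap.map_smul_of_tower, map_sub, map_zero] using congrArg (incl R' J E) h1
  | add a b ha hb =>
    obtain ⟨a', ha', n, hn⟩ := ha
    obtain ⟨b', hb', k, hk⟩ := hb
    refine ⟨a' + b', add_mem ha' hb', n + k, ?_⟩
    rw [map_add, smul_add, add_sub_add_comm, smul_add, pow_add, mul_smul, mul_smul, hk, smul_zero,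
      add_zero, smul_comm, hn, smul_zero]

theorem exists_equiv (i : ℕ) : ∀ (M : Type u) [AddCommGroup M] [Module R M],
    Nonempty (R' ⊗[R] LocCoh.H I i M ≃ₗ[R'] LocCoh.H I' i (R' ⊗[R] M)) := by
  induction i with
  | zero => exact fun M _ _ => ⟨zeroEquiv R' I M⟩
  | succ i ih =>
    intro M _ _
    obtain ⟨E, _, _, f, hf, hE⟩ := exists_injective_embedding (R := R) M
    let g := (LinearMap.range f).mkQ
    have hex : Function.Exact f g := LinearMap.exact_map_mkQ_range f
    have hg : Function.Surjective g := Submodule.mkQ_surjective _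
    have hf' : Function.Injective (f.baseChange R') := by
      rw [LinearMap.baseChange_eq_ltensor]
      exact Module.Flat.lTensor_preserves_injective_linearMap _ hf
    have hex' : Function.Exact (f.baseChange R') (g.baseChange R') := by
      rw [LinearMap.baseChange_eq_ltensor, LinearMap.baseChange_eq_ltensor]
      exact Module.Flat.lTensor_exact R' hex
    have hg' : Function.Surjective (g.baseChange R') := by
      rw [LinearMap.baseChange_eq_ltensor]
      exact LinearMap.lTensor_surjective R' hg
    have hv : ∀ j, Subsingleton (LocCoh.H I (j + 1) E) :=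
      fun j => subsingleton_H_succ_of_injective I j
    have hv' : ∀ j, Subsingleton (LocCoh.H I' (j + 1) (R' ⊗[R] E)) := fun j =>
      subsingleton_H_baseChange_injective R' I E j.succ_pos
    rcases i with - | j
    · let p := (Hδ I 0 hf hex hg).baseChange R'
      have hp : Function.Surjective p := by
        rw [LinearMap.baseChange_eq_ltensor]
        exact LinearMap.lTensor_surjective R' (Hδ_surjective I 0 hf hex hg (hv 0))
      let q := Hδ I' 0 hf' hex' hg' ∘ₗ (zeroEquiv R' I _).toLinearMap
      have hq : Function.Surjective q :=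
        (Hδ_surjective I' 0 hf' hex' hg' (hv' 0)).comp (zeroEquiv R' I _).surjective
      have hp' : Function.Exact ((Hmap I 0 g).baseChange R') p := by
        rw [LinearMap.baseChange_eq_ltensor, LinearMap.baseChange_eq_ltensor]
        exact Module.Flat.lTensor_exact R' (H_exact₃ I 0 hf hex hg)
      have hk : LinearMap.ker p = LinearMap.ker q := by
        ext x
        rw [LinearMap.mem_ker, LinearMap.mem_ker, hp' x]
        change _ ↔ Hδ I' 0 hf' hex' hg' (zeroEquiv R' I _ x) = 0
        rw [H_exact₃ I' 0 hf' hex' hg']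
        constructor
        · rintro ⟨w, rfl⟩
          exact ⟨zeroEquiv R' I E w, (zeroEquiv_Hmap R' I E g w).symm⟩
        · rintro ⟨w, hw⟩
          obtain ⟨v, hv⟩ := (zeroEquiv R' I E).surjective w
          rw [← hv, ← zeroEquiv_Hmap R' I E g] at hw
          exact ⟨v, (zeroEquiv R' I _).injective hw⟩
      exact ⟨(p.quotKerEquivOfSurjective hp).symm ≪≫ₗ Submodule.quotEquivOfEq _ _ hk ≪≫ₗ
        q.quotKerEquivOfSurjective hq⟩
    · obtain ⟨φ⟩ := ih (E ⧸ LinearMap.range f)
      exact ⟨(LinearEquiv.baseChange R R' _ _ (HδEquiv I (j + 1) hf hex hg (hv j) (hv (j + 1)))).symm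
        ≪≫ₗ φ ≪≫ₗ HδEquiv I' (j + 1) hf' hex' hg' (hv' j) (hv' (j + 1))⟩

end Groth.Agent.LC16.FlatBC
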