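import Groth.Agent.LC16.RgammaVanish
import Groth.Agent.CohDer42.KInj
import Groth.Agent.Mod48.KInjDerived
import Groth.Prelude.Def_DRing3
import Groth.Prelude.Def_Wider
import Mathlib.Algebra.Homology.HomotopyCategory.MappingCocone
import Mathlib.Algebra.Category.ModuleCat.AB
import Mathlib.RingTheory.Finiteness.Ideal

/-!
The extended Cech complex computes `RΓ_I`.
-/

namespace Groth.Agent.LC16.CechRgamma

universe u

set_option autoImplicit false

open CategoryTheory CategoryTheory.Limits CategoryTheory.Pretriangulated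
attribute [local instance] HasDerivedCategory.standard

variable {A : Type u} [CommRing A]

theorem ideal_pow_sup_le (a b : Ideal A) (n m : ℕ) : (a ⊔ b) ^ (n + m) ≤ a ^ n ⊔ b ^ m :=
  Ideal.sup_pow_add_le_pow_sup_pow

/-- torsion with respect to a larger list -/
theorem mem_torsionSub_sup (f : A) (J : Ideal A) (M : Type u) [AddCommGroup M] [Module A M] (x : M) :
    x ∈ DRing.torsionSub (Ideal.span {f} ⊔ J) M ↔
      x ∈ DRing.torsionSub J M ∧ ∃ n : ℕ, f ^ n • x = 0 := by
  constructor
  · rintro ⟨n, hn⟩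
    exact ⟨⟨n, fun a ha => hn a (Ideal.pow_right_mono le_sup_right n ha)⟩,
      n, hn _ (Ideal.pow_mem_pow (Ideal.mem_sup_left (Ideal.mem_span_singleton_self f)) n)⟩
  · rintro ⟨⟨m, hm⟩, n, hn⟩
    refine ⟨n + m, fun a ha => ?_⟩
    obtain ⟨b, hb, c, hc, rfl⟩ := Submodule.mem_sup.1 (ideal_pow_sup_le _ _ n m ha)
    rw [Ideal.span_singleton_pow, Ideal.mem_span_singleton'] at hb
    obtain ⟨r, rfl⟩ := hb
    rw [add_smul, mul_smul, hn, smul_zero, hm c hc, add_zero]

/-- torsion of an injective module: divisibility by `f` up to `f`-torsion -/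
theorem exists_smul_eq [IsNoetherianRing A] (E : Type u) [AddCommGroup E] [Module A E]
    [Module.Injective A E] (J : Ideal A) (f : A) (n : ℕ) (x : E) (hx : x ∈ DRing.torsionSub J E) :
    ∃ (c : E) (m : ℕ), c ∈ DRing.torsionSub J E ∧ f ^ m • f ^ n • c = f ^ m • x := by
  obtain ⟨k, hk⟩ := hx
  let Q := A ⧸ J ^ k
  let mu : ℕ → (Q →ₗ[A] Q) := fun i => LinearMap.lsmul A Q (f ^ i)
  obtain ⟨m, hm⟩ := monotone_stabilizes_iff_noetherian.2 (inferInstance : IsNoetherian A Q)
    (⟨fun i => LinearMap.ker (mu i), monotone_nat_of_le_succ fun i a ha => by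
      simp only [LinearMap.mem_ker, LinearMap.lsmul_apply, mu] at ha ⊢
      rw [pow_succ', mul_smul, ha, smul_zero]⟩ : ℕ →o Submodule A Q)
  let ψ : Q →ₗ[A] E := (J ^ k).liftQ (LinearMap.toSpanSingleton A E (f ^ m • x)) (fun a ha => by
    simp only [LinearMap.mem_ker, LinearMap.toSpanSingleton_apply]
    rw [smul_comm, hk a ha, smul_zero])
  have hker : LinearMap.ker (mu (m + n)) ≤ LinearMap.ker ψ := fun a ha => by
    have h' : a ∈ LinearMap.ker (mu m) := (hm (m + n) (Nat.le_add_right m n)).ge ha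
    obtain ⟨a, rfl⟩ := Submodule.Quotient.mk_surjective _ a
    replace h' : f ^ m * a ∈ J ^ k := (Submodule.Quotient.mk_eq_zero _).1 h'
    show a • f ^ m • x = 0
    rw [smul_smul, mul_comm]
    exact hk _ h'
  obtain ⟨h, hh⟩ := Module.Injective.out ((LinearMap.ker (mu (m + n))).liftQ (mu (m + n)) le_rfl)
    (LinearMap.ker_eq_bot.1 (Submodule.ker_liftQ_eq_bot _ (mu (m + n)) le_rfl le_rfl))
    ((LinearMap.ker (mu (m + n))).liftQ ψ hker)
  let one : Q := Submodule.Quotient.mk (1 : A)
  refine ⟨h one, m, ⟨k, fun a ha => ?_⟩, ?_⟩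
  · rw [← map_smul, show a • one = 0 from by
      rw [← Submodule.Quotient.mk_smul, smul_eq_mul, mul_one]
      exact (Submodule.Quotient.mk_eq_zero _).2 ha]
    exact map_zero h
  · have h1 := hh (Submodule.Quotient.mk one)
    simp only [Submodule.liftQ_apply, mu, LinearMap.lsmul_apply, map_smul] at h1
    rw [smul_smul, ← pow_add]
    refine h1.trans ?_
    exact one_smul A (f ^ m • x)

/-- torsion functors on complexes -/
noncomputable abbrev gCx (J : Ideal A) : DRing.Cx A ⥤ DRing.Cx A :=
  (DRing.gammaI J).mapHomologicalComplex (ComplexShape.up ℤ)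

/-- inclusion of torsion subcomplexes -/
noncomputable def incl {J J' : Ideal A}
    (h : ∀ (M : ModuleCat.{u} A) (x : M), x ∈ DRing.torsionSub J' M → x ∈ DRing.torsionSub J M)
    (K : DRing.Cx A) : (gCx J').obj K ⟶ (gCx J).obj K where
  f i := ModuleCat.ofHom (X := DRing.torsionSub J' (K.X i)) (Y := DRing.torsionSub J (K.X i))
    (Submodule.inclusion (h (K.X i)))
  comm' i j _ := rfl

/-- equal torsion functors -/
noncomputable def gIso {J J' : Ideal A}
    (h : ∀ (M : ModuleCat.{u} A) (x : M), x ∈ DRing.torsionSub J' M ↔ x ∈ DRing.torsionSub J M)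
    (K : DRing.Cx A) : (gCx J').obj K ≅ (gCx J).obj K where
  hom := incl (fun M x => (h M x).1) K
  inv := incl (fun M x => (h M x).2) K
  hom_inv_id := rfl
  inv_hom_id := rfl

section Step

variable [IsNoetherianRing A] (J : Ideal A) (f : A) (E : DRing.Cx A)

local notation "S" => Submonoid.powers f

/-- `0 → Γ_{fJ} → Γ_J → (Γ_J)_f → 0` -/
noncomputable def seq : ShortComplex (DRing.Cx A) :=
  ShortComplex.mk (incl (fun M x hx => ((mem_torsionSub_sup f J M x).1 hx).1) E)
    (DerCA.locCxUnit S ((gCx J).obj E)) (by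
      refine HomologicalComplex.hom_ext _ _ fun i => ModuleCat.hom_ext (LinearMap.ext fun x => ?_)
      show LocalizedModule.mkLinearMap S (DRing.torsionSub J (E.X i)) ⟨x.1, _⟩ = 0
      obtain ⟨n, hn⟩ := ((mem_torsionSub_sup f J _ x.1).1 x.2).2
      rw [LocalizedModule.mkLinearMap_apply, ← LocalizedModule.zero_mk (1 : S), LocalizedModule.mk_eq]
      refine ⟨⟨f ^ n, n, rfl⟩, ?_⟩
      simp only [Submonoid.smul_def, one_smul, smul_zero]
      exact Subtype.ext hn)

theorem seq_shortExact (hE : ∀ i, Module.Injective A (E.X i)) : (seq J f E).ShortExact := by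
  refine HomologicalComplex.shortExact_of_degreewise_shortExact _ fun i => ?_
  have hmono : Mono ((seq J f E).map (HomologicalComplex.eval _ _ i)).f :=
    (ModuleCat.mono_iff_injective _).2 fun a b h => Subtype.ext (congrArg (fun z => z.1) h)
  have hepi : Epi ((seq J f E).map (HomologicalComplex.eval _ _ i)).g := by
    refine (ModuleCat.epi_iff_surjective _).2 fun y => ?_
    induction y using LocalizedModule.induction_on with | h x s => ?_
    obtain ⟨_, n, rfl⟩ := s
    have := hE i
    obtain ⟨c, m, hc, hcm⟩ := exists_smul_eq (E.X i) J f n (Subtype.val x) x.2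
    refine ⟨⟨c, hc⟩, LocalizedModule.mk_eq.2 ⟨⟨f ^ m, m, rfl⟩, ?_⟩⟩
    simp only [Submonoid.smul_def, one_smul]
    exact Subtype.ext hcm
  refine { exact := ?_ }
  rw [ShortComplex.ShortExact.moduleCat_exact_iff_function_exact]
  intro y
  constructor
  · intro hy
    replace hy : LocalizedModule.mk y (1 : S) = LocalizedModule.mk 0 (1 : S) :=
      hy.trans (LocalizedModule.zero_mk _).symm
    obtain ⟨⟨_, n, rfl⟩, hn⟩ := LocalizedModule.mk_eq.1 hy
    simp only [Submonoid.smul_def, one_smul, smul_zero] at hn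
    exact ⟨⟨y.1, (mem_torsionSub_sup f J _ y.1).2 ⟨y.2, n, congrArg Subtype.val hn⟩⟩, rfl⟩
  · rintro ⟨x, rfl⟩
    exact ConcreteCategory.congr_hom (congrArg (fun g => g.f i) (seq J f E).zero) x

end Step

/-- the cocone triangle is distinguished in the derived category -/
theorem cocone_distinguished {K L : DRing.Cx A} (φ : K ⟶ L) :
    DerivedCategory.Q.mapTriangle.obj (CochainComplex.mappingCocone.triangle φ) ∈
      distTriang (Dual.D A) := by
  rw [rotate_distinguished_triangle]
  refine isomorphic_distinguished _ (DerivedCategory.mappingCone_triangle_distinguished φ) _ ?_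
  exact (DerivedCategory.Q.mapTriangleRotateIso.app _) ≪≫
    DerivedCategory.Q.mapTriangle.mapIso (CochainComplex.mappingCocone.rotateTriangleIso φ)

/-- fibres of isomorphic maps are isomorphic -/
theorem nonempty_fibre_iso {C : Type*} [Category* C] [HasZeroObject C] [HasShift C ℤ] [Preadditive C]
    [∀ n : ℤ, (CategoryTheory.shiftFunctor C n).Additive] [Pretriangulated C]
    (T T' : Triangle C) (hT : T ∈ distTriang C) (hT' : T' ∈ distTriang C)
    (a : T.obj₂ ≅ T'.obj₂) (b : T.obj₃ ≅ T'.obj₃) (h : T.mor₂ ≫ b.hom = a.hom ≫ T'.mor₂) :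
    Nonempty (T.obj₁ ≅ T'.obj₁) := by
  obtain ⟨c, h₁, h₃⟩ := complete_distinguished_triangle_morphism₁ T T' hT hT' a.hom b.hom h
  let φ : T ⟶ T' := { hom₁ := c, hom₂ := a.hom, hom₃ := b.hom, comm₁ := h₁, comm₂ := h, comm₃ := h₃ }
  have := isIso₁_of_isIso₂₃ φ hT hT' (inferInstanceAs (IsIso a.hom)) (inferInstanceAs (IsIso b.hom))
  exact ⟨asIso φ.hom₁⟩

/-- one induction step -/
theorem step [IsNoetherianRing A] (J : Ideal A) (f : A) (E : DRing.Cx A)
    (hE : ∀ i, Module.Injective A (E.X i)) (K : DRing.Cx A)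
    (e : DerivedCategory.Q.obj K ≅ DerivedCategory.Q.obj ((gCx J).obj E)) :
    Nonempty (DerivedCategory.Q.obj
        (CochainComplex.mappingCocone (DerCA.locCxUnit (Submonoid.powers f) K)) ≅
      DerivedCategory.Q.obj ((gCx (Ideal.span {f} ⊔ J)).obj E)) := by
  let S := Submonoid.powers f
  let F := (DerCA.locFunctor (R := A) S).mapDerivedCategory
  let α := (DerCA.locFunctor (R := A) S).mapDerivedCategoryFactors
  let L := (gCx J).obj E
  refine nonempty_fibre_iso (C := Dual.D A) _ _ (cocone_distinguished _)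
    (DerivedCategory.triangleOfSES_distinguished (seq_shortExact J f E hE)) e
    ((α.app K).symm ≪≫ F.mapIso e ≪≫ α.app L) ?_
  show DerivedCategory.Q.map (DerCA.locCxUnit S K) ≫ α.inv.app K ≫ F.map e.hom ≫ α.hom.app L =
    e.hom ≫ DerivedCategory.Q.map (DerCA.locCxUnit S L)
  have h := (RgammaVanish.unitD S).naturality e.hom
  rw [RgammaVanish.unitD_app_Q, RgammaVanish.unitD_app_Q] at h
  have h' := congrArg (· ≫ α.hom.app L) h
  simp only [Functor.id_map, Category.assoc] at h'
  refine h'.symm.trans (congrArg (fun z => e.hom ≫ z) ?_)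
  exact (congrArg (fun z => DerivedCategory.Q.map (DerCA.locCxUnit S L) ≫ z)
    (α.inv_hom_id_app L)).trans (Category.comp_id _)

/-- no elements: everything is torsion -/
noncomputable def gBotIso (K : DRing.Cx A) : (gCx (⊥ : Ideal A)).obj K ≅ K :=
  HomologicalComplex.Hom.isoOfComponents (fun i =>
    (LinearEquiv.ofTop (DRing.torsionSub (⊥ : Ideal A) (K.X i))
      (eq_top_iff.2 fun x _ => ⟨1, fun a ha => by
        rw [pow_one, Ideal.mem_bot] at ha
        rw [ha, zero_smul]⟩)).toModuleIso) fun _ _ _ => rfl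

/-- the extended Cech complex is the torsion of an injective resolution -/
theorem nonempty_cech_iso [IsNoetherianRing A] (M : ModuleCat.{u} A) (E : DRing.Cx A)
    (hE : ∀ i, Module.Injective A (E.X i))
    (e : DerivedCategory.Q.obj ((HomologicalComplex.single _ (ComplexShape.up ℤ) 0).obj M) ≅
      DerivedCategory.Q.obj E) :
    ∀ fs : List A, Nonempty (DerivedCategory.Q.obj (DerCA.extCech M fs) ≅
      DerivedCategory.Q.obj ((gCx (Ideal.span {x | x ∈ fs})).obj E))
  | [] => by
    rw [show ({x : A | x ∈ ([] : List A)}) = ∅ from by simp, Ideal.span_empty]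
    exact ⟨e ≪≫ DerivedCategory.Q.mapIso (gBotIso E).symm⟩
  | f :: fs => by
    obtain ⟨e'⟩ := nonempty_cech_iso M E hE e fs
    rw [show ({x : A | x ∈ f :: fs}) = insert f {x | x ∈ fs} from by ext; simp, Ideal.span_insert]
    exact step _ f E hE _ e'

/-- torsion only depends on the radical -/
theorem torsion_iff {I J : Ideal A} (hle : J ≤ I) {k : ℕ} (hk : I ^ k ≤ J) (M : Type u)
    [AddCommGroup M] [Module A M] (x : M) :
    x ∈ DRing.torsionSub I M ↔ x ∈ DRing.torsionSub J M := by
  constructor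
  · rintro ⟨n, hn⟩
    exact ⟨n, fun a ha => hn a (Ideal.pow_right_mono hle n ha)⟩
  · rintro ⟨n, hn⟩
    exact ⟨k * n, fun a ha => hn a (Ideal.pow_right_mono hk n (by rwa [← pow_mul]))⟩

/-- the extended Cech complex computes the derived torsion functor -/
theorem nonempty_cech_Rgamma [IsNoetherianRing A] (I : Ideal A) [DRing.HasRgammaI I] (fs : List A)
    (hle : Ideal.span {x | x ∈ fs} ≤ I) {k : ℕ} (hk : I ^ k ≤ Ideal.span {x | x ∈ fs})
    (M : ModuleCat.{u} A) :
    Nonempty (DerivedCategory.Q.obj (DerCA.extCech M fs) ≅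
      (DRing.RgammaI I).obj ((DerivedCategory.singleFunctor (ModuleCat.{u} A) 0).obj M)) := by
  obtain ⟨E, r, hKI, hr, -, hE⟩ := CohDer42.exists_kinjective_resolution
    ((HomologicalComplex.single _ (ComplexShape.up ℤ) 0).obj M)
  have hinj : ∀ i, Module.Injective A (E.X i) := fun i =>
    have := hE i
    Module.injective_module_of_injective_object A (E.X i)
  have : IsIso (DerivedCategory.Q.map r) := (DerivedCategory.isIso_Q_map_iff_quasiIso _ r).2 hr
  obtain ⟨e₁⟩ := nonempty_cech_iso M E hinj (asIso (DerivedCategory.Q.map r)) fs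
  have hK : Mod48.EnoughKInj (ModuleCat.{u} A) := fun M =>
    let ⟨J, f, h, h', _⟩ := CohDer42.exists_kinjective_resolution M
    ⟨J, f, h, h'⟩
  let α := (DRing.gammaIKh I).totalRightDerivedUnit DerivedCategory.Qh
    (HomotopyCategory.quasiIso (ModuleCat.{u} A) (ComplexShape.up ℤ))
  have := Mod48.isIso_unit_of_kInjective (DRing.RgammaI I) α hK E hKI
  exact ⟨e₁ ≪≫ DerivedCategory.Q.mapIso
      (gIso (fun N x => (torsion_iff hle hk N x).symm) E) ≪≫
    ((DerivedCategory.quotientCompQhIso _).app _).symm ≪≫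
    DerivedCategory.Qh.mapIso
      (((DRing.gammaI I).mapHomotopyCategoryFactors (ComplexShape.up ℤ)).app E).symm ≪≫
    asIso (α.app _) ≪≫
    (DRing.RgammaI I).mapIso ((DerivedCategory.quotientCompQhIso _).app E ≪≫
      (asIso (DerivedCategory.Q.map r)).symm ≪≫
      ((DerivedCategory.singleFunctorIsoCompQ (ModuleCat.{u} A) 0).app M).symm)⟩

end Groth.Agent.LC16.CechRgamma
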