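import Groth.Agent.LC15.Dim
import Groth.Agent.LC15.Artin
import Groth.Agent.EGA4Alg4.CMMod
import Groth.Agent.Ega11.SupportLoc
import Mathlib.RingTheory.KrullDimension.NonZeroDivisors

/-!
Primes of full dimension.
-/

namespace Groth.Agent.LC16.CanonDim

universe u

set_option autoImplicit false

open IsLocalRing LC15

variable {R : Type u} [CommRing R]

/-- the dimension of the quotient by a prime -/
theorem coheight_eq (p : PrimeSpectrum R) :
    ringKrullDim (R ⧸ p.asIdeal) = (Order.coheight p : WithBot ℕ∞) := by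
  rw [Order.coheight_eq_krullDim_Ici, ringKrullDim_quotient]
  exact Order.krullDim_eq_of_orderIso
    { toEquiv := Equiv.subtypeEquivRight (fun q => by simp [PrimeSpectrum.mem_zeroLocus])
      map_rel_iff' := Iff.rfl }

/-- a prime realising the dimension of a module -/
theorem exists_prime_of_le_supportDim {M : Type u} [AddCommGroup M] [Module R M] {n : ℕ}
    (h : (n : WithBot ℕ∞) ≤ Module.supportDim R M) :
    ∃ p ∈ Module.support R M, (n : WithBot ℕ∞) ≤ ringKrullDim (R ⧸ p.asIdeal) := by
  rw [Module.supportDim] at h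
  obtain ⟨l, hl⟩ := Order.le_krullDim_iff.1 h
  refine ⟨l.head.1, l.head.2, ?_⟩
  rw [coheight_eq]
  refine WithBot.coe_le_coe.2 (le_trans ?_ (Order.length_le_coheight
    (p := l.map Subtype.val fun _ _ hab => hab) (x := l.head.1) le_rfl))
  exact_mod_cast hl.ge

/-- being small -/
theorem supportDim_lt_iff [IsNoetherianRing R] {M : Type u} [AddCommGroup M] [Module R M]
    {n : ℕ} (hn : ringKrullDim R = n) :
    Module.supportDim R M < (n : WithBot ℕ∞) ↔
      ∀ p : PrimeSpectrum R, ringKrullDim (R ⧸ p.asIdeal) = n → p ∉ Module.support R M := by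
  constructor
  · intro h p hp hsupp
    refine absurd h (not_lt.2 (hp.ge.trans ?_))
    rw [coheight_eq, Order.coheight_eq_krullDim_Ici]
    exact Order.krullDim_le_of_strictMono
      (fun q : Set.Ici p => (⟨q.1, Module.mem_support_mono q.2 hsupp⟩ : Module.support R M))
      fun a b hab => hab
  · intro h
    by_contra hlt
    obtain ⟨p, hp, hle⟩ := exists_prime_of_le_supportDim (not_lt.1 hlt)
    exact h p (le_antisymm ((ringKrullDim_quotient_le (R := R) p.asIdeal).trans hn.le) hle) hp

theorem coheightLT_of_lt {M : Type u} [AddCommGroup M] [Module R M] {n : ℕ}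
    (h : Module.supportDim R M < (n : WithBot ℕ∞)) : CoheightLT R M n := by
  intro p hp
  have h1 : (Order.coheight p : WithBot ℕ∞) ≤ Module.supportDim R M := by
    rw [Order.coheight_eq_krullDim_Ici]
    exact Order.krullDim_le_of_strictMono
      (fun q : Set.Ici p => (⟨q.1, Module.mem_support_mono q.2 hp⟩ : Module.support R M))
      fun a b hab => hab
  exact WithBot.coe_lt_coe.1 (h1.trans_lt h)

/-- a chain through a prime -/
theorem exists_chain {p : PrimeSpectrum R} {h a : ℕ} (hh : Order.height p = h)
    (ha : ringKrullDim (R ⧸ p.asIdeal) = a) :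
    ∃ q ≤ p, ((h + a : ℕ) : WithBot ℕ∞) ≤ ringKrullDim (R ⧸ q.asIdeal) := by
  obtain ⟨l, hlast, hlen⟩ := Order.exists_series_of_height_eq_coe p hh
  rw [coheight_eq] at ha
  obtain ⟨l', hhead, hlen'⟩ :=
    Order.exists_series_of_coheight_eq_coe p (n := a) (WithBot.coe_inj.1 ha)
  refine ⟨l.head, hlast ▸ LTSeries.head_le_last l, ?_⟩
  rw [coheight_eq]
  refine WithBot.coe_le_coe.2 (le_trans ?_ (Order.length_le_coheight
    (p := l.smash l' (hlast.trans hhead.symm)) (x := l.head) (by simp)))
  simp [hlen, hlen']

/-- the dimension of a localised module, from below -/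
theorem le_supportDim_localized [IsNoetherianRing R] {M : Type u} [AddCommGroup M] [Module R M]
    [Module.Finite R M] {p q : PrimeSpectrum R} (hq : q ∈ Module.support R M) {h : ℕ}
    (l : LTSeries (PrimeSpectrum R)) (hl : l.length = h) (hhead : q ≤ l.head) (hlast : l.last ≤ p) :
    (h : WithBot ℕ∞) ≤
      Module.supportDim (Localization.AtPrime p.asIdeal) (LocalizedModule p.asIdeal.primeCompl M) := by
  rw [Ega11.SupportLoc.supportDim_localizedModule_eq, Order.le_krullDim_iff]
  exact ⟨⟨l.length, fun i => ⟨l i, Module.mem_support_mono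
    (hhead.trans (l.monotone (Fin.zero_le i))) hq,
    (l.monotone (Fin.le_last i)).trans hlast⟩, l.step⟩, hl⟩

end Groth.Agent.LC16.CanonDim
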