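import Groth.Prelude.Def_SGA2
import Groth.Agent.LC17.Adjacent

/-!
Relative codimension and depth: reduction to codimension one.
-/

namespace Groth.Agent.LC16.RelCodim

universe u

set_option autoImplicit false

open Groth.Agent.LC17

variable {A : Type u} [CommRing A]

/-- primes above `p` -/
def iciIso (p : PrimeSpectrum A) : PrimeSpectrum (A ⧸ p.asIdeal) ≃o Set.Ici p where
  toFun P := ⟨⟨P.asIdeal.comap (Ideal.Quotient.mk p.asIdeal), inferInstance⟩, fun x hx => by
    show Ideal.Quotient.mk p.asIdeal x ∈ P.asIdeal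
    rw [Ideal.Quotient.eq_zero_iff_mem.mpr hx]
    exact zero_mem _⟩
  invFun q := ⟨q.1.asIdeal.map (Ideal.Quotient.mk p.asIdeal), isPrime_map_mk q.2⟩
  left_inv P := PrimeSpectrum.ext
    (Ideal.map_comap_of_surjective _ Ideal.Quotient.mk_surjective P.asIdeal)
  right_inv q := Subtype.ext (PrimeSpectrum.ext (comap_map_mk' q.2))
  map_rel_iff' {P Q} := by
    refine ⟨fun h => ?_, fun h => Ideal.comap_mono h⟩
    have h' := Ideal.map_mono (f := Ideal.Quotient.mk p.asIdeal)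
      (show P.asIdeal.comap (Ideal.Quotient.mk p.asIdeal) ≤
        Q.asIdeal.comap (Ideal.Quotient.mk p.asIdeal) from h)
    rwa [Ideal.map_comap_of_surjective _ Ideal.Quotient.mk_surjective,
      Ideal.map_comap_of_surjective _ Ideal.Quotient.mk_surjective] at h'

theorem height_ici (p q : PrimeSpectrum A) (h : p ≤ q) :
    Order.height (⟨q, h⟩ : Set.Ici p) = htq p.asIdeal q.asIdeal := by
  have := isPrime_map_mk (q := q.asIdeal) h
  rw [← Order.height_orderIso (iciIso p).symm ⟨q, h⟩, ← PrimeSpectrum.height_eq_orderHeight]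
  rfl

theorem relCodim_le {I : Ideal A} (p q : PrimeSpectrum A) (h : p ≤ q) (hq : I ≤ q.asIdeal) :
    SGA2.relCodim I p ≤ htq p.asIdeal q.asIdeal := by
  rw [← height_ici p q h, SGA2.relCodim]
  exact iInf_le (fun q' : {q' : PrimeSpectrum A // p ≤ q' ∧ I ≤ q'.asIdeal} =>
    Order.height (⟨q'.1, q'.2.1⟩ : Set.Ici p)) ⟨q, h, hq⟩

theorem le_relCodim {I : Ideal A} (p : PrimeSpectrum A) {c : ℕ∞}
    (h : ∀ q : PrimeSpectrum A, p ≤ q → I ≤ q.asIdeal → c ≤ htq p.asIdeal q.asIdeal) :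
    c ≤ SGA2.relCodim I p := by
  rw [SGA2.relCodim]
  refine le_iInf fun q => ?_
  rw [height_ici p q.1 q.2.1]
  exact h q.1 q.2.1 q.2.2

variable [IsNoetherianRing A] {M : Type u} [AddCommGroup M] [Module A M] [Module.Finite A M]

/-- the reduction -/
theorem depth_iff (I : Ideal A) (n : ℕ) :
    (∀ p : PrimeSpectrum A, ¬ I ≤ p.asIdeal → (n : ℕ∞) <
      LocCoh.depth (Localization.AtPrime p.asIdeal) (LocalizedModule p.asIdeal.primeCompl M) +
        SGA2.relCodim I p) ↔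
    (∀ p : PrimeSpectrum A, ¬ I ≤ p.asIdeal → SGA2.relCodim I p = 1 → (n : ℕ∞) ≤
      LocCoh.depth (Localization.AtPrime p.asIdeal) (LocalizedModule p.asIdeal.primeCompl M)) := by
  classical
  constructor
  · intro h p hp hc
    have := h p hp
    rw [hc] at this
    exact Order.le_of_lt_add_one this
  intro h p hp
  by_cases hne : Nonempty {q : PrimeSpectrum A // p ≤ q ∧ I ≤ q.asIdeal}
  swap
  · have : SGA2.relCodim I p = ⊤ := by
      rw [SGA2.relCodim]
      have := not_nonempty_iff.mp hne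
      exact iInf_of_empty _
    rw [this, add_top]
    exact ENat.natCast_lt_top n
  obtain ⟨⟨q, hpq, hIq⟩, hq⟩ : ∃ q : {q : PrimeSpectrum A // p ≤ q ∧ I ≤ q.asIdeal},
      Order.height (⟨q.1, q.2.1⟩ : Set.Ici p) = SGA2.relCodim I p :=
    ciInf_mem (fun q : {q : PrimeSpectrum A // p ≤ q ∧ I ≤ q.asIdeal} =>
      Order.height (⟨q.1, q.2.1⟩ : Set.Ici p))
  rw [← hq, height_ici p q hpq]
  obtain ⟨t, ⟨ht, hpt, htq', hIt⟩, hmax⟩ := set_has_maximal_iff_noetherian.mpr
    (inferInstanceAs (IsNoetherian A A))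
    {t : Ideal A | t.IsPrime ∧ p.asIdeal ≤ t ∧ t ≤ q.asIdeal ∧ ¬ I ≤ t}
    ⟨p.asIdeal, p.isPrime, le_rfl, hpq, hp⟩
  have hlt : t < q.asIdeal := lt_of_le_of_ne htq' fun e => hIt (e ▸ hIq)
  have h1 : htq t q.asIdeal = 1 := by
    refine le_antisymm (le_of_not_gt fun hgt => ?_) (one_le_htq hlt)
    obtain ⟨a, haI, hat⟩ := SetLike.not_le_iff_exists.mp hIt
    obtain ⟨s, hs, hts, hsq, has⟩ := exists_prime_between hat (hIq haI) hlt hgt
    exact hmax s ⟨hs, hpt.trans hts.le, hsq.le, fun h => has (h haI)⟩ hts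
  have hc : SGA2.relCodim I (⟨t, ht⟩ : PrimeSpectrum A) = 1 := by
    refine le_antisymm ((relCodim_le (⟨t, ht⟩ : PrimeSpectrum A) q htq' hIq).trans h1.le)
      (le_relCodim _ fun q' hq' hIq' => ?_)
    exact one_le_htq (lt_of_le_of_ne (show t ≤ q'.asIdeal from hq')
      (fun e : t = q'.asIdeal => hIt (e ▸ hIq')))
  have h2 := h ⟨t, ht⟩ hIt hc
  have h3 := depth_loc_le_add_height (M := M) (p := p.asIdeal) (s := t) hpt
  have h4 := htq_add_one_le (p := p.asIdeal) (a := t) (b := q.asIdeal) hpt hlt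
  have h5 : (n : ℕ∞) + 1 ≤
      LocCoh.depth (Localization.AtPrime p.asIdeal) (LocalizedModule p.asIdeal.primeCompl M) +
        htq p.asIdeal q.asIdeal := by
    calc (n : ℕ∞) + 1 ≤ _ + htq p.asIdeal t + 1 := add_le_add (h2.trans h3) le_rfl
      _ ≤ _ := by rw [add_assoc]; exact add_le_add le_rfl h4
  exact (ENat.add_one_le_iff (ENat.natCast_ne_top n)).mp h5

end Groth.Agent.LC16.RelCodim
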