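import Groth.Agent.Cyc90.CohMult
import Groth.Agent.E4O.SupportDim
import Groth.Agent.EGA4Alg4.DepthChange
import Groth.Agent.QC70.CohOps
import Groth.Agent.Sk62.StalkSk
import Groth.Prelude.Def_EGA4b

/-! Invariants of coherent modules at the generizations of a point, read off in the local ring. -/

set_option autoImplicit false
set_option backward.isDefEq.respectTransparency.types false

universe u

open CategoryTheory AlgebraicGeometry IsLocalRing TopologicalSpace Topology

namespace Groth.Agent.LC16.StalkMod

/-- Depth and dimension of the support are invariant under semilinear isomorphisms. -/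
theorem invariants_of_semilinear {R S : Type u} [CommRing R] [IsLocalRing R] [IsNoetherianRing R]
    [CommRing S] [IsLocalRing S] [IsNoetherianRing S] (e : R ≃+* S) (M N : Type u)
    [AddCommGroup M] [Module R M] [Module.Finite R M] [AddCommGroup N] [Module S N]
    (f : M ≃+ N) (hf : ∀ (r : R) (m : M), f (r • m) = e r • f m) :
    LocCoh.depth R M = LocCoh.depth S N ∧ Module.supportDim R M = Module.supportDim S N := by
  let _ : Algebra R S := e.toRingHom.toAlgebra
  let _ : Module R N := Module.compHom N e.toRingHom
  have : IsScalarTower R S N := IsScalarTower.of_algebraMap_smul fun r n => rfl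
  let f' : M ≃ₗ[R] N := { f with map_smul' := hf }
  have : Module.Finite R N := Module.Finite.equiv f'
  have : Module.Finite S N := Module.Finite.of_restrictScalars_finite R S N
  have : Module.Finite R S := Module.Finite.of_surjective (Algebra.linearMap R S) e.surjective
  have : IsLocalHom (algebraMap R S) := IsLocalHom.of_surjective _ e.surjective
  refine ⟨(EGA4Alg4.depth_eq_of_equiv f').trans (EGA4Alg4.depth_eq_of_finite (A := R) (B := S) N), ?_⟩
  rw [Module.supportDim_eq_of_equiv f', Module.supportDim_eq_ringKrullDim_quotient_annihilator,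
    Module.supportDim_eq_ringKrullDim_quotient_annihilator]
  refine ringKrullDim_eq_of_ringEquiv (Ideal.quotientEquiv _ _ e ?_)
  ext s
  obtain ⟨r, rfl⟩ := e.surjective s
  show _ ↔ e r ∈ _
  rw [Module.mem_annihilator]
  refine Iff.trans ?_ (Ideal.mem_map_iff_of_surjective (↑e : R →+* S) e.surjective).symm
  constructor
  · exact fun h => ⟨r, Module.mem_annihilator.2 fun n => h n, rfl⟩
  · rintro ⟨r', hr', he⟩
    rw [← e.injective he]
    exact Module.mem_annihilator.1 hr'

variable {X : Scheme.{u}} [IsLocallyNoetherian X] (G : X.Modules)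

/-- The invariants of the localizations of a stalk are those of the stalks at the generizations. -/
theorem localization_invariants (hG : Coh.IsCoh G) {x z : X} (h : z ⤳ x) :
    LocCoh.depth (Localization.AtPrime (Cyc90.genPrime h).asIdeal)
        (LocalizedModule (Cyc90.genPrime h).asIdeal.primeCompl (G.presheaf.stalk x)) =
      LocCoh.depth (X.presheaf.stalk z) (G.presheaf.stalk z) ∧
    Module.supportDim (Localization.AtPrime (Cyc90.genPrime h).asIdeal)
        (LocalizedModule (Cyc90.genPrime h).asIdeal.primeCompl (G.presheaf.stalk x)) =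
      Module.supportDim (X.presheaf.stalk z) (G.presheaf.stalk z) := by
  have := hG.1
  have := hG.2
  have hfin : Module.Finite (X.presheaf.stalk x) (G.presheaf.stalk x) := QC70.finite_stalk G x
  let P := (Cyc90.genPrime h).asIdeal
  letI := (X.presheaf.stalkSpecializes h).hom.toAlgebra
  letI := Cyc90.CohMult.specModule G h
  haveI : IsLocalization.AtPrime (X.presheaf.stalk z) P := Cyc90.isLocalization_genPrime h
  haveI := Cyc90.CohMult.isLocalizedModule_specLin G hG.1 h
  haveI : IsScalarTower (X.presheaf.stalk x) (X.presheaf.stalk z) (G.presheaf.stalk z) :=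
    IsScalarTower.of_algebraMap_smul fun _ _ => rfl
  have : IsNoetherianRing (Localization.AtPrime P) :=
    IsLocalization.isNoetherianRing P.primeCompl _ inferInstance
  let e : Localization.AtPrime P ≃ₐ[X.presheaf.stalk x] X.presheaf.stalk z :=
    IsLocalization.algEquiv P.primeCompl _ _
  let f : LocalizedModule P.primeCompl (G.presheaf.stalk x) ≃ₗ[X.presheaf.stalk x] G.presheaf.stalk z :=
    IsLocalizedModule.iso P.primeCompl (Cyc90.CohMult.specLin G h)
  refine invariants_of_semilinear e.toRingEquiv _ _ f.toAddEquiv fun r m => ?_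
  obtain ⟨a, s, rfl⟩ := IsLocalization.exists_mk'_eq P.primeCompl r
  have hu : IsUnit (algebraMap (X.presheaf.stalk x) (X.presheaf.stalk z) s) :=
    IsLocalization.map_units _ s
  apply hu.smul_left_cancel.1
  show algebraMap _ (X.presheaf.stalk z) (s : X.presheaf.stalk x) • f (IsLocalization.mk' _ a s • m) =
    algebraMap _ (X.presheaf.stalk z) (s : X.presheaf.stalk x) • (e (IsLocalization.mk' _ a s) • f m)
  rw [algebraMap_smul, ← map_smul, ← algebraMap_smul (Localization.AtPrime P) (s : X.presheaf.stalk x),
    smul_smul, IsLocalization.mk'_spec', algebraMap_smul, map_smul, smul_smul, ← e.commutes, ← map_mul,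
    IsLocalization.mk'_spec', e.commutes, algebraMap_smul]

/-- `(S_k)` of a coherent stalk, read off on the generizations. -/
theorem hasSk_stalk_iff (hG : Coh.IsCoh G) (k : ℕ) (x : X) :
    LocCoh.HasSk k (X.presheaf.stalk x) (G.presheaf.stalk x) ↔ ∀ z : X, z ⤳ x →
      min (k : WithBot ℕ∞) (Module.supportDim (X.presheaf.stalk z) (G.presheaf.stalk z)) ≤
        ((LocCoh.depth (X.presheaf.stalk z) (G.presheaf.stalk z) : ℕ∞) : WithBot ℕ∞) := by
  constructor
  · intro h z hz
    obtain ⟨h1, h2⟩ := localization_invariants G hG hz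
    rw [← h1, ← h2]
    exact h (Cyc90.genPrime hz).asIdeal
  · intro h p _
    let q : PrimeSpectrum (X.presheaf.stalk x) := ⟨p, inferInstance⟩
    have hq := h _ (Cyc90.fromSpecStalk_specializes q)
    obtain ⟨h1, h2⟩ := localization_invariants G hG (Cyc90.fromSpecStalk_specializes q)
    rw [← h1, ← h2] at hq
    have key : ∀ q₁ : PrimeSpectrum (X.presheaf.stalk x), q₁ = q →
        min (k : WithBot ℕ∞) (Module.supportDim (Localization.AtPrime q₁.asIdeal)
          (LocalizedModule q₁.asIdeal.primeCompl (G.presheaf.stalk x))) ≤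
        ((LocCoh.depth (Localization.AtPrime q₁.asIdeal)
          (LocalizedModule q₁.asIdeal.primeCompl (G.presheaf.stalk x)) : ℕ∞) : WithBot ℕ∞) →
        min (k : WithBot ℕ∞) (Module.supportDim (Localization.AtPrime p)
          (LocalizedModule p.primeCompl (G.presheaf.stalk x))) ≤
        ((LocCoh.depth (Localization.AtPrime p)
          (LocalizedModule p.primeCompl (G.presheaf.stalk x)) : ℕ∞) : WithBot ℕ∞) := by
      rintro _ rfl hh; exact hh
    exact key _ (Cyc90.genPrime_fromSpecStalk q) hq

/-- The support of a coherent stalk consists of the generizations in the support. -/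
theorem mem_support_genPrime_iff (hG : Coh.IsCoh G) {x z : X} (h : z ⤳ x) :
    Cyc90.genPrime h ∈ Module.support (X.presheaf.stalk x) (G.presheaf.stalk x) ↔
      z ∈ CohB1.support G := by
  letI := Cyc90.CohMult.specModule G h
  haveI := Cyc90.CohMult.isLocalizedModule_specLin G hG.1 h
  rw [Module.mem_support_iff, ← not_subsingleton_iff_nontrivial]
  exact not_congr (IsLocalizedModule.iso (Cyc90.genPrime h).asIdeal.primeCompl
    (Cyc90.CohMult.specLin G h)).toEquiv.subsingleton_congr

/-- The dimension of the quotient of the local ring by the prime of a generization. -/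
theorem ringKrullDim_quotient_genPrime {x z : X} (h : z ⤳ x) :
    ringKrullDim (X.presheaf.stalk x ⧸ (Cyc90.genPrime h).asIdeal) =
      topologicalKrullDim ↥{t : X | t ∈ closure ({z} : Set X) ∧ t ⤳ x} := by
  let c := PrimeSpectrum.comap (Ideal.Quotient.mk (Cyc90.genPrime h).asIdeal)
  have he : IsEmbedding (X.fromSpecStalk x ∘ c) :=
    (X.fromSpecStalk x).isEmbedding.comp
      (PrimeSpectrum.isClosedEmbedding_comap_of_surjective _ _ Ideal.Quotient.mk_surjective).toIsEmbedding
  have hr : Set.range (X.fromSpecStalk x ∘ c) = {t : X | t ∈ closure ({z} : Set X) ∧ t ⤳ x} := by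
    have hc : Set.range c = PrimeSpectrum.zeroLocus ((Cyc90.genPrime h).asIdeal : Set _) := by
      rw [range_comap_of_surjective _ _ Ideal.Quotient.mk_surjective, Ideal.mk_ker]
    rw [Set.range_comp]
    erw [hc]
    ext t
    constructor
    · rintro ⟨p, hp, rfl⟩
      let pp : PrimeSpectrum (X.presheaf.stalk x) := p
      have htx : X.fromSpecStalk x pp ⤳ x := Cyc90.fromSpecStalk_specializes pp
      refine ⟨specializes_iff_mem_closure.1 ((Cyc90.genPrime_le_iff h htx).1 ?_), htx⟩
      rw [Cyc90.genPrime_fromSpecStalk pp]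
      exact hp
    · rintro ⟨ht, htx⟩
      exact ⟨Cyc90.genPrime htx, (Cyc90.genPrime_le_iff h htx).2 (specializes_iff_mem_closure.2 ht),
        Cyc90.fromSpecStalk_genPrime htx⟩
  rw [← hr, ← PrimeSpectrum.topologicalKrullDim_eq_ringKrullDim]
  exact IsHomeomorph.topologicalKrullDim_eq _ he.toHomeomorph.isHomeomorph

/-- Equidimensionality of a coherent stalk, read off on the generizations. -/
theorem isEquidimModule_stalk_iff (hG : Coh.IsCoh G) (x : X) :
    EGA4.IsEquidimModule (X.presheaf.stalk x) (G.presheaf.stalk x) ↔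
      ∀ z : X, z ⤳ x → z ∈ CohB1.support G → (∀ t, t ⤳ z → t ∈ CohB1.support G → t = z) →
        topologicalKrullDim ↥{t : X | t ∈ closure ({z} : Set X) ∧ t ⤳ x} =
          Module.supportDim (X.presheaf.stalk x) (G.presheaf.stalk x) := by
  have := hG.1
  have := hG.2
  have hfin : Module.Finite (X.presheaf.stalk x) (G.presheaf.stalk x) := QC70.finite_stalk G x
  have hmem : ∀ q : PrimeSpectrum (X.presheaf.stalk x),
      Module.annihilator (X.presheaf.stalk x) (G.presheaf.stalk x) ≤ q.asIdeal ↔
        q ∈ Module.support (X.presheaf.stalk x) (G.presheaf.stalk x) := fun q => by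
    rw [Module.support_eq_zeroLocus]; rfl
  constructor
  · intro h z hzx hzs hmax
    rw [← ringKrullDim_quotient_genPrime hzx]
    refine h _ ⟨⟨(Cyc90.genPrime hzx).2, (hmem _).2 ((mem_support_genPrime_iff G hG hzx).2 hzs)⟩, fun P hP hle => ?_⟩
    let q : PrimeSpectrum (X.presheaf.stalk x) := ⟨P, hP.1⟩
    have htx := Cyc90.fromSpecStalk_specializes q
    have hq := Cyc90.genPrime_fromSpecStalk q
    have htz : X.fromSpecStalk x q ⤳ z := (Cyc90.genPrime_le_iff htx hzx).1 (by rw [hq]; exact hle)
    have hts : X.fromSpecStalk x q ∈ CohB1.support G :=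
      (mem_support_genPrime_iff G hG htx).1 (by rw [hq]; exact (hmem q).1 hP.2)
    have heq := hmax _ htz hts
    have : Cyc90.genPrime hzx = q := ((Cyc90.genPrime_eq_iff hzx htx).2 heq.symm).trans hq
    exact this.le
  · intro h p hp
    let q : PrimeSpectrum (X.presheaf.stalk x) := ⟨p, hp.1.1⟩
    have hzx := Cyc90.fromSpecStalk_specializes q
    have hq := Cyc90.genPrime_fromSpecStalk q
    have hzs : X.fromSpecStalk x q ∈ CohB1.support G :=
      (mem_support_genPrime_iff G hG hzx).1 (by rw [hq]; exact (hmem q).1 hp.1.2)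
    have h1 := h _ hzx hzs fun t htz hts => by
      have htx := htz.trans hzx
      have hle := (Cyc90.genPrime_le_iff htx hzx).2 htz
      have hann := (hmem _).2 ((mem_support_genPrime_iff G hG htx).2 hts)
      rw [hq] at hle
      have hge := hp.2 ⟨(Cyc90.genPrime htx).2, hann⟩ hle
      refine (Cyc90.genPrime_eq_iff htx hzx).1 ?_
      rw [hq]
      exact PrimeSpectrum.ext (le_antisymm hle hge)
    rw [← ringKrullDim_quotient_genPrime hzx] at h1
    have key : ∀ q₁ : PrimeSpectrum (X.presheaf.stalk x), q₁ = q →
        ringKrullDim (X.presheaf.stalk x ⧸ q₁.asIdeal) =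
          Module.supportDim (X.presheaf.stalk x) (G.presheaf.stalk x) →
        ringKrullDim (X.presheaf.stalk x ⧸ p) =
          Module.supportDim (X.presheaf.stalk x) (G.presheaf.stalk x) := by
      rintro _ rfl hh; exact hh
    exact key _ hq h1

end Groth.Agent.LC16.StalkMod
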