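import Groth.Agent.LC15.Basic
import Mathlib.RingTheory.Finiteness.Basic
import Mathlib.RingTheory.Support
import Mathlib.RingTheory.Noetherian.Basic

/-!
`Ext^n(-, G)` is represented by `H^n_J(G)` on finite `J`-torsion modules on which `Ext^{n-1}(-, G)`
vanishes.
-/

namespace Groth.Agent.LC16.ExtRep

universe u

set_option autoImplicit false

open CategoryTheory LC15

variable {R : Type u} [CommRing R] (J : Ideal R) (n : ℕ) (G : Type u) [AddCommGroup G] [Module R G]

/-- the map from the quotient sending one to an element -/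
noncomputable def lam {F : Type u} [AddCommGroup F] [Module R F] (t : ℕ)
    (ht : ∀ a ∈ J ^ t, ∀ m : F, a • m = 0) : F →ₗ[R] ((R ⧸ J ^ t) →ₗ[R] F) where
  toFun m := Submodule.liftQ (J ^ t) (LinearMap.toSpanSingleton R F m) fun a ha => ht a ha m
  map_add' m m' := LinearMap.ext fun x => by
    obtain ⟨r, rfl⟩ := Submodule.Quotient.mk_surjective _ x
    exact smul_add r m m'
  map_smul' c m := LinearMap.ext fun x => by
    obtain ⟨r, rfl⟩ := Submodule.Quotient.mk_surjective _ x
    exact smul_comm r c m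

theorem lam_mk {F : Type u} [AddCommGroup F] [Module R F] (t : ℕ)
    (ht : ∀ a ∈ J ^ t, ∀ m : F, a • m = 0) (m : F) (r : R) :
    lam J t ht m (Submodule.Quotient.mk r) = r • m := rfl

/-- a class as an element of a hom -/
noncomputable def eta {F : Type u} [AddCommGroup F] [Module R F] (t : ℕ)
    (ht : ∀ a ∈ J ^ t, ∀ m : F, a • m = 0) :
    Abelian.Ext (ModuleCat.of R F) (ModuleCat.of R G) n →ₗ[R] (F →ₗ[R] LocCoh.H J n G) where
  toFun x :=
    { toFun := fun m => toH J n G t ((Abelian.Ext.mk₀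
        (ModuleCat.ofHom (lam J t ht m) : quotPow J t ⟶ ModuleCat.of R F)).comp x (zero_add n))
      map_add' := fun m m' => by
        rw [← map_add, ← Abelian.Ext.add_comp, ← Abelian.Ext.mk₀_add, map_add, ModuleCat.ofHom_add]
      map_smul' := fun c m => by
        rw [RingHom.id_apply, ← map_smul, ← Abelian.Ext.smul_comp, ← Abelian.Ext.mk₀_smul, map_smul]
        rfl }
  map_add' x y := LinearMap.ext fun m => by
    simp only [Abelian.Ext.comp_add, map_add, LinearMap.coe_mk, AddHom.coe_mk, LinearMap.add_apply]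
  map_smul' c x := LinearMap.ext fun m => by
    simp only [Abelian.Ext.comp_smul, map_smul, LinearMap.coe_mk, AddHom.coe_mk,
      LinearMap.smul_apply, RingHom.id_apply]

theorem eta_apply {F : Type u} [AddCommGroup F] [Module R F] (t : ℕ)
    (ht : ∀ a ∈ J ^ t, ∀ m : F, a • m = 0)
    (x : Abelian.Ext (ModuleCat.of R F) (ModuleCat.of R G) n) (m : F) :
    eta J n G t ht x m = toH J n G t ((Abelian.Ext.mk₀
      (ModuleCat.ofHom (lam J t ht m) : quotPow J t ⟶ ModuleCat.of R F)).comp x (zero_add n)) := rfl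

theorem eta_level {F : Type u} [AddCommGroup F] [Module R F] {t s : ℕ} (hts : t ≤ s)
    (ht : ∀ a ∈ J ^ t, ∀ m : F, a • m = 0) :
    eta J n G s (fun a ha => ht a (Ideal.pow_le_pow_right hts ha)) = eta J n G t ht (F := F) := by
  refine LinearMap.ext fun x => LinearMap.ext fun m => ?_
  rw [eta_apply, eta_apply, ← toH_precomp J n G hts, Abelian.Ext.mk₀_comp_mk₀_assoc]
  congr
  refine LinearMap.ext fun y => ?_
  obtain ⟨r, rfl⟩ := Submodule.Quotient.mk_surjective _ y
  rfl

theorem eta_precomp {F F' : Type u} [AddCommGroup F] [Module R F] [AddCommGroup F'] [Module R F']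
    (t : ℕ) (ht : ∀ a ∈ J ^ t, ∀ m : F, a • m = 0) (ht' : ∀ a ∈ J ^ t, ∀ m : F', a • m = 0)
    (π : F' →ₗ[R] F) (x : Abelian.Ext (ModuleCat.of R F) (ModuleCat.of R G) n) (m : F') :
    eta J n G t ht' ((Abelian.Ext.mk₀ (ModuleCat.ofHom π)).comp x (zero_add n)) m =
      eta J n G t ht x (π m) := by
  rw [eta_apply, eta_apply, Abelian.Ext.mk₀_comp_mk₀_assoc]
  congr
  apply ModuleCat.hom_ext
  refine LinearMap.ext fun y => ?_
  obtain ⟨r, rfl⟩ := Submodule.Quotient.mk_surjective _ y
  exact map_smul π r m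

/-- the vanishing hypothesis -/
def Vanish : Prop :=
  ∀ (F' : Type u) [AddCommGroup F'] [Module R F'], Module.Finite R F' →
    (∃ t, ∀ a ∈ J ^ t, ∀ m : F', a • m = 0) →
      ∀ i : ℕ, i + 1 = n → Subsingleton (Abelian.Ext (ModuleCat.of R F') (ModuleCat.of R G) i)

variable {J n G}

/-- precomposition with a surjection is injective -/
theorem precomp_injective [IsNoetherianRing R] (hvan : Vanish J n G) {F P : Type u} [AddCommGroup F]
    [Module R F] [AddCommGroup P] [Module R P] [Module.Finite R P] (t : ℕ)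
    (htP : ∀ a ∈ J ^ t, ∀ m : P, a • m = 0) (π : P →ₗ[R] F) (hπ : Function.Surjective π)
    (x : Abelian.Ext (ModuleCat.of R F) (ModuleCat.of R G) n)
    (hx : (Abelian.Ext.mk₀ (ModuleCat.ofHom π)).comp x (zero_add n) = 0) : x = 0 := by
  have hex : Function.Exact (LinearMap.ker π).subtype π :=
    LinearMap.exact_iff.2 (Submodule.range_subtype _).symm
  have hS := seqSC_shortExact Subtype.val_injective hex hπ
  match n, hvan, x, hx with
  | 0, _, x, hx =>
    obtain ⟨φ, rfl⟩ := (Abelian.Ext.mk₀_bijective _ _).2 x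
    rw [Abelian.Ext.mk₀_comp_mk₀, Abelian.Ext.mk₀_eq_zero_iff] at hx
    rw [Abelian.Ext.mk₀_eq_zero_iff]
    apply ModuleCat.hom_ext
    refine LinearMap.ext fun y => ?_
    obtain ⟨p, rfl⟩ := hπ y
    exact congrArg (fun ψ : ModuleCat.of R P ⟶ ModuleCat.of R G => ψ.hom p) hx
  | i + 1, hvan, x, hx =>
    obtain ⟨y, hy⟩ := Abelian.Ext.contravariant_sequence_exact₃ hS (ModuleCat.of R G) x hx
      (n₀ := i) (add_comm 1 i)
    have hy0 : y = 0 := (hvan (LinearMap.ker π) inferInstance
      ⟨t, fun a ha m => Subtype.ext (htP a ha m.1)⟩ i rfl).elim y 0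
    rw [← hy, hy0, Abelian.Ext.comp_zero]

theorem lsum_single {F : Type u} [AddCommGroup F] [Module R F] {k : ℕ} {Q : Type u} [AddCommGroup Q]
    [Module R Q] (g : Fin k → (Q →ₗ[R] F)) (i : Fin k) (v : Q) :
    LinearMap.lsum R (fun _ : Fin k => Q) R g (Pi.single i v) = g i v := by
  simp only [LinearMap.lsum_apply, LinearMap.sum_apply, LinearMap.comp_apply, LinearMap.proj_apply]
  rw [Fintype.sum_eq_single i fun j hj => by rw [Pi.single_eq_of_ne hj, map_zero], Pi.single_eq_same]

section Free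

variable (J n G) (t k : ℕ)

/-- the free module over the quotient -/
abbrev Free : Type u := Fin k → R ⧸ J ^ t

theorem free_kill : ∀ a ∈ J ^ t, ∀ m : Free J t k, a • m = 0 := fun a ha m => funext fun i => by
  obtain ⟨r, hr⟩ := Submodule.Quotient.mk_surjective _ (m i)
  show a • m i = 0
  rw [← hr, ← Submodule.Quotient.mk_smul, Submodule.Quotient.mk_eq_zero]
  exact (J ^ t).mul_mem_right _ ha

/-- basis vector -/
noncomputable def basisVec (i : Fin k) : Free J t k := Pi.single i (Submodule.Quotient.mk 1)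

theorem lam_basisVec (i : Fin k) :
    lam J t (free_kill J t k) (basisVec J t k i) =
      LinearMap.single R (fun _ : Fin k => R ⧸ J ^ t) i := by
  refine LinearMap.ext fun y => ?_
  obtain ⟨r, rfl⟩ := Submodule.Quotient.mk_surjective _ y
  rw [lam_mk, basisVec, LinearMap.single_apply, ← Pi.single_smul, ← Submodule.Quotient.mk_smul,
    smul_eq_mul, mul_one]

theorem ofHom_sum {M N : Type u} [AddCommGroup M] [Module R M] [AddCommGroup N] [Module R N]
    {ι : Type} (s : Finset ι) (f : ι → (M →ₗ[R] N)) :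
    ModuleCat.ofHom (∑ i ∈ s, f i) = ∑ i ∈ s, ModuleCat.ofHom (f i) := by
  apply ModuleCat.hom_ext
  simp [ModuleCat.hom_sum]

theorem ext_of_components (z z' : Abelian.Ext (ModuleCat.of R (Free J t k)) (ModuleCat.of R G) n)
    (h : ∀ i, (Abelian.Ext.mk₀ (ModuleCat.ofHom (LinearMap.single R (fun _ : Fin k => R ⧸ J ^ t) i))).comp
        z (zero_add n) =
      (Abelian.Ext.mk₀ (ModuleCat.ofHom (LinearMap.single R (fun _ : Fin k => R ⧸ J ^ t) i))).comp
        z' (zero_add n)) : z = z' := by
  have hid : (𝟙 (ModuleCat.of R (Free J t k))) = ∑ i : Fin k,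
      ModuleCat.ofHom (LinearMap.proj i) ≫
        ModuleCat.ofHom (LinearMap.single R (fun _ : Fin k => R ⧸ J ^ t) i) := by
    apply ModuleCat.hom_ext
    refine LinearMap.ext fun v => ?_
    simp only [ModuleCat.hom_id, LinearMap.id_apply, ModuleCat.hom_sum, ModuleCat.hom_comp,
      ModuleCat.hom_ofHom, LinearMap.sum_apply, LinearMap.comp_apply, LinearMap.proj_apply,
      LinearMap.single_apply]
    exact (Finset.univ_sum_single v).symm
  rw [← Abelian.Ext.mk₀_id_comp z, ← Abelian.Ext.mk₀_id_comp z', hid, Abelian.Ext.mk₀_sum,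
    Abelian.Ext.sum_comp, Abelian.Ext.sum_comp]
  refine Finset.sum_congr rfl fun i _ => ?_
  rw [← Abelian.Ext.mk₀_comp_mk₀_assoc, ← Abelian.Ext.mk₀_comp_mk₀_assoc, h]

theorem exists_components (y : Fin k → Abelian.Ext (quotPow J t) (ModuleCat.of R G) n) :
    ∃ z : Abelian.Ext (ModuleCat.of R (Free J t k)) (ModuleCat.of R G) n, ∀ i,
      (Abelian.Ext.mk₀ (ModuleCat.ofHom (LinearMap.single R (fun _ : Fin k => R ⧸ J ^ t) i))).comp
        z (zero_add n) = y i := by
  refine ⟨∑ j, (Abelian.Ext.mk₀ (ModuleCat.ofHom (LinearMap.proj j) :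
    ModuleCat.of R (Free J t k) ⟶ quotPow J t)).comp (y j) (zero_add n), fun i => ?_⟩
  rw [Abelian.Ext.comp_sum]
  rw [Finset.sum_eq_single i]
  · rw [Abelian.Ext.mk₀_comp_mk₀_assoc]
    convert Abelian.Ext.mk₀_id_comp (y i)
    apply ModuleCat.hom_ext
    exact LinearMap.proj_comp_single_same R (fun _ : Fin k => R ⧸ J ^ t) i
  · intro j _ hj
    rw [Abelian.Ext.mk₀_comp_mk₀_assoc]
    have : ModuleCat.ofHom (LinearMap.single R (fun _ : Fin k => R ⧸ J ^ t) i) ≫
        (ModuleCat.ofHom (LinearMap.proj j) : ModuleCat.of R (Free J t k) ⟶ quotPow J t) = 0 := by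
      apply ModuleCat.hom_ext
      exact LinearMap.proj_comp_single_ne R (fun _ : Fin k => R ⧸ J ^ t) _ _ hj
    rw [this, Abelian.Ext.mk₀_zero, Abelian.Ext.zero_comp]
  · exact fun h => absurd (Finset.mem_univ i) h

end Free

variable [IsNoetherianRing R]

theorem toH_injective (hvan : Vanish J n G) (t : ℕ) : Function.Injective (toH J n G t) :=
  (injective_iff_map_eq_zero _).2 fun y hy => by
    obtain ⟨m, hm, hym⟩ := (toH_eq_zero_iff J n G y).1 hy
    refine precomp_injective hvan m (fun a ha v => ?_) (qmap J hm).hom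
      (fun x => ?_) y hym
    · obtain ⟨r, rfl⟩ := Submodule.Quotient.mk_surjective _ v
      rw [← Submodule.Quotient.mk_smul, Submodule.Quotient.mk_eq_zero]
      exact (J ^ m).mul_mem_right _ ha
    · obtain ⟨r, rfl⟩ := Submodule.Quotient.mk_surjective _ x
      exact ⟨Submodule.Quotient.mk r, qmap_mk J hm r⟩

theorem eta_injective (hvan : Vanish J n G) {F : Type u} [AddCommGroup F] [Module R F]
    [Module.Finite R F] (t : ℕ) (ht : ∀ a ∈ J ^ t, ∀ m : F, a • m = 0) :
    Function.Injective (eta J n G t ht (F := F)) := by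
  obtain ⟨k, g, hg⟩ := Module.Finite.exists_fin (R := R) (M := F)
  let π : Free J t k →ₗ[R] F := LinearMap.lsum R (fun _ : Fin k => R ⧸ J ^ t) R fun i => lam J t ht (g i)
  have hπ : Function.Surjective π := by
    rw [← LinearMap.range_eq_top, eq_top_iff, ← hg, Submodule.span_le]
    rintro _ ⟨i, rfl⟩
    exact ⟨basisVec J t k i, by rw [basisVec, lsum_single, lam_mk, one_smul]⟩
  refine (injective_iff_map_eq_zero _).2 fun x hx => ?_
  refine precomp_injective hvan t (free_kill J t k) π hπ x ?_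
  refine ext_of_components J n G t k _ _ fun i => ?_
  rw [Abelian.Ext.comp_zero]
  refine toH_injective hvan t ?_
  rw [map_zero, ← lam_basisVec J t k i, ← eta_apply, eta_precomp J n G t ht, hx,
    LinearMap.zero_apply]

theorem eta_surjective (hvan : Vanish J n G) {F : Type u} [AddCommGroup F] [Module R F]
    [Module.Finite R F] (t₀ : ℕ) (ht₀ : ∀ a ∈ J ^ t₀, ∀ m : F, a • m = 0) :
    Function.Surjective (eta J n G t₀ ht₀ (F := F)) := by
  intro h
  obtain ⟨k, g, hg⟩ := Module.Finite.exists_fin (R := R) (M := F)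
  choose s hs y hy using fun i => toH_surj_ge J n G (h (g i)) t₀
  let t := max t₀ (Finset.univ.sup s)
  have hle : t₀ ≤ t := le_max_left _ _
  have hst : ∀ i, s i ≤ t := fun i =>
    (Finset.le_sup (f := s) (Finset.mem_univ i)).trans (le_max_right _ _)
  have ht : ∀ a ∈ J ^ t, ∀ m : F, a • m = 0 := fun a ha => ht₀ a (Ideal.pow_le_pow_right hle ha)
  let π : Free J t k →ₗ[R] F := LinearMap.lsum R (fun _ : Fin k => R ⧸ J ^ t) R fun i => lam J t ht (g i)
  have hπe : ∀ i, π (basisVec J t k i) = g i := fun i => by rw [basisVec, lsum_single, lam_mk, one_smul]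
  have hπ : Function.Surjective π := by
    rw [← LinearMap.range_eq_top, eq_top_iff, ← hg, Submodule.span_le]
    rintro _ ⟨i, rfl⟩
    exact ⟨basisVec J t k i, hπe i⟩
  obtain ⟨z, hz⟩ := exists_components J n G t k fun i =>
    (Abelian.Ext.mk₀ (qmap J (hst i))).comp (y i) (zero_add n)
  have hzh : eta J n G t (free_kill J t k) z = h ∘ₗ π := by
    refine LinearMap.pi_ext' fun i => LinearMap.ext fun v => ?_
    obtain ⟨r, rfl⟩ := Submodule.Quotient.mk_surjective _ v
    have e : LinearMap.single R (fun _ : Fin k => R ⧸ J ^ t) i (Submodule.Quotient.mk r) =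
        r • basisVec J t k i := by
      rw [basisVec, LinearMap.single_apply, ← Pi.single_smul, ← Submodule.Quotient.mk_smul,
        smul_eq_mul, mul_one]
    rw [LinearMap.comp_apply, LinearMap.comp_apply, e, map_smul, map_smul]
    congr 1
    rw [eta_apply, lam_basisVec, hz, toH_precomp, hy, LinearMap.comp_apply, hπe]
  have hQ : ∀ a ∈ J ^ t, ∀ m : LinearMap.ker π, a • m = 0 := fun a ha m =>
    Subtype.ext (free_kill J t k a ha m.1)
  have hex : Function.Exact (LinearMap.ker π).subtype π :=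
    LinearMap.exact_iff.2 (Submodule.range_subtype _).symm
  have hS := seqSC_shortExact Subtype.val_injective hex hπ
  obtain ⟨x, hx⟩ := Abelian.Ext.contravariant_sequence_exact₂ hS (ModuleCat.of R G) z
    (eta_injective hvan t hQ (by
      refine LinearMap.ext fun q => ?_
      rw [map_zero, LinearMap.zero_apply]
      refine (eta_precomp J n G t (free_kill J t k) hQ (LinearMap.ker π).subtype z q).trans ?_
      rw [hzh]
      show h (π q.1) = 0
      rw [LinearMap.mem_ker.1 q.2, map_zero]))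
  refine ⟨x, ?_⟩
  rw [← eta_level J n G hle ht₀]
  refine LinearMap.ext fun m => ?_
  obtain ⟨v, rfl⟩ := hπ m
  rw [← eta_precomp J n G t ht (free_kill J t k) π x v]
  exact (congrArg (fun w => eta J n G t (free_kill J t k) w v) hx).trans
    (LinearMap.congr_fun hzh v)

theorem exists_kill {F : Type u} [AddCommGroup F] [Module R F] [Module.Finite R F]
    (h : Module.support R F ⊆ PrimeSpectrum.zeroLocus (J : Set R)) :
    ∃ t, ∀ a ∈ J ^ t, ∀ m : F, a • m = 0 := by
  rw [Module.support_eq_zeroLocus, PrimeSpectrum.zeroLocus_subset_zeroLocus_iff] at h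
  obtain ⟨n, hn⟩ := Ideal.exists_pow_le_of_le_radical_of_fg h (IsNoetherian.noetherian J)
  exact ⟨n, fun a ha m => Module.mem_annihilator.1 (hn ha) m⟩

omit [IsNoetherianRing R] in
theorem support_subset {F : Type u} [AddCommGroup F] [Module R F] [Module.Finite R F]
    (h : ∃ t, ∀ a ∈ J ^ t, ∀ m : F, a • m = 0) :
    Module.support R F ⊆ PrimeSpectrum.zeroLocus (J : Set R) := by
  obtain ⟨t, ht⟩ := h
  rw [Module.support_eq_zeroLocus, PrimeSpectrum.zeroLocus_subset_zeroLocus_iff]
  exact fun a ha => ⟨t, Module.mem_annihilator.2 fun m => ht _ (Ideal.pow_mem_pow ha t) m⟩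

/-- the representability -/
theorem nonempty_equiv (hvan : Vanish J n G) (F : Type u) [AddCommGroup F] [Module R F]
    [Module.Finite R F] (hF : Module.support R F ⊆ PrimeSpectrum.zeroLocus (J : Set R)) :
    Nonempty (Abelian.Ext (ModuleCat.of R F) (ModuleCat.of R G) n ≃ₗ[R] (F →ₗ[R] LocCoh.H J n G)) := by
  obtain ⟨t, ht⟩ := exists_kill hF
  exact ⟨LinearEquiv.ofBijective _ ⟨eta_injective hvan t ht, eta_surjective hvan t ht⟩⟩

end Groth.Agent.LC16.ExtRep
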