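import Groth.Agent.LC16.CanonDual
import Groth.Agent.LC16.SopRegular
import Groth.Agent.EGA4Alg4.CMMod
import Mathlib.RingTheory.Filtration
import Mathlib.RingTheory.KrullDimension.Regular

/-!
Regular sequences on a canonical module.
-/

namespace Groth.Agent.LC16.CanonSeq

universe u

set_option autoImplicit false
set_option linter.overlappingInstances false
set_option linter.unusedSectionVars false

open IsLocalRing LC15 RingTheory.Sequence
open scoped Pointwise

variable {R : Type u} [CommRing R] [IsNoetherianRing R] [IsLocalRing R]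
  {E : Type u} [AddCommGroup E] [Module R E] {f : ResidueField R →ₗ[R] E}

/-- a Cohen–Macaulay module of dimension `d` and a module dual to its top cohomology -/
structure IsPair (R : Type u) [CommRing R] [IsLocalRing R] (E : Type u) [AddCommGroup E] [Module R E] (d : ℕ) (X : Type u) [AddCommGroup X]
    [Module R X] (Y : Type u) [AddCommGroup Y] [Module R Y] : Prop where
  supportDim : Module.supportDim R X = (d : WithBot ℕ∞)
  low : ∀ j < d, Subsingleton (LocCoh.H (maximalIdeal R) j X)
  equiv : Nonempty ((Y →ₗ[R] E) ≃ₗ[R] LocCoh.H (maximalIdeal R) d X)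

section step

variable {d : ℕ} {X Y : Type u} [AddCommGroup X] [Module R X] [Module.Finite R X]
  [AddCommGroup Y] [Module R Y]

lemma nontrivial_left (h : IsPair R E d X Y) : Nontrivial X :=
  (Module.supportDim_ne_bot_iff_nontrivial R X).1 (by simp [h.supportDim])

lemma nontrivial_right (h : IsPair R E d X Y) : Nontrivial Y := by
  obtain ⟨e⟩ := h.equiv
  have := nontrivial_H_supportDim d X h.supportDim
  rw [← not_subsingleton_iff_nontrivial] at this ⊢
  exact fun _ => this e.toEquiv.symm.subsingleton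

omit [Module.Finite R X] in
lemma lsmul_mem_pair (a : R) : Function.Exact (LinearMap.lsmul R X a) (a • ⊤ : Submodule R X).mkQ := by
  intro x
  rw [Submodule.mkQ_apply, Submodule.Quotient.mk_eq_zero,
    Submodule.mem_smul_pointwise_iff_exists]
  exact ⟨fun ⟨y, _, hy⟩ => ⟨y, hy⟩, fun ⟨y, hy⟩ => ⟨y, trivial, hy⟩⟩

/-- surjectivity of multiplication on the top cohomology -/
lemma surjective_H_of_regular {a : R} (ha : a ∈ maximalIdeal R) (hX : IsSMulRegular X a)
    (h : IsPair R E d X Y) :
    Function.Surjective (Hmap (maximalIdeal R) d (LinearMap.lsmul R X a)) := by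
  have := nontrivial_left h
  have := nontrivial_quotSMulTop_of_mem_maximalIdeal X ha
  obtain ⟨e, he⟩ := EGA4Alg4.exists_supportDim_eq (A := R) (M := QuotSMulTop a X)
  have h1 := Module.supportDim_quotSMulTop_succ_eq_supportDim hX ha
  rw [he, h.supportDim] at h1
  have hd : e + 1 = d := by exact_mod_cast h1
  have hq : Subsingleton (LocCoh.H (maximalIdeal R) d (QuotSMulTop a X)) :=
    subsingleton_H_of_coheightLT (e + 1) (coheightLT_of_supportDim he.le) d hd.le
  intro y
  exact (H_exact₂ (maximalIdeal R) d (f := LinearMap.lsmul R X a) hX (lsmul_mem_pair a) (Submodule.mkQ_surjective _) y).1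
    (hq.elim _ _)

/-- regular on one means regular on the other -/
theorem regular_iff (hf : InjHull.IsInjectiveHull f) {a : R} (ha : a ∈ maximalIdeal R)
    (h : IsPair R E d X Y) : IsSMulRegular X a ↔ IsSMulRegular Y a := by
  obtain ⟨e⟩ := h.equiv
  constructor
  · intro hX
    refine MatlisBasic.injective_of_dual_surjective hf (g := LinearMap.lsmul R Y a) fun ψ => ?_
    obtain ⟨y, hy⟩ := surjective_H_of_regular ha hX h (e ψ)
    rw [Hmap_lsmul] at hy
    refine ⟨e.symm y, LinearMap.ext fun v => ?_⟩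
    rw [← e.symm_apply_apply ψ, ← hy, map_smul, LinearMap.comp_apply, LinearMap.lsmul_apply,
      LinearMap.smul_apply, map_smul]
  · intro hY
    by_contra hX
    have := nontrivial_left h
    have hmem : a ∈ ⋃ p ∈ associatedPrimes R X, (p : Set R) := by
      rw [biUnion_associatedPrimes_eq_compl_regular]
      exact hX
    obtain ⟨p, hp, hap⟩ : ∃ p ∈ associatedPrimes R X, a ∈ p := by simpa using hmem
    have hCM : LocCoh.IsCohenMacaulayModule R X := by
      refine le_antisymm ?_ (EGA4Alg4.depth_le_supportDim (A := R) (M := X))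
      rw [h.supportDim]
      exact WithBot.coe_le_coe.2 ((LC17.natCast_le_idealDepth_iff (maximalIdeal R) X d).2 h.low)
    have hdim : Module.supportDim R (X ⧸ (p • ⊤ : Submodule R X)) = (d : WithBot ℕ∞) := by
      rw [EGA4Alg4.supportDim_quotient_prime (p := ⟨p, hp.isPrime⟩)
        (EGA4Alg4.mem_support_of_assoc hp), EGA4Alg4.ringKrullDim_quotient_assoc hCM hp,
        h.supportDim]
    have hnt := nontrivial_H_supportDim d _ hdim
    rw [← not_subsingleton_iff_nontrivial] at hnt
    refine hnt (subsingleton_of_forall_eq 0 fun z => ?_)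
    have hex := LinearMap.exact_subtype_mkQ (p • ⊤ : Submodule R X)
    have hW : Subsingleton (LocCoh.H (maximalIdeal R) (d + 1) (p • ⊤ : Submodule R X)) :=
      subsingleton_H_of_coheightLT (d + 1) (coheightLT_of_injective (p • ⊤ : Submodule R X).subtype
        (p • ⊤ : Submodule R X).injective_subtype (coheightLT_of_supportDim h.supportDim.le))
        (d + 1) le_rfl
    obtain ⟨y, rfl⟩ := (H_exact₃ (maximalIdeal R) d (p • ⊤ : Submodule R X).injective_subtype hex
      (Submodule.mkQ_surjective _) z).1 (hW.elim _ _)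
    obtain ⟨φ, hφ⟩ := MatlisBasic.dual_surjective_of_injective hf (g := LinearMap.lsmul R Y a) hY
      (e.symm y)
    have hy : y = a • e φ := by
      rw [← map_smul, ← e.apply_symm_apply y, ← hφ]
      congr 1
      exact LinearMap.ext fun v => by simp
    have hzero : LinearMap.lsmul R (X ⧸ (p • ⊤ : Submodule R X)) a = 0 := by
      refine Submodule.linearMap_qext _ (LinearMap.ext fun x => ?_)
      simp only [LinearMap.comp_apply, Submodule.mkQ_apply, LinearMap.lsmul_apply,
        LinearMap.zero_apply, ← Submodule.Quotient.mk_smul, Submodule.Quotient.mk_eq_zero]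
      exact Submodule.smul_mem_smul hap Submodule.mem_top
    rw [hy, map_smul, ← Hmap_lsmul, hzero, Hmap_zero, LinearMap.zero_apply]

/-- dividing by a regular element -/
theorem pair_quot {a : R} (ha : a ∈ maximalIdeal R) (hX : IsSMulRegular X a) (h : IsPair R E d X Y) :
    ∃ e : ℕ, d = e + 1 ∧ IsPair R E e (QuotSMulTop a X) (QuotSMulTop a Y) := by
  have := nontrivial_left h
  have := nontrivial_quotSMulTop_of_mem_maximalIdeal X ha
  obtain ⟨c, hc⟩ := EGA4Alg4.exists_supportDim_eq (A := R) (M := QuotSMulTop a X)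
  have h1 := Module.supportDim_quotSMulTop_succ_eq_supportDim hX ha
  rw [hc, h.supportDim] at h1
  have hd : c + 1 = d := by exact_mod_cast h1
  subst hd
  have hex := lsmul_mem_pair (X := X) a
  have hs := Submodule.mkQ_surjective (a • ⊤ : Submodule R X)
  refine ⟨c, rfl, hc, fun j hj => ?_, ?_⟩
  · exact subsingleton_H_right (maximalIdeal R) j (f := LinearMap.lsmul R X a) hX hex hs (h.low j (by omega))
      (h.low (j + 1) (by omega))
  · obtain ⟨e⟩ := h.equiv
    have hinj : Function.Injective (Hδ (maximalIdeal R) c (f := LinearMap.lsmul R X a) hX hex hs) := by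
      refine (injective_iff_map_eq_zero _).2 fun y hy => ?_
      obtain ⟨z, rfl⟩ := (H_exact₃ (maximalIdeal R) c (f := LinearMap.lsmul R X a) hX hex hs y).1 hy
      rw [(h.low c (by omega)).elim z 0, map_zero]
    have hnat : ∀ φ : Y →ₗ[R] E, e (LinearMap.lcomp R E (LinearMap.lsmul R Y a) φ) =
        Hmap (maximalIdeal R) (c + 1) (LinearMap.lsmul R X a) (e φ) := fun φ => by
      rw [Hmap_lsmul, ← map_smul]
      congr 1
      exact LinearMap.ext fun v => by simp
    exact ⟨CanonDual.dualCokerEquiv (Submodule.mkQ_surjective _) (lsmul_mem_pair (X := Y) a) ≪≫ₗ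
      CanonDual.kerEquiv e e hnat ≪≫ₗ LinearEquiv.ofEq _ _
        (LinearMap.exact_iff.1 (H_exact₁ (maximalIdeal R) c (f := LinearMap.lsmul R X a) hX hex hs)) ≪≫ₗ
          (LinearEquiv.ofInjective _ hinj).symm⟩

/-- transporting a pair -/
theorem pair_congr {X' Y' : Type u} [AddCommGroup X'] [Module R X'] [AddCommGroup Y'] [Module R Y']
    (h : IsPair R E d X Y) (eX : X ≃ₗ[R] X') (eY : Y ≃ₗ[R] Y') : IsPair R E d X' Y' := by
  refine ⟨(Module.supportDim_eq_of_equiv eX).symm.trans h.supportDim,
    fun j hj => ?_, ?_⟩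
  · have := h.low j hj
    exact (Hequiv (maximalIdeal R) j eX).toEquiv.symm.subsingleton
  · obtain ⟨e⟩ := h.equiv
    exact ⟨LinearEquiv.congrLeft E R eY.symm ≪≫ₗ e ≪≫ₗ Hequiv (maximalIdeal R) d eX⟩

end step

/-- regular sequences -/
theorem weaklyRegular_iff (hf : InjHull.IsInjectiveHull f) (as : List R) :
    ∀ (_ : ∀ a ∈ as, a ∈ maximalIdeal R) {d : ℕ} {X Y : Type u} [AddCommGroup X] [Module R X]
      [Module.Finite R X] [AddCommGroup Y] [Module R Y], IsPair R E d X Y →
      (IsWeaklyRegular X as ↔ IsWeaklyRegular Y as) ∧ (IsWeaklyRegular X as →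
        ∃ e : ℕ, d = e + as.length ∧ IsPair R E e (X ⧸ (Ideal.ofList as • ⊤ : Submodule R X))
          (Y ⧸ (Ideal.ofList as • ⊤ : Submodule R Y))) := by
  induction as with
  | nil =>
    intro _ d X Y _ _ _ _ _ h
    exact ⟨⟨fun _ => .nil R Y, fun _ => .nil R X⟩, fun _ => ⟨d, rfl, pair_congr h
      (Submodule.quotEquivOfEqBot _ (by simp)).symm (Submodule.quotEquivOfEqBot _ (by simp)).symm⟩⟩
  | cons a as ih =>
    intro hm d X Y _ _ _ _ _ h
    have ha := hm a List.mem_cons_self
    have hm' : ∀ b ∈ as, b ∈ maximalIdeal R := fun b hb => hm b (List.mem_cons_of_mem _ hb)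
    refine ⟨?_, fun hw => ?_⟩
    · rw [isWeaklyRegular_cons_iff, isWeaklyRegular_cons_iff, ← regular_iff hf ha h]
      refine and_congr_right fun hX => ?_
      obtain ⟨e, -, he⟩ := pair_quot ha hX h
      exact (ih hm' he).1
    · rw [isWeaklyRegular_cons_iff] at hw
      obtain ⟨e, rfl, he⟩ := pair_quot ha hw.1 h
      obtain ⟨e', rfl, he'⟩ := (ih hm' he).2 hw.2
      exact ⟨e', by simp [add_assoc], pair_congr he'
        (Submodule.quotOfListConsSMulTopEquivQuotSMulTopInner X a as).symm
        (Submodule.quotOfListConsSMulTopEquivQuotSMulTopInner Y a as).symm⟩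

/-- the ring and its canonical module -/
theorem pair_self [LocCoh.IsCohenMacaulayLocalRing R] {n : ℕ} (hn : ringKrullDim R = n) {K : Type u}
    [AddCommGroup K] [Module R K] (eK : (K →ₗ[R] E) ≃ₗ[R] LocCoh.H (maximalIdeal R) n R) :
    IsPair R E n R K := by
  refine ⟨(Module.supportDim_self_eq_ringKrullDim R).trans hn,
    (LC17.natCast_le_idealDepth_iff (maximalIdeal R) R n).1 ?_, ⟨eK⟩⟩
  have h := LocCoh.IsCohenMacaulayLocalRing.supportDim_eq_depth (R := R)
  rw [Module.supportDim_self_eq_ringKrullDim, hn] at h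
  exact le_of_eq (WithBot.coe_inj.1 h)

/-- endomorphisms of a module dual to a quotient of the ring -/
theorem exists_smul_of_dual (hf : InjHull.IsInjectiveHull f) {J : Ideal R} {Y : Type u}
    [AddCommGroup Y] [Module R Y] (e : (Y →ₗ[R] E) ≃ₗ[R] R ⧸ J) :
    (∀ r : R, r • (LinearMap.id : Y →ₗ[R] Y) = 0 → r ∈ J) ∧
      ∀ φ : Y →ₗ[R] Y, ∃ r : R, φ = r • LinearMap.id := by
  refine ⟨fun r hr => ?_, fun φ => ?_⟩
  · have h1 : r • e.symm 1 = 0 := LinearMap.ext fun y => by
      rw [LinearMap.smul_apply, ← map_smul,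
        show r • y = 0 from LinearMap.congr_fun hr y, map_zero, LinearMap.zero_apply]
    have h2 := congrArg e h1
    rw [map_smul, e.apply_symm_apply, map_zero, Algebra.smul_def, mul_one] at h2
    exact Ideal.Quotient.eq_zero_iff_mem.1 h2
  · obtain ⟨r, hr⟩ := Ideal.Quotient.mk_surjective (e (e.symm 1 ∘ₗ φ))
    refine ⟨r, MatlisBasic.ext_of_dual hf fun ψ => ?_⟩
    obtain ⟨s, hs⟩ := Ideal.Quotient.mk_surjective (e ψ)
    have hψ : ψ = s • e.symm 1 := by
      apply e.injective
      rw [map_smul, e.apply_symm_apply, Algebra.smul_def, mul_one, ← hs]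
      rfl
    have h1 : e.symm 1 ∘ₗ φ = r • e.symm 1 := by
      apply e.injective
      rw [map_smul, e.apply_symm_apply, Algebra.smul_def, mul_one, ← hr]
      rfl
    rw [hψ, LinearMap.smul_comp, h1]
    exact LinearMap.ext fun y => by simp [smul_smul, mul_comm]

/-- the ring is the endomorphism ring of its canonical module -/
theorem toEnd_bijective [LocCoh.IsCohenMacaulayLocalRing R] {n : ℕ} (hn : ringKrullDim R = n)
    (hf : InjHull.IsInjectiveHull f) {K : Type u} [AddCommGroup K] [Module R K] [Module.Finite R K]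
    (eK : (K →ₗ[R] E) ≃ₗ[R] LocCoh.H (maximalIdeal R) n R) :
    Function.Bijective (fun r : R => r • (LinearMap.id : K →ₗ[R] K)) := by
  obtain ⟨rs, hlen, hrm, hrs⟩ := exists_isRegular_of_CM hn
  -- endomorphisms modulo an ideal inside a given power
  have key : ∀ t : ℕ, ∃ J : Ideal R, J ≤ maximalIdeal R ^ t ∧
      (∀ r : R, r • (LinearMap.id : K →ₗ[R] K) = 0 → r ∈ J) ∧
      ∀ φ : K →ₗ[R] K, ∃ r : R, ∀ x, φ x - r • x ∈ (J • ⊤ : Submodule R K) := by
    intro t
    obtain ⟨k, hk⟩ : ∃ k, maximalIdeal R ^ k ≤ Ideal.ofList rs := by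
      obtain ⟨e, hde, he⟩ := (weaklyRegular_iff hf rs hrm (pair_self hn eK)).2 hrs.toIsWeaklyRegular
      obtain rfl : e = 0 := by omega
      refine Ideal.exists_pow_le_of_le_radical_of_fg (fun a ha => ?_)
        (IsNoetherian.noetherian (maximalIdeal R))
      have h1 : Subsingleton (Module.support R (R ⧸ (Ideal.ofList rs • ⊤ : Submodule R R))) := by
        refine ⟨fun p q => Subtype.ext (PrimeSpectrum.ext ?_)⟩
        have hp : ∀ p : Module.support R (R ⧸ (Ideal.ofList rs • ⊤ : Submodule R R)),
            p.1.asIdeal = maximalIdeal R := fun p => by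
          by_contra hne
          have := coheightLT_of_supportDim he.supportDim.le p.1 p.2
          rw [Nat.cast_one, Order.lt_one_iff, Order.coheight_eq_zero] at this
          exact hne (le_antisymm (le_maximalIdeal p.1.2.ne_top)
            (this (b := closedPoint R) (le_maximalIdeal p.1.2.ne_top)))
        rw [hp p, hp q]
      rw [Ideal.mem_radical_iff, ← Ideal.mem_radical_iff, Ideal.radical_eq_sInf, Submodule.mem_sInf]
      rintro q ⟨hle, hq⟩
      have hmem : (⟨q, hq⟩ : PrimeSpectrum R) ∈
          Module.support R (R ⧸ (Ideal.ofList rs • ⊤ : Submodule R R)) := by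
        rw [Module.support_quotient, Module.support_eq_zeroLocus]
        refine ⟨fun x hx => ?_, hle⟩
        rw [SetLike.mem_coe, Module.mem_annihilator] at hx
        have := hx 1
        simp only [smul_eq_mul, mul_one] at this
        exact this ▸ q.zero_mem
      have hmax : (closedPoint R : PrimeSpectrum R) ∈
          Module.support R (R ⧸ (Ideal.ofList rs • ⊤ : Submodule R R)) :=
        Module.mem_support_mono (show (⟨q, hq⟩ : PrimeSpectrum R) ≤ closedPoint R from
          le_maximalIdeal hq.ne_top) hmem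
      have h2 : (⟨q, hq⟩ : PrimeSpectrum R) = closedPoint R :=
        congrArg Subtype.val (h1.elim ⟨_, hmem⟩ ⟨_, hmax⟩)
      have h3 : q = maximalIdeal R := congrArg PrimeSpectrum.asIdeal h2
      exact h3 ▸ ha
    let bs := rs.map (· ^ (t + 1))
    have hbm : ∀ b ∈ bs, b ∈ maximalIdeal R ^ t ∧ b ∈ maximalIdeal R := by
      intro b hb
      obtain ⟨r, hr, rfl⟩ := List.mem_map.1 hb
      exact ⟨Ideal.pow_le_pow_right t.le_succ (Ideal.pow_mem_pow (hrm r hr) _),
        Ideal.pow_mem_of_mem _ (hrm r hr) _ t.succ_pos⟩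
    have hrad : maximalIdeal R ≤ (Ideal.ofList bs).radical := by
      intro a ha
      have h1 : (Ideal.ofList rs : Ideal R) ≤ (Ideal.ofList bs).radical :=
        EGA4Alg4.ofList_le fun r hr =>
          ⟨t + 1, Ideal.subset_span (List.mem_map.2 ⟨r, hr, rfl⟩)⟩
      obtain ⟨j, hj⟩ := h1 (hk (Ideal.pow_mem_pow ha k))
      exact ⟨k * j, by rwa [pow_mul]⟩
    have hbs : IsWeaklyRegular R bs := isWeaklyRegular_of_le_radical rs bs hrs hrm
      (by simp [bs]) (fun b hb => (hbm b hb).2) (hrad.trans (Ideal.radical_mono le_sup_right))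
    obtain ⟨e, hde, he⟩ := (weaklyRegular_iff hf bs (fun b hb => (hbm b hb).2)
      (pair_self hn eK)).2 hbs
    obtain rfl : e = 0 := by simp [bs] at hde; omega
    obtain ⟨k', hk'⟩ := Ideal.exists_pow_le_of_le_radical_of_fg hrad
      (IsNoetherian.noetherian (maximalIdeal R))
    obtain ⟨eE⟩ := he.equiv
    have htop : gamma (maximalIdeal R) (R ⧸ (Ideal.ofList bs • ⊤ : Submodule R R)) = ⊤ := by
      refine eq_top_iff.2 fun x _ => ⟨k', fun a ha => ?_⟩
      obtain ⟨x, rfl⟩ := Submodule.Quotient.mk_surjective _ x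
      rw [← Submodule.Quotient.mk_smul, Submodule.Quotient.mk_eq_zero]
      exact Submodule.smul_mem_smul (hk' ha) Submodule.mem_top
    have e' := eE ≪≫ₗ H0equiv _ _ ≪≫ₗ LinearEquiv.ofTop _ htop ≪≫ₗ
      Submodule.quotEquivOfEq _ (Ideal.ofList bs : Submodule R R)
        (by rw [smul_eq_mul, Ideal.mul_top])
    obtain ⟨hinj, hsurj⟩ := exists_smul_of_dual hf e'
    refine ⟨Ideal.ofList bs, EGA4Alg4.ofList_le fun b hb => (hbm b hb).1, fun r hr => hinj r ?_,
      fun φ => ?_⟩
    · refine Submodule.linearMap_qext _ (LinearMap.ext fun x => ?_)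
      simp only [LinearMap.comp_apply, LinearMap.smul_apply, LinearMap.id_apply,
        LinearMap.zero_apply, Submodule.mkQ_apply, ← Submodule.Quotient.mk_smul]
      rw [show r • x = 0 from LinearMap.congr_fun hr x]
      rfl
    · obtain ⟨r, hr⟩ := hsurj (Submodule.mapQ _ _ φ (by
        rw [← Submodule.map_le_iff_le_comap, Submodule.map_smul'']
        exact Submodule.smul_mono le_rfl le_top))
      refine ⟨r, fun x => (Submodule.Quotient.eq _).1 ?_⟩
      have := LinearMap.congr_fun hr (Submodule.Quotient.mk x)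
      simpa using this
  constructor
  · intro r s hrs'
    have hz : (r - s) • (LinearMap.id : K →ₗ[R] K) = 0 := by
      rw [sub_smul]
      exact sub_eq_zero.2 hrs'
    have h0 : r - s ∈ (⨅ t : ℕ, maximalIdeal R ^ t) := Submodule.mem_iInf _ |>.2 fun t => by
      obtain ⟨J, hJ, hinj, -⟩ := key t
      exact hJ (hinj _ hz)
    rw [Ideal.iInf_pow_eq_bot_of_isLocalRing _ (maximalIdeal.isMaximal R).ne_top] at h0
    exact sub_eq_zero.1 h0
  · intro φ
    obtain ⟨c, hc⟩ := CAlg4.AR.exists_hom_mem_smul (maximalIdeal R) K K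
    let S : Submodule R (K →ₗ[R] K) := Submodule.span R {LinearMap.id}
    have h0 : Submodule.Quotient.mk (p := S) φ ∈
        (⨅ t : ℕ, maximalIdeal R ^ t • ⊤ : Submodule R ((K →ₗ[R] K) ⧸ S)) := by
      refine Submodule.mem_iInf _ |>.2 fun t => ?_
      obtain ⟨J, hJ, -, hsurj⟩ := key (t + c)
      obtain ⟨r, hr⟩ := hsurj φ
      have h1 := Submodule.mem_map_of_mem (f := S.mkQ) (hc t (φ - r • LinearMap.id) fun x =>
        Submodule.smul_mono hJ le_rfl (hr x))
      rw [Submodule.map_smul''] at h1
      have h2 : S.mkQ (φ - r • LinearMap.id) = Submodule.Quotient.mk φ := by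
        rw [map_sub, map_smul, show S.mkQ LinearMap.id = 0 from
          (Submodule.Quotient.mk_eq_zero S).2 (Submodule.subset_span rfl), smul_zero, sub_zero]
        rfl
      rw [h2] at h1
      exact Submodule.smul_mono le_rfl le_top h1
    rw [Ideal.iInf_pow_smul_eq_bot_of_isLocalRing _ (maximalIdeal.isMaximal R).ne_top,
      Submodule.mem_bot, Submodule.Quotient.mk_eq_zero] at h0
    obtain ⟨r, hr⟩ := Submodule.mem_span_singleton.1 h0
    exact ⟨r, hr⟩

end Groth.Agent.LC16.CanonSeq
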