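import Groth.Agent.LC15.Gamma
import Groth.Agent.LC16.ExtLocal
import Mathlib.Algebra.Homology.ShortComplex.ModuleCat

/-!
Universality: a family of functors with long exact sequences which vanishes on injective modules
and is the power torsion in degree zero is local cohomology.
-/

namespace Groth.Agent.LC16.Univ

universe u v

set_option autoImplicit false

open LC15

variable {R : Type u} [CommRing R]

/-- an effaceable family extending the torsion functor -/
structure Fam (I : Ideal R) where
  /-- the values -/
  T : ℕ → ModuleCat.{u} R → ModuleCat.{u} R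
  /-- functoriality -/
  map : ∀ (i : ℕ) {M N : ModuleCat.{u} R}, (M →ₗ[R] N) → (T i M →ₗ[R] T i N)
  /-- the connecting map -/
  δ : ∀ (i : ℕ) {M N L : ModuleCat.{u} R} {f : M →ₗ[R] N} {g : N →ₗ[R] L}
    (_ : Function.Injective f) (_ : Function.Exact f g) (_ : Function.Surjective g),
    T i L →ₗ[R] T (i + 1) M
  exact₃ : ∀ (i : ℕ) {M N L : ModuleCat.{u} R} {f : M →ₗ[R] N} {g : N →ₗ[R] L}
    (hf : Function.Injective f) (h : Function.Exact f g) (hg : Function.Surjective g),
    Function.Exact (map i g) (δ i hf h hg)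
  exact₁ : ∀ (i : ℕ) {M N L : ModuleCat.{u} R} {f : M →ₗ[R] N} {g : N →ₗ[R] L}
    (hf : Function.Injective f) (h : Function.Exact f g) (hg : Function.Surjective g),
    Function.Exact (δ i hf h hg) (map (i + 1) f)
  subsingleton : ∀ (i : ℕ) (E : ModuleCat.{u} R), Module.Injective R E → Subsingleton (T (i + 1) E)
  /-- degree zero -/
  zero : ∀ M : ModuleCat.{u} R, T 0 M ≃ₗ[R] gamma I M
  zero_natural : ∀ {M N : ModuleCat.{u} R} (g : M →ₗ[R] N) (x : T 0 M),
    zero N (map 0 g x) = gammaMap I g (zero M x)

variable {I : Ideal R}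

/-- every such family is local cohomology -/
theorem nonempty_equiv (F : Fam I) :
    ∀ (i : ℕ) (M : Type u) [AddCommGroup M] [Module R M],
      Nonempty (F.T i (ModuleCat.of R M) ≃ₗ[R] LocCoh.H I i M) := by
  intro i
  induction i with
  | zero => exact fun M _ _ => ⟨F.zero (ModuleCat.of R M) ≪≫ₗ (H0equiv I M).symm⟩
  | succ i ih =>
    intro M _ _
    obtain ⟨E, _, _, f, hf, hE⟩ := exists_injective_embedding (R := R) M
    let g := (LinearMap.range f).mkQ
    have hex : Function.Exact f g := LinearMap.exact_map_mkQ_range f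
    have hg : Function.Surjective g := Submodule.mkQ_surjective _
    let C := ModuleCat.of R (E ⧸ LinearMap.range f)
    let δ := F.δ i (M := ModuleCat.of R M) (N := ModuleCat.of R E) (L := C) hf hex hg
    have hδ : Function.Surjective δ := fun y =>
      (F.exact₁ i (M := ModuleCat.of R M) (N := ModuleCat.of R E) (L := C) hf hex hg y).1
        ((F.subsingleton i (ModuleCat.of R E) hE).elim _ _)
    have hT : Function.Exact (F.map i (M := ModuleCat.of R E) (N := C) g) δ :=
      F.exact₃ i (M := ModuleCat.of R M) (N := ModuleCat.of R E) (L := C) hf hex hg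
    have hδ' : Function.Surjective (Hδ I i hf hex hg) :=
      Hδ_surjective I i hf hex hg (subsingleton_H_succ_of_injective I i)
    have hT' := H_exact₃ I i hf hex hg
    rcases i with _ | i
    · refine ⟨ExtLocal.cokerCongr hδ hT hδ' hT'
        (F.zero (ModuleCat.of R E) ≪≫ₗ (H0equiv I E).symm)
        (F.zero C ≪≫ₗ (H0equiv I (E ⧸ LinearMap.range f)).symm) fun x => ?_⟩
      refine h0_injective I _ ?_
      rw [h0_Hmap, ← H0equiv_coe, ← H0equiv_coe, LinearEquiv.trans_apply, LinearEquiv.trans_apply,
        LinearEquiv.apply_symm_apply, LinearEquiv.apply_symm_apply, F.zero_natural]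
      rfl
    · obtain ⟨e⟩ := ih (E ⧸ LinearMap.range f)
      have hinj : Function.Injective δ := (injective_iff_map_eq_zero _).2 fun y hy => by
        obtain ⟨z, rfl⟩ := (hT y).1 hy
        rw [(F.subsingleton i (ModuleCat.of R E) hE).elim z 0, map_zero]
      have hinj' : Function.Injective (Hδ I (i + 1) hf hex hg) :=
        (injective_iff_map_eq_zero _).2 fun y hy => by
          obtain ⟨z, rfl⟩ := (hT' y).1 hy
          rw [(subsingleton_H_succ_of_injective I i (M := E)).elim z 0, map_zero]
      exact ⟨(LinearEquiv.ofBijective δ ⟨hinj, hδ⟩).symm ≪≫ₗ e ≪≫ₗ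
        LinearEquiv.ofBijective _ ⟨hinj', hδ'⟩⟩

end Groth.Agent.LC16.Univ
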