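import Groth.Agent.LC16.KoszulExact
import Groth.Agent.LC16.Univ
import Mathlib.Algebra.Colimit.Module
import Mathlib.Algebra.Homology.HomologySequenceLemmas
import Mathlib.Algebra.Homology.HomologicalComplexAbelian

/-!
The limit of the Koszul cohomology of the powers computes local cohomology over a Noetherian ring.
-/

namespace Groth.Agent.LC16.KoszulFam

universe u

set_option autoImplicit false
set_option linter.unusedSectionVars false

open CategoryTheory CategoryTheory.Limits LC15 KoszulPairs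

variable {R : Type u} [CommRing R] (fs : List R)

/-- the degree -/
abbrev deg (i : ℕ) : ℤ := (i : ℤ) - fs.length

/-- the cohomology of the `n`-th powers -/
noncomputable abbrev G (i : ℕ) (M : ModuleCat.{u} R) (n : ℕ) : ModuleCat.{u} R :=
  (K fs n M).homology (deg fs i)

/-- transition -/
noncomputable abbrev trH (i : ℕ) (M : ModuleCat.{u} R) (n m : ℕ) (h : n ≤ m) :
    (G fs i M n : Type u) →ₗ[R] (G fs i M m : Type u) :=
  (HomologicalComplex.homologyMap (tr fs h M) (deg fs i)).hom

theorem tr_id (n : ℕ) (M : ModuleCat.{u} R) : tr fs (le_refl n) M = 𝟙 _ := by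
  apply HomologicalComplex.hom_ext
  intro q
  ext x
  exact tr_refl fs n M q x

theorem tr_comp {n m k : ℕ} (h : n ≤ m) (h' : m ≤ k) (M : ModuleCat.{u} R) :
    tr fs h M ≫ tr fs h' M = tr fs (h.trans h') M := by
  apply HomologicalComplex.hom_ext
  intro q
  ext x
  exact tr_trans fs h h' M q x

instance directedSystem (i : ℕ) (M : ModuleCat.{u} R) :
    DirectedSystem (fun n => (G fs i M n : Type u)) (fun n m h => trH fs i M n m h) where
  map_self n x := by
    show trH fs i M n n le_rfl x = x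
    rw [trH, tr_id, HomologicalComplex.homologyMap_id]
    rfl
  map_map k j n hnj hjk x := by
    show trH fs i M _ _ hjk (trH fs i M _ _ hnj x) = _
    rw [trH, trH, ← LinearMap.comp_apply, ← ModuleCat.hom_comp,
      ← HomologicalComplex.homologyMap_comp, tr_comp]

/-- the limit -/
noncomputable abbrev T (i : ℕ) (M : ModuleCat.{u} R) : ModuleCat.{u} R :=
  ModuleCat.of R (Module.DirectLimit (fun n => (G fs i M n : Type u)) (trH fs i M))

/-- the structure map -/
noncomputable abbrev of (i : ℕ) (M : ModuleCat.{u} R) (n : ℕ) : G fs i M n →ₗ[R] T fs i M :=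
  Module.DirectLimit.of R ℕ (fun n => (G fs i M n : Type u)) (trH fs i M) n

theorem exists_of (i : ℕ) (M : ModuleCat.{u} R) (z : T fs i M) : ∃ n x, of fs i M n x = z :=
  Module.DirectLimit.exists_of z

theorem of_trH (i : ℕ) (M : ModuleCat.{u} R) {n m : ℕ} (h : n ≤ m) (x : G fs i M n) :
    of fs i M m (trH fs i M n m h x) = of fs i M n x :=
  Module.DirectLimit.of_f

theorem of_eq_zero_iff (i : ℕ) (M : ModuleCat.{u} R) {n : ℕ} (x : G fs i M n) :
    of fs i M n x = 0 ↔ ∃ m, ∃ h : n ≤ m, trH fs i M n m h x = 0 :=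
  ⟨fun h => Module.DirectLimit.of.zero_exact h, fun ⟨_, h, hx⟩ => by
    rw [← of_trH fs i M h x, hx, map_zero]⟩

/-- functoriality at finite level -/
noncomputable abbrev mapH (i n : ℕ) {M N : ModuleCat.{u} R} (g : M →ₗ[R] N) :
    G fs i M n →ₗ[R] G fs i N n :=
  (HomologicalComplex.homologyMap (Kmap n g fs) (deg fs i)).hom

theorem mapH_trH (i : ℕ) {M N : ModuleCat.{u} R} (g : M →ₗ[R] N) (n m : ℕ) (h : n ≤ m)
    (x : G fs i M n) : mapH fs i m g (trH fs i M n m h x) = trH fs i N n m h (mapH fs i n g x) := by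
  rw [← LinearMap.comp_apply, ← LinearMap.comp_apply, ← ModuleCat.hom_comp, ← ModuleCat.hom_comp,
    ← HomologicalComplex.homologyMap_comp, ← HomologicalComplex.homologyMap_comp, Kmap_tr]

/-- functoriality -/
noncomputable def Tmap (i : ℕ) {M N : ModuleCat.{u} R} (g : M →ₗ[R] N) : T fs i M →ₗ[R] T fs i N :=
  Module.DirectLimit.lift R ℕ (fun n => (G fs i M n : Type u)) (trH fs i M)
    (fun n => of fs i N n ∘ₗ mapH fs i n g) fun n m h x => by
      rw [LinearMap.comp_apply, LinearMap.comp_apply, mapH_trH, of_trH]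

theorem Tmap_of (i : ℕ) {M N : ModuleCat.{u} R} (g : M →ₗ[R] N) (n : ℕ) (x : G fs i M n) :
    Tmap fs i g (of fs i M n x) = of fs i N n (mapH fs i n g x) :=
  Module.DirectLimit.lift_of _ _ _

section Seq

variable {M N L : ModuleCat.{u} R} (f : M →ₗ[R] N) (g : N →ₗ[R] L) (hf : Function.Injective f)
  (h : Function.Exact f g) (hg : Function.Surjective g)

/-- the sequence of complexes -/
noncomputable def seq (n : ℕ) : ShortComplex (ConePair.Cx R) :=
  ShortComplex.mk (Kmap n f fs) (Kmap n g fs) (by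
    apply HomologicalComplex.hom_ext
    intro q
    ext x
    exact (degreewise f g hf h hg n fs q).2.1.apply_apply_eq_zero x)

theorem seq_shortExact (n : ℕ) : (seq fs f g hf h hg n).ShortExact := by
  refine HomologicalComplex.shortExact_of_degreewise_shortExact _ fun q => ?_
  obtain ⟨h1, h2, h3⟩ := degreewise f g hf h hg n fs q
  refine { exact := ?_, mono_f := ?_, epi_g := ?_ }
  · rw [ShortComplex.ShortExact.moduleCat_exact_iff_function_exact]
    exact h2
  · rw [ModuleCat.mono_iff_injective]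
    exact h1
  · rw [ModuleCat.epi_iff_surjective]
    exact h3

/-- transition between the sequences -/
noncomputable def seqTr {n m : ℕ} (hnm : n ≤ m) : seq fs f g hf h hg n ⟶ seq fs f g hf h hg m :=
  ShortComplex.homMk (tr fs hnm M) (tr fs hnm N) (tr fs hnm L) (Kmap_tr fs hnm f) (Kmap_tr fs hnm g)

theorem deg_succ (i : ℕ) : (ComplexShape.up ℤ).Rel (deg fs i) (deg fs (i + 1)) := by
  show deg fs i + 1 = deg fs (i + 1)
  simp only [deg, Nat.cast_add, Nat.cast_one]
  ring

/-- the connecting map at finite level -/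
noncomputable def deltaH (i n : ℕ) : G fs i L n →ₗ[R] G fs (i + 1) M n :=
  ((seq_shortExact fs f g hf h hg n).δ (deg fs i) (deg fs (i + 1)) (deg_succ fs i)).hom

theorem deltaH_trH (i n m : ℕ) (hnm : n ≤ m) (x : G fs i L n) :
    deltaH fs f g hf h hg i m (trH fs i L n m hnm x) =
      trH fs (i + 1) M n m hnm (deltaH fs f g hf h hg i n x) :=
  (congrArg (fun ψ : G fs i L n ⟶ G fs (i + 1) M m => ψ.hom x)
    (HomologicalComplex.HomologySequence.δ_naturality (seqTr fs f g hf h hg hnm)
      (seq_shortExact fs f g hf h hg n) (seq_shortExact fs f g hf h hg m)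
      (deg fs i) (deg fs (i + 1)) (deg_succ fs i))).symm

/-- the connecting map -/
noncomputable def delta (i : ℕ) : T fs i L →ₗ[R] T fs (i + 1) M :=
  Module.DirectLimit.lift R ℕ (fun n => (G fs i L n : Type u)) (trH fs i L)
    (fun n => of fs (i + 1) M n ∘ₗ deltaH fs f g hf h hg i n) fun n m hnm x => by
      rw [LinearMap.comp_apply, LinearMap.comp_apply, deltaH_trH, of_trH]

theorem delta_of (i n : ℕ) (x : G fs i L n) :
    delta fs f g hf h hg i (of fs i L n x) = of fs (i + 1) M n (deltaH fs f g hf h hg i n x) :=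
  Module.DirectLimit.lift_of _ _ _

theorem exact₃ (i : ℕ) : Function.Exact (Tmap fs i g) (delta fs f g hf h hg i) := by
  have hn : ∀ n, Function.Exact (mapH fs i n g) (deltaH fs f g hf h hg i n) := fun n =>
    (ShortComplex.ShortExact.moduleCat_exact_iff_function_exact _).mp
      ((seq_shortExact fs f g hf h hg n).homology_exact₃ (deg fs i) (deg fs (i + 1)) (deg_succ fs i))
  intro z
  constructor
  · intro hz
    obtain ⟨n, x, rfl⟩ := exists_of fs i L z
    rw [delta_of, of_eq_zero_iff] at hz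
    obtain ⟨m, hm, hx⟩ := hz
    rw [← deltaH_trH] at hx
    obtain ⟨y, hy⟩ := (hn m _).1 hx
    exact ⟨of fs i N m y, by rw [Tmap_of, hy, of_trH]⟩
  · rintro ⟨w, rfl⟩
    obtain ⟨n, x, rfl⟩ := exists_of fs i N w
    rw [Tmap_of, delta_of, (hn n).apply_apply_eq_zero, map_zero]

theorem exact₁ (i : ℕ) : Function.Exact (delta fs f g hf h hg i) (Tmap fs (i + 1) f) := by
  have hn : ∀ n, Function.Exact (deltaH fs f g hf h hg i n) (mapH fs (i + 1) n f) := fun n =>
    (ShortComplex.ShortExact.moduleCat_exact_iff_function_exact _).mp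
      ((seq_shortExact fs f g hf h hg n).homology_exact₁ (deg fs i) (deg fs (i + 1)) (deg_succ fs i))
  intro z
  constructor
  · intro hz
    obtain ⟨n, x, rfl⟩ := exists_of fs (i + 1) M z
    rw [Tmap_of, of_eq_zero_iff] at hz
    obtain ⟨m, hm, hx⟩ := hz
    rw [← mapH_trH] at hx
    obtain ⟨y, hy⟩ := (hn m _).1 hx
    exact ⟨of fs i L m y, by rw [delta_of, hy, of_trH]⟩
  · rintro ⟨w, rfl⟩
    obtain ⟨n, x, rfl⟩ := exists_of fs i L w
    rw [delta_of, Tmap_of, (hn n).apply_apply_eq_zero, map_zero]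

end Seq

theorem exists_π (n : ℕ) (M : ModuleCat.{u} R) (q : ℤ) (x : (K fs n M).homology q) :
    ∃ c, ((K fs n M).homologyπ q).hom c = x :=
  (ModuleCat.epi_iff_surjective _).1 inferInstance x

theorem π_eq_zero (n : ℕ) (M : ModuleCat.{u} R) (p q : ℤ) (c : (K fs n M).cycles q)
    (w : (K fs n M).X p) (hw : ((K fs n M).d p q).hom w = ((K fs n M).iCycles q).hom c) :
    ((K fs n M).homologyπ q).hom c = 0 := by
  have h1 := congrArg (fun ψ : (K fs n M).X p ⟶ (K fs n M).X q => ψ.hom w)
    ((K fs n M).toCycles_i p q)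
  have hc : ((K fs n M).toCycles p q).hom w = c :=
    (ModuleCat.mono_iff_injective _).1 inferInstance (h1.trans hw)
  rw [← hc]
  exact congrArg (fun ψ : (K fs n M).X p ⟶ (K fs n M).homology q => ψ.hom w)
    ((K fs n M).toCycles_comp_homologyπ p q)

theorem subsingleton_T [IsNoetherianRing R] (M : ModuleCat.{u} R) [Module.Injective R M] (i : ℕ)
    (hi : 0 < i) : Subsingleton (T fs i M) := by
  refine ⟨fun z z' => ?_⟩
  suffices key : ∀ z : T fs i M, z = 0 by rw [key z, key z']
  intro z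
  obtain ⟨n, x, rfl⟩ := exists_of fs i M z
  obtain ⟨c, rfl⟩ := exists_π fs n M (deg fs i) x
  obtain ⟨m, hm, w, hw⟩ := KoszulExact.exists_boundary fs M (deg fs i - 1) (deg fs i) (deg fs i + 1)
    (by ring) rfl (by simp only [deg]; omega) n (((K fs n M).iCycles (deg fs i)).hom c)
    (congrArg (fun ψ : (K fs n M).cycles (deg fs i) ⟶ (K fs n M).X (deg fs i + 1) => ψ.hom c)
      ((K fs n M).iCycles_d (deg fs i) (deg fs i + 1)))
  rw [of_eq_zero_iff]
  refine ⟨m, hm, ?_⟩
  have h1 := congrArg (fun ψ : (K fs n M).cycles (deg fs i) ⟶ (K fs m M).homology (deg fs i) =>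
    ψ.hom c) (HomologicalComplex.homologyπ_naturality (tr fs hm M) (deg fs i))
  refine h1.trans (π_eq_zero fs m M _ _ _ w (hw.trans ?_))
  exact (congrArg (fun ψ : (K fs n M).cycles (deg fs i) ⟶ (K fs m M).X (deg fs i) => ψ.hom c)
    (HomologicalComplex.cyclesMap_i (tr fs hm M) (deg fs i))).symm

section Zero

theorem deg_zero : deg fs 0 + fs.length = 0 := by simp [deg]

/-- a bottom degree class as an element of the module -/
noncomputable def val (n : ℕ) (M : ModuleCat.{u} R) : G fs 0 M n →ₗ[R] M :=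
  (e0 n M fs (deg fs 0) (deg_zero fs)).toLinearMap ∘ₗ ((K fs n M).iCycles (deg fs 0)).hom ∘ₗ
    (((K fs n M).isoHomologyπ (deg fs 0 - 1) (deg fs 0) (by simp) (by
      have := subsingleton_X fs n M (deg fs 0 - 1) (Or.inl (by simp only [deg, Nat.cast_zero]; omega))
      exact (ModuleCat.isZero_of_subsingleton _).eq_of_src _ _)).inv).hom

theorem val_π (n : ℕ) (M : ModuleCat.{u} R) (c : (K fs n M).cycles (deg fs 0)) :
    val fs n M (((K fs n M).homologyπ (deg fs 0)).hom c) =
      e0 n M fs (deg fs 0) (deg_zero fs) (((K fs n M).iCycles (deg fs 0)).hom c) := by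
  have hp : (K fs n M).d (deg fs 0 - 1) (deg fs 0) = 0 := by
    have := subsingleton_X fs n M (deg fs 0 - 1) (Or.inl (by simp only [deg, Nat.cast_zero]; omega))
    exact (ModuleCat.isZero_of_subsingleton _).eq_of_src _ _
  have := congrArg (fun ψ : (K fs n M).cycles (deg fs 0) ⟶ (K fs n M).cycles (deg fs 0) => ψ.hom c)
    (((K fs n M).isoHomologyπ (deg fs 0 - 1) (deg fs 0) (by simp) hp).hom_inv_id)
  exact congrArg (fun y => e0 n M fs (deg fs 0) (deg_zero fs)
    (((K fs n M).iCycles (deg fs 0)).hom y)) this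

theorem val_injective (n : ℕ) (M : ModuleCat.{u} R) : Function.Injective (val fs n M) := by
  intro x y hxy
  obtain ⟨c, rfl⟩ := exists_π fs n M _ x
  obtain ⟨c', rfl⟩ := exists_π fs n M _ y
  rw [val_π, val_π] at hxy
  rw [(ModuleCat.mono_iff_injective ((K fs n M).iCycles (deg fs 0))).1 inferInstance
    ((e0 n M fs (deg fs 0) (deg_zero fs)).injective hxy)]

theorem val_mem_iff (n : ℕ) (M : ModuleCat.{u} R) (m : M) :
    m ∈ LinearMap.range (val fs n M) ↔ ∀ f ∈ fs, f ^ n • m = 0 := by
  constructor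
  · rintro ⟨x, rfl⟩
    obtain ⟨c, rfl⟩ := exists_π fs n M _ x
    rw [val_π]
    exact (d_zero_iff fs n M _ (deg fs 0 + 1) rfl (deg_zero fs) _).1
      (congrArg (fun ψ : (K fs n M).cycles (deg fs 0) ⟶ (K fs n M).X (deg fs 0 + 1) => ψ.hom c)
        ((K fs n M).iCycles_d (deg fs 0) (deg fs 0 + 1)))
  · intro hm
    let g : ModuleCat.of R R ⟶ (K fs n M).X (deg fs 0) :=
      ModuleCat.ofHom (LinearMap.toSpanSingleton R _ ((e0 n M fs (deg fs 0) (deg_zero fs)).symm m))
    have hg : g ≫ (K fs n M).d (deg fs 0) (deg fs 0 + 1) = 0 := by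
      ext
      have : ((K fs n M).d (deg fs 0) (deg fs 0 + 1)).hom
          ((e0 n M fs (deg fs 0) (deg_zero fs)).symm m) = 0 :=
        (d_zero_iff fs n M _ _ rfl (deg_zero fs) _).2
          (by simpa only [LinearEquiv.apply_symm_apply] using hm)
      simpa [g] using this
    refine ⟨((K fs n M).homologyπ (deg fs 0)).hom
      (((K fs n M).liftCycles g (deg fs 0 + 1) (by simp) hg).hom 1), ?_⟩
    rw [val_π]
    have h1 := (congrArg (fun ψ : ModuleCat.of R R ⟶ (K fs n M).X (deg fs 0) => ψ.hom 1)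
      ((K fs n M).liftCycles_i g (deg fs 0 + 1) (by simp) hg)).trans
      (LinearMap.toSpanSingleton_apply_one R _ _)
    exact (congrArg (e0 n M fs (deg fs 0) (deg_zero fs)) h1).trans (LinearEquiv.apply_symm_apply _ _)

theorem val_trH (n m : ℕ) (h : n ≤ m) (M : ModuleCat.{u} R) (x : G fs 0 M n) :
    val fs m M (trH fs 0 M n m h x) = val fs n M x := by
  obtain ⟨c, rfl⟩ := exists_π fs n M _ x
  have h1 := congrArg (fun ψ : (K fs n M).cycles (deg fs 0) ⟶ (K fs m M).homology (deg fs 0) =>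
    ψ.hom c) (HomologicalComplex.homologyπ_naturality (tr fs h M) (deg fs 0))
  have h2 := congrArg (fun ψ : (K fs n M).cycles (deg fs 0) ⟶ (K fs m M).X (deg fs 0) => ψ.hom c)
    (HomologicalComplex.cyclesMap_i (tr fs h M) (deg fs 0))
  refine (congrArg (val fs m M) h1).trans ((val_π fs m M _).trans ?_)
  rw [val_π, ← e0_tr fs h M (deg fs 0) (deg_zero fs)]
  exact congrArg _ h2

theorem val_mapH (n : ℕ) {M N : ModuleCat.{u} R} (g : M →ₗ[R] N) (x : G fs 0 M n) :
    val fs n N (mapH fs 0 n g x) = g (val fs n M x) := by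
  obtain ⟨c, rfl⟩ := exists_π fs n M _ x
  have h1 := congrArg (fun ψ : (K fs n M).cycles (deg fs 0) ⟶ (K fs n N).homology (deg fs 0) =>
    ψ.hom c) (HomologicalComplex.homologyπ_naturality (Kmap n g fs) (deg fs 0))
  have h2 := congrArg (fun ψ : (K fs n M).cycles (deg fs 0) ⟶ (K fs n N).X (deg fs 0) => ψ.hom c)
    (HomologicalComplex.cyclesMap_i (Kmap n g fs) (deg fs 0))
  refine (congrArg (val fs n N) h1).trans ((val_π fs n N _).trans ?_)
  rw [val_π, ← e0_Kmap fs n g (deg fs 0) (deg_zero fs)]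
  exact congrArg _ h2

/-- the value map on the limit -/
noncomputable def valT (M : ModuleCat.{u} R) : T fs 0 M →ₗ[R] M :=
  Module.DirectLimit.lift R ℕ (fun n => (G fs 0 M n : Type u)) (trH fs 0 M) (fun n => val fs n M)
    fun n m h x => val_trH fs n m h M x

theorem valT_of (M : ModuleCat.{u} R) (n : ℕ) (x : G fs 0 M n) :
    valT fs M (of fs 0 M n x) = val fs n M x :=
  Module.DirectLimit.lift_of _ _ _

theorem valT_injective (M : ModuleCat.{u} R) : Function.Injective (valT fs M) :=
  (injective_iff_map_eq_zero _).2 fun z hz => by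
    obtain ⟨n, x, rfl⟩ := exists_of fs 0 M z
    rw [valT_of] at hz
    rw [val_injective fs n M (hz.trans (map_zero _).symm), map_zero]

theorem range_valT (M : ModuleCat.{u} R) :
    LinearMap.range (valT fs M) = gamma (Ideal.span {x | x ∈ fs}) M := by
  ext m
  rw [CechPairs.mem_gamma_span]
  constructor
  · rintro ⟨z, rfl⟩ f hf
    obtain ⟨n, x, rfl⟩ := exists_of fs 0 M z
    rw [valT_of]
    exact ⟨n, (val_mem_iff fs n M _).1 ⟨x, rfl⟩ f hf⟩
  · intro h
    have : ∃ n, ∀ f ∈ fs, f ^ n • m = 0 := by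
      obtain ⟨n, hn⟩ := (CechPairs.mem_gamma_span fs m).2 h
      exact ⟨n, fun f hf => hn _ (Ideal.pow_mem_pow (Ideal.subset_span (s := {x | x ∈ fs}) hf) n)⟩
    obtain ⟨n, hn⟩ := this
    obtain ⟨x, hx⟩ := (val_mem_iff fs n M m).2 hn
    exact ⟨of fs 0 M n x, by rw [valT_of, hx]⟩

/-- degree zero -/
noncomputable def zeroEquiv (M : ModuleCat.{u} R) :
    (T fs 0 M : Type u) ≃ₗ[R] gamma (Ideal.span {x | x ∈ fs}) M :=
  LinearEquiv.ofInjective (valT fs M) (valT_injective fs M) ≪≫ₗ
    LinearEquiv.ofEq _ _ (range_valT fs M)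

end Zero

/-- the family -/
noncomputable def fam [IsNoetherianRing R] : Univ.Fam (Ideal.span {x : R | x ∈ fs}) where
  T := T fs
  map i _ _ g := Tmap fs i g
  δ i _ _ _ _ _ hf h hg := delta fs _ _ hf h hg i
  exact₃ i _ _ _ _ _ hf h hg := exact₃ fs _ _ hf h hg i
  exact₁ i _ _ _ _ _ hf h hg := exact₁ fs _ _ hf h hg i
  subsingleton i E _ := subsingleton_T fs E (i + 1) (Nat.succ_pos i)
  zero M := zeroEquiv fs M
  zero_natural {M N} g x := by
    obtain ⟨n, y, rfl⟩ := exists_of fs 0 M x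
    refine Subtype.ext ?_
    show valT fs N (Tmap fs 0 g (of fs 0 M n y)) = g (valT fs M (of fs 0 M n y))
    rw [Tmap_of, valT_of, valT_of, val_mapH]

/-- the comparison -/
theorem nonempty_equiv [IsNoetherianRing R] (i : ℕ) (M : Type u) [AddCommGroup M] [Module R M] :
    Nonempty (LocCoh.H (Ideal.span {x | x ∈ fs}) i M ≃ₗ[R]
      CohIII.koszulHLim fs (ModuleCat.of R M) i) := by
  obtain ⟨e⟩ := Univ.nonempty_equiv (fam fs) i M
  exact ⟨e.symm⟩

end Groth.Agent.LC16.KoszulFam
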