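import Groth.Prelude.Def_DRing2
import Mathlib.Algebra.Homology.HomotopyCategory.MappingCocone
import Mathlib.Algebra.Category.ModuleCat.Abelian
import Mathlib.LinearAlgebra.Prod

/-!
Elementwise calculus of mapping cones and cocones of complexes of modules.
-/

namespace Groth.Agent.LC16.ConePair

universe u

set_option autoImplicit false

open CategoryTheory CategoryTheory.Limits
open CochainComplex (mappingCone mappingCocone)

variable {R : Type u} [CommRing R]

/-- complexes -/
abbrev Cx (R : Type u) [CommRing R] := CochainComplex (ModuleCat.{u} R) ℤ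

variable {K L : Cx R} (φ : K ⟶ L)

/-- a term of the mapping cone as pairs -/
noncomputable def cp (p q : ℤ) (h : p + 1 = q) :
    ((mappingCone φ).X p : Type u) ≃ₗ[R] (K.X q × L.X p : Type u) :=
  LinearEquiv.ofLinearMap
    (((mappingCone.fst φ).1.v p q h).hom.prod ((mappingCone.snd φ).v p p (add_zero p)).hom)
    (((mappingCone.inl φ).v q p (by omega)).hom.coprod ((mappingCone.inr φ).f p).hom)
    (by
      apply LinearMap.ext
      rintro ⟨a, b⟩
      have e1 := congrArg (fun ψ => ψ.hom a) (mappingCone.inl_v_fst_v φ q p h)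
      have e2 := congrArg (fun ψ => ψ.hom a) (mappingCone.inl_v_snd_v φ q p (by omega))
      have e3 := congrArg (fun ψ => ψ.hom b) (mappingCone.inr_f_fst_v φ p q h)
      have e4 := congrArg (fun ψ => ψ.hom b) (mappingCone.inr_f_snd_v φ p)
      simp only [ModuleCat.hom_comp, ModuleCat.hom_id, LinearMap.comp_apply, LinearMap.id_apply,
        ModuleCat.hom_zero, LinearMap.zero_apply] at e1 e2 e3 e4
      simp [e1, e2, e3, e4])
    (by
      apply LinearMap.ext
      intro x
      exact (congrArg (fun ψ => ψ.hom x) (mappingCone.id_X φ p q h)))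

theorem cp_fst (p q : ℤ) (h : p + 1 = q) (x : (mappingCone φ).X p) :
    (cp φ p q h x).1 = ((mappingCone.fst φ).1.v p q h).hom x := rfl

theorem cp_snd (p q : ℤ) (h : p + 1 = q) (x : (mappingCone φ).X p) :
    (cp φ p q h x).2 = ((mappingCone.snd φ).v p p (add_zero p)).hom x := rfl

theorem cp_d_fst (p q r : ℤ) (h : p + 1 = q) (h' : q + 1 = r) (x : (mappingCone φ).X p) :
    (cp φ q r h' (((mappingCone φ).d p q).hom x)).1 = - (K.d q r).hom (cp φ p q h x).1 :=
  congrArg (fun ψ => ψ.hom x) (mappingCone.d_fst_v φ p q r h h')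

theorem cp_d_snd (p q r : ℤ) (h : p + 1 = q) (h' : q + 1 = r) (x : (mappingCone φ).X p) :
    (cp φ q r h' (((mappingCone φ).d p q).hom x)).2 =
      (φ.f q).hom (cp φ p q h x).1 + (L.d p q).hom (cp φ p q h x).2 :=
  congrArg (fun ψ => ψ.hom x) (mappingCone.d_snd_v φ p q h)

section Map

variable {K' L' : Cx R} (φ' : K' ⟶ L') (a : K ⟶ K') (b : L ⟶ L') (comm : φ ≫ b = a ≫ φ')

theorem cp_map (p q : ℤ) (h : p + 1 = q) (x : (mappingCone φ).X p) :
    cp φ' p q h (((mappingCone.map φ φ' a b comm).f p).hom x) =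
      ((a.f q).hom (cp φ p q h x).1, (b.f p).hom (cp φ p q h x).2) := by
  have h₁ : (mappingCone.map φ φ' a b comm).f p ≫ (mappingCone.fst φ').1.v p q h =
      (mappingCone.fst φ).1.v p q h ≫ a.f q := by
    simp [mappingCone.map, mappingCone.ext_from_iff φ q p h]
  have h₂ : (mappingCone.map φ φ' a b comm).f p ≫ (mappingCone.snd φ').v p p (add_zero p) =
      (mappingCone.snd φ).v p p (add_zero p) ≫ b.f p := by
    simp [mappingCone.map, mappingCone.ext_from_iff φ q p h]
  exact Prod.ext (congrArg (fun ψ => ψ.hom x) h₁) (congrArg (fun ψ => ψ.hom x) h₂)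

end Map

/-- a term of the mapping cocone as pairs -/
noncomputable def cc (n p : ℤ) (h : p + 1 = n) :
    ((mappingCocone φ).X n : Type u) ≃ₗ[R] (K.X n × L.X p : Type u) :=
  ((mappingCone φ).XIsoOfEq (show n + -1 = p by omega)).toLinearEquiv ≪≫ₗ cp φ p n h

/-- the pairs equivalence at the canonical index -/
theorem cc_self (n : ℤ) (x : (mappingCocone φ).X n) :
    cc φ n (n + -1) (by omega) x = cp φ (n + -1) n (by omega) x := rfl

theorem cocone_d (n n' : ℤ) (y : (mappingCone φ).X (n + -1)) :
    ((mappingCocone φ).d n n').hom y = -((mappingCone φ).d (n + -1) (n' + -1)).hom y := by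
  have : (mappingCocone φ).d n n' = -(mappingCone φ).d (n + -1) (n' + -1) := by
    simp [mappingCocone]
  exact congrArg (fun ψ => ψ.hom y) this

theorem cc_d_fst (n n' p p' : ℤ) (hn : n + 1 = n') (h : p + 1 = n) (h' : p' + 1 = n')
    (x : (mappingCocone φ).X n) :
    (cc φ n' p' h' (((mappingCocone φ).d n n').hom x)).1 = (K.d n n').hom (cc φ n p h x).1 := by
  obtain rfl : p = n + -1 := by omega
  obtain rfl : p' = n' + -1 := by omega
  obtain rfl : n = n' + -1 := by omega
  suffices key : ∀ y : (mappingCone φ).X (n' + -1 + -1),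
      (cp φ (n' + -1) n' (by omega)
        (-((mappingCone φ).d (n' + -1 + -1) (n' + -1)).hom y)).1 =
        (K.d (n' + -1) n').hom (cp φ (n' + -1 + -1) (n' + -1) (by omega) y).1 by
    exact (congrArg (fun z => (cp φ (n' + -1) n' (by omega) z).1)
      (cocone_d φ (n' + -1) n' x)).trans (key x)
  intro y
  rw [map_neg, Prod.fst_neg, cp_d_fst φ (n' + -1 + -1) (n' + -1) n' (by omega) (by omega), neg_neg]

theorem cc_d_snd (n n' p : ℤ) (hn : n + 1 = n') (h : p + 1 = n) (x : (mappingCocone φ).X n) :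
    (cc φ n' n hn (((mappingCocone φ).d n n').hom x)).2 =
      -(φ.f n).hom (cc φ n p h x).1 - (L.d p n).hom (cc φ n p h x).2 := by
  obtain rfl : p = n + -1 := by omega
  obtain rfl : n = n' + -1 := by omega
  suffices key : ∀ y : (mappingCone φ).X (n' + -1 + -1),
      (cp φ (n' + -1) n' (by omega)
        (-((mappingCone φ).d (n' + -1 + -1) (n' + -1)).hom y)).2 =
        -(φ.f (n' + -1)).hom (cp φ (n' + -1 + -1) (n' + -1) (by omega) y).1 -
          (L.d (n' + -1 + -1) (n' + -1)).hom (cp φ (n' + -1 + -1) (n' + -1) (by omega) y).2 by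
    exact (congrArg (fun z => (cp φ (n' + -1) n' (by omega) z).2)
      (cocone_d φ (n' + -1) n' x)).trans (key x)
  intro y
  rw [map_neg, Prod.snd_neg, cp_d_snd φ (n' + -1 + -1) (n' + -1) n' (by omega) (by omega)]
  abel

section Map

variable {K' L' : Cx R} (φ' : K' ⟶ L') (a : K ⟶ K') (b : L ⟶ L') (comm : φ ≫ b = a ≫ φ')

/-- the map of mapping cocones of a commutative square -/
noncomputable def ccMap : mappingCocone φ ⟶ mappingCocone φ' :=
  (mappingCone.map φ φ' a b comm)⟦(-1 : ℤ)⟧'

theorem cc_map (n p : ℤ) (h : p + 1 = n) (x : (mappingCocone φ).X n) :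
    cc φ' n p h (((ccMap φ φ' a b comm).f n).hom x) =
      ((a.f n).hom (cc φ n p h x).1, (b.f p).hom (cc φ n p h x).2) := by
  obtain rfl : p = n + -1 := by omega
  rw [cc_self, cc_self]
  exact cp_map φ φ' a b comm (n + -1) n h x

end Map

end Groth.Agent.LC16.ConePair
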