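import Groth.Prelude.Def_DerCA
import Groth.Agent.LC16.ConePair
import Groth.Agent.LC15.Gamma
import Mathlib.Algebra.Module.LocalizedModule.Exact

/-!
The extended Cech complex elementwise: functoriality in the module, degreewise exactness, and the
degree zero term.
-/

namespace Groth.Agent.LC16.CechPairs

universe u

set_option autoImplicit false

open CategoryTheory CategoryTheory.Limits LC15 ConePair

variable {R : Type u} [CommRing R]

/-- the complex -/
noncomputable abbrev C (fs : List R) (M : ModuleCat.{u} R) : Cx R := DerCA.extCech M fs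

/-- the map to be coned -/
noncomputable abbrev φ (f : R) (K : Cx R) :
    K ⟶ (DerCA.locCx (Submonoid.powers f)).obj K := DerCA.locCxUnit (Submonoid.powers f) K

/-- terms of the complex of a longer list as pairs -/
noncomputable def pairs (f : R) (fs : List R) (M : ModuleCat.{u} R) (n p : ℤ) (h : p + 1 = n) :
    ((C (f :: fs) M).X n : Type u) ≃ₗ[R]
      ((C fs M).X n × LocalizedModule (Submonoid.powers f) ((C fs M).X p) : Type u) :=
  cc (φ f (C fs M)) n p h

theorem pairs_d (f : R) (fs : List R) (M : ModuleCat.{u} R) (n n' p : ℤ) (hn : n + 1 = n')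
    (h : p + 1 = n) (x : (C (f :: fs) M).X n) :
    pairs f fs M n' n hn (((C (f :: fs) M).d n n').hom x) =
      (((C fs M).d n n').hom (pairs f fs M n p h x).1,
        -LocalizedModule.mk (pairs f fs M n p h x).1 1 -
          IsLocalizedModule.map (Submonoid.powers f) (LocalizedModule.mkLinearMap _ _)
            (LocalizedModule.mkLinearMap _ _) ((C fs M).d p n).hom (pairs f fs M n p h x).2) :=
  Prod.ext (cc_d_fst (φ f (C fs M)) n n' p n hn h hn x) (cc_d_snd (φ f (C fs M)) n n' p hn h x)

/-- a cycle in terms of pairs -/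
theorem cycle_iff (f : R) (fs : List R) (M : ModuleCat.{u} R) (n n' p : ℤ) (hn : n + 1 = n')
    (h : p + 1 = n) (x : (C (f :: fs) M).X n) :
    ((C (f :: fs) M).d n n').hom x = 0 ↔
      ((C fs M).d n n').hom (pairs f fs M n p h x).1 = 0 ∧
        -LocalizedModule.mk (pairs f fs M n p h x).1 (1 : Submonoid.powers f) -
          IsLocalizedModule.map (Submonoid.powers f) (LocalizedModule.mkLinearMap _ _)
            (LocalizedModule.mkLinearMap _ _) ((C fs M).d p n).hom (pairs f fs M n p h x).2 = 0 := by
  rw [← (pairs f fs M n' n hn).map_eq_zero_iff, pairs_d f fs M n n' p hn h x, Prod.mk_eq_zero]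

/-- the list of length zero: the degree zero term -/
noncomputable def nilEquiv (M : ModuleCat.{u} R) : ((C [] M).X 0 : Type u) ≃ₗ[R] M :=
  (HomologicalComplex.singleObjXSelf (ComplexShape.up ℤ) (0 : ℤ) M).toLinearEquiv

theorem subsingleton_nil (M : ModuleCat.{u} R) {q : ℤ} (hq : q ≠ 0) :
    Subsingleton ((C [] M).X q : Type u) :=
  ModuleCat.subsingleton_of_isZero (HomologicalComplex.isZero_single_obj_X _ _ _ _ hq)

theorem subsingleton_X (fs : List R) (M : ModuleCat.{u} R) :
    ∀ q : ℤ, q < 0 → Subsingleton ((C fs M).X q : Type u) := by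
  induction fs with
  | nil => exact fun q hq => subsingleton_nil M (by omega)
  | cons f fs ih =>
    intro q hq
    have := ih q hq
    have := ih (q - 1) (by omega)
    have : Subsingleton (LocalizedModule (Submonoid.powers f) ((C fs M).X (q - 1))) :=
      ⟨fun a b => by
        induction a using LocalizedModule.induction_on with | h a s => ?_
        induction b using LocalizedModule.induction_on with | h b t => ?_
        rw [Subsingleton.elim a 0, Subsingleton.elim b 0]; simp⟩
    exact (pairs f fs M q (q - 1) (by omega)).injective.subsingleton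

instance subsingleton_neg_one (f : R) (fs : List R) (M : ModuleCat.{u} R) :
    Subsingleton (LocalizedModule (Submonoid.powers f) ((C fs M).X (-1))) :=
  ⟨fun a b => by
    have := subsingleton_X fs M (-1) (by omega)
    induction a using LocalizedModule.induction_on with | h a s => ?_
    induction b using LocalizedModule.induction_on with | h b t => ?_
    rw [Subsingleton.elim a 0, Subsingleton.elim b 0]; simp⟩

/-- degree zero is the module -/
noncomputable def e0 : ∀ (fs : List R) (M : ModuleCat.{u} R),
    ((C fs M).X 0 : Type u) ≃ₗ[R] M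
  | [], M => nilEquiv M
  | f :: fs, M =>
      LinearEquiv.ofBijective ((e0 fs M).toLinearMap ∘ₗ LinearMap.fst R _ _ ∘ₗ
        (pairs f fs M 0 (-1) (by omega)).toLinearMap)
        ⟨fun x y hxy => (pairs f fs M 0 (-1) (by omega)).injective
            (Prod.ext ((e0 fs M).injective hxy) (Subsingleton.elim _ _)),
          fun m => ⟨(pairs f fs M 0 (-1) (by omega)).symm ((e0 fs M).symm m, 0), by simp⟩⟩

theorem e0_cons (f : R) (fs : List R) (M : ModuleCat.{u} R) (x : (C (f :: fs) M).X 0) :
    e0 (f :: fs) M x = e0 fs M (pairs f fs M 0 (-1) (by omega) x).1 := rfl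

theorem d_zero_iff (fs : List R) (M : ModuleCat.{u} R) (x : (C fs M).X 0) :
    ((C fs M).d 0 1).hom x = 0 ↔ ∀ f ∈ fs, ∃ k : ℕ, f ^ k • e0 fs M x = 0 := by
  induction fs with
  | nil =>
    have := subsingleton_nil M (q := 1) (by omega)
    exact ⟨fun _ f hf => absurd hf List.not_mem_nil, fun _ => Subsingleton.elim _ _⟩
  | cons f fs ih =>
    rw [cycle_iff f fs M 0 1 (-1) (by omega) (by omega),
      Subsingleton.elim (pairs f fs M 0 (-1) (by omega) x).2 0, map_zero, sub_zero, neg_eq_zero,
      ← LocalizedModule.zero_mk (1 : Submonoid.powers f), LocalizedModule.mk_eq, ih,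
      List.forall_mem_cons, e0_cons, and_comm]
    refine and_congr_left fun _ => ⟨?_, ?_⟩
    · rintro ⟨⟨_, k, rfl⟩, hk⟩
      refine ⟨k, ?_⟩
      simp only [one_smul, smul_zero, Submonoid.smul_def] at hk
      rw [← map_smul, hk, map_zero]
    · rintro ⟨k, hk⟩
      refine ⟨⟨f ^ k, k, rfl⟩, ?_⟩
      simp only [one_smul, smul_zero, Submonoid.smul_def]
      exact (e0 fs M).injective (by rw [map_smul, hk, map_zero])

theorem mem_gamma_span (fs : List R) {M : Type u} [AddCommGroup M] [Module R M] (m : M) :
    m ∈ gamma (Ideal.span {x | x ∈ fs}) M ↔ ∀ f ∈ fs, ∃ k : ℕ, f ^ k • m = 0 := by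
  constructor
  · rintro ⟨n, hn⟩ f hf
    exact ⟨n, hn _ (Ideal.pow_mem_pow (Ideal.subset_span (s := {x | x ∈ fs}) hf) n)⟩
  · intro h
    have hle : Ideal.span {x | x ∈ fs} ≤ (Ideal.torsionOf R M m).radical :=
      Ideal.span_le.2 fun f hf => (h f hf).imp fun k hk => (Ideal.mem_torsionOf_iff _ _).2 hk
    obtain ⟨n, hn⟩ := Ideal.exists_pow_le_of_le_radical_of_fg hle
      (Submodule.fg_span (R := R) (M := R) (List.finite_toSet fs))
    exact ⟨n, fun a ha => (Ideal.mem_torsionOf_iff _ _).1 (hn ha)⟩

theorem d_zero_iff_mem_gamma (fs : List R) (M : ModuleCat.{u} R) (x : (C fs M).X 0) :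
    ((C fs M).d 0 1).hom x = 0 ↔ e0 fs M x ∈ gamma (Ideal.span {x | x ∈ fs}) M := by
  rw [d_zero_iff, mem_gamma_span]

/-- functoriality -/
noncomputable def Cmap : ∀ (fs : List R) {M N : ModuleCat.{u} R} (_ : M ⟶ N), C fs M ⟶ C fs N
  | [], _, _, g => (HomologicalComplex.single (ModuleCat.{u} R) (ComplexShape.up ℤ) 0).map g
  | f :: fs, _, _, g => ccMap (φ f _) (φ f _) (Cmap fs g)
      ((DerCA.locCx (Submonoid.powers f)).map (Cmap fs g)) (by
        apply HomologicalComplex.hom_ext
        intro i
        exact ((DerCA.locUnit (Submonoid.powers f)).naturality ((Cmap fs g).f i)).symm)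

theorem pairs_Cmap (f : R) (fs : List R) {M N : ModuleCat.{u} R} (g : M ⟶ N) (n p : ℤ)
    (h : p + 1 = n) (x : (C (f :: fs) M).X n) :
    pairs f fs N n p h (((Cmap (f :: fs) g).f n).hom x) =
      (((Cmap fs g).f n).hom (pairs f fs M n p h x).1,
        IsLocalizedModule.map (Submonoid.powers f) (LocalizedModule.mkLinearMap _ _)
          (LocalizedModule.mkLinearMap _ _) ((Cmap fs g).f p).hom (pairs f fs M n p h x).2) :=
  cc_map (φ f _) (φ f _) _ _ _ n p h x

theorem e0_Cmap (fs : List R) {M N : ModuleCat.{u} R} (g : M ⟶ N) (x : (C fs M).X 0) :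
    e0 fs N (((Cmap fs g).f 0).hom x) = g.hom (e0 fs M x) := by
  induction fs with
  | nil =>
    have := congrArg (fun ψ => ψ.hom x)
      (show ((HomologicalComplex.single (ModuleCat.{u} R) (ComplexShape.up ℤ) 0).map g).f 0 ≫
          (HomologicalComplex.singleObjXSelf (ComplexShape.up ℤ) (0 : ℤ) N).hom =
          (HomologicalComplex.singleObjXSelf (ComplexShape.up ℤ) (0 : ℤ) M).hom ≫ g by
        rw [HomologicalComplex.single_map_f_self]
        simp [HomologicalComplex.singleObjXSelf])
    exact this
  | cons f fs ih =>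
    rw [e0_cons, e0_cons, pairs_Cmap f fs g 0 (-1) (by omega)]
    exact ih _

variable {M N L : ModuleCat.{u} R} (a : M ⟶ N) (b : N ⟶ L)

theorem degreewise (ha : Function.Injective a.hom) (hab : Function.Exact a.hom b.hom)
    (hb : Function.Surjective b.hom) (fs : List R) :
    ∀ q : ℤ, Function.Injective ((Cmap fs a).f q).hom ∧
      Function.Exact ((Cmap fs a).f q).hom ((Cmap fs b).f q).hom ∧
      Function.Surjective ((Cmap fs b).f q).hom := by
  induction fs with
  | nil =>
    intro q
    rcases eq_or_ne q 0 with rfl | hq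
    · have hA : ∀ x, nilEquiv N (((Cmap [] a).f 0).hom x) = a.hom (nilEquiv M x) :=
        fun x => e0_Cmap [] a x
      have hB : ∀ x, nilEquiv L (((Cmap [] b).f 0).hom x) = b.hom (nilEquiv N x) :=
        fun x => e0_Cmap [] b x
      refine ⟨fun x y hxy => ?_, fun y => ⟨fun hy => ?_, ?_⟩, fun z => ?_⟩
      · exact (nilEquiv M).injective (ha (by rw [← hA, ← hA, hxy]))
      · obtain ⟨m, hm⟩ := (hab (nilEquiv N y)).1 (by rw [← hB, hy, map_zero])
        exact ⟨(nilEquiv M).symm m, (nilEquiv N).injective (by
          rw [hA, LinearEquiv.apply_symm_apply, hm])⟩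
      · rintro ⟨x, rfl⟩
        exact (nilEquiv L).injective (by rw [hB, hA, hab.apply_apply_eq_zero, map_zero])
      · obtain ⟨y, hy⟩ := hb (nilEquiv L z)
        exact ⟨(nilEquiv N).symm y, (nilEquiv L).injective (by
          rw [hB, LinearEquiv.apply_symm_apply, hy])⟩
    · have := subsingleton_nil M hq
      have := subsingleton_nil N hq
      have := subsingleton_nil L hq
      exact ⟨fun x y _ => Subsingleton.elim x y,
        fun y => ⟨fun _ => ⟨0, Subsingleton.elim _ _⟩, fun _ => Subsingleton.elim _ _⟩,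
        fun z => ⟨0, Subsingleton.elim _ _⟩⟩
  | cons f fs ih =>
    intro q
    obtain ⟨h1, h2, h3⟩ := ih q
    obtain ⟨k1, k2, k3⟩ := ih (q - 1)
    have l2 := IsLocalizedModule.map_exact (Submonoid.powers f)
      (LocalizedModule.mkLinearMap (Submonoid.powers f) ((C fs M).X (q - 1)))
      (LocalizedModule.mkLinearMap (Submonoid.powers f) ((C fs N).X (q - 1)))
      (LocalizedModule.mkLinearMap (Submonoid.powers f) ((C fs L).X (q - 1))) _ _ k2
    have pA := fun x => pairs_Cmap f fs a q (q - 1) (by omega) x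
    have pB := fun x => pairs_Cmap f fs b q (q - 1) (by omega) x
    refine ⟨fun x y hxy => ?_, fun y => ⟨fun hy => ?_, ?_⟩, fun z => ?_⟩
    · have := congrArg (pairs f fs N q (q - 1) (by omega)) hxy
      rw [pA, pA, Prod.ext_iff] at this
      exact (pairs f fs M q (q - 1) (by omega)).injective (Prod.ext (h1 this.1)
        (IsLocalizedModule.map_injective (Submonoid.powers f) _ _ _ k1 this.2))
    · have := congrArg (pairs f fs L q (q - 1) (by omega)) hy
      rw [pB, map_zero, Prod.mk_eq_zero] at this
      obtain ⟨u, hu⟩ := (h2 _).1 this.1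
      obtain ⟨v, hv⟩ := (l2 _).1 this.2
      exact ⟨(pairs f fs M q (q - 1) (by omega)).symm (u, v),
        (pairs f fs N q (q - 1) (by omega)).injective (by
          rw [pA, LinearEquiv.apply_symm_apply, hu, hv])⟩
    · rintro ⟨x, rfl⟩
      refine (pairs f fs L q (q - 1) (by omega)).injective ?_
      rw [pB, pA, map_zero, Prod.mk_eq_zero]
      exact ⟨h2.apply_apply_eq_zero _, l2.apply_apply_eq_zero _⟩
    · obtain ⟨u, hu⟩ := h3 (pairs f fs L q (q - 1) (by omega) z).1
      obtain ⟨v, hv⟩ := IsLocalizedModule.map_surjective (Submonoid.powers f)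
        (LocalizedModule.mkLinearMap (Submonoid.powers f) ((C fs N).X (q - 1)))
        (LocalizedModule.mkLinearMap (Submonoid.powers f) ((C fs L).X (q - 1))) _ k3
        (pairs f fs L q (q - 1) (by omega) z).2
      exact ⟨(pairs f fs N q (q - 1) (by omega)).symm (u, v),
        (pairs f fs L q (q - 1) (by omega)).injective (by
          rw [pB, LinearEquiv.apply_symm_apply, hu, hv])⟩

end Groth.Agent.LC16.CechPairs
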