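import Groth.Prelude.Def_DerCA
import Groth.Prelude.Def_DRing3
import Groth.Agent.Koszul19.Cone
import Mathlib.Algebra.Homology.DerivedCategory.ExactFunctor
import Mathlib.Algebra.Homology.ShortComplex.ExactFunctor
import Mathlib.Algebra.Module.LocalizedModule.Exact

/-!
`RΓ_I` kills complexes on which an element of `I` acts bijectively.
-/

namespace Groth.Agent.LC16.RgammaVanish

universe u

set_option autoImplicit false

open CategoryTheory CategoryTheory.Limits
attribute [local instance] HasDerivedCategory.standard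

variable {A : Type u} [CommRing A]

/-- exactness of the localisation -/
theorem preservesLimitsColimits (S : Submonoid A) :
    PreservesFiniteLimits (DerCA.locFunctor (R := A) S) ∧
      PreservesFiniteColimits (DerCA.locFunctor (R := A) S) := by
  refine ((DerCA.locFunctor (R := A) S).exact_tfae.out 1 3).1 fun T hT => ?_
  rw [ShortComplex.ShortExact.moduleCat_exact_iff_function_exact] at hT ⊢
  exact IsLocalizedModule.map_exact S (LocalizedModule.mkLinearMap S T.X₁)
    (LocalizedModule.mkLinearMap S T.X₂) (LocalizedModule.mkLinearMap S T.X₃) _ _ hT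

instance (S : Submonoid A) : PreservesFiniteLimits (DerCA.locFunctor (R := A) S) :=
  (preservesLimitsColimits S).1

instance (S : Submonoid A) : PreservesFiniteColimits (DerCA.locFunctor (R := A) S) :=
  (preservesLimitsColimits S).2

/-- multiplication on complexes -/
noncomputable def mulNat (f : A) : 𝟭 (DRing.Cx A) ⟶ 𝟭 (DRing.Cx A) where
  app K := f • 𝟙 K
  naturality K L g := by simp

/-- the localisation maps -/
noncomputable def unitNat (S : Submonoid A) : 𝟭 (DRing.Cx A) ⟶ DerCA.locCx S where
  app K := DerCA.locCxUnit S K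
  naturality K L g := by
    apply HomologicalComplex.hom_ext
    intro i
    exact (DerCA.locUnit S).naturality (g.f i)

noncomputable instance : Localization.Lifting (DerivedCategory.Q (C := ModuleCat.{u} A))
    (HomologicalComplex.quasiIso (ModuleCat.{u} A) (ComplexShape.up ℤ))
    (𝟭 (DRing.Cx A) ⋙ DerivedCategory.Q) (𝟭 (Dual.D A)) :=
  ⟨Functor.rightUnitor _ ≪≫ (Functor.leftUnitor _).symm⟩

/-- multiplication on the derived category -/
noncomputable def mulD (f : A) : 𝟭 (Dual.D A) ⟶ 𝟭 (Dual.D A) :=
  Localization.liftNatTrans DerivedCategory.Q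
    (HomologicalComplex.quasiIso (ModuleCat.{u} A) (ComplexShape.up ℤ))
    (𝟭 _ ⋙ DerivedCategory.Q) (𝟭 _ ⋙ DerivedCategory.Q) (𝟭 _) (𝟭 _)
    (Functor.whiskerRight (mulNat f) DerivedCategory.Q)

/-- the localisation map on the derived category -/
noncomputable def unitD (S : Submonoid A) :
    𝟭 (Dual.D A) ⟶ (DerCA.locFunctor (R := A) S).mapDerivedCategory :=
  Localization.liftNatTrans DerivedCategory.Q
    (HomologicalComplex.quasiIso (ModuleCat.{u} A) (ComplexShape.up ℤ))
    (𝟭 _ ⋙ DerivedCategory.Q) (DerCA.locCx S ⋙ DerivedCategory.Q) (𝟭 _) _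
    (Functor.whiskerRight (unitNat S) DerivedCategory.Q)

theorem mulD_app_Q (f : A) (K : DRing.Cx A) :
    (mulD f).app (DerivedCategory.Q.obj K) = DerivedCategory.Q.map (f • 𝟙 K) := by
  rw [mulD, Localization.liftNatTrans_app]
  simp [mulNat, Localization.Lifting.iso]

theorem unitD_app_Q (S : Submonoid A) (K : DRing.Cx A) :
    (unitD S).app (DerivedCategory.Q.obj K) = DerivedCategory.Q.map (DerCA.locCxUnit S K) ≫
      ((DerCA.locFunctor (R := A) S).mapDerivedCategoryFactors).inv.app K := by
  rw [unitD, Localization.liftNatTrans_app]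
  simp [unitNat, Localization.Lifting.iso]

theorem mulD_app_Qh (f : A) (K : DRing.Cx A) :
    (mulD f).app (DerivedCategory.Qh.obj ((HomotopyCategory.quotient _ _).obj K)) =
      DerivedCategory.Qh.map ((HomotopyCategory.quotient _ _).map (f • 𝟙 K)) := by
  rw [← cancel_mono ((DerivedCategory.quotientCompQhIso (ModuleCat.{u} A)).hom.app K),
    DerivedCategory.quotientCompQhIso_hom_naturality]
  have h := (mulD f).naturality ((DerivedCategory.quotientCompQhIso (ModuleCat.{u} A)).hom.app K)
  rw [← mulD_app_Q]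
  exact h.symm

theorem unitD_app_Qh_eq_zero (S : Submonoid A) (K : DRing.Cx A)
    (hK : DerCA.locCxUnit S K = 0) :
    (unitD S).app (DerivedCategory.Qh.obj ((HomotopyCategory.quotient _ _).obj K)) = 0 := by
  rw [← cancel_mono ((DerCA.locFunctor (R := A) S).mapDerivedCategory.map
    ((DerivedCategory.quotientCompQhIso (ModuleCat.{u} A)).hom.app K))]
  refine ((unitD S).naturality
    ((DerivedCategory.quotientCompQhIso (ModuleCat.{u} A)).hom.app K)).symm.trans ?_
  rw [zero_comp]
  refine (congrArg (fun φ => (𝟭 (Dual.D A)).map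
    ((DerivedCategory.quotientCompQhIso (ModuleCat.{u} A)).hom.app K) ≫ φ) (?_ : (unitD S).app
      (DerivedCategory.Q.obj K) = 0)).trans comp_zero
  rw [unitD_app_Q, hK, Functor.map_zero, zero_comp]

variable (I : Ideal A)

/-- torsion complexes localise to zero -/
theorem unit_gamma_eq_zero {f : A} (hf : f ∈ I) (K : DRing.Cx A) :
    DerCA.locCxUnit (Submonoid.powers f)
      (((DRing.gammaI I).mapHomologicalComplex (ComplexShape.up ℤ)).obj K) = 0 := by
  apply HomologicalComplex.hom_ext
  intro i
  ext (x : DRing.torsionSub I (K.X i))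
  obtain ⟨n, hn⟩ := x.2
  show LocalizedModule.mk (M := DRing.torsionSub I (K.X i)) x (1 : Submonoid.powers f) = 0
  rw [← LocalizedModule.zero_mk (1 : Submonoid.powers f), LocalizedModule.mk_eq]
  refine ⟨⟨f ^ n, n, rfl⟩, ?_⟩
  simp only [Submonoid.smul_def, smul_zero, one_smul]
  exact Subtype.ext (hn _ (Ideal.pow_mem_pow hf n))

theorem gamma_mul (f : A) (K : DRing.Cx A) :
    ((DRing.gammaI I).mapHomologicalComplex (ComplexShape.up ℤ)).map (f • 𝟙 K) =
      f • 𝟙 (((DRing.gammaI I).mapHomologicalComplex (ComplexShape.up ℤ)).obj K) := by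
  apply HomologicalComplex.hom_ext
  intro i
  ext x
  rfl

variable [DRing.HasRgammaI I]

/-- the derived torsion functor is linear -/
theorem map_mulD (f : A) (X : Dual.D A) :
    (DRing.RgammaI I).map ((mulD f).app X) = (mulD f).app ((DRing.RgammaI I).obj X) := by
  let γ₁ : DRing.RgammaI I ⟶ DRing.RgammaI I :=
    { app := fun X => (DRing.RgammaI I).map ((mulD f).app X)
      naturality := fun X Y g => by
        rw [← Functor.map_comp, ← Functor.map_comp]
        exact congrArg (DRing.RgammaI I).map ((mulD f).naturality g) }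
  let γ₂ : DRing.RgammaI I ⟶ DRing.RgammaI I :=
    { app := fun X => (mulD f).app ((DRing.RgammaI I).obj X)
      naturality := fun X Y g => (mulD f).naturality ((DRing.RgammaI I).map g) }
  suffices h : γ₁ = γ₂ from congr_app h X
  let α := (DRing.gammaIKh I).totalRightDerivedUnit DerivedCategory.Qh
    (HomotopyCategory.quasiIso (ModuleCat.{u} A) (ComplexShape.up ℤ))
  refine (DRing.RgammaI I).rightDerived_ext α
    (HomotopyCategory.quasiIso (ModuleCat.{u} A) (ComplexShape.up ℤ)) _ _ _ ?_
  ext P
  obtain ⟨K, rfl⟩ := HomotopyCategory.quotient_obj_surjective P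
  show α.app _ ≫ (DRing.RgammaI I).map ((mulD f).app (DerivedCategory.Qh.obj _)) =
    α.app _ ≫ (mulD f).app _
  refine Eq.trans ?_ ((mulD f).naturality (α.app ((HomotopyCategory.quotient _ _).obj K))).symm
  rw [mulD_app_Qh]
  refine (α.naturality ((HomotopyCategory.quotient _ _).map (f • 𝟙 K))).symm.trans ?_
  refine congrArg (· ≫ α.app _) ?_
  refine Eq.trans ?_ (mulD_app_Qh f
    (((DRing.gammaI I).mapHomologicalComplex (ComplexShape.up ℤ)).obj K)).symm
  rw [← gamma_mul I f K]
  rfl

/-- the values of the derived torsion functor localise to zero -/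
theorem unitD_Rgamma_eq_zero {f : A} (hf : f ∈ I) (X : Dual.D A) :
    (unitD (Submonoid.powers f)).app ((DRing.RgammaI I).obj X) = 0 := by
  let G := DRing.RgammaI I ⋙ (DerCA.locFunctor (R := A) (Submonoid.powers f)).mapDerivedCategory
  let γ : DRing.RgammaI I ⟶ G :=
    { app := fun X => (unitD (Submonoid.powers f)).app ((DRing.RgammaI I).obj X)
      naturality := fun X Y g => (unitD (Submonoid.powers f)).naturality ((DRing.RgammaI I).map g) }
  let γ₀ : DRing.RgammaI I ⟶ G := { app := fun _ => 0 }
  suffices h : γ = γ₀ from congr_app h X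
  let α := (DRing.gammaIKh I).totalRightDerivedUnit DerivedCategory.Qh
    (HomotopyCategory.quasiIso (ModuleCat.{u} A) (ComplexShape.up ℤ))
  refine (DRing.RgammaI I).rightDerived_ext α
    (HomotopyCategory.quasiIso (ModuleCat.{u} A) (ComplexShape.up ℤ)) _ _ _ ?_
  ext P
  obtain ⟨K, rfl⟩ := HomotopyCategory.quotient_obj_surjective P
  show α.app _ ≫ (unitD (Submonoid.powers f)).app _ = α.app _ ≫ 0
  rw [comp_zero]
  refine ((unitD (Submonoid.powers f)).naturality
    (α.app ((HomotopyCategory.quotient _ _).obj K))).trans ?_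
  have h0 := unitD_app_Qh_eq_zero (Submonoid.powers f) _ (unit_gamma_eq_zero I hf K)
  exact (congrArg (fun φ => φ ≫
    (DerCA.locFunctor (R := A) (Submonoid.powers f)).mapDerivedCategory.map
      (α.app ((HomotopyCategory.quotient _ _).obj K))) h0).trans zero_comp

omit [DRing.HasRgammaI I] in
/-- a complex with `f` invertible and zero localisation map is acyclic -/
theorem ex_of (f : A) (M : DRing.Cx A) (q : ℤ) [IsIso (HomologicalComplex.homologyMap (f • 𝟙 M) q)]
    (hu : HomologicalComplex.homologyMap (DerCA.locCxUnit (Submonoid.powers f) M) q = 0) :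
    IsZero (M.homology q) := by
  have hsmul : ∀ x : M.homology q, (HomologicalComplex.homologyMap (f • 𝟙 M) q).hom x = f • x := by
    intro x
    obtain ⟨c, rfl⟩ := (ModuleCat.epi_iff_surjective (M.homologyπ q)).1 inferInstance x
    have h1 := congrArg (fun ψ : M.cycles q ⟶ M.homology q => ψ.hom c)
      (HomologicalComplex.homologyπ_naturality (f • 𝟙 M) q)
    have h2 : (HomologicalComplex.cyclesMap (f • 𝟙 M) q).hom c = f • c := by
      refine (ModuleCat.mono_iff_injective (M.iCycles q)).1 inferInstance ?_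
      refine (congrArg (fun ψ : M.cycles q ⟶ M.X q => ψ.hom c)
        (HomologicalComplex.cyclesMap_i (f • 𝟙 M) q)).trans ?_
      exact (map_smul (M.iCycles q).hom f c).symm
    exact h1.trans ((congrArg (M.homologyπ q).hom h2).trans (map_smul _ f c))
  have hinj : ∀ (k : ℕ) (x : M.homology q), f ^ k • x = 0 → x = 0 := by
    intro k
    induction k with
    | zero => intro x hx; simpa using hx
    | succ k ih =>
      intro x hx
      refine ih x ((ConcreteCategory.bijective_of_isIso
        (HomologicalComplex.homologyMap (f • 𝟙 M) q)).1 ?_)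
      rw [map_zero]
      exact (hsmul _).trans (by rw [← mul_smul, ← pow_succ', hx])
  suffices h : ∀ x : M.homology q, x = 0 by
    have : Subsingleton (M.homology q) := ⟨fun x y => (h x).trans (h y).symm⟩
    exact ModuleCat.isZero_of_subsingleton _
  intro x
  obtain ⟨c, rfl⟩ := (ModuleCat.epi_iff_surjective (M.homologyπ q)).1 inferInstance x
  let L := (DerCA.locCx (Submonoid.powers f)).obj M
  have h1 := congrArg (fun ψ : M.cycles q ⟶ L.homology q => ψ.hom c)
    (HomologicalComplex.homologyπ_naturality (DerCA.locCxUnit (Submonoid.powers f) M) q)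
  have hz : (L.homologyπ q).hom
      ((HomologicalComplex.cyclesMap (DerCA.locCxUnit (Submonoid.powers f) M) q).hom c) = 0 := by
    refine h1.symm.trans ?_
    show (HomologicalComplex.homologyMap (DerCA.locCxUnit (Submonoid.powers f) M) q).hom _ = 0
    rw [hu]; rfl
  have hsc : (ShortComplex.mk (L.toCycles (q - 1) q) (L.homologyπ q)
      (L.toCycles_comp_homologyπ (q - 1) q)).Exact :=
    ShortComplex.exact_of_g_is_cokernel _ (L.homologyIsCokernel (q - 1) q (by simp))
  rw [ShortComplex.ShortExact.moduleCat_exact_iff_function_exact] at hsc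
  obtain ⟨w, hw⟩ := (hsc _).1 hz
  have hw' : (L.d (q - 1) q).hom w =
      LocalizedModule.mk ((M.iCycles q).hom c) (1 : Submonoid.powers f) := by
    have := congrArg (fun y => (L.iCycles q).hom y) hw
    refine ((congrArg (fun ψ : L.X (q - 1) ⟶ L.X q => ψ.hom w) (L.toCycles_i (q - 1) q)).symm.trans
      this).trans ?_
    exact congrArg (fun ψ : M.cycles q ⟶ L.X q => ψ.hom c)
      (HomologicalComplex.cyclesMap_i (DerCA.locCxUnit (Submonoid.powers f) M) q)
  induction w using LocalizedModule.induction_on with | h u s => ?_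
  have hd : (L.d (q - 1) q).hom (LocalizedModule.mk u s) =
      LocalizedModule.mk ((M.d (q - 1) q).hom u) s := by
    show IsLocalizedModule.map (Submonoid.powers f) (LocalizedModule.mkLinearMap _ (M.X (q - 1)))
      (LocalizedModule.mkLinearMap _ (M.X q)) (M.d (q - 1) q).hom _ = _
    rw [IsLocalizedModule.mk_eq_mk', IsLocalizedModule.mk_eq_mk']
    exact IsLocalizedModule.map_mk' _ _ _ _ _ _
  replace hw' := LocalizedModule.mk_eq.1 (hd.symm.trans hw')
  obtain ⟨t, ht⟩ := hw'
  simp only [Submonoid.smul_def, one_smul] at ht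
  obtain ⟨_, k, rfl⟩ := t
  obtain ⟨_, l, rfl⟩ := s
  refine hinj (k + l) _ ?_
  rw [← map_smul]
  have hc : (M.toCycles (q - 1) q).hom (f ^ k • u) = f ^ (k + l) • c := by
    refine (ModuleCat.mono_iff_injective (M.iCycles q)).1 inferInstance ?_
    refine ((congrArg (fun ψ : M.X (q - 1) ⟶ M.X q => ψ.hom (f ^ k • u))
      (M.toCycles_i (q - 1) q))).trans ?_
    rw [map_smul, map_smul, pow_add, mul_smul]
    exact ht
  rw [← hc]
  exact congrArg (fun ψ : M.X (q - 1) ⟶ M.homology q => ψ.hom (f ^ k • u))
    (M.toCycles_comp_homologyπ (q - 1) q)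

/-- the vanishing -/
theorem isZero_obj {f : A} (hf : f ∈ I) (K : DRing.Cx A)
    (hK : ∀ n : ℤ, Function.Bijective (fun x : K.X n => f • x)) :
    IsZero ((DRing.RgammaI I).obj (DerivedCategory.Q.obj K)) := by
  set L := (DRing.RgammaI I).obj (DerivedCategory.Q.obj K)
  have : ∀ n, IsIso ((f • 𝟙 K : K ⟶ K).f n) := fun n =>
    (ConcreteCategory.isIso_iff_bijective _).2 (hK n)
  have : IsIso (f • 𝟙 K : K ⟶ K) := HomologicalComplex.Hom.isIso_of_components _
  have hK' : IsIso ((mulD f).app L) := by
    rw [← map_mulD I f, mulD_app_Q]; infer_instance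
  let M := DerivedCategory.Q.objPreimage L
  let e : DerivedCategory.Q.obj M ≅ L := DerivedCategory.Q.objObjPreimageIso L
  have hM1 : IsIso (DerivedCategory.Q.map (f • 𝟙 M)) := by
    rw [← mulD_app_Q]
    exact (NatTrans.isIso_app_iff_of_iso (mulD f) e).2 hK'
  have hM2 : DerivedCategory.Q.map (DerCA.locCxUnit (Submonoid.powers f) M) = 0 := by
    have h := (unitD (Submonoid.powers f)).naturality e.hom
    rw [unitD_Rgamma_eq_zero I hf, comp_zero] at h
    have h' := (cancel_mono ((DerCA.locFunctor (R := A)
      (Submonoid.powers f)).mapDerivedCategory.map e.hom)).1 (h.symm.trans zero_comp.symm)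
    rw [unitD_app_Q] at h'
    exact (cancel_mono (((DerCA.locFunctor (R := A)
      (Submonoid.powers f)).mapDerivedCategoryFactors).inv.app M)).1 (h'.trans zero_comp.symm)
  rw [DerivedCategory.isIso_Q_map_iff_quasiIso] at hM1
  have hz : ∀ q, IsZero (M.homology q) := fun q => by
    refine ex_of f M q ?_
    have h := NatIso.naturality_1 (DerivedCategory.homologyFunctorFactors (ModuleCat.{u} A) q)
      (DerCA.locCxUnit (Submonoid.powers f) M)
    refine h.symm.trans ?_
    simp [hM2]
    rfl
  have h0 : QuasiIso (0 : M ⟶ M) := ⟨fun q => by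
    rw [quasiIsoAt_iff_isIso_homologyMap]
    exact ⟨0, (hz q).eq_of_src _ _, (hz q).eq_of_src _ _⟩⟩
  have h0' : IsIso (DerivedCategory.Q.map (0 : M ⟶ M)) := by
    rw [DerivedCategory.isIso_Q_map_iff_quasiIso]; exact h0
  refine IsZero.of_iso ?_ e.symm
  rw [IsZero.iff_id_eq_zero, ← IsIso.hom_inv_id (DerivedCategory.Q.map (0 : M ⟶ M))]
  exact (congrArg (· ≫ inv (DerivedCategory.Q.map (0 : M ⟶ M))) (Functor.map_zero _ _ _)).trans zero_comp

end Groth.Agent.LC16.RgammaVanish
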