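import Groth.Agent.LC16.CanonDual
import Groth.Agent.LC16.ChangeRings
import Groth.Agent.Gor18.LocCohGor
import Groth.Agent.Gor18.ExtPattern
import Groth.Agent.InjHull18.Change
import Mathlib.Algebra.Category.ModuleCat.Ext.Finite

/-!
A canonical module of a quotient of a Gorenstein local ring.
-/

namespace Groth.Agent.LC16.CanonExists

universe u

set_option autoImplicit false

open IsLocalRing LC15

section hull

variable {R' R : Type u} [CommRing R'] [CommRing R] [Algebra R' R] [IsLocalRing R'] [IsLocalRing R]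
  (hg : Function.Surjective (algebraMap R' R))

include hg in
/-- the residue fields agree -/
lemma nonempty_residue_equiv : Nonempty (ResidueField R' ≃ₗ[R'] ResidueField R) := by
  let φ := IsScalarTower.toAlgHom R' R (ResidueField R)
  have hφ : Function.Surjective φ.toLinearMap := residue_surjective
  have hs : Function.Surjective (φ.toLinearMap ∘ₗ Algebra.linearMap R' R) := hφ.comp hg
  have hker : LinearMap.ker (φ.toLinearMap ∘ₗ Algebra.linearMap R' R) =
      (maximalIdeal R' : Submodule R' R') := by
    ext a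
    rw [LinearMap.mem_ker, LinearMap.comp_apply, Algebra.linearMap_apply]
    change residue R (algebraMap R' R a) = 0 ↔ _
    have : IsLocalHom (algebraMap R' R) := hg.isLocalHom
    rw [residue_eq_zero_iff, ← Ideal.mem_comap, maximalIdeal_comap (algebraMap R' R)]
  exact ⟨(Submodule.quotEquivOfEq _ _ hker).symm ≪≫ₗ LinearMap.quotKerEquivOfSurjective _ hs⟩

end hull

/-- a hull over a quotient ring inside a hull over the ring -/
theorem exists_hull_tors {R' R : Type u} [CommRing R'] [CommRing R] [Algebra R' R]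
    (hg : Function.Surjective (algebraMap R' R)) {M E' T : Type u} [AddCommGroup M] [Module R' M]
    [Module R M] [IsScalarTower R' R M] [AddCommGroup E'] [Module R' E'] {f' : M →ₗ[R'] E'}
    (hf : InjHull.IsInjectiveHull f') [AddCommGroup T] [Module R' T] [Module R T]
    [IsScalarTower R' R T] (ι : T →ₗ[R'] E') (hι : Function.Injective ι)
    (hT : ∀ x : E', (∀ a ∈ RingHom.ker (algebraMap R' R), a • x = 0) → ∃ t, ι t = x) :
    ∃ g : M →ₗ[R] T, InjHull.IsInjectiveHull g := by
  have hmem : ∀ x, ∃ t, ι t = f' x := fun x => hT _ fun a ha => by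
    rw [← map_smul, ← algebraMap_smul R a x, RingHom.mem_ker.1 ha, zero_smul, map_zero]
  choose t ht using hmem
  let g₀ : M →ₗ[R'] T :=
    { toFun := t
      map_add' := fun x y => hι (by rw [map_add, ht, ht, ht, map_add])
      map_smul' := fun r x => hι (by rw [RingHom.id_apply, map_smul, ht, ht, map_smul]) }
  refine ⟨LinearMap.extendScalarsOfSurjective hg g₀,
    ⟨InjHull18.isEssentialInj_iff.2 ⟨fun x y h => hf.injective ?_, fun x hx => ?_⟩, ⟨?_⟩⟩⟩
  · rw [← ht x, ← ht y]
    exact congrArg ι h
  · obtain ⟨r, ⟨m, hm⟩, hr0⟩ := InjHull18.exists_smul_mem_range hf.toIsEssentialInj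
      (x := ι x) fun h => hx (hι (h.trans (map_zero ι).symm))
    refine ⟨algebraMap R' R r, ⟨m, ?_⟩, fun h => hr0 ?_⟩
    · apply hι
      change ι (g₀ m) = ι (algebraMap R' R r • x)
      rw [algebraMap_smul, map_smul]
      exact (ht m).trans hm
    · rw [algebraMap_smul] at h
      rw [← map_smul, h, map_zero]
  · intro X Y _ _ _ _ u hu v
    let _ : Module R' X := Module.compHom X (algebraMap R' R)
    let _ : Module R' Y := Module.compHom Y (algebraMap R' R)
    have : IsScalarTower R' R X := IsScalarTower.of_algebraMap_smul fun _ _ => rfl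
    have : IsScalarTower R' R Y := IsScalarTower.of_algebraMap_smul fun _ _ => rfl
    obtain ⟨w, hw⟩ := hf.isInjective.out (u.restrictScalars R') hu (ι ∘ₗ v.restrictScalars R')
    have hw' : ∀ y, ∃ t, ι t = w y := fun y => hT _ fun a ha => by
      rw [← map_smul, ← algebraMap_smul R a y, RingHom.mem_ker.1 ha, zero_smul, map_zero]
    choose s hs using hw'
    let w₀ : Y →ₗ[R'] T :=
      { toFun := s
        map_add' := fun x y => hι (by rw [map_add, hs, hs, hs, map_add])
        map_smul' := fun r x => hι (by rw [RingHom.id_apply, map_smul, hs, hs, map_smul]) }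
    exact ⟨LinearMap.extendScalarsOfSurjective hg w₀, fun x => hι ((hs (u x)).trans (hw x))⟩

/-- local duality for a quotient of a Gorenstein local ring, in the top degree -/
theorem exists_dual {R' R : Type u} [CommRing R'] [CommRing R] [Algebra R' R]
    [LocCoh.IsGorensteinLocalRing R'] [IsLocalRing R] [IsNoetherianRing R]
    (hg : Function.Surjective (algebraMap R' R)) {n' n c : ℕ} (hn' : ringKrullDim R' = n')
    (hc : c + n = n') {K : Type u} [AddCommGroup K] [Module R' K] [Module R K]
    [IsScalarTower R' R K] (eKc : CanonDual.EK (R := R') R' R c ≃ₗ[R'] K)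
    {E : Type u} [AddCommGroup E] [Module R E] {f : ResidueField R →ₗ[R] E}
    (hf : InjHull.IsInjectiveHull f) :
    Nonempty ((K →ₗ[R] E) ≃ₗ[R] LocCoh.H (maximalIdeal R) n R) := by
  have := Gor18.gor_cm R'
  obtain ⟨f₀, hf₀⟩ := Gor18.exists_hull_H R' n' hn'
  set E₀ := LocCoh.H (maximalIdeal R') n' R'
  let eR' : (R' →ₗ[R'] E₀) ≃ₗ[R'] LocCoh.H (maximalIdeal R') n' R' :=
    LinearMap.ringLmapEquivSelf R' R' E₀
  have := hf₀.isInjective
  have : Module.Finite R' R := Module.Finite.of_surjective (Algebra.linearMap R' R) hg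
  obtain ⟨d⟩ := CanonDual.duality hn' eR' c n hc R
  -- the torsion part of the hull
  obtain ⟨ek⟩ := nonempty_residue_equiv hg
  let b : Ideal R' := RingHom.ker (algebraMap R' R)
  let T := LocCoh.torsionBy b E₀
  have hkill : ∀ a ∈ b, ∀ t : T, a • t = 0 := fun a ha t =>
    Subtype.ext ((Submodule.mem_torsionBySet_iff _ _).1 t.2 ⟨a, ha⟩)
  let iS : SMul R T := ⟨fun r t => Function.surjInv hg r • t⟩
  have hsmul : ∀ (a : R') (t : T), algebraMap R' R a • t = a • t := fun a t => by
    refine sub_eq_zero.1 ?_
    change Function.surjInv hg (algebraMap R' R a) • t - a • t = 0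
    rw [← sub_smul, hkill _ (RingHom.mem_ker.2 (by
      rw [map_sub, Function.surjInv_eq hg, sub_self])) t]
  let iM : Module R T := Function.Surjective.moduleLeft (algebraMap R' R) hg hsmul
  have hT : IsScalarTower R' R T := IsScalarTower.of_algebraMap_smul hsmul
  have hf₀' : InjHull.IsInjectiveHull (f₀ ∘ₗ ek.symm.toLinearMap) :=
    ⟨⟨hf₀.injective.comp ek.symm.injective, by
      rw [LinearMap.range_comp_of_range_eq_top _ ek.symm.range]
      exact hf₀.essential⟩, hf₀.isInjective⟩
  obtain ⟨g, hgT⟩ := exists_hull_tors hg hf₀' (T := T) T.subtype T.injective_subtype fun x hx =>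
    ⟨⟨x, (Submodule.mem_torsionBySet_iff _ _).2 fun a => hx a.1 a.2⟩, rfl⟩
  obtain ⟨eE, -⟩ := InjHull18.hull_unique hf hgT
  -- maps into the torsion part
  let u : (K →ₗ[R] T) ≃+ (K →ₗ[R'] E₀) :=
    { toFun := fun φ => T.subtype ∘ₗ φ.restrictScalars R'
      invFun := fun ψ => LinearMap.extendScalarsOfSurjective hg (LinearMap.codRestrict T ψ fun k =>
        (Submodule.mem_torsionBySet_iff _ _).2 fun a => by
          rw [← map_smul, ← algebraMap_smul R (a : R') k, RingHom.mem_ker.1 a.2, zero_smul, map_zero])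
      left_inv := fun φ => LinearMap.ext fun k => rfl
      right_inv := fun ψ => LinearMap.ext fun k => rfl
      map_add' := fun _ _ => rfl }
  have hu : ∀ (a : R') (φ : K →ₗ[R] T), u (algebraMap R' R a • φ) = a • u φ := fun a φ =>
    LinearMap.ext fun k => congrArg Subtype.val (hsmul a (φ k))
  -- change of rings
  have hI : (maximalIdeal R').map (algebraMap R' R) = maximalIdeal R :=
    (IsLocalRing.map_maximalIdeal_of_surjective (algebraMap R' R) hg)
  obtain ⟨φ, hφ⟩ : ∃ φ : LocCoh.H (maximalIdeal R) n R ≃+ LocCoh.H (maximalIdeal R') n R,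
      ∀ (a : R') x, φ (algebraMap R' R a • x) = a • φ x := by
    rw [← hI]
    exact ChangeRings.exists_equiv (maximalIdeal R') n R
  let d' : (K →ₗ[R'] E₀) ≃ₗ[R'] LocCoh.H (maximalIdeal R') n R :=
    LinearEquiv.congrLeft E₀ R' eKc.symm ≪≫ₗ d.symm
  let F : (K →ₗ[R] E) ≃+ LocCoh.H (maximalIdeal R) n R :=
    (((eE.congrRight : (K →ₗ[R] E) ≃ₗ[R] (K →ₗ[R] T)).toAddEquiv.trans u).trans
      d'.toAddEquiv).trans φ.symm
  refine ⟨F.toLinearEquiv fun r x => ?_⟩
  obtain ⟨a, rfl⟩ := hg r
  apply φ.injective
  rw [hφ]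
  change φ (φ.symm (d' (u (eE.congrRight (algebraMap R' R a • x))))) =
    a • φ (φ.symm (d' (u (eE.congrRight x))))
  simp only [AddEquiv.apply_symm_apply, map_smul, hu]

/-- Ext of the quotient ring into the ring is a module over the quotient ring -/
lemma exists_module {R' R : Type u} [CommRing R'] [CommRing R] [Algebra R' R] [IsNoetherianRing R']
    (hg : Function.Surjective (algebraMap R' R)) (c : ℕ) :
    ∃ (_ : Module R (CanonDual.EK (R := R') R' R c))
      (_ : IsScalarTower R' R (CanonDual.EK (R := R') R' R c)),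
      Module.Finite R (CanonDual.EK (R := R') R' R c) := by
  have : Module.Finite R' R := Module.Finite.of_surjective (Algebra.linearMap R' R) hg
  let K := CanonDual.EK (R := R') R' R c
  have hkill : ∀ a : R', algebraMap R' R a = 0 → ∀ e : K, a • e = 0 := fun a ha e =>
    Gor18.smul_ext_eq_zero (fun x => by
      rw [Algebra.smul_def, ha, zero_mul]) e
  let iS : SMul R K := ⟨fun r t => Function.surjInv hg r • t⟩
  have hsmul : ∀ (a : R') (t : K), algebraMap R' R a • t = a • t := fun a t => by
    refine sub_eq_zero.1 ?_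
    change Function.surjInv hg (algebraMap R' R a) • t - a • t = 0
    rw [← sub_smul, hkill _ (by rw [map_sub, Function.surjInv_eq hg, sub_self]) t]
  let iM : Module R K := Function.Surjective.moduleLeft (algebraMap R' R) hg hsmul
  have hT : IsScalarTower R' R K := IsScalarTower.of_algebraMap_smul hsmul
  exact ⟨iM, hT, Module.Finite.of_restrictScalars_finite R' R K⟩

end Groth.Agent.LC16.CanonExists
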