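import Groth.Prelude.Def_DerCA
import Groth.Prelude.Def_DDual2
import Mathlib.Algebra.Category.ModuleCat.ChangeOfRings
import Mathlib.Algebra.Homology.HomotopyCategory.MappingCocone
import Mathlib.Algebra.Homology.HomotopyCategory.ShiftSequence

/-!
Localisation commutes with extension of scalars; so does the extended Cech complex.
-/

namespace Groth.Agent.LC16.LocBC

universe u

set_option autoImplicit false

open CategoryTheory CategoryTheory.Limits

section Univ

variable {A : Type u} [CommRing A] (f : A)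

local notation "S" => Submonoid.powers f

/-- `f` acts bijectively -/
def Bij (N : ModuleCat.{u} A) : Prop := IsIso (f • 𝟙 N)

theorem bij_loc (M : ModuleCat.{u} A) : Bij f ((DerCA.locFunctor S).obj M) := by
  refine (ConcreteCategory.isIso_iff_bijective _).2 ?_
  exact (Module.End.isUnit_iff _).1 (IsLocalizedModule.map_units
    (LocalizedModule.mkLinearMap S M) (⟨f, Submonoid.mem_powers f⟩ : S))

theorem units {N : ModuleCat.{u} A} (hN : Bij f N) (x : S) :
    IsUnit ((algebraMap A (Module.End A N)) x) := by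
  obtain ⟨_, n, rfl⟩ := x
  rw [map_pow]
  refine IsUnit.pow _ ?_
  exact (Module.End.isUnit_iff _).2 ((ConcreteCategory.isIso_iff_bijective _).1 hN)

/-- extension along the localisation map -/
noncomputable def ext {M N : ModuleCat.{u} A} (hN : Bij f N) (g : M ⟶ N) :
    (DerCA.locFunctor S).obj M ⟶ N :=
  ModuleCat.ofHom (IsLocalizedModule.lift S (LocalizedModule.mkLinearMap S M) g.hom (units f hN))

theorem unit_ext {M N : ModuleCat.{u} A} (hN : Bij f N) (g : M ⟶ N) :
    (DerCA.locUnit S).app M ≫ ext f hN g = g :=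
  ModuleCat.hom_ext (IsLocalizedModule.lift_comp S (LocalizedModule.mkLinearMap S M) g.hom (units f hN))

theorem hom_ext {M N : ModuleCat.{u} A} (hN : Bij f N) {g g' : (DerCA.locFunctor S).obj M ⟶ N}
    (h : (DerCA.locUnit S).app M ≫ g = (DerCA.locUnit S).app M ≫ g') : g = g' :=
  ModuleCat.hom_ext (IsLocalizedModule.ext S (LocalizedModule.mkLinearMap S M) (units f hN)
    (congrArg ModuleCat.Hom.hom h))

end Univ

variable {A B : Type u} [CommRing A] [CommRing B] (φ : A →+* B) (f : A)

/-- extension of scalars -/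
noncomputable abbrev EF : ModuleCat.{u} A ⥤ ModuleCat.{u} B := ModuleCat.extendScalars.{u, u, u} φ

theorem bij_res {N : ModuleCat.{u} B} (hN : Bij (φ f) N) : Bij f ((ModuleCat.restrictScalars.{u} φ).obj N) := by
  refine (ConcreteCategory.isIso_iff_bijective _).2 ?_
  exact (ConcreteCategory.isIso_iff_bijective (φ f • 𝟙 N)).1 hN

theorem bij_ext {M : ModuleCat.{u} A} (hM : Bij f M) : Bij (φ f) ((EF φ).obj M) := by
  have h : (φ f) • 𝟙 ((EF φ).obj M) = (EF φ).map (f • 𝟙 M) := by
    apply ((ModuleCat.extendRestrictScalarsAdj φ).homEquiv _ _).injective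
    rw [Adjunction.homEquiv_unit, Adjunction.homEquiv_unit]
    refine Eq.trans ?_ ((ModuleCat.extendRestrictScalarsAdj φ).unit.naturality (f • 𝟙 M))
    ext x
    exact (map_smul ((ModuleCat.extendRestrictScalarsAdj φ).unit.app M).hom f x).symm
  have : IsIso (f • 𝟙 M) := hM
  show IsIso _
  rw [h]
  infer_instance

theorem ext_hom_ext {M : ModuleCat.{u} A} {N : ModuleCat.{u} B} (hN : Bij (φ f) N)
    {g g' : (EF φ).obj ((DerCA.locFunctor (Submonoid.powers f)).obj M) ⟶ N}
    (h : (EF φ).map ((DerCA.locUnit (Submonoid.powers f)).app M) ≫ g =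
      (EF φ).map ((DerCA.locUnit (Submonoid.powers f)).app M) ≫ g') : g = g' := by
  let adj := ModuleCat.extendRestrictScalarsAdj φ
  apply (adj.homEquiv _ _).injective
  refine hom_ext f (bij_res φ f hN) ?_
  rw [← adj.homEquiv_naturality_left, ← adj.homEquiv_naturality_left, h]

/-- the comparison -/
noncomputable def fwd (M : ModuleCat.{u} A) :
    (EF φ).obj ((DerCA.locFunctor (Submonoid.powers f)).obj M) ⟶
      (DerCA.locFunctor (Submonoid.powers (φ f))).obj ((EF φ).obj M) :=
  ((ModuleCat.extendRestrictScalarsAdj φ).homEquiv _ _).symm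
    (ext f (bij_res φ f (bij_loc (φ f) _)) ((ModuleCat.extendRestrictScalarsAdj φ).homEquiv _ _
      ((DerCA.locUnit (Submonoid.powers (φ f))).app ((EF φ).obj M))))

theorem map_unit_fwd (M : ModuleCat.{u} A) :
    (EF φ).map ((DerCA.locUnit (Submonoid.powers f)).app M) ≫ fwd φ f M =
      (DerCA.locUnit (Submonoid.powers (φ f))).app ((EF φ).obj M) := by
  rw [fwd, ← Adjunction.homEquiv_naturality_left_symm]
  exact (congrArg _ (unit_ext f _ _)).trans (Equiv.symm_apply_apply _ _)

/-- the inverse comparison -/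
noncomputable def bwd (M : ModuleCat.{u} A) :
    (DerCA.locFunctor (Submonoid.powers (φ f))).obj ((EF φ).obj M) ⟶
      (EF φ).obj ((DerCA.locFunctor (Submonoid.powers f)).obj M) :=
  ext (φ f) (bij_ext φ f (bij_loc f M)) ((EF φ).map ((DerCA.locUnit (Submonoid.powers f)).app M))

/-- localisation commutes with extension of scalars -/
noncomputable def iso (M : ModuleCat.{u} A) :
    (EF φ).obj ((DerCA.locFunctor (Submonoid.powers f)).obj M) ≅
      (DerCA.locFunctor (Submonoid.powers (φ f))).obj ((EF φ).obj M) where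
  hom := fwd φ f M
  inv := bwd φ f M
  hom_inv_id := ext_hom_ext φ f (bij_ext φ f (bij_loc f M)) (by
    rw [← Category.assoc, map_unit_fwd]
    exact (unit_ext (φ f) _ _).trans (Category.comp_id _).symm)
  inv_hom_id := hom_ext (φ f) (bij_loc (φ f) _) (by
    rw [← Category.assoc, bwd, unit_ext, map_unit_fwd]
    exact (Category.comp_id _).symm)

theorem iso_natural {M N : ModuleCat.{u} A} (g : M ⟶ N) :
    (EF φ).map ((DerCA.locFunctor (Submonoid.powers f)).map g) ≫ (iso φ f N).hom =
      (iso φ f M).hom ≫ (DerCA.locFunctor (Submonoid.powers (φ f))).map ((EF φ).map g) := by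
  refine ext_hom_ext φ f (bij_loc (φ f) _) ?_
  rw [← Category.assoc, ← Category.assoc, ← Functor.map_comp,
    ← (DerCA.locUnit (Submonoid.powers f)).naturality g, Functor.map_comp, Category.assoc]
  show (EF φ).map _ ≫ (EF φ).map _ ≫ fwd φ f N = ((EF φ).map _ ≫ fwd φ f M) ≫ _
  rw [map_unit_fwd, map_unit_fwd]
  exact (DerCA.locUnit (Submonoid.powers (φ f))).naturality _

/-- extension of scalars on complexes -/
noncomputable abbrev extCx : DRing.Cx A ⥤ DRing.Cx B :=
  (EF φ).mapHomologicalComplex (ComplexShape.up ℤ)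

/-- localisation commutes with extension of scalars, on complexes -/
noncomputable def cxIso (K : DRing.Cx A) :
    (extCx φ).obj ((DerCA.locCx (Submonoid.powers f)).obj K) ≅
      (DerCA.locCx (Submonoid.powers (φ f))).obj ((extCx φ).obj K) :=
  HomologicalComplex.Hom.isoOfComponents (fun i => iso φ f (K.X i))
    fun i j _ => (iso_natural φ f (K.d i j)).symm

theorem map_cxUnit_cxIso (K : DRing.Cx A) :
    (extCx φ).map (DerCA.locCxUnit (Submonoid.powers f) K) ≫ (cxIso φ f K).hom =
      DerCA.locCxUnit (Submonoid.powers (φ f)) ((extCx φ).obj K) :=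
  HomologicalComplex.hom_ext _ _ fun i => map_unit_fwd φ f (K.X i)

theorem cxUnit_natural (S : Submonoid A) {K L : DRing.Cx A} (g : K ⟶ L) :
    g ≫ DerCA.locCxUnit S L = DerCA.locCxUnit S K ≫ (DerCA.locCx S).map g :=
  HomologicalComplex.hom_ext _ _ fun i => (DerCA.locUnit S).naturality (g.f i)

/-- cones of isomorphic arrows -/
noncomputable def coneIso {C : Type*} [Category* C] [Preadditive C] [HasBinaryBiproducts C]
    {K₁ L₁ K₂ L₂ : CochainComplex C ℤ} (φ₁ : K₁ ⟶ L₁) (φ₂ : K₂ ⟶ L₂) (a : K₁ ≅ K₂) (b : L₁ ≅ L₂)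
    (comm : φ₁ ≫ b.hom = a.hom ≫ φ₂) : CochainComplex.mappingCone φ₁ ≅ CochainComplex.mappingCone φ₂ where
  hom := CochainComplex.mappingCone.map φ₁ φ₂ a.hom b.hom comm
  inv := CochainComplex.mappingCone.map φ₂ φ₁ a.inv b.inv
    (by rw [Iso.comp_inv_eq, Category.assoc, comm, Iso.inv_hom_id_assoc])
  hom_inv_id := by
    rw [← CochainComplex.mappingCone.map_comp]
    simp only [Iso.hom_inv_id]
    exact CochainComplex.mappingCone.map_id φ₁
  inv_hom_id := by
    rw [← CochainComplex.mappingCone.map_comp]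
    simp only [Iso.inv_hom_id]
    exact CochainComplex.mappingCone.map_id φ₂

/-- the extended Cech complex commutes with base change -/
noncomputable def extCechIso (M : ModuleCat.{u} A) :
    ∀ fs : List A, (extCx φ).obj (DerCA.extCech M fs) ≅ DerCA.extCech ((EF φ).obj M) (fs.map φ)
  | [] => (HomologicalComplex.singleMapHomologicalComplex (EF φ) (ComplexShape.up ℤ) 0).app M
  | f :: fs =>
    let u := DerCA.locCxUnit (Submonoid.powers f) (DerCA.extCech M fs)
    let e := extCechIso M fs
    ((extCx φ).commShiftIso (-1 : ℤ)).app (CochainComplex.mappingCone u) ≪≫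
      (CategoryTheory.shiftFunctor (DRing.Cx B) (-1 : ℤ)).mapIso
        (CochainComplex.mappingCone.mapHomologicalComplexIso u (EF φ) ≪≫
          coneIso ((extCx φ).map u)
            (DerCA.locCxUnit (Submonoid.powers (φ f)) (DerCA.extCech ((EF φ).obj M) (fs.map φ)))
            e (cxIso φ f _ ≪≫ (DerCA.locCx (Submonoid.powers (φ f))).mapIso e) (by
              simp only [Iso.trans_hom, Functor.mapIso_hom, u]
              rw [← Category.assoc, map_cxUnit_cxIso, cxUnit_natural]))

end Groth.Agent.LC16.LocBC
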