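import Groth.Agent.LC16.CechTri
import Groth.Agent.LC16.RgammaVanish
import Groth.Agent.DR40.RHomTri
import Mathlib.CategoryTheory.Triangulated.Orthogonal

/-!
`RΓ_W` through K-injective complexes of injective modules.
-/

set_option autoImplicit false
set_option linter.style.haveILetI false
set_option maxHeartbeats 1000000

noncomputable section

universe u

open CategoryTheory CategoryTheory.Limits CategoryTheory.Pretriangulated
attribute [local instance] HasDerivedCategory.standard

namespace Groth.Agent.LC16.GammaModel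

open Groth.Agent.DR39 Groth.Agent.LC16.CechRgamma

variable {A : Type u} [CommRing A] (W : Ideal A)

/-- K-injective with injective terms -/
structure IsRep (K : DRing.Cx A) : Prop where
  kinj : K.IsKInjective
  inj : ∀ i, Module.Injective A (K.X i)

theorem exists_isRep (X : Dual.D A) : ∃ K : DRing.Cx A, IsRep K ∧ Nonempty ((QA A).obj K ≅ X) := by
  obtain ⟨L, ⟨e⟩⟩ := DR39.exists_complex_iso X
  obtain ⟨K, r, hKI, hr, -, hK⟩ := CohDer42.exists_kinjective_resolution L
  have hiso : IsIso (DerivedCategory.Q.map r) := (DerivedCategory.isIso_Q_map_iff_quasiIso _ r).2 hr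
  exact ⟨K, ⟨hKI, fun i => haveI := hK i; Module.injective_module_of_injective_object A (K.X i)⟩,
    ⟨(@asIso _ _ _ _ (DerivedCategory.Q.map r) hiso).symm ≪≫ e⟩⟩

theorem isKInjective_cone {K L : DRing.Cx A} (g : K ⟶ L) (hK : K.IsKInjective) (hL : L.IsKInjective) :
    (CochainComplex.mappingCone g).IsKInjective := by
  haveI := hK; haveI := hL
  rw [CochainComplex.isKInjective_iff_rightOrthogonal]
  exact ObjectProperty.ext_of_isTriangulatedClosed₃
    (HomotopyCategory.subcategoryAcyclic (ModuleCat.{u} A)).rightOrthogonal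
    _ (HomotopyCategory.mappingCone_triangleh_distinguished g)
    (CochainComplex.IsKInjective.rightOrthogonal K) (CochainComplex.IsKInjective.rightOrthogonal L)

theorem IsRep.cone {K L : DRing.Cx A} (hK : IsRep K) (hL : IsRep L) (g : K ⟶ L) :
    IsRep (CochainComplex.mappingCone g) := by
  refine ⟨isKInjective_cone g hK.kinj hL.kinj, fun i => ?_⟩
  haveI : Injective (K.X (i + 1)) :=
    Module.injective_object_of_injective_module A (K.X (i + 1)) (inj := hK.inj (i + 1))
  haveI : Injective (L.X i) := Module.injective_object_of_injective_module A (L.X i) (inj := hL.inj i)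
  haveI : Injective ((CochainComplex.mappingCone g).X i) :=
    Injective.of_iso (HomologicalComplex.homotopyCofiber.XIsoBiprod g i (i + 1) (by simp)).symm
      inferInstance
  exact Module.injective_module_of_injective_object A _

theorem IsRep.shift {K : DRing.Cx A} (hK : IsRep K) (n : ℤ) : IsRep (K⟦n⟧) := by
  haveI := hK.kinj
  exact ⟨inferInstance, fun i => hK.inj (i + n)⟩

/-- `RΓ_W` of a representative -/
abbrev gX (K : DRing.Cx A) : Dual.D A := (QA A).obj ((gCx W).obj K)

/-- the inclusion -/
def gι (K : DRing.Cx A) : (gCx W).obj K ⟶ K where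
  f i := ModuleCat.ofHom (DRing.torsionSub W (K.X i)).subtype
  comm' _ _ _ := rfl

theorem gι_natural {K L : DRing.Cx A} (g : K ⟶ L) : (gCx W).map g ≫ gι W L = gι W K ≫ g := rfl

/-- the inclusion in the derived category -/
abbrev γ (K : DRing.Cx A) : gX W K ⟶ (QA A).obj K := (QA A).map (gι W K)

theorem γ_natural {K L : DRing.Cx A} (g : K ⟶ L) :
    (QA A).map ((gCx W).map g) ≫ γ W L = γ W K ≫ (QA A).map g := by
  rw [← Functor.map_comp, gι_natural, Functor.map_comp]

/-- scalars killing the object kill `RΓ_W` -/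
theorem smul_gX_eq_zero {K : DRing.Cx A} (hK : IsRep K) (a : A) (h : a • 𝟙 ((QA A).obj K) = 0) :
    a • 𝟙 (gX W K) = 0 := by
  haveI := hK.kinj
  obtain ⟨H⟩ := (Q_map_eq_iff_to (a • 𝟙 K) 0).1 (by
    rw [Functor.map_smul, CategoryTheory.Functor.map_id, h, Functor.map_zero])
  have h1 := DerivedCategory.Q_map_eq_of_homotopy (C := ModuleCat.{u} A) ((DRing.gammaI W).mapHomotopy H)
  rw [RgammaVanish.gamma_mul, Functor.map_zero, Functor.map_zero, Functor.map_smul,
    CategoryTheory.Functor.map_id] at h1
  exact h1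

/-- the shift commutes with the torsion functor -/
theorem nonempty_gX_shift (K : DRing.Cx A) (n : ℤ) : Nonempty (gX W (K⟦n⟧) ≅ (gX W K)⟦n⟧) :=
  ⟨(QA A).mapIso (((gCx W).commShiftIso n).app K) ≪≫ ((QA A).commShiftIso n).app _⟩

/-- the image of a cone triangle -/
theorem exists_triangle {K L : DRing.Cx A} (g : K ⟶ L) : ∃ (T : Triangle (Dual.D A)),
    T ∈ distTriang (Dual.D A) ∧ ∃ (a₁ : T.obj₁ ≅ gX W K) (a₂ : T.obj₂ ≅ gX W L)
      (a₃ : T.obj₃ ≅ gX W (CochainComplex.mappingCone g)),
      T.mor₁ ≫ a₂.hom = a₁.hom ≫ (QA A).map ((gCx W).map g) ∧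
      T.mor₂ ≫ a₃.hom = a₂.hom ≫ (QA A).map ((gCx W).map (CochainComplex.mappingCone.inr g)) := by
  refine ⟨DerivedCategory.Q.mapTriangle.obj (CochainComplex.mappingCone.triangle ((gCx W).map g)),
    (DerivedCategory.mem_distTriang_iff _).2 ⟨_, _, _, ⟨Iso.refl _⟩⟩, Iso.refl _, Iso.refl _,
    (QA A).mapIso (CochainComplex.mappingCone.mapHomologicalComplexIso g (DRing.gammaI W)).symm,
    (Category.comp_id _).trans (Category.id_comp _).symm, ?_⟩
  refine Eq.trans ?_ (Category.id_comp _).symm
  show (QA A).map (CochainComplex.mappingCone.inr _) ≫ (QA A).map _ = _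
  refine ((QA A).map_comp _ _).symm.trans (congrArg _ ?_)
  exact (Iso.comp_inv_eq _).2
    (CochainComplex.mappingCone.map_inr g (DRing.gammaI W)).symm

end Groth.Agent.LC16.GammaModel
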