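import Groth.Agent.SpSeq40.Pages

/-!
Abutments of spectral sequences with terms in a class closed under kernels, cokernels and extensions.
-/

set_option autoImplicit false
set_option linter.style.haveILetI false

universe v u

open CategoryTheory CategoryTheory.Limits

namespace Groth.Agent.LC16.AbutClass

variable {C : Type u} [Category.{v} C] [Abelian C] (P : C → Prop)
  (hiso : ∀ {A B : C}, (A ≅ B) → P A → P B)
  (hker : ∀ {A B : C} (g : A ⟶ B), P A → P B → P (kernel g))
  (hcoker : ∀ {A B : C} (g : A ⟶ B), P A → P B → P (cokernel g))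

include hiso hker hcoker in
theorem prop_homology {ι : Type*} {c : ComplexShape ι} (K : HomologicalComplex C c) (i : ι)
    (h : ∀ j, P (K.X j)) : P (K.homology i) := by
  have hc : P (K.cycles i) :=
    hiso ((kernelIsKernel (K.d i (c.next i))).conePointUniqueUpToIso
      (K.cyclesIsKernel i (c.next i) rfl)) (hker _ (h _) (h _))
  exact hiso ((cokernelIsCokernel (K.toCycles (c.prev i) i)).coconePointUniqueUpToIso
    (K.homologyIsCokernel (c.prev i) i rfl)) (hcoker _ (h _) hc)

include hiso hker hcoker in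
theorem prop_abutment {r₀ : ℤ} {E : CohomologicalSpectralSequence C r₀} {H : ℤ → C}
    (a : SpSeq.Abutment E H) (hfin : ∀ n, a.IsFinite n) (hzero : ∀ A : C, IsZero A → P A)
    (hext : ∀ S : ShortComplex C, S.ShortExact → P S.X₁ → P S.X₃ → P S.X₂)
    (h₀ : ∀ pq : ℤ × ℤ, P ((E.page r₀ le_rfl).X pq)) (n : ℤ) : P (H n) := by
  have hpage : ∀ (r : ℤ) (hr : r₀ ≤ r), ∀ pq : ℤ × ℤ, P ((E.page r hr).X pq) := by
    intro r hr
    induction r, hr using Int.le_induction with
    | base => exact h₀
    | succ k hk ih =>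
      intro pq
      exact hiso (E.iso k (k + 1) pq rfl hk) (prop_homology P hiso hker hcoker _ pq ih)
  obtain ⟨⟨s, hs⟩, ⟨t, ht⟩⟩ := hfin n
  have hs : a.fil n s = ⊤ := hs
  have ht : a.fil n t = ⊥ := ht
  have hbot : a.fil n (s + ((t - s).toNat : ℤ)) = ⊥ :=
    le_bot_iff.1 (ht ▸ a.anti n (by omega))
  exact (SpSeq40.fil_sum (a.fil n) (a.anti n) P (fun _ => ())
    (fun Y hY => ⟨hzero Y hY, rfl⟩) (fun e h => ⟨hiso e h, rfl⟩)
    (fun S hS h1 h3 => ⟨hext S hS h1 h3, rfl⟩) s (t - s).toNat hs hbot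
    (fun i _ => by
      obtain ⟨e⟩ := SpSeq40.nonempty_gr_iso_rk a n (s + i)
      exact hiso e (hpage _ _ _))).1

end Groth.Agent.LC16.AbutClass
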