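import Groth.Agent.LC15.Cd
import Mathlib.RingTheory.Noetherian.Basic

/-!
A flasque-type criterion for vanishing of higher local cohomology, and its application to
injective modules over an algebra.
-/

namespace Groth.Agent.LC16.Acyclic

universe u

open LC15

variable {R : Type u} [CommRing R] [IsNoetherianRing R] {M : Type u} [AddCommGroup M] [Module R M]

/-- if multiplication by `x` is surjective up to `x`-torsion then the module is acyclic for `(x)` -/
theorem subsingleton_H_principal_of_div (x : R)
    (h : ∀ m : M, ∃ m' : M, ∃ n : ℕ, x ^ n • (x • m' - m) = 0) {i : ℕ} (hi : 0 < i) :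
    Subsingleton (LocCoh.H (Ideal.span {x}) i M) := by
  haveI : Subsingleton (LocCoh.H (Ideal.span {x}) i (M ⧸ gamma (Ideal.span {x}) M)) := by
    refine subsingleton_H_of_smul_bijective _ (Ideal.mem_span_singleton_self x) ⟨?_, ?_⟩ i
    · refine (injective_iff_map_eq_zero (LinearMap.lsmul R _ x)).2 fun y hy => ?_
      refine (Submodule.eq_bot_iff _).1 (gamma_quot_gamma (Ideal.span {x}) (M := M)) y ⟨1, ?_⟩
      intro a ha
      rw [pow_one, Ideal.mem_span_singleton'] at ha
      obtain ⟨c, rfl⟩ := ha
      rw [mul_smul, show x • y = 0 from hy, smul_zero]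
    · intro y
      obtain ⟨m, rfl⟩ := Submodule.Quotient.mk_surjective _ y
      obtain ⟨m', n, hn⟩ := h m
      refine ⟨Submodule.Quotient.mk m', ?_⟩
      change x • Submodule.Quotient.mk m' = _
      rw [← Submodule.Quotient.mk_smul, Submodule.Quotient.eq]
      refine ⟨n, fun a ha => ?_⟩
      rw [Ideal.span_singleton_pow, Ideal.mem_span_singleton'] at ha
      obtain ⟨c, rfl⟩ := ha
      rw [mul_smul, hn, smul_zero]
  exact (Hmap_mkQ_gamma_bijective (Ideal.span {x}) (M := M) hi).1.subsingleton

/-- Flasque-type criterion for acyclicity. -/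
theorem subsingleton_H_of_div (S : Set R)
    (h : ∀ s : Finset R, (s : Set R) ⊆ S → ∀ x ∈ S, ∀ m ∈ gamma (Ideal.span (s : Set R)) M,
      ∃ m' ∈ gamma (Ideal.span (s : Set R)) M, ∃ n : ℕ, x ^ n • (x • m' - m) = 0)
    (s : Finset R) (hs : (s : Set R) ⊆ S) :
    ∀ i : ℕ, 0 < i → Subsingleton (LocCoh.H (Ideal.span (s : Set R)) i M) := by
  classical
  induction s using Finset.induction with
  | empty =>
    intro i hi
    rw [Finset.coe_empty, Ideal.span_empty]
    exact cdLE_bot M i hi
  | insert x s _ ih =>
    intro i hi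
    obtain ⟨k, rfl⟩ : ∃ k, i = k + 1 := ⟨i - 1, by omega⟩
    rw [Finset.coe_insert, Set.insert_subset_iff] at hs
    rw [Finset.coe_insert, Ideal.span_insert, sup_comm]
    refine subsingleton_H_sup_of_acyclic k (ih hs.2)
      (subsingleton_H_principal_of_div x (fun m => ?_) k.succ_pos)
    obtain ⟨m', hm', n, hn⟩ := h s hs.2 x hs.1 m m.2
    exact ⟨⟨m', hm'⟩, n, Subtype.ext hn⟩

section injective

variable {R' : Type u} [CommRing R'] [IsNoetherianRing R']
  {E : Type u} [AddCommGroup E] [Module R' E]

/-- an injective module is divisible up to torsion -/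
lemma exists_div_of_injective [Module.Injective R' E] (x : R') (e : E) :
    ∃ e' : E, ∃ n : ℕ, x ^ n • (x • e' - e) = 0 := by
  obtain ⟨N, hN⟩ := monotone_stabilizes_iff_noetherian.mpr ‹IsNoetherianRing R'›
    ⟨fun n => LinearMap.ker (LinearMap.toSpanSingleton R' R' (x ^ n)), monotone_nat_of_le_succ
      fun n a ha => by
        rw [LinearMap.mem_ker, LinearMap.toSpanSingleton_apply, smul_eq_mul] at ha ⊢
        rw [pow_succ, ← mul_assoc, ha, zero_mul]⟩
  let f := LinearMap.toSpanSingleton R' R' (x ^ (N + 1))
  let g := LinearMap.toSpanSingleton R' E (x ^ N • e)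
  have hfg : LinearMap.ker f ≤ LinearMap.ker g := by
    intro a ha
    have ha' : a ∈ LinearMap.ker (LinearMap.toSpanSingleton R' R' (x ^ N)) := by
      have := hN (N + 1) N.le_succ
      exact this.symm.le ha
    rw [LinearMap.mem_ker, LinearMap.toSpanSingleton_apply, smul_eq_mul] at ha'
    rw [LinearMap.mem_ker, LinearMap.toSpanSingleton_apply, smul_smul, ha', zero_smul]
  obtain ⟨h, hh⟩ := Module.Injective.out ((LinearMap.ker f).liftQ f le_rfl)
    (by rw [← LinearMap.ker_eq_bot, Submodule.ker_liftQ, Submodule.mkQ_map_self])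
    ((LinearMap.ker f).liftQ g hfg)
  refine ⟨h 1, N, ?_⟩
  have h1 := hh (Submodule.Quotient.mk 1)
  rw [Submodule.liftQ_apply, Submodule.liftQ_apply, LinearMap.toSpanSingleton_apply,
    LinearMap.toSpanSingleton_apply, one_smul, one_smul] at h1
  rw [smul_sub, sub_eq_zero, ← h1, smul_smul, ← pow_succ, ← map_smul, smul_eq_mul, mul_one]

end injective

section algebra

variable {R' : Type u} [CommRing R'] [Algebra R R'] [Module R' M] [IsScalarTower R R' M]

omit [IsNoetherianRing R] in
/-- torsion for an ideal and for its extension agree -/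
lemma mem_gamma_map_iff (J : Ideal R) (m : M) :
    m ∈ gamma (J.map (algebraMap R R')) M ↔ m ∈ gamma J M := by
  refine exists_congr fun n => ?_
  rw [← Ideal.map_pow]
  constructor
  · exact fun h a ha => by
      rw [← algebraMap_smul R' a m]
      exact h _ (Ideal.mem_map_of_mem _ ha)
  · intro h
    have key : J ^ n ≤ Ideal.comap
        (algebraMap R R') (LinearMap.ker (LinearMap.toSpanSingleton R' M m)) := fun a ha => by
      rw [Ideal.mem_comap, LinearMap.mem_ker, LinearMap.toSpanSingleton_apply, algebraMap_smul]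
      exact h a ha
    exact fun a ha => Ideal.map_le_iff_le_comap.mpr key ha

/-- an injective module over a Noetherian algebra is acyclic over the base -/
theorem subsingleton_H_of_injective_algebra [IsNoetherianRing R'] [Module.Injective R' M]
    (I : Ideal R) {i : ℕ} (hi : 0 < i) : Subsingleton (LocCoh.H I i M) := by
  obtain ⟨s, rfl⟩ := (IsNoetherian.noetherian I : Submodule.FG I)
  refine subsingleton_H_of_div Set.univ (fun t _ x _ m hm => ?_) s (Set.subset_univ _) i hi
  have := injective_gamma ((Ideal.span (t : Set R)).map (algebraMap R R')) M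
  obtain ⟨e, n, hn⟩ := exists_div_of_injective (algebraMap R R' x)
    (⟨m, (mem_gamma_map_iff _ m).mpr hm⟩ :
      gamma ((Ideal.span (t : Set R)).map (algebraMap R R')) M)
  refine ⟨e, (mem_gamma_map_iff _ _).mp e.2, n, ?_⟩
  have h1 := congrArg Subtype.val hn
  rw [← map_pow, algebraMap_smul, algebraMap_smul] at h1
  exact h1

end algebra

end Groth.Agent.LC16.Acyclic
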