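import Groth.Agent.LC16.DimBetween

/-!
Algebraisation of local cohomology: the stabilisation statements.
-/

set_option autoImplicit false

noncomputable section

universe u

open CategoryTheory PrimeSpectrum
attribute [local instance] HasDerivedCategory.standard

namespace Groth.Agent.LC16.Algebraize

variable {A : Type u} [CommRing A] [IsNoetherianRing A] (I J : Ideal A)
  {T : Set (PrimeSpectrum A)}
  (hT : ∀ p : PrimeSpectrum A, p ∈ T ↔ ∀ q : PrimeSpectrum A, p ≤ q → I ≤ q.asIdeal → J ≤ q.asIdeal)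

include hT

omit [IsNoetherianRing A] in
theorem stable : StableUnderSpecialization T := fun p p' h hp =>
  (hT p').2 fun q hq => (hT p).1 hp q (((PrimeSpectrum.le_iff_specializes p p').2 h).trans hq)

omit [IsNoetherianRing A] in
theorem stable_union : StableUnderSpecialization (T ∪ zeroLocus (I : Set A)) := by
  rintro p p' h (hp | hp)
  · exact Or.inl (stable I J hT h hp)
  · exact Or.inr fun a ha => (PrimeSpectrum.le_iff_specializes p p').2 h (hp ha)

omit [IsNoetherianRing A] in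
theorem subset_T {J' : Ideal A} (h : zeroLocus (J' : Set A) ∩ zeroLocus (I : Set A) =
    zeroLocus (J : Set A) ∩ zeroLocus (I : Set A)) : zeroLocus (J' : Set A) ⊆ T := fun p hp =>
  (hT p).2 fun q hpq hIq => by
    have : q ∈ zeroLocus (J' : Set A) ∩ zeroLocus (I : Set A) := ⟨fun a ha => hpq (hp ha), hIq⟩
    rw [h] at this
    exact this.1

omit [IsNoetherianRing A] in
theorem mem_J {q : PrimeSpectrum A} (hq : q ∈ T) (hI : I ≤ q.asIdeal) : J ≤ q.asIdeal :=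
  (hT q).1 hq q le_rfl hI

variable {ω : Dual.D A} (hω : Dual.IsDualizing A ω) (M : Type u) [AddCommGroup M] [Module A M]
  (s d : ℕ)
  (h3 : ∀ p : PrimeSpectrum A, ¬ I ≤ p.asIdeal → p ∈ T → ∃ q : PrimeSpectrum A, p ≤ q ∧ J ≤ q.asIdeal ∧
    I ≤ q.asIdeal ∧ Formal2.dimBetween A p.asIdeal q.asIdeal ≤ ((d : ℕ∞) : WithBot ℕ∞))
  (h4 : ∀ p : PrimeSpectrum A, ¬ I ≤ p.asIdeal → p ∉ T → ∀ q : PrimeSpectrum A, p ≤ q →
    J ≤ q.asIdeal → I ≤ q.asIdeal →
      (s : ℕ∞) ≤ LocCoh.depth (Localization.AtPrime p.asIdeal) (LocalizedModule p.asIdeal.primeCompl M) ∨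
      (((d + s : ℕ) : ℕ∞) : WithBot ℕ∞) <
        ((LocCoh.depth (Localization.AtPrime p.asIdeal) (LocalizedModule p.asIdeal.primeCompl M) : ℕ∞) :
          WithBot ℕ∞) + Formal2.dimBetween A p.asIdeal q.asIdeal)

include h3 h4 in
omit [IsNoetherianRing A] in
theorem depth_cond {p q : PrimeSpectrum A} (hp : p ∉ T) (hpI : ¬ I ≤ p.asIdeal) (hq : q ∈ T) (hpq : p ≤ q)
    (k : ℕ) (hk : LocCoh.depth (Localization.AtPrime p.asIdeal) (LocalizedModule p.asIdeal.primeCompl M) = k) :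
    (s : ℤ) < k + (DualAnn.mu hω q - DualAnn.mu hω p) := by
  have hlt := DualAnn.mu_lt hω (lt_of_le_of_ne hpq fun h => hp (h ▸ hq))
  obtain ⟨q', hqq', hJ', hI', hd⟩ : ∃ q' : PrimeSpectrum A, q ≤ q' ∧ J ≤ q'.asIdeal ∧ I ≤ q'.asIdeal ∧
      DualAnn.mu hω q' - DualAnn.mu hω q ≤ d := by
    by_cases hIq : I ≤ q.asIdeal
    · exact ⟨q, le_rfl, mem_J I J hT hq hIq, hIq, by omega⟩
    · obtain ⟨q', h1, h2, h5, h6⟩ := h3 q hIq hq
      exact ⟨q', h1, h2, h5, DimBetween.mu_sub_le q q' hω h1 h6⟩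
  rcases h4 p hpI hp q' (hpq.trans hqq') hJ' hI' with h | h
  · rw [hk] at h
    have : s ≤ k := by exact_mod_cast h
    omega
  · rw [hk] at h
    have := DimBetween.lt_of_lt_add (DimBetween.dimBetween_le p q' hω (hpq.trans hqq')) h
    have := DualAnn.mu_mono hω hqq'
    omega

include hω h3 h4 in
theorem exists_kill [Module.Finite A M] : ∃ J₀ : Ideal A, J₀ ≤ J ∧ zeroLocus (J₀ : Set A) ⊆ T ∧
    zeroLocus (J₀ : Set A) ∩ zeroLocus (I : Set A) = zeroLocus (J : Set A) ∩ zeroLocus (I : Set A) ∧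
    ∃ n : ℕ, ∀ a ∈ (J₀ * I) ^ n, ∀ i : ℕ, i ≤ s → ∀ x : Dual2.HT T i M, a • x = 0 := by
  classical
  obtain ⟨J₁, hJ₁, hk⟩ := DualAnn.exists_ann hω M (T := T) (stable_union I J hT) s
    fun p q hp hq hpq k hk => depth_cond I J hT hω M s d h3 h4 (fun h => hp (Or.inl h))
      (fun h => hp (Or.inr h)) hq hpq k hk
  let P := (Ideal.finite_minimalPrimes_of_isNoetherianRing A J₁).toFinset
  let inT : Ideal A → Prop := fun Q => ∃ h : Q.IsPrime, (⟨Q, h⟩ : PrimeSpectrum A) ∈ T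
  let B : Ideal A := ∏ Q ∈ P.filter inT, Q
  have hJT : zeroLocus (J : Set A) ⊆ T := subset_T I J hT rfl
  have hBT : zeroLocus (B : Set A) ⊆ T := fun r hr => by
    obtain ⟨Q, hQ, hQr⟩ := (r.isPrime.prod_le).1 (show B ≤ r.asIdeal from hr)
    obtain ⟨-, hQp, hQT⟩ := Finset.mem_filter.1 hQ
    exact stable I J hT ((PrimeSpectrum.le_iff_specializes ⟨Q, hQp⟩ r).1 hQr) hQT
  have h0T : zeroLocus ((J * B : Ideal A) : Set A) ⊆ T := by
    rw [zeroLocus_mul]; exact Set.union_subset hJT hBT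
  refine ⟨J * B, Ideal.mul_le_left, h0T, Set.Subset.antisymm
    (fun r hr => ⟨fun a ha => mem_J I J hT (h0T hr.1) hr.2 ha, hr.2⟩)
    (fun r hr => ⟨fun a ha => hr.1 (Ideal.mul_le_left ha), hr.2⟩), ?_⟩
  have hrad : J * B * I ≤ J₁.radical := by
    rw [← Ideal.sInf_minimalPrimes]
    refine le_sInf fun Q hQ => ?_
    by_cases hQT : inT Q
    · exact Ideal.mul_le_left.trans (Ideal.mul_le_right.trans (Ideal.le_of_dvd
        (Finset.dvd_prod_of_mem _ (Finset.mem_filter.2 ⟨(Set.Finite.mem_toFinset _).2 hQ, hQT⟩))))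
    · rcases hJ₁ (show (⟨Q, hQ.1.1⟩ : PrimeSpectrum A) ∈ zeroLocus (J₁ : Set A) from hQ.1.2) with h | h
      · exact absurd ⟨hQ.1.1, h⟩ hQT
      · exact Ideal.mul_le_right.trans h
  obtain ⟨n, hn⟩ := Ideal.exists_pow_le_of_le_radical_of_fg hrad (IsNoetherian.noetherian _)
  exact ⟨n, fun a ha i hi x => hk i hi a (hn ha) x⟩

omit hT in
/-- torsion with respect to any ideal cutting out the common support -/
theorem cond_of_kills {J' L : Ideal A} {i : ℕ}
    (hL : ∀ a ∈ L, ∀ x : Dual2.HT T i M, a • x = 0)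
    (hsupp : ∀ r : PrimeSpectrum A, r ∈ T → L ≤ r.asIdeal → J' ≤ r.asIdeal) :
    SuppStable.Cond (T := T) J' i M := by
  intro y
  obtain ⟨K, hK⟩ := LC15.HT.exists_kills (T := T) (M := M) i y
  have hrad : J' ≤ (LC15.HT.idl K ⊔ L).radical := by
    rw [← vanishingIdeal_zeroLocus_eq_radical]
    intro a ha
    rw [mem_vanishingIdeal]
    intro r hr
    have hr' : LC15.HT.idl K ⊔ L ≤ r.asIdeal := hr
    exact hsupp r (LC15.HT.zeroLocus_idl K (le_sup_left.trans hr')) (le_sup_right.trans hr') ha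
  obtain ⟨k, hk⟩ := Ideal.exists_pow_le_of_le_radical_of_fg hrad (IsNoetherian.noetherian _)
  refine ⟨k, fun c hc => ?_⟩
  obtain ⟨u, hu, v, hv, rfl⟩ := Submodule.mem_sup.1 (hk hc)
  rw [add_smul, hK u hu, hL v hv, add_zero]

omit hT in
/-- the comparison maps -/
theorem HofLE_bijective {J₀ J' : Ideal A} (hle : J' ≤ J₀) (h₀ : zeroLocus (J₀ : Set A) ⊆ T)
    (h' : zeroLocus (J' : Set A) ⊆ T) (i : ℕ) (c₀ : ∀ a ≤ i, SuppStable.Cond (T := T) J₀ a M)
    (c' : ∀ a ≤ i, SuppStable.Cond (T := T) J' a M) :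
    Function.Bijective ((Dual2.HmapOfLE hle i).app (ModuleCat.of A M)).hom := by
  have heq : SuppT.toT T i M J' h' ∘ LC15.HofLE hle i M = SuppT.toT T i M J₀ h₀ :=
    funext fun z => SuppT.toT_HofLE T i M hle h₀ h' z
  exact ((SuppStable.toT_bijective h' i M c').of_comp_iff' _).1
    (heq ▸ SuppStable.toT_bijective h₀ i M c₀)

/-- the stabilisation statement -/
theorem main {J₀ : Ideal A} (h₀ : J₀ ≤ J) (hT₀ : zeroLocus (J₀ : Set A) ⊆ T) {n : ℕ}
    (hk : ∀ a ∈ (J₀ * I) ^ n, ∀ i : ℕ, i ≤ s → ∀ x : Dual2.HT T i M, a • x = 0) :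
    (∀ i ≤ s, SuppStable.Cond (T := T) J₀ i M) ∧
    (∀ (J' : Ideal A) (hJ' : J' ≤ J₀), zeroLocus (J' : Set A) ∩ zeroLocus (I : Set A) =
        zeroLocus (J : Set A) ∩ zeroLocus (I : Set A) →
      ∀ i : ℕ, i ≤ s → Function.Bijective ((Dual2.HmapOfLE hJ' i).app (ModuleCat.of A M)).hom) ∧
    ∃ n : ℕ, ∀ a ∈ (J₀ * I) ^ n, ∀ i : ℕ, i ≤ s → ∀ x : LocCoh.H J₀ i M, a • x = 0 := by
  have hc : ∀ J' ≤ J₀, ∀ i ≤ s, SuppStable.Cond (T := T) J' i M := fun J' hJ' i hi =>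
    cond_of_kills M (fun a ha x => hk a ha i hi x) fun r hr hL => by
      refine hJ'.trans ?_
      rcases r.isPrime.mul_le.1 (r.isPrime.le_of_pow_le hL) with h | h
      · exact h
      · exact h₀.trans (mem_J I J hT hr h)
  refine ⟨hc J₀ le_rfl, fun J' hJ' hV i hi => ?_, n, fun a ha i hi x => ?_⟩
  · exact HofLE_bijective M hJ' hT₀ (subset_T I J hT hV) i (fun a ha => hc J₀ le_rfl a (ha.trans hi))
      (fun a ha => hc J' hJ' a (ha.trans hi))
  · refine (SuppStable.toT_bijective hT₀ i M fun b hb => hc J₀ le_rfl b (hb.trans hi)).1 ?_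
    rw [map_smul, hk a ha i hi, map_zero]

end Groth.Agent.LC16.Algebraize
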