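import Groth.Agent.FBlow13.Chart
import Groth.Agent.LC17.Represent
import Groth.Prelude.Def_BlowUp2

/-!
Ideals whose affine blow-up algebras have small fibres are, locally, set-theoretically generated by few elements.
-/

set_option autoImplicit false
set_option linter.style.haveILetI false
set_option linter.unusedSectionVars false
set_option maxHeartbeats 1000000

noncomputable section

universe u

namespace Groth.Agent.LC16.BlowFibreCd

variable {A : Type u} [CommRing A] (I : Ideal A)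

/-- the chart -/
abbrev B (a : A) : Type u := ↥(BlowUp.affineAlgebra A I a)

/-- the structure map of the chart -/
abbrev φ (a : A) : A →+* B I a := algebraMap A (B I a)

theorem cancel {a : A} (n : ℕ) {z z' : B I a} (h : z * φ I a (a ^ n) = z' * φ I a (a ^ n)) : z = z' := by
  rw [map_pow] at h
  exact (mem_nonZeroDivisors_iff_right.1 (pow_mem (FBlow13.affineAlgebra_nzd a) n) _
    (by rw [sub_mul, h, sub_self]) |> sub_eq_zero.1)

theorem exists_frac (a : A) {n : ℕ} {x : A} (hx : x ∈ I ^ n) :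
    ∃ z : B I a, z * φ I a (a ^ n) = φ I a x := by
  induction n generalizing x with
  | zero => exact ⟨φ I a x, by rw [pow_zero, map_one, mul_one]⟩
  | succ n ih =>
    rw [pow_succ] at hx
    induction hx using Submodule.mul_induction_on' with
    | mem_mul_mem y hy b hb =>
      obtain ⟨z, hz⟩ := ih hy
      obtain ⟨c, hc⟩ := FBlow13.affineAlgebra_div (a := a) hb
      exact ⟨z * c, by rw [pow_succ, map_mul, map_mul, ← hz, show φ I a b = c * φ I a a from hc]; ring⟩
    | add y _ w _ hy hw =>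
      obtain ⟨z, hz⟩ := hy
      obtain ⟨v, hv⟩ := hw
      exact ⟨z + v, by rw [add_mul, hz, hv, map_add]⟩

/-- `x / a^n` -/
def frac (a : A) (n : ℕ) (x : A) (hx : x ∈ I ^ n) : B I a := (exists_frac I a hx).choose

theorem frac_spec (a : A) (n : ℕ) (x : A) (hx : x ∈ I ^ n) :
    frac I a n x hx * φ I a (a ^ n) = φ I a x := (exists_frac I a hx).choose_spec

theorem frac_congr (a : A) {n m : ℕ} {x y : A} (hnm : n = m) (hxy : x = y) (hx : x ∈ I ^ n)
    (hy : y ∈ I ^ m) : frac I a n x hx = frac I a m y hy := by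
  subst hnm; subst hxy; rfl

theorem frac_mul (a : A) {n m : ℕ} {x y : A} (hx : x ∈ I ^ n) (hy : y ∈ I ^ m) (h : x * y ∈ I ^ (n + m)) :
    frac I a (n + m) (x * y) h = frac I a n x hx * frac I a m y hy := by
  refine cancel I (n + m) ?_
  rw [frac_spec, pow_add, map_mul, map_mul, ← frac_spec I a n x hx, ← frac_spec I a m y hy]
  ring

theorem frac_add (a : A) {n : ℕ} {x y : A} (hx : x ∈ I ^ n) (hy : y ∈ I ^ n) (h : x + y ∈ I ^ n) :
    frac I a n (x + y) h = frac I a n x hx + frac I a n y hy := by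
  refine cancel I n ?_
  rw [frac_spec, add_mul, frac_spec, frac_spec, map_add]

theorem frac_self (a : A) (h : a ∈ I ^ 1) : frac I a 1 a h = 1 :=
  cancel I 1 (by rw [frac_spec, one_mul, pow_one])

theorem exists_eq_frac {a : A} (ha : a ∈ I) (z : B I a) :
    ∃ (n : ℕ) (x : A) (hx : x ∈ I ^ n), z = frac I a n x hx := by
  suffices ∃ (n : ℕ) (x : A), x ∈ I ^ n ∧ z * φ I a (a ^ n) = φ I a x by
    obtain ⟨n, x, hx, h⟩ := this
    exact ⟨n, x, hx, cancel I n (h.trans (frac_spec I a n x hx).symm)⟩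
  obtain ⟨z, hz⟩ := z
  induction hz using Algebra.adjoin_induction with
  | mem q hq =>
    obtain ⟨x, hx, rfl⟩ := hq
    refine ⟨1, x, by rwa [pow_one], Subtype.ext ?_⟩
    rw [pow_one]
    exact IsLocalization.mk'_spec (Localization.Away a) x ⟨a, Submonoid.mem_powers a⟩
  | algebraMap r => exact ⟨0, r, by simp, Subtype.ext (by rw [pow_zero, map_one, mul_one]; rfl)⟩
  | add x y hx hy h₁ h₂ =>
    obtain ⟨n, u, hu, h₁⟩ := h₁
    obtain ⟨m, v, hv, h₂⟩ := h₂
    refine ⟨n + m, u * a ^ m + v * a ^ n, add_mem ?_ ?_, ?_⟩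
    · rw [pow_add]; exact Ideal.mul_mem_mul hu (Ideal.pow_mem_pow ha m)
    · rw [add_comm n m, pow_add]; exact Ideal.mul_mem_mul hv (Ideal.pow_mem_pow ha n)
    · rw [show (⟨x + y, add_mem hx hy⟩ : B I a) = ⟨x, hx⟩ + ⟨y, hy⟩ from rfl, pow_add, map_mul, map_add,
        map_mul, map_mul, ← h₁, ← h₂]
      ring
  | mul x y hx hy h₁ h₂ =>
    obtain ⟨n, u, hu, h₁⟩ := h₁
    obtain ⟨m, v, hv, h₂⟩ := h₂
    refine ⟨n + m, u * v, by rw [pow_add]; exact Ideal.mul_mem_mul hu hv, ?_⟩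
    rw [show (⟨x * y, mul_mem hx hy⟩ : B I a) = ⟨x, hx⟩ * ⟨y, hy⟩ from rfl, pow_add, map_mul, map_mul,
      ← h₁, ← h₂]
    ring

/-- the homogeneous elements vanishing at a prime of a chart -/
def van (x : Σ a : A, PrimeSpectrum (B I a)) : Set (ℕ × A) :=
  {q | ∃ h : q.2 ∈ I ^ q.1, frac I x.1 q.1 q.2 h ∈ x.2.asIdeal}

theorem mem_van {x : Σ a : A, PrimeSpectrum (B I a)} {n : ℕ} {f : A} (hf : f ∈ I ^ n) :
    (n, f) ∈ van I x ↔ frac I x.1 n f hf ∈ x.2.asIdeal := ⟨fun ⟨_, h⟩ => h, fun h => ⟨hf, h⟩⟩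

theorem mul_mem_van_iff {x : Σ a : A, PrimeSpectrum (B I a)} {n m : ℕ} {f g : A} (hf : f ∈ I ^ n)
    (hg : g ∈ I ^ m) : (n + m, f * g) ∈ van I x ↔ (n, f) ∈ van I x ∨ (m, g) ∈ van I x := by
  have hfg : f * g ∈ I ^ (n + m) := pow_add I n m ▸ Ideal.mul_mem_mul hf hg
  rw [mem_van I hfg, mem_van I hf, mem_van I hg, frac_mul I _ hf hg hfg]
  exact x.2.2.mul_mem_iff_mem_or_mem

theorem pow_mem_van_iff {x : Σ a : A, PrimeSpectrum (B I a)} {n : ℕ} {f : A} (hf : f ∈ I ^ n) {t : ℕ}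
    (ht : 0 < t) : (n * t, f ^ t) ∈ van I x ↔ (n, f) ∈ van I x := by
  induction t, ht using Nat.le_induction with
  | base => simp
  | succ t _ ih =>
    rw [Nat.mul_succ, pow_succ, mul_mem_van_iff I (by rw [pow_mul]; exact Ideal.pow_mem_pow hf t) hf, ih,
      or_self]

theorem add_mem_van {x : Σ a : A, PrimeSpectrum (B I a)} {n : ℕ} {f g : A} (hf : f ∈ I ^ n)
    (hg : g ∈ I ^ n) (h : (n, g) ∈ van I x) : (n, f + g) ∈ van I x ↔ (n, f) ∈ van I x := by
  rw [mem_van I (add_mem hf hg), mem_van I hf, frac_add I _ hf hg (add_mem hf hg)]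
  exact Submodule.add_mem_iff_left _ ((mem_van I hg).1 h)

theorem self_not_mem_van {x : Σ a : A, PrimeSpectrum (B I a)} (ha : x.1 ∈ I) : ((1, x.1) : ℕ × A) ∉ van I x := by
  have h : x.1 ∈ I ^ 1 := by rwa [pow_one]
  rw [mem_van I h, frac_self I _ h]
  exact fun h => x.2.2.ne_top ((Ideal.eq_top_iff_one _).2 h)

/-- homogeneous prime avoidance -/
theorem exists_avoid (s : Finset (Σ a : A, PrimeSpectrum (B I a))) (hs : ∀ x ∈ s, x.1 ∈ I) :
    ∃ (e : ℕ) (f : A), 0 < e ∧ f ∈ I ^ e ∧ ∀ x ∈ s, (e, f) ∉ van I x := by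
  classical
  letI : DecidableEq (Σ a : A, PrimeSpectrum (B I a)) := Classical.decEq _
  letI : DecidableEq (Set (ℕ × A)) := Classical.decEq _
  induction hn : s.card using Nat.strong_induction_on generalizing s with
  | _ n ih =>
  rcases s.eq_empty_or_nonempty with rfl | hne
  · exact ⟨1, 0, one_pos, zero_mem _, by simp⟩
  obtain ⟨S, hS⟩ := (s.image (van I)).exists_minimal (hne.image _)
  obtain ⟨j, hj, rfl⟩ := Finset.mem_image.1 hS.prop
  obtain ⟨e, f, he, hf, hav⟩ := ih (s.erase j).card (hn ▸ Finset.card_erase_lt_of_mem hj) (s.erase j)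
    (fun x hx => hs x (Finset.mem_of_mem_erase hx)) rfl
  by_cases hfj : (e, f) ∈ van I j
  swap
  · exact ⟨e, f, he, hf, fun x hx => if h : x = j then h ▸ hfj else hav x (Finset.mem_erase.2 ⟨h, hx⟩)⟩
  have hg : ∀ x ∈ s.erase j, ∃ q : ℕ × A, q.2 ∈ I ^ q.1 ∧ q ∈ van I x ∧ q ∉ van I j := by
    intro x hx
    by_contra h
    push Not at h
    have hsub : van I x ⊆ van I j := fun q hq => h q hq.1 hq
    exact hav x hx (hS.2 (Finset.mem_image_of_mem _ (Finset.mem_of_mem_erase hx)) hsub hfj)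
  choose! q hq1 hq2 hq3 using hg
  obtain ⟨m, g, hm, hg, hgx, hgj⟩ : ∃ (m : ℕ) (g : A), 0 < m ∧ g ∈ I ^ m ∧
      (∀ x ∈ s.erase j, (m, g) ∈ van I x) ∧ (m, g) ∉ van I j := by
    suffices ∀ t : Finset _, t ⊆ s.erase j → ∃ (m : ℕ) (g : A), 0 < m ∧ g ∈ I ^ m ∧
        (∀ x ∈ t, (m, g) ∈ van I x) ∧ (m, g) ∉ van I j from this _ subset_rfl
    intro t
    induction t using Finset.induction_on with
    | empty =>
      exact fun _ => ⟨1, j.1, one_pos, by rw [pow_one]; exact hs j hj, by simp, self_not_mem_van I (hs j hj)⟩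
    | insert y t _ iht =>
      intro ht
      obtain ⟨hy, ht⟩ := Finset.insert_subset_iff.1 ht
      obtain ⟨m, g, hm, hg, hgx, hgj⟩ := iht ht
      refine ⟨m + (q y).1, g * (q y).2, by omega, pow_add I m (q y).1 ▸ Ideal.mul_mem_mul hg (hq1 y hy),
        fun x hx => (mul_mem_van_iff I hg (hq1 y hy)).2 ?_, fun h => ?_⟩
      · rcases Finset.mem_insert.1 hx with rfl | hx
        · exact Or.inr (hq2 x hy)
        · exact Or.inl (hgx x hx)
      · rcases (mul_mem_van_iff I hg (hq1 y hy)).1 h with h | h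
        · exact hgj h
        · exact hq3 y hy h
  have hf' : f ^ m ∈ I ^ (e * m) := by rw [pow_mul]; exact Ideal.pow_mem_pow hf m
  have hg' : g ^ e ∈ I ^ (e * m) := by rw [mul_comm, pow_mul]; exact Ideal.pow_mem_pow hg e
  have hge : ∀ x, ((e * m, g ^ e) : ℕ × A) ∈ van I x ↔ (m, g) ∈ van I x := fun x => by
    rw [mul_comm, pow_mem_van_iff I hg he]
  refine ⟨e * m, f ^ m + g ^ e, Nat.mul_pos he hm, add_mem hf' hg', fun x hx h => ?_⟩
  by_cases hxj : x = j
  · subst hxj
    rw [add_comm, add_mem_van I hg' hf' ((pow_mem_van_iff I hf hm).2 hfj), hge] at h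
    exact hgj h
  · have hx' := Finset.mem_erase.2 ⟨hxj, hx⟩
    rw [add_mem_van I hf' hg' ((hge x).2 (hgx x hx')), pow_mem_van_iff I hf hm] at h
    exact hav x hx' h

variable [IsNoetherianRing A]

theorem isNoetherianRing_B (a : A) : IsNoetherianRing (B I a) := by
  haveI := FBlow13.affineAlgebra_finiteType (𝔞 := I) a (IsNoetherian.noetherian I)
  exact Algebra.FiniteType.isNoetherianRing A (B I a)

/-- the equations of the fibre cut by finitely many elements -/
def eqs (p : Ideal A) {k : ℕ} (e : Fin k → ℕ) (u : Fin k → A) (hu : ∀ i, u i ∈ I ^ e i) (a : A) :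
    Ideal (B I a) :=
  p.map (φ I a) ⊔ Ideal.span (Set.range fun i => frac I a (e i) (u i) (hu i))

/-- few elements cut out the empty set in the fibre -/
theorem exists_eqs (G : Finset A) (hG : ∀ a ∈ G, a ∈ I) (p : Ideal A) :
    ∀ k : ℕ, ∃ (e : Fin k → ℕ) (u : Fin k → A) (hu : ∀ i, u i ∈ I ^ e i), (∀ i, 0 < e i) ∧
      ∀ a ∈ G, ∀ Q : PrimeSpectrum (B I a), Q.asIdeal.comap (φ I a) = p → eqs I p e u hu a ≤ Q.asIdeal →
        ∃ l : LTSeries (PrimeSpectrum (B I a)), l.length = k ∧ l.last = Q ∧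
          ∀ i, (l i).asIdeal.comap (φ I a) = p
  | 0 => ⟨finZeroElim, finZeroElim, fun i => i.elim0, fun i => i.elim0,
      fun a _ Q hQ _ => ⟨RelSeries.singleton _ Q, rfl, rfl, fun i => hQ⟩⟩
  | k + 1 => by
    classical
    obtain ⟨e, u, hu, he, hch⟩ := exists_eqs G hG p k
    have hfin : ∀ a : A, {Q : PrimeSpectrum (B I a) |
        Q.asIdeal ∈ (eqs I p e u hu a).minimalPrimes}.Finite := fun a => by
      haveI := isNoetherianRing_B I a
      exact (Ideal.finite_minimalPrimes_of_isNoetherianRing _ _).preimage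
        fun _ _ _ _ h => PrimeSpectrum.ext h
    let bad : Finset (Σ a : A, PrimeSpectrum (B I a)) :=
      (G.sigma fun a => (hfin a).toFinset).filter fun x => x.2.asIdeal.comap (φ I x.1) = p
    obtain ⟨e', f, he', hf, hav⟩ := exists_avoid I bad (fun x hx =>
      hG x.1 (Finset.mem_sigma.1 (Finset.mem_of_mem_filter x hx)).1)
    have hu' : ∀ i, (Fin.snoc u f : Fin (k + 1) → A) i ∈ I ^ (Fin.snoc e e' : Fin (k + 1) → ℕ) i :=
      fun i => Fin.lastCases (by simp only [Fin.snoc_last]; exact hf)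
        (fun i => by simp only [Fin.snoc_castSucc]; exact hu i) i
    refine ⟨Fin.snoc e e', Fin.snoc u f, hu', fun i => ?_, fun a ha Q hQ hle => ?_⟩
    · exact Fin.lastCases (by simpa using he') (fun i => by simpa using he i) i
    have hlast : frac I a e' f hf ∈ Q.asIdeal := hle (Ideal.mem_sup_right (Ideal.subset_span
      ⟨Fin.last k, frac_congr I a (Fin.snoc_last _ _) (Fin.snoc_last _ _) _ _⟩))
    have hle' : eqs I p e u hu a ≤ Q.asIdeal := sup_le (le_sup_left.trans hle) (Ideal.span_le.2 (by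
      rintro _ ⟨i, rfl⟩
      exact hle (Ideal.mem_sup_right (Ideal.subset_span
        ⟨i.castSucc, frac_congr I a (Fin.snoc_castSucc _ _ _) (Fin.snoc_castSucc _ _ _) _ _⟩))))
    obtain ⟨Q₀, hQ₀, hQ₀Q⟩ := Ideal.exists_minimalPrimes_le hle'
    let Q₀' : PrimeSpectrum (B I a) := ⟨Q₀, hQ₀.1.1⟩
    have hc : Q₀'.asIdeal.comap (φ I a) = p := le_antisymm ((Ideal.comap_mono hQ₀Q).trans hQ.le)
      (Ideal.map_le_iff_le_comap.1 (le_sup_left.trans hQ₀.1.2))
    have hnot := hav ⟨a, Q₀'⟩ (Finset.mem_filter.2 ⟨Finset.mem_sigma.2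
      ⟨ha, (hfin a).mem_toFinset.2 hQ₀⟩, hc⟩)
    rw [mem_van I hf] at hnot
    obtain ⟨l, hlen, hlast', hl⟩ := hch a ha Q₀' hc hQ₀.1.2
    have hlt : Q₀' < Q := lt_of_le_not_ge hQ₀Q fun h => hnot (h hlast)
    refine ⟨l.snoc Q (by rw [hlast']; exact hlt), by simp [hlen], by simp, fun i => ?_⟩
    induction i using Fin.lastCases with
    | last =>
      show ((l.snoc Q _).last).asIdeal.comap (φ I a) = p
      rw [RelSeries.last_snoc]
      exact hQ
    | cast i =>
      have hi : (l.snoc Q (by rw [hlast']; exact hlt) : LTSeries _) i.castSucc = l (i.cast (by simp)) := by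
        simp [RelSeries.snoc, RelSeries.append, Fin.append, Fin.addCases]
        refine (dif_pos (show (i : ℕ) ≤ l.length from Nat.lt_succ_iff.1 i.isLt)).trans ?_
        rfl
      exact (congrArg (fun x : PrimeSpectrum (B I a) => x.asIdeal.comap (φ I a)) hi).trans (hl _)

/-- reading off an equation in `A` -/
theorem exists_smul_pow_mem (p : Ideal A) [p.IsPrime] {k : ℕ} (e : Fin k → ℕ) (u : Fin k → A)
    (hu : ∀ i, u i ∈ I ^ e i) {a : A} (ha : a ∈ I)
    (h : ∀ Q : PrimeSpectrum (B I a), Q.asIdeal.comap (φ I a) = p → ¬ eqs I p e u hu a ≤ Q.asIdeal) :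
    ∃ (s : A) (M : ℕ), s ∉ p ∧ ∀ m ≥ M, s * a ^ m ∈ Ideal.span (Set.range u) ⊔ p * I ^ m := by
  let J := Ideal.span (Set.range u)
  -- a prime over `eqs` avoiding the image of the complement of `p` would contract to `p`
  obtain ⟨s, hs, hsK⟩ : ∃ s, s ∉ p ∧ φ I a s ∈ eqs I p e u hu a := by
    by_contra hne
    push Not at hne
    obtain ⟨Q, hQ, hle, hdisj⟩ := (eqs I p e u hu a).exists_le_prime_disjoint (p.primeCompl.map (φ I a))
      (Set.disjoint_left.2 fun z hz hz' => by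
        obtain ⟨s, hs, rfl⟩ := hz'
        exact hne s hs hz)
    refine h ⟨Q, hQ⟩ (le_antisymm (fun x hx => ?_) (Ideal.map_le_iff_le_comap.1 (le_sup_left.trans hle))) hle
    by_contra hxp
    exact Set.disjoint_left.1 hdisj hx ⟨x, hxp, rfl⟩
  let K : Ideal (B I a) :=
    { carrier := {z | ∃ (n : ℕ) (x : A) (hx : x ∈ I ^ n), x ∈ J ⊔ p * I ^ n ∧ z = frac I a n x hx}
      zero_mem' := ⟨0, 0, zero_mem _, zero_mem _, cancel I 0 (by rw [frac_spec, zero_mul, map_zero])⟩
      add_mem' := by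
        rintro _ _ ⟨n, x, hx, hxJ, rfl⟩ ⟨m, y, hy, hyJ, rfl⟩
        have key : ∀ {n m : ℕ} {x : A}, x ∈ J ⊔ p * I ^ n → x * a ^ m ∈ J ⊔ p * I ^ (n + m) := by
          intro n m x hx
          obtain ⟨j, hj, z, hz, rfl⟩ := Submodule.mem_sup.1 hx
          rw [add_mul]
          refine add_mem (Ideal.mem_sup_left (Ideal.mul_mem_right _ _ hj)) (Ideal.mem_sup_right ?_)
          rw [pow_add, ← mul_assoc]
          exact Ideal.mul_mem_mul hz (Ideal.pow_mem_pow ha m)
        have hin : ∀ {n m : ℕ} {x : A}, x ∈ I ^ n → x * a ^ m ∈ I ^ (n + m) := fun hx => by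
          rw [pow_add]; exact Ideal.mul_mem_mul hx (Ideal.pow_mem_pow ha _)
        refine ⟨n + m, x * a ^ m + y * a ^ n, add_mem (hin hx) (add_comm m n ▸ hin hy),
          add_mem (key hxJ) (add_comm m n ▸ key hyJ), cancel I (n + m) ?_⟩
        rw [frac_spec, pow_add, map_mul, map_add, map_mul, map_mul, ← frac_spec I a n x hx,
          ← frac_spec I a m y hy]
        ring
      smul_mem' := by
        rintro z _ ⟨n, x, hx, hxJ, rfl⟩
        obtain ⟨m, y, hy, rfl⟩ := exists_eq_frac I ha z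
        refine ⟨m + n, y * x, pow_add I m n ▸ Ideal.mul_mem_mul hy hx, ?_, (frac_mul I a hy hx _).symm⟩
        obtain ⟨j, hj, w, hw, rfl⟩ := Submodule.mem_sup.1 hxJ
        rw [mul_add]
        refine add_mem (Ideal.mem_sup_left (Ideal.mul_mem_left _ _ hj)) (Ideal.mem_sup_right ?_)
        rw [pow_add, show p * (I ^ m * I ^ n) = I ^ m * (p * I ^ n) by ring]
        exact Ideal.mul_mem_mul hy hw }
  have hK : eqs I p e u hu a ≤ K := sup_le
    (Ideal.map_le_iff_le_comap.2 fun c hc => show φ I a c ∈ K from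
      ⟨0, c, by simp, Ideal.mem_sup_right (by simpa using hc), cancel I 0 (by
        rw [frac_spec, pow_zero, map_one, mul_one])⟩)
    (Ideal.span_le.2 (by
      rintro _ ⟨i, rfl⟩
      exact ⟨e i, u i, hu i, Ideal.mem_sup_left (Ideal.subset_span ⟨i, rfl⟩), rfl⟩))
  obtain ⟨n, x, hx, hxJ, hsx⟩ := hK hsK
  have h1 : φ I a (s * a ^ n) = φ I a x := by rw [map_mul, hsx, frac_spec]
  obtain ⟨⟨_, j, rfl⟩, hj⟩ := (IsLocalization.eq_iff_exists (Submonoid.powers a) (Localization.Away a)).1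
    (congrArg Subtype.val h1)
  refine ⟨s, n + j, hs, fun m hm => ?_⟩
  obtain ⟨l, rfl⟩ := Nat.exists_eq_add_of_le hm
  have h2 : s * a ^ (n + j + l) = x * a ^ (j + l) := by
    calc s * a ^ (n + j + l) = (a ^ j * (s * a ^ n)) * a ^ l := by ring
      _ = (a ^ j * x) * a ^ l := by rw [show a ^ j * (s * a ^ n) = a ^ j * x from hj]
      _ = x * a ^ (j + l) := by ring
  rw [h2]
  obtain ⟨w, hw, z, hz, rfl⟩ := Submodule.mem_sup.1 hxJ
  rw [add_mul, add_assoc n j l]
  refine add_mem (Ideal.mem_sup_left (Ideal.mul_mem_right _ _ hw)) (Ideal.mem_sup_right ?_)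
  rw [pow_add, ← mul_assoc]
  exact Ideal.mul_mem_mul hz (Ideal.pow_mem_pow ha _)

/-- a high power of an ideal lies in the ideal of powers of its generators -/
theorem exists_pow_le {R : Type u} [CommRing R] (M : ℕ) (G : Finset R) :
    ∃ K : ℕ, Ideal.span (G : Set R) ^ (M + (K + 1)) ≤
      Ideal.span ((fun a => a ^ M) '' (G : Set R)) * Ideal.span (G : Set R) ^ (K + 1) := by
  classical
  induction G using Finset.induction_on with
  | empty => exact ⟨0, by rw [Finset.coe_empty, Ideal.span_empty, Ideal.bot_pow (by omega)]; exact bot_le⟩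
  | insert a G _ ih =>
    obtain ⟨K, hK⟩ := ih
    refine ⟨M + K, ?_⟩
    rw [Finset.coe_insert, Set.image_insert_eq, Ideal.span_insert, Ideal.span_insert]
    set P := Ideal.span {a}
    set S := Ideal.span (G : Set R)
    set H := Ideal.span ((fun a => a ^ M) '' (G : Set R))
    rw [← Submodule.add_eq_sup, ← Submodule.add_eq_sup, add_pow, Ideal.sum_eq_sup]
    refine Finset.sup_le fun i hi => ?_
    rw [Finset.mem_range] at hi
    refine Ideal.mul_le_left.trans ?_
    by_cases hiM : M ≤ i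
    · obtain ⟨j, rfl⟩ := Nat.exists_eq_add_of_le hiM
      rw [pow_add, mul_assoc]
      refine Ideal.mul_mono ?_ ?_
      · rw [Ideal.span_singleton_pow]; exact le_sup_left
      · refine (Ideal.mul_mono (Ideal.pow_right_mono (le_sup_left : P ≤ P + S) j) (Ideal.pow_right_mono (le_sup_right : S ≤ P + S) _)).trans ?_
        rw [← pow_add, show j + (M + (M + K + 1) - (M + j)) = M + K + 1 by omega]
        exact le_rfl
    · obtain ⟨l, hl⟩ := Nat.exists_eq_add_of_le (show M + (K + 1) ≤ M + (M + K + 1) - i by omega)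
      rw [hl, pow_add]
      calc P ^ i * (S ^ (M + (K + 1)) * S ^ l) ≤ P ^ i * ((H * S ^ (K + 1)) * S ^ l) := by gcongr
        _ = H * (P ^ i * S ^ (K + 1 + l)) := by rw [pow_add]; ring
        _ ≤ (Ideal.span {a ^ M} + H) * ((P + S) ^ i * (P + S) ^ (K + 1 + l)) := by
          refine Ideal.mul_mono le_sup_right (Ideal.mul_mono ?_ ?_)
          · exact Ideal.pow_right_mono le_sup_left _
          · exact Ideal.pow_right_mono le_sup_right _
        _ = (Ideal.span {a ^ M} + H) * (P + S) ^ (M + K + 1) := by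
          rw [← pow_add, show i + (K + 1 + l) = M + K + 1 by omega]

/-- The algebraic statement. -/
theorem cdLE (d : ℕ)
    (hdim : ∀ a ∈ I, ∀ (p : Ideal A) (l : LTSeries (PrimeSpectrum (B I a))), p.IsPrime →
      (∀ i, (l i).asIdeal.comap (φ I a) = p) → l.length ≤ d)
    (p : Ideal A) [p.IsPrime] :
    LocCoh.CdLE (Localization.AtPrime p) (I.map (algebraMap A (Localization.AtPrime p))) (d + 1) := by
  classical
  obtain ⟨G, hG⟩ := (IsNoetherian.noetherian I : I.FG)
  have hGI : ∀ a ∈ G, a ∈ I := fun a ha => hG ▸ Submodule.subset_span ha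
  obtain ⟨e, u, hu, he, hch⟩ := exists_eqs I G hGI p (d + 1)
  let J := Ideal.span (Set.range u)
  have hgen : ∀ a ∈ G, ∃ (s : A) (M : ℕ), s ∉ p ∧ ∀ m ≥ M, s * a ^ m ∈ J ⊔ p * I ^ m :=
    fun a ha => exists_smul_pow_mem I p e u hu (hGI a ha) fun Q hQ hle => by
      obtain ⟨l, hlen, -, hl⟩ := hch a ha Q hQ hle
      have := hdim a (hGI a ha) p l inferInstance hl
      omega
  choose! s M hs hM using hgen
  let N := G.sup M
  let R := Localization.AtPrime p
  let ψ := algebraMap A R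
  haveI : IsNoetherianRing R := IsLocalization.isNoetherianRing p.primeCompl R inferInstance
  have hH : ∀ a ∈ G, ψ a ^ N ∈ J.map ψ ⊔ IsLocalRing.maximalIdeal R * I.map ψ ^ N := by
    intro a ha
    have h1 := Ideal.mem_map_of_mem ψ (hM a ha N (Finset.le_sup ha))
    rw [Ideal.map_sup, Ideal.map_mul, Ideal.map_pow, Localization.AtPrime.map_eq_maximalIdeal, map_mul,
      map_pow] at h1
    exact (Ideal.unit_mul_mem_iff_mem _ (IsLocalization.map_units R (⟨s a, hs a ha⟩ : p.primeCompl))).1 h1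
  obtain ⟨K, hK⟩ := exists_pow_le N (G.image ψ)
  have hspan : Ideal.span ((G.image ψ : Finset R) : Set R) = I.map ψ := by
    rw [Finset.coe_image, ← Ideal.map_span]
    exact congrArg (Ideal.map ψ) hG
  rw [hspan] at hK
  refine LC17.cdLE_of_le_radical_span (fun i => ψ (u i))
    (fun i => Ideal.mem_map_of_mem ψ (Ideal.pow_le_self (he i).ne' (hu i))) ?_
  have hJ : Ideal.span (Set.range fun i => ψ (u i)) = J.map ψ := by
    rw [Ideal.map_span, ← Set.range_comp]; rfl
  rw [hJ]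
  suffices h : I.map ψ ^ (N + (K + 1)) ≤ J.map ψ from fun x hx =>
    ⟨N + (K + 1), h (Ideal.pow_mem_pow hx _)⟩
  refine Submodule.le_of_le_smul_of_le_jacobson_bot (IsNoetherian.noetherian _)
    (I := IsLocalRing.maximalIdeal R) (IsLocalRing.maximalIdeal_le_jacobson _) (hK.trans ?_)
  calc Ideal.span ((fun x => x ^ N) '' ((G.image ψ : Finset R) : Set R)) * I.map ψ ^ (K + 1)
      ≤ (J.map ψ ⊔ IsLocalRing.maximalIdeal R * I.map ψ ^ N) * I.map ψ ^ (K + 1) := by
        refine Ideal.mul_mono (Ideal.span_le.2 ?_) le_rfl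
        rintro _ ⟨x, hx, rfl⟩
        obtain ⟨a, ha, rfl⟩ := Finset.mem_image.1 hx
        exact hH a ha
    _ ≤ J.map ψ ⊔ IsLocalRing.maximalIdeal R • I.map ψ ^ (N + (K + 1)) := by
        rw [Ideal.sup_mul, mul_assoc, ← pow_add]
        exact sup_le_sup Ideal.mul_le_left le_rfl

end Groth.Agent.LC16.BlowFibreCd
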