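import Groth.Prelude.Def_DRing2
import Groth.Agent.TorBal94.FirstVariable

/-!
Elements killing `Tor` modules: functoriality and exactness in the first variable, elementwise.
-/

namespace Groth.Agent.LC16.TorKill

universe u

set_option autoImplicit false

open CategoryTheory CategoryTheory.Limits
open Groth.Agent.TorBal94
open scoped TensorProduct

variable {A : Type u} [CommRing A] {M N L : Type u} [AddCommGroup M] [Module A M] [AddCommGroup N]
  [Module A N] [AddCommGroup L] [Module A L]

variable (M) in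
/-- the model of `Tor` -/
noncomputable abbrev T (S : ModuleCat.{u} A) (i : ℕ) : ModuleCat.{u} A :=
  (cx (ModuleCat.of A M) S).homology i

/-- the induced map -/
noncomputable def hm (f : M →ₗ[A] N) (S : ModuleCat.{u} A) (i : ℕ) : T M S i →ₗ[A] T N S i :=
  (HomologicalComplex.homologyMap (cxMap (ModuleCat.ofHom f) S) i).hom

/-- classes are represented by elements of the term -/
theorem exists_cycle (S : ModuleCat.{u} A) (i : ℕ) (x : T M S i) :
    ∃ c, ((cx (ModuleCat.of A M) S).homologyπ i).hom c = x :=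
  (ModuleCat.epi_iff_surjective _).1 inferInstance x

theorem hm_π (f : M →ₗ[A] N) (S : ModuleCat.{u} A) (i : ℕ)
    (c : (cx (ModuleCat.of A M) S).cycles i) (d : (cx (ModuleCat.of A N) S).cycles i)
    (h : ((cx (ModuleCat.of A N) S).iCycles i).hom d =
      f.rTensor ((projectiveResolution S).complex.X i)
        (((cx (ModuleCat.of A M) S).iCycles i).hom c)) :
    hm f S i (((cx (ModuleCat.of A M) S).homologyπ i).hom c) =
      ((cx (ModuleCat.of A N) S).homologyπ i).hom d := by
  have h1 := congrArg (fun ψ : (cx (ModuleCat.of A M) S).cycles i ⟶ T N S i => ψ.hom c)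
    (HomologicalComplex.homologyπ_naturality (cxMap (ModuleCat.ofHom f) S) i)
  refine h1.trans (congrArg ((cx (ModuleCat.of A N) S).homologyπ i).hom ?_)
  refine (ModuleCat.mono_iff_injective ((cx (ModuleCat.of A N) S).iCycles i)).1 inferInstance ?_
  refine (congrArg (fun ψ : (cx (ModuleCat.of A M) S).cycles i ⟶
    (cx (ModuleCat.of A N) S).X i => ψ.hom c)
    (HomologicalComplex.cyclesMap_i (cxMap (ModuleCat.ofHom f) S) i)).trans ?_
  exact h.symm

theorem exists_image (f : M →ₗ[A] N) (S : ModuleCat.{u} A) (i : ℕ)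
    (c : (cx (ModuleCat.of A M) S).cycles i) :
    ∃ d : (cx (ModuleCat.of A N) S).cycles i, ((cx (ModuleCat.of A N) S).iCycles i).hom d =
      f.rTensor ((projectiveResolution S).complex.X i)
        (((cx (ModuleCat.of A M) S).iCycles i).hom c) :=
  ⟨(HomologicalComplex.cyclesMap (cxMap (ModuleCat.ofHom f) S) i).hom c,
    congrArg (fun ψ : (cx (ModuleCat.of A M) S).cycles i ⟶ (cx (ModuleCat.of A N) S).X i => ψ.hom c)
      (HomologicalComplex.cyclesMap_i (cxMap (ModuleCat.ofHom f) S) i)⟩

theorem hm_zero (S : ModuleCat.{u} A) (i : ℕ) (x : T M S i) : hm (0 : M →ₗ[A] N) S i x = 0 := by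
  obtain ⟨c, rfl⟩ := exists_cycle S i x
  rw [hm_π 0 S i c 0 (by rw [LinearMap.rTensor_zero]; exact map_zero _), map_zero]

theorem hm_id (S : ModuleCat.{u} A) (i : ℕ) (x : T M S i) : hm LinearMap.id S i x = x := by
  obtain ⟨c, rfl⟩ := exists_cycle S i x
  rw [hm_π LinearMap.id S i c c (by rw [LinearMap.rTensor_id]; rfl)]

theorem hm_comp (g : N →ₗ[A] L) (f : M →ₗ[A] N) (S : ModuleCat.{u} A) (i : ℕ) (x : T M S i) :
    hm (g ∘ₗ f) S i x = hm g S i (hm f S i x) := by
  obtain ⟨c, rfl⟩ := exists_cycle S i x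
  obtain ⟨d, hd⟩ := exists_image f S i c
  obtain ⟨e, he⟩ := exists_image g S i d
  rw [hm_π f S i c d hd, hm_π g S i d e he,
    hm_π (g ∘ₗ f) S i c e (he.trans (by rw [hd, LinearMap.rTensor_comp]; rfl))]

theorem hm_add (f g : M →ₗ[A] N) (S : ModuleCat.{u} A) (i : ℕ) (x : T M S i) :
    hm (f + g) S i x = hm f S i x + hm g S i x := by
  obtain ⟨c, rfl⟩ := exists_cycle S i x
  obtain ⟨d, hd⟩ := exists_image f S i c
  obtain ⟨e, he⟩ := exists_image g S i c
  rw [hm_π f S i c d hd, hm_π g S i c e he, hm_π (f + g) S i c (d + e)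
    ((map_add _ d e).trans (by rw [hd, he, LinearMap.rTensor_add]; rfl)), map_add]

theorem hm_smul (r : A) (f : M →ₗ[A] N) (S : ModuleCat.{u} A) (i : ℕ) (x : T M S i) :
    hm (r • f) S i x = r • hm f S i x := by
  obtain ⟨c, rfl⟩ := exists_cycle S i x
  obtain ⟨d, hd⟩ := exists_image f S i c
  rw [hm_π f S i c d hd, hm_π (r • f) S i c (r • d)
    ((map_smul _ r d).trans (by rw [hd, LinearMap.rTensor_smul]; rfl)), map_smul]

/-- an element killing the module kills `Tor` -/
theorem smul_eq_zero (r : A) (h : ∀ m : M, r • m = 0) (S : ModuleCat.{u} A) (i : ℕ) (x : T M S i) :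
    r • x = 0 := by
  have h0 : r • (LinearMap.id : M →ₗ[A] M) = 0 := LinearMap.ext fun m => h m
  rw [← hm_id S i x, ← hm_smul, h0, hm_zero]

theorem subsingleton_of_flat [Module.Flat A M] (S : ModuleCat.{u} A) (i : ℕ) :
    Subsingleton (T M S (i + 1)) :=
  ModuleCat.subsingleton_of_isZero ((isZero_tor_iff _ S (i + 1)).1 (isZero_tor_of_flat_left M S i))

variable {f : M →ₗ[A] N} {g : N →ₗ[A] L}

/-- the connecting map, elementwise -/
theorem exists_connecting (hf : Function.Injective f) (hfg : Function.Exact f g)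
    (hg : Function.Surjective g) (S : ModuleCat.{u} A) (i : ℕ) :
    ∃ δ : T L S (i + 1) →ₗ[A] T M S i, (∀ y, hm f S i (δ y) = 0) ∧
      (∀ y, δ y = 0 → ∃ x, hm g S (i + 1) x = y) := by
  let h := shortExact_cx f g hf hfg hg S
  refine ⟨(h.δ (i + 1) i rfl).hom, fun y => ?_, fun y hy => ?_⟩
  · exact congrArg (fun ψ : T L S (i + 1) ⟶ T N S i => ψ.hom y) (h.δ_comp (i + 1) i rfl)
  · have := h.homology_exact₃ (i + 1) i rfl
    rw [ShortComplex.moduleCat_exact_iff] at this
    exact this y hy

theorem transfer (B S : Type u) [AddCommGroup B] [Module A B] [AddCommGroup S] [Module A S] (i : ℕ)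
    (r : A) (h : ∀ x : T B (ModuleCat.of A S) i, r • x = 0) (y : DRing.Tor A i B S) : r • y = 0 := by
  let e := ((projectiveResolution (ModuleCat.of A S)).isoLeftDerivedObj
    ((MonoidalCategory.tensoringLeft (ModuleCat.{u} A)).obj (ModuleCat.of A B)) i).toLinearEquiv
  refine e.injective ?_
  refine ((map_smul e r y).trans ?_).trans (map_zero e).symm
  exact h (e y)

end Groth.Agent.LC16.TorKill
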