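import Groth.Prelude.Def_BlowUp2
import Groth.Agent.LC16.TorKill
import Mathlib.RingTheory.Polynomial.Basic
import Mathlib.RingTheory.Localization.Away.Basic

/-!
`Tor` of an affine blow-up algebra is killed by a power of the centre above the number of
generators.
-/

namespace Groth.Agent.LC16.BlowTor

universe u

set_option autoImplicit false
set_option linter.unusedSectionVars false

open CategoryTheory Groth.Agent.LC16.TorKill

variable {A : Type u} [CommRing A] {t : ℕ} (a : Fin (t + 1) → A)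

/-- the polynomial ring -/
abbrev P : Type u := MvPolynomial (Fin t) A

/-- the relations -/
noncomputable def rel (j : Fin t) : P (A := A) (t := t) :=
  MvPolynomial.C (a 0) * MvPolynomial.X j - MvPolynomial.C (a j.succ)

/-- the first relations -/
noncomputable def J (k : ℕ) : Ideal (P (A := A) (t := t)) :=
  Ideal.span (rel a '' {j | j.val < k})

theorem rel_mem {k : ℕ} {j : Fin t} (h : j.val < k) : rel a j ∈ J a k :=
  Ideal.subset_span ⟨j, h, rfl⟩

theorem J_zero : J a 0 = ⊥ := by
  rw [J, Ideal.span_eq_bot]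
  rintro _ ⟨j, hj, rfl⟩
  exact absurd hj (Nat.not_lt_zero _)

theorem J_succ (j : Fin t) : J a (j.val + 1) = J a j.val ⊔ Ideal.span {rel a j} := by
  rw [J, J, ← Ideal.span_union]
  congr 1
  ext x
  constructor
  · rintro ⟨i, hi, rfl⟩
    rcases Nat.lt_succ_iff_lt_or_eq.1 hi with h | h
    · exact Or.inl ⟨i, h, rfl⟩
    · exact Or.inr (by rw [Fin.ext h]; rfl)
  · rintro (⟨i, hi, rfl⟩ | hx)
    · exact ⟨i, Nat.lt_succ_of_lt hi, rfl⟩
    · exact ⟨j, Nat.lt_succ_self j, hx.symm⟩

theorem C_mul_X_mem {k : ℕ} {j : Fin t} (h : j.val < k) :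
    MvPolynomial.C (a j.succ) - MvPolynomial.C (a 0) * MvPolynomial.X j ∈ J a k := by
  have := neg_mem (rel_mem a h)
  rwa [rel, neg_sub] at this

/-- powers of the generators act like powers of `a 0` -/
theorem C_pow_mul_mem {k : ℕ} {j : Fin t} (h : j.val < k) {n : ℕ} {z : P (A := A) (t := t)}
    (hz : MvPolynomial.C (a 0) ^ n * z ∈ J a k) : MvPolynomial.C (a j.succ) ^ n * z ∈ J a k := by
  obtain ⟨w, hw⟩ := sub_dvd_pow_sub_pow (MvPolynomial.C (a j.succ) : P (A := A) (t := t))
    (MvPolynomial.C (a 0) * MvPolynomial.X j) n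
  have h1 : MvPolynomial.C (a j.succ) ^ n * z - (MvPolynomial.C (a 0) * MvPolynomial.X j) ^ n * z ∈
      J a k := by
    rw [← sub_mul, hw, mul_assoc]
    exact (J a k).mul_mem_right _ (C_mul_X_mem a h)
  have h2 : (MvPolynomial.C (a 0) * MvPolynomial.X j) ^ n * z ∈ J a k := by
    rw [mul_pow, mul_comm (MvPolynomial.C (a 0) ^ n), mul_assoc]
    exact (J a k).mul_mem_left _ hz
  simpa using add_mem h1 h2

section Subst

/-- the fractions -/
noncomputable def frac (j : Fin t) : Localization.Away (a 0) :=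
  IsLocalization.mk' (Localization.Away (a 0)) (a j.succ) ⟨a 0, Submonoid.mem_powers (a 0)⟩

theorem a0_mul_frac (j : Fin t) :
    algebraMap A (Localization.Away (a 0)) (a 0) * frac a j =
      algebraMap A (Localization.Away (a 0)) (a j.succ) :=
  IsLocalization.mk'_spec' (Localization.Away (a 0)) (a j.succ) ⟨a 0, Submonoid.mem_powers (a 0)⟩

/-- substitution of the first variables -/
noncomputable def sub (k : ℕ) :
    P (A := A) (t := t) →ₐ[A] MvPolynomial (Fin t) (Localization.Away (a 0)) :=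
  MvPolynomial.aeval fun j => if j.val < k then MvPolynomial.C (frac a j) else MvPolynomial.X j

theorem sub_X (k : ℕ) (j : Fin t) : sub a k (MvPolynomial.X j) =
    if j.val < k then MvPolynomial.C (frac a j) else MvPolynomial.X j := by
  rw [sub, MvPolynomial.aeval_X]

theorem sub_C (k : ℕ) (r : A) :
    sub a k (MvPolynomial.C r) = MvPolynomial.C (algebraMap A (Localization.Away (a 0)) r) := by
  rw [sub, MvPolynomial.aeval_C]
  rfl

theorem sub_rel_of_lt {k : ℕ} {j : Fin t} (h : j.val < k) : sub a k (rel a j) = 0 := by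
  rw [rel, map_sub, map_mul, sub_C, sub_X, if_pos h, sub_C, ← map_mul, a0_mul_frac, sub_self]

theorem sub_J {k : ℕ} {z : P (A := A) (t := t)} (hz : z ∈ J a k) : sub a k z = 0 := by
  refine Submodule.span_induction (p := fun z _ => sub a k z = 0) ?_ (map_zero _) ?_ ?_ hz
  · rintro _ ⟨j, hj, rfl⟩
    exact sub_rel_of_lt a hj
  · intro x y _ _ hx hy
    rw [map_add, hx, hy, add_zero]
  · intro r x _ hx
    rw [smul_eq_mul, map_mul, hx, mul_zero]

theorem sub_rel_cancel (j : Fin t) (q : MvPolynomial (Fin t) (Localization.Away (a 0)))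
    (h : sub a j.val (rel a j) * q = 0) : q = 0 := by
  classical
  have hr : sub a j.val (rel a j) = MvPolynomial.C (algebraMap A (Localization.Away (a 0)) (a 0)) *
      (MvPolynomial.X j - MvPolynomial.C (frac a j)) := by
    rw [rel, map_sub, map_mul, sub_C, sub_C, sub_X, if_neg (lt_irrefl _), mul_sub, ← map_mul,
      a0_mul_frac]
  rw [hr, mul_assoc] at h
  have hu : IsUnit (MvPolynomial.C (algebraMap A (Localization.Away (a 0)) (a 0)) :
      MvPolynomial (Fin t) (Localization.Away (a 0))) :=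
    (IsLocalization.Away.algebraMap_isUnit (a 0)).map MvPolynomial.C
  rw [hu.mul_right_eq_zero] at h
  let τ := MvPolynomial.aeval (R := Localization.Away (a 0))
    (Function.update MvPolynomial.X j (MvPolynomial.X j + MvPolynomial.C (frac a j)))
  let τ' := MvPolynomial.aeval (R := Localization.Away (a 0))
    (Function.update MvPolynomial.X j (MvPolynomial.X j - MvPolynomial.C (frac a j)))
  have hτ : τ'.comp τ = AlgHom.id _ _ := by
    refine MvPolynomial.algHom_ext fun i => ?_
    rcases eq_or_ne i j with rfl | hi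
    · simp [τ, τ']
    · simp [τ, τ', Function.update_of_ne hi]
  have h1 := congrArg τ h
  rw [map_mul, map_zero] at h1
  have h2 : τ (MvPolynomial.X j - MvPolynomial.C (frac a j)) = MvPolynomial.X j := by
    simp [τ]
  rw [h2] at h1
  have h3 : τ q = 0 := by
    ext d
    have := congrArg (MvPolynomial.coeff (Finsupp.single j 1 + d)) h1
    rwa [MvPolynomial.coeff_X_mul, MvPolynomial.coeff_zero] at this
  have := congrArg τ' h3
  rwa [← AlgHom.comp_apply, hτ, AlgHom.id_apply, map_zero] at this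

/-- an element killed by substitution is torsion modulo the relations -/
theorem exists_pow_mul_mem {k : ℕ} {z : P (A := A) (t := t)} (hz : sub a k z = 0) :
    ∃ n, MvPolynomial.C (a 0) ^ n * z ∈ J a k := by
  let r := Ideal.Quotient.mk (J a k) (MvPolynomial.C (a 0))
  let R' := Localization.Away r
  let i₀ : P (A := A) (t := t) →+* R' :=
    (algebraMap (P (A := A) (t := t) ⧸ J a k) R').comp (Ideal.Quotient.mk (J a k))
  have hu : IsUnit ((i₀.comp MvPolynomial.C) (a 0)) := IsLocalization.Away.algebraMap_isUnit r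
  let i₁ : Localization.Away (a 0) →+* R' := IsLocalization.Away.lift (a 0) hu
  let π := MvPolynomial.eval₂Hom i₁ fun j => i₀ (MvPolynomial.X j)
  have hfrac : ∀ j : Fin t, j.val < k → i₁ (frac a j) = i₀ (MvPolynomial.X j) := by
    intro j hj
    apply hu.mul_left_cancel
    have h1 := congrArg i₁ (a0_mul_frac a j)
    rw [map_mul, IsLocalization.Away.lift_eq, IsLocalization.Away.lift_eq] at h1
    refine h1.trans ?_
    show i₀ (MvPolynomial.C (a j.succ)) = i₀ (MvPolynomial.C (a 0)) * i₀ (MvPolynomial.X j)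
    rw [← map_mul, ← sub_eq_zero, ← map_sub]
    show algebraMap _ R' (Ideal.Quotient.mk (J a k) _) = 0
    rw [Ideal.Quotient.eq_zero_iff_mem.2 (C_mul_X_mem a hj), map_zero]
  have hπ : π.comp (sub a k).toRingHom = i₀ := by
    refine MvPolynomial.ringHom_ext (fun r => ?_) (fun j => ?_)
    · show π (sub a k (MvPolynomial.C r)) = i₀ (MvPolynomial.C r)
      rw [sub_C, MvPolynomial.eval₂Hom_C, IsLocalization.Away.lift_eq]
      rfl
    · show π (sub a k (MvPolynomial.X j)) = i₀ (MvPolynomial.X j)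
      rw [sub_X]
      by_cases hj : j.val < k
      · rw [if_pos hj, MvPolynomial.eval₂Hom_C, hfrac j hj]
      · rw [if_neg hj, MvPolynomial.eval₂Hom_X']
  have h0 : i₀ z = 0 := by
    rw [← hπ]
    exact (congrArg π hz).trans (map_zero π)
  obtain ⟨⟨_, n, rfl⟩, hn⟩ := (IsLocalization.map_eq_zero_iff (Submonoid.powers r) R' _).1 h0
  refine ⟨n, Ideal.Quotient.eq_zero_iff_mem.1 ?_⟩
  rw [map_mul, map_pow]
  exact hn

end Subst

/-- one exponent for a finitely generated submodule -/
theorem uniform {B M : Type u} [CommRing B] [AddCommGroup M] [Module B M] (r : B) (W : Submodule B M)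
    (hW : W.FG) (h : ∀ x ∈ W, ∃ n : ℕ, r ^ n • x = 0) : ∃ n : ℕ, ∀ x ∈ W, r ^ n • x = 0 := by
  classical
  obtain ⟨s, rfl⟩ := hW
  choose n hn using fun x : s => h x.1 (Submodule.subset_span x.2)
  refine ⟨Finset.univ.sup n, fun x hx => ?_⟩
  induction hx using Submodule.span_induction with
  | mem x hx =>
    obtain ⟨d, hd⟩ := Nat.exists_eq_add_of_le (Finset.le_sup (f := n) (Finset.mem_univ ⟨x, hx⟩))
    rw [hd, add_comm, pow_add, mul_smul, hn ⟨x, hx⟩, smul_zero]
  | zero => exact smul_zero _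
  | add x y _ _ hx hy => rw [smul_add, hx, hy, add_zero]
  | smul c x _ hx => rw [smul_comm, hx, smul_zero]

/-- the partial quotients -/
abbrev Q (k : ℕ) : Type u := P (A := A) (t := t) ⧸ J a k

/-- the elements of `A` killing `Tor` above degree `k` -/
def KillsAbove (k : ℕ) (M : Type u) [AddCommGroup M] [Module A M] (r : A) : Prop :=
  ∀ (S : ModuleCat.{u} A) (i : ℕ), k + 1 ≤ i → ∀ x : T M S i, r • x = 0

theorem mk_smul (k : ℕ) (r : A) (n : ℕ) (z : P (A := A) (t := t)) :
    r ^ n • (Submodule.Quotient.mk z : Q a k) =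
      Submodule.Quotient.mk (MvPolynomial.C r ^ n * z) := by
  rw [← Submodule.Quotient.mk_smul]
  congr 1
  rw [MvPolynomial.smul_eq_C_mul, map_pow]

theorem kills_succ [IsNoetherianRing A] (k : Fin t)
    (h : ∃ n, ∀ j : Fin (t + 1), j.val ≤ k.val → KillsAbove k.val (Q a k.val) (a j ^ n)) :
    ∃ n, ∀ j : Fin (t + 1), j.val ≤ k.val + 1 →
      KillsAbove (k.val + 1) (Q a (k.val + 1)) (a j ^ n) := by
  obtain ⟨n, hn⟩ := h
  let g := rel a k
  let μ : Q a k.val →ₗ[P (A := A) (t := t)] Q a k.val :=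
    LinearMap.lsmul (P (A := A) (t := t)) _ g
  let W := LinearMap.ker μ
  let U := LinearMap.range μ
  obtain ⟨N, hN⟩ : ∃ N : ℕ, ∀ j : Fin (t + 1), j.val ≤ k.val → ∀ x ∈ W, a j ^ N • x = 0 := by
    have hW : ∀ x ∈ W, ∃ n : ℕ, (MvPolynomial.C (a 0) : P (A := A) (t := t)) ^ n • x = 0 := by
      intro x hx
      obtain ⟨z, rfl⟩ := Submodule.Quotient.mk_surjective _ x
      have hgz : g * z ∈ J a k.val := by
        have hx' : g • (Submodule.Quotient.mk z : Q a k.val) = 0 := hx
        rwa [← Submodule.Quotient.mk_smul, Submodule.Quotient.mk_eq_zero] at hx'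
      obtain ⟨m, hm⟩ := exists_pow_mul_mem a (sub_rel_cancel a k _
        ((map_mul (sub a k.val) g z).symm.trans (sub_J a hgz)))
      exact ⟨m, by rw [← Submodule.Quotient.mk_smul, Submodule.Quotient.mk_eq_zero]; exact hm⟩
    obtain ⟨N, hN⟩ := uniform (MvPolynomial.C (a 0)) W (IsNoetherian.noetherian W) hW
    refine ⟨N, fun j hj x hx => ?_⟩
    have h0 := hN x hx
    obtain ⟨z, rfl⟩ := Submodule.Quotient.mk_surjective _ x
    rw [← Submodule.Quotient.mk_smul, Submodule.Quotient.mk_eq_zero] at h0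
    rw [mk_smul, Submodule.Quotient.mk_eq_zero]
    rcases Fin.eq_zero_or_eq_succ j with rfl | ⟨i, rfl⟩
    · exact h0
    · exact C_pow_mul_mem a (by simp only [Fin.val_succ] at hj; omega) h0
  let p : Q a k.val →ₗ[A] U := (μ.rangeRestrict).restrictScalars A
  let ι : U →ₗ[A] Q a k.val := U.subtype.restrictScalars A
  have hle : J a k.val ≤ J a (k.val + 1) := by rw [J_succ]; exact le_sup_left
  let q : Q a k.val →ₗ[A] Q a (k.val + 1) := (Submodule.factor hle).restrictScalars A
  have hex1 : Function.Exact (W.subtype.restrictScalars A) p := fun x =>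
    ⟨fun hx => ⟨⟨x, congrArg Subtype.val hx⟩, rfl⟩, fun ⟨w, hw⟩ => Subtype.ext (hw ▸ w.2)⟩
  have hex2 : Function.Exact ι q := by
    intro x
    obtain ⟨z, rfl⟩ := Submodule.Quotient.mk_surjective _ x
    constructor
    · intro hx
      have hz : z ∈ J a k.val ⊔ Ideal.span {rel a k} := by
        rw [← J_succ]; exact (Submodule.Quotient.mk_eq_zero _).1 hx
      obtain ⟨u, hu, v, hv, rfl⟩ := Submodule.mem_sup.1 hz
      obtain ⟨w, rfl⟩ := Ideal.mem_span_singleton'.1 hv
      refine ⟨⟨Submodule.Quotient.mk (u + w * rel a k), Submodule.Quotient.mk w, ?_⟩, rfl⟩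
      show g • (Submodule.Quotient.mk w : Q a k.val) = _
      rw [← Submodule.Quotient.mk_smul, Submodule.Quotient.eq]
      rw [show g • w - (u + w * rel a k) = -u by rw [smul_eq_mul]; ring]
      exact neg_mem hu
    · rintro ⟨⟨_, y, rfl⟩, hy⟩
      rw [← hy]
      obtain ⟨w, rfl⟩ := Submodule.Quotient.mk_surjective _ y
      exact (Submodule.Quotient.mk_eq_zero _).2 ((J a (k.val + 1)).mul_mem_right w
        (rel_mem a (Nat.lt_succ_self _)))
  have hq : Function.Surjective q := Submodule.factor_surjective hle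
  -- multiplication by the variable
  let m : Q a k.val →ₗ[A] Q a k.val :=
    (LinearMap.lsmul (P (A := A) (t := t)) (Q a k.val) (MvPolynomial.X k)).restrictScalars A
  let mU : U →ₗ[A] U :=
    (LinearMap.lsmul (P (A := A) (t := t)) U (MvPolynomial.X k)).restrictScalars A
  have hQ' : a k.succ • q = a 0 • (q ∘ₗ m) := by
    refine LinearMap.ext fun x => ?_
    obtain ⟨z, rfl⟩ := Submodule.Quotient.mk_surjective _ x
    show a k.succ • (Submodule.Quotient.mk z : Q a (k.val + 1)) =
      a 0 • (Submodule.Quotient.mk (MvPolynomial.X k * z) : Q a (k.val + 1))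
    rw [← Submodule.Quotient.mk_smul, ← Submodule.Quotient.mk_smul, Submodule.Quotient.eq,
      MvPolynomial.smul_eq_C_mul, MvPolynomial.smul_eq_C_mul, ← mul_assoc, ← sub_mul]
    exact (J a (k.val + 1)).mul_mem_right z (C_mul_X_mem a (Nat.lt_succ_self _))
  have hU : a k.succ • (LinearMap.id : U →ₗ[A] U) = a 0 • mU + (-1 : A) • (p ∘ₗ ι) := by
    refine LinearMap.ext fun x => Subtype.ext ?_
    show a k.succ • (x : Q a k.val) =
      a 0 • ((MvPolynomial.X k : P (A := A) (t := t)) • (x : Q a k.val)) +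
        (-1 : A) • (g • (x : Q a k.val))
    simp only [g, rel, sub_smul, ← algebraMap_smul (P (A := A) (t := t)) (a 0),
      ← algebraMap_smul (P (A := A) (t := t)) (a k.succ), MvPolynomial.algebraMap_eq, mul_smul]
    simp [sub_eq_add_neg, add_comm, add_left_comm]
  have hUkill : ∀ (j : Fin (t + 1)), j.val ≤ k.val → ∀ (S : ModuleCat.{u} A) (i : ℕ), k.val + 1 ≤ i →
      ∀ x : T U S i, a j ^ (n + N) • x = 0 := by
    intro j hj S i hi x
    obtain ⟨i, rfl⟩ : ∃ i', i = i' + 1 := ⟨i - 1, by omega⟩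
    obtain ⟨δ, -, hδ⟩ := exists_connecting (f := W.subtype.restrictScalars A) (g := p)
      Subtype.val_injective hex1 μ.surjective_rangeRestrict S i
    have h0 : δ (a j ^ N • x) = 0 := by
      rw [map_smul]
      exact smul_eq_zero _ (fun w => Subtype.ext (hN j hj w.1 w.2)) S i _
    obtain ⟨y, hy⟩ := hδ _ h0
    rw [pow_add, mul_smul, ← hy, ← map_smul, hn j hj S (i + 1) hi y, map_zero]
  refine ⟨n + N + n + n, fun j hj S i hi y => ?_⟩
  obtain ⟨i, rfl⟩ : ∃ i', i = i' + 1 := ⟨i - 1, by omega⟩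
  obtain ⟨δ, hδ0, hδ⟩ := exists_connecting (f := ι) (g := q) Subtype.val_injective hex2 hq S i
  suffices h1 : ∀ w : T U S i, hm ι S i w = 0 → a j ^ (n + N + n) • w = 0 by
    obtain ⟨x, hx⟩ := hδ (a j ^ (n + N + n) • y) (by rw [map_smul]; exact h1 _ (hδ0 y))
    rw [add_comm (n + N + n) n, pow_add, mul_smul, ← hx]
    rcases Nat.lt_succ_iff_lt_or_eq.1 (Nat.lt_succ_of_le hj) with hj' | hj'
    · rw [← map_smul, hn j (by omega) S (i + 1) (by omega) x, map_zero]
    · obtain rfl : j = k.succ := Fin.ext (by simpa using hj')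
      have key : ∀ (m' : ℕ) (x : T (Q a k.val) S (i + 1)),
          a k.succ ^ m' • hm q S (i + 1) x =
            a 0 ^ m' • hm q S (i + 1) ((hm m S (i + 1))^[m'] x) := by
        intro m'
        induction m' with
        | zero => intro x; simp
        | succ m' ih =>
          intro x
          rw [pow_succ, mul_smul, ← hm_smul, hQ', hm_smul, hm_comp, smul_comm, ih, smul_smul,
            ← pow_succ', Function.iterate_succ_apply]
      rw [key, ← map_smul]
      exact (congrArg (hm q S (i + 1)) (hn 0 (by simp) S (i + 1) (by omega) _)).trans (map_zero _)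
  intro w hw
  rcases Nat.lt_succ_iff_lt_or_eq.1 (Nat.lt_succ_of_le hj) with hj' | hj'
  · rw [add_comm (n + N) n, pow_add, mul_smul, hUkill j (by omega) S i (by omega) w, smul_zero]
  · obtain rfl : j = k.succ := Fin.ext (by simpa using hj')
    have key : ∀ (m' : ℕ) (w : T U S i), hm ι S i w = 0 →
        a k.succ ^ m' • w = a 0 ^ m' • (hm mU S i)^[m'] w := by
      intro m'
      induction m' with
      | zero => intro w _; simp
      | succ m' ih =>
        intro w hw
        have hw' : hm ι S i (a k.succ ^ m' • w) = 0 := by rw [map_smul, hw, smul_zero]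
        rw [pow_succ', mul_smul]
        conv_lhs => rw [← hm_id S i (a k.succ ^ m' • w), ← hm_smul, hU, hm_add, hm_smul, hm_smul,
          hm_comp, hw', map_zero, smul_zero, add_zero, ih w hw, map_smul, smul_smul, ← pow_succ']
        rw [← Function.iterate_succ_apply' (hm mU S i)]
    rw [key _ w hw, add_comm (n + N) n, pow_add, mul_smul, hUkill 0 (by simp) S i (by omega) _, smul_zero]

theorem kills [IsNoetherianRing A] : ∀ k : ℕ, k ≤ t →
    ∃ n, ∀ j : Fin (t + 1), j.val ≤ k → KillsAbove k (Q a k) (a j ^ n) := by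
  intro k
  induction k with
  | zero =>
    intro _
    refine ⟨0, fun j _ S i hi x => ?_⟩
    have : Module.Flat A (Q a 0) :=
      Module.Flat.of_linearEquiv ((Submodule.quotEquivOfEqBot _ (J_zero a)).restrictScalars A)
    obtain ⟨i, rfl⟩ : ∃ i', i = i' + 1 := ⟨i - 1, by omega⟩
    have := subsingleton_of_flat (M := Q a 0) S i
    exact Subsingleton.elim _ _
  | succ k ih => exact fun hk => kills_succ a ⟨k, hk⟩ (ih (by omega))

/-- the map onto the blow-up algebra -/
noncomputable def toB : P (A := A) (t := t) →ₐ[A] BlowUp.affineAlgebra A (Ideal.span (Set.range a)) (a 0) :=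
  MvPolynomial.aeval fun j => ⟨frac a j, Algebra.subset_adjoin
    ⟨a j.succ, Ideal.subset_span ⟨j.succ, rfl⟩, rfl⟩⟩

theorem coe_toB (z : P (A := A) (t := t)) :
    (toB a z : Localization.Away (a 0)) = MvPolynomial.aeval (frac a) z := by
  induction z using MvPolynomial.induction_on with
  | C r =>
    rw [toB, MvPolynomial.aeval_C, MvPolynomial.aeval_C]
    rfl
  | add x y hx hy => simp [hx, hy]
  | mul_X x j hx =>
    rw [map_mul, map_mul, Subalgebra.coe_mul, hx]
    simp [toB]

theorem toB_surjective : Function.Surjective (toB a) := by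
  rintro ⟨b, hb⟩
  suffices ∃ z, MvPolynomial.aeval (frac a) z = b by
    obtain ⟨z, hz⟩ := this
    exact ⟨z, Subtype.ext ((coe_toB a z).trans hz)⟩
  induction hb using Algebra.adjoin_induction with
  | algebraMap r => exact ⟨MvPolynomial.C r, MvPolynomial.aeval_C _ r⟩
  | add x y _ _ hx hy =>
    obtain ⟨u, rfl⟩ := hx
    obtain ⟨v, rfl⟩ := hy
    exact ⟨u + v, map_add _ u v⟩
  | mul x y _ _ hx hy =>
    obtain ⟨u, rfl⟩ := hx
    obtain ⟨v, rfl⟩ := hy
    exact ⟨u * v, map_mul _ u v⟩
  | mem x hx =>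
    obtain ⟨y, hy, rfl⟩ := hx
    induction hy using Submodule.span_induction with
    | mem y hy =>
      obtain ⟨j, rfl⟩ := hy
      rcases Fin.eq_zero_or_eq_succ j with rfl | ⟨i, rfl⟩
      · exact ⟨1, by rw [map_one, IsLocalization.mk'_self]⟩
      · exact ⟨MvPolynomial.X i, MvPolynomial.aeval_X _ i⟩
    | zero => exact ⟨0, by rw [map_zero, IsLocalization.mk'_zero]⟩
    | add x y _ _ hx hy =>
      obtain ⟨u, hu⟩ := hx
      obtain ⟨v, hv⟩ := hy
      exact ⟨u + v, by rw [map_add, hu, hv, ← IsLocalization.mk'_add]; exact IsLocalization.mk'_eq_iff_eq.2 (by simp; ring_nf)⟩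
    | smul c x _ hx =>
      obtain ⟨u, hu⟩ := hx
      exact ⟨MvPolynomial.C c * u, by
        rw [map_mul, MvPolynomial.aeval_C, hu, smul_eq_mul, IsLocalization.mul_mk'_eq_mk'_of_mul]⟩

theorem aeval_frac_eq (z : P (A := A) (t := t)) :
    sub a t z = MvPolynomial.C (MvPolynomial.aeval (frac a) z) := by
  induction z using MvPolynomial.induction_on with
  | C r => rw [sub_C, MvPolynomial.aeval_C]
  | add x y hx hy => simp [hx, hy]
  | mul_X x j hx => simp [hx, sub_X]

/-- the bound -/
theorem exists_bound [IsNoetherianRing A] :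
    ∃ c : ℕ, ∀ (M : Type u) [AddCommGroup M] [Module A M] (i : ℕ), t + 1 ≤ i →
      ∀ x ∈ Ideal.span (Set.range a) ^ c,
        ∀ y : DRing.Tor A i (BlowUp.affineAlgebra A (Ideal.span (Set.range a)) (a 0)) M, x • y = 0 := by
  obtain ⟨n, hn⟩ := kills a t le_rfl
  have hle : J a t ≤ RingHom.ker (toB a).toRingHom := fun z hz => by
    refine Subtype.ext ((coe_toB a z).trans ?_)
    refine MvPolynomial.C_injective (Fin t) _ ?_
    rw [← aeval_frac_eq, sub_J a hz]
    exact MvPolynomial.C_0.symm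
  let π : Q a t →ₗ[A] BlowUp.affineAlgebra A (Ideal.span (Set.range a)) (a 0) :=
    (Ideal.Quotient.liftₐ (J a t) (toB a) fun z hz => hle hz).toLinearMap
  let W : Submodule (P (A := A) (t := t)) (Q a t) :=
    Submodule.map (Submodule.mkQ (J a t)) (RingHom.ker (toB a).toRingHom)
  obtain ⟨N, hN⟩ : ∃ N : ℕ, ∀ j : Fin (t + 1), ∀ x ∈ W, a j ^ N • x = 0 := by
    have hW : ∀ x ∈ W, ∃ n : ℕ, (MvPolynomial.C (a 0) : P (A := A) (t := t)) ^ n • x = 0 := by
      rintro _ ⟨z, hz, rfl⟩
      obtain ⟨m, hm⟩ := exists_pow_mul_mem a (k := t) (z := z) (by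
        rw [aeval_frac_eq, ← coe_toB]
        rw [show toB a z = 0 from hz]
        exact MvPolynomial.C_0)
      exact ⟨m, by rw [Submodule.mkQ_apply, ← Submodule.Quotient.mk_smul,
        Submodule.Quotient.mk_eq_zero]; exact hm⟩
    obtain ⟨N, hN⟩ := uniform (MvPolynomial.C (a 0)) W (IsNoetherian.noetherian W) hW
    refine ⟨N, fun j x hx => ?_⟩
    have h0 := hN x hx
    obtain ⟨z, rfl⟩ := Submodule.Quotient.mk_surjective _ x
    rw [← Submodule.Quotient.mk_smul, Submodule.Quotient.mk_eq_zero] at h0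
    rw [mk_smul, Submodule.Quotient.mk_eq_zero]
    rcases Fin.eq_zero_or_eq_succ j with rfl | ⟨i, rfl⟩
    · exact h0
    · exact C_pow_mul_mem a i.isLt h0
  have hex : Function.Exact (W.subtype.restrictScalars A) π := by
    intro x
    obtain ⟨z, rfl⟩ := Submodule.Quotient.mk_surjective _ x
    constructor
    · intro hx
      exact ⟨⟨_, z, hx, rfl⟩, rfl⟩
    · rintro ⟨⟨_, w, hw, rfl⟩, hx⟩
      exact (congrArg π hx).symm.trans hw
  have hπ : Function.Surjective π := fun b => by
    obtain ⟨z, rfl⟩ := toB_surjective a b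
    exact ⟨Submodule.Quotient.mk z, rfl⟩
  have hgen : ∀ j : Fin (t + 1), ∀ (S : ModuleCat.{u} A) (i : ℕ), t + 1 ≤ i →
      ∀ x : T (BlowUp.affineAlgebra A (Ideal.span (Set.range a)) (a 0)) S i,
        a j ^ (n + N) • x = 0 := by
    intro j S i hi x
    obtain ⟨i, rfl⟩ : ∃ i', i = i' + 1 := ⟨i - 1, by omega⟩
    obtain ⟨δ, -, hδ⟩ := exists_connecting (f := W.subtype.restrictScalars A) (g := π)
      Subtype.val_injective hex hπ S i
    have h0 : δ (a j ^ N • x) = 0 := by
      rw [map_smul]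
      exact smul_eq_zero _ (fun w => Subtype.ext (hN j w.1 w.2)) S i _
    obtain ⟨y, hy⟩ := hδ _ h0
    rw [pow_add, mul_smul, ← hy, ← map_smul, hn j (by omega) S (i + 1) hi y, map_zero]
  let K : Ideal A :=
    { carrier := {r | ∀ (S : ModuleCat.{u} A) (i : ℕ), t + 1 ≤ i →
        ∀ x : T (BlowUp.affineAlgebra A (Ideal.span (Set.range a)) (a 0)) S i, r • x = 0}
      add_mem' := fun {r s} hr hs S i hi x => by rw [add_smul, hr S i hi, hs S i hi, add_zero]
      zero_mem' := fun S i hi x => zero_smul _ _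
      smul_mem' := fun c r hr S i hi x => by rw [smul_eq_mul, mul_smul, hr S i hi, smul_zero] }
  have hK : Ideal.span (Set.range a) ≤ K.radical := Ideal.span_le.2 fun _ ⟨j, hj⟩ =>
    hj ▸ ⟨n + N, hgen j⟩
  obtain ⟨c, hc⟩ := Ideal.exists_pow_le_of_le_radical_of_fg hK (IsNoetherian.noetherian _)
  exact ⟨c, fun M _ _ i hi x hx y => TorKill.transfer _ M i x (hc hx (ModuleCat.of A M) i hi) y⟩

end Groth.Agent.LC16.BlowTor
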