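import Groth.Agent.LC16.CanonTop
import Groth.Agent.LC17.IDepth
import Groth.Agent.LC15.NonVanish
import Groth.Agent.EGA4Alg4.HomDim
import Groth.Agent.EGA4Alg4.Depth
import Groth.Agent.LC15.ExtCompare
import Groth.Prelude.Def_CAlg

/-!
Local duality with a canonical module over a Cohen–Macaulay local ring.
-/

namespace Groth.Agent.LC16.CanonDual

universe u

set_option autoImplicit false

open CategoryTheory IsLocalRing LC15 CanonTop

variable {R : Type u} [CommRing R]

section ext

variable (K : Type u) [AddCommGroup K] [Module R K]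

/-- Ext into the module -/
abbrev EK (M : Type u) [AddCommGroup M] [Module R M] (i : ℕ) : Type u :=
  Abelian.Ext (ModuleCat.of R M) (ModuleCat.of R K) i

/-- degree zero -/
noncomputable def hom0 (M : Type u) [AddCommGroup M] [Module R M] :
    (M →ₗ[R] K) ≃ₗ[R] EK (R := R) K M 0 :=
  (ModuleCat.homLinearEquiv (S := R) (M := ModuleCat.of R M) (N := ModuleCat.of R K)).symm ≪≫ₗ
    (Abelian.Ext.linearEquiv₀ (R := R)).symm

lemma hom0_apply {M : Type u} [AddCommGroup M] [Module R M] (g : M →ₗ[R] K) :
    hom0 K M g = Abelian.Ext.mk₀ (ModuleCat.ofHom g) := rfl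

variable {M' F M : Type u} [AddCommGroup M'] [Module R M'] [AddCommGroup F] [Module R F]
  [AddCommGroup M] [Module R M] {ι : M' →ₗ[R] F} {π : F →ₗ[R] M} (hι : Function.Injective ι)
  (hex : Function.Exact ι π) (hπ : Function.Surjective π)

/-- the connecting map -/
noncomputable def delta (i : ℕ) : EK (R := R) K M' i →ₗ[R] EK (R := R) K M (i + 1) where
  toFun x := Abelian.Ext.comp (X := ModuleCat.of R M) (Y := ModuleCat.of R M')
    (seqSC_shortExact hι hex hπ).extClass x (add_comm 1 i)
  map_add' x y := Abelian.Ext.comp_add _ x y _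
  map_smul' r x := Abelian.Ext.comp_smul _ x _ r

lemma delta_eq_zero {i : ℕ} (x : EK (R := R) K M' i) :
    delta K hι hex hπ i x = 0 ↔
      ∃ y : EK (R := R) K F i, (Abelian.Ext.mk₀ (ModuleCat.ofHom ι)).comp y (zero_add i) = x := by
  constructor
  · exact fun hx => Abelian.Ext.contravariant_sequence_exact₁ (seqSC_shortExact hι hex hπ) _ x
      (add_comm 1 i) hx
  · rintro ⟨y, rfl⟩
    change Abelian.Ext.comp (seqSC_shortExact hι hex hπ).extClass _ (add_comm 1 i) = 0
    refine (Abelian.Ext.comp_assoc _ _ _ (add_zero 1) (zero_add i) (by omega)).symm.trans ?_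
    rw [show (seqSC_shortExact hι hex hπ).extClass.comp
      (Abelian.Ext.mk₀ (ModuleCat.ofHom ι)) (add_zero 1) = 0 from
        (seqSC_shortExact hι hex hπ).extClass_comp, Abelian.Ext.zero_comp]

lemma delta_surjective [Projective (ModuleCat.of R F)] (i : ℕ) :
    Function.Surjective (delta K hι hex hπ i) := fun x =>
  Abelian.Ext.contravariant_sequence_exact₃ (seqSC_shortExact hι hex hπ) _ x
    (Abelian.Ext.eq_zero_of_projective _) (add_comm 1 i)

lemma delta_injective [Projective (ModuleCat.of R F)] (i : ℕ) :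
    Function.Injective (delta K hι hex hπ (i + 1)) := by
  refine (injective_iff_map_eq_zero _).2 fun x hx => ?_
  obtain ⟨y, rfl⟩ := (delta_eq_zero K hι hex hπ x).1 hx
  rw [Abelian.Ext.eq_zero_of_projective y, Abelian.Ext.comp_zero]

lemma delta_hom0_eq_zero (g : M' →ₗ[R] K) :
    delta K hι hex hπ 0 (hom0 K M' g) = 0 ↔ ∃ h : F →ₗ[R] K, h ∘ₗ ι = g := by
  rw [delta_eq_zero, (hom0 K F).surjective.exists]
  refine exists_congr fun h => ?_
  rw [hom0_apply, hom0_apply, Abelian.Ext.mk₀_comp_mk₀, (Abelian.Ext.mk₀_bijective _ _).1.eq_iff]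
  exact ⟨fun e => congrArg ModuleCat.Hom.hom e, fun e => ModuleCat.hom_ext e⟩

end ext

/-- the dual of a cokernel -/
noncomputable def dualCokerEquiv {A B C E : Type u} [AddCommGroup A] [Module R A] [AddCommGroup B]
    [Module R B] [AddCommGroup C] [Module R C] [AddCommGroup E] [Module R E]
    {v : A →ₗ[R] B} {δ : B →ₗ[R] C} (hδ : Function.Surjective δ) (hvδ : Function.Exact v δ) :
    (C →ₗ[R] E) ≃ₗ[R] LinearMap.ker (LinearMap.lcomp R E v) :=
  LinearEquiv.ofBijective
    (LinearMap.codRestrict _ (LinearMap.lcomp R E δ) fun φ => LinearMap.mem_ker.2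
      (LinearMap.ext fun a => by simp [hvδ.apply_apply_eq_zero]))
    ⟨fun a b h => (LinearMap.cancel_right hδ).mp (congrArg Subtype.val h), fun ψ => by
      have hle : LinearMap.ker δ ≤ LinearMap.ker ψ.1 := fun b hb => by
        obtain ⟨a, rfl⟩ := (hvδ b).1 hb
        exact LinearMap.congr_fun (LinearMap.mem_ker.1 ψ.2) a
      refine ⟨Submodule.liftQ _ ψ.1 hle ∘ₗ (δ.quotKerEquivOfSurjective hδ).symm.toLinearMap,
        Subtype.ext (LinearMap.ext fun b => ?_)⟩
      simp⟩

/-- kernels of conjugate maps -/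
def kerEquiv {A B A' B' : Type u} [AddCommGroup A] [Module R A] [AddCommGroup B] [Module R B]
    [AddCommGroup A'] [Module R A'] [AddCommGroup B'] [Module R B'] {u : A →ₗ[R] B}
    {u' : A' →ₗ[R] B'} (e : A ≃ₗ[R] A') (e' : B ≃ₗ[R] B') (h : ∀ a, e' (u a) = u' (e a)) :
    LinearMap.ker u ≃ₗ[R] LinearMap.ker u' where
  toFun a := ⟨e a.1, by rw [LinearMap.mem_ker, ← h, LinearMap.mem_ker.1 a.2, map_zero]⟩
  invFun b := ⟨e.symm b.1, by
    rw [LinearMap.mem_ker, ← e'.map_eq_zero_iff, h, e.apply_symm_apply, LinearMap.mem_ker.1 b.2]⟩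
  left_inv a := Subtype.ext (e.symm_apply_apply _)
  right_inv b := Subtype.ext (e.apply_symm_apply _)
  map_add' a b := Subtype.ext (map_add e _ _)
  map_smul' r a := Subtype.ext (map_smul e r _)

section cm

variable [LocCoh.IsCohenMacaulayLocalRing R] {n : ℕ} {E K : Type u} [AddCommGroup E] [Module R E]
  [AddCommGroup K] [Module R K]

/-- below the dimension a free module has no local cohomology -/
theorem subsingleton_H_free_lt (hn : ringKrullDim R = n) (k : ℕ) {j : ℕ} (hj : j < n) :
    Subsingleton (LocCoh.H (maximalIdeal R) j (Fin k → R)) := by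
  refine subsingleton_H_free _ ((LC17.natCast_le_idealDepth_iff (maximalIdeal R) R n).1 ?_ j hj) k
  have h := LocCoh.IsCohenMacaulayLocalRing.supportDim_eq_depth (R := R)
  rw [Module.supportDim_self_eq_ringKrullDim, hn] at h
  exact le_of_eq (WithBot.coe_inj.1 h)

/-- the isomorphism of local duality -/
theorem duality (hn : ringKrullDim R = n) [Module.Injective R E]
    (eK : (K →ₗ[R] E) ≃ₗ[R] LocCoh.H (maximalIdeal R) n R) :
    ∀ (i j : ℕ) (_ : i + j = n) (M : Type u) [AddCommGroup M] [Module R M] [Module.Finite R M],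
      Nonempty (LocCoh.H (maximalIdeal R) j M ≃ₗ[R] (EK (R := R) K M i →ₗ[R] E)) := by
  intro i
  induction i with
  | zero =>
    intro j hj M _ _ _
    obtain rfl : j = n := by omega
    exact ⟨topEquiv hn eK M ≪≫ₗ LinearEquiv.congrLeft E R (hom0 K M)⟩
  | succ i ih =>
    intro j hij M _ _ _
    obtain ⟨k, π, hπ⟩ := Module.Finite.exists_fin' R M
    have hex := LinearMap.exact_subtype_ker_map π
    have hι := (LinearMap.ker π).injective_subtype
    have hF := subsingleton_H_free_lt hn k (show j < n by omega)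
    obtain ⟨e⟩ := ih (j + 1) (by omega) (LinearMap.ker π)
    rcases i with _ | i
    · obtain rfl : n = j + 1 := by omega
      have hδinj : Function.Injective (Hδ (maximalIdeal R) j hι hex hπ) := by
        refine (injective_iff_map_eq_zero _).2 fun y hy => ?_
        obtain ⟨z, rfl⟩ := (H_exact₃ (maximalIdeal R) j hι hex hπ y).1 hy
        rw [hF.elim z 0, map_zero]
      let v := (hom0 K (LinearMap.ker π)).toLinearMap ∘ₗ
        LinearMap.lcomp R K (LinearMap.ker π).subtype
      have hv : Function.Exact v (delta K hι hex hπ 0) := by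
        intro x
        obtain ⟨g, rfl⟩ := (hom0 K (LinearMap.ker π)).surjective x
        rw [delta_hom0_eq_zero]
        exact exists_congr fun h => ((hom0 K (LinearMap.ker π)).injective.eq_iff).symm
      have hnat : ∀ y, topEquiv hn eK (Fin k → R) (Hmap _ _ (LinearMap.ker π).subtype y) =
          LinearMap.lcomp R E v
            ((topEquiv hn eK (LinearMap.ker π) ≪≫ₗ LinearEquiv.congrLeft E R (hom0 K _)) y) :=
        fun y => by
          rw [topEquiv_natural]
          refine LinearMap.ext fun h => ?_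
          simp [v]
      exact ⟨LinearEquiv.ofInjective _ hδinj ≪≫ₗ LinearEquiv.ofEq _ _
        (LinearMap.exact_iff.1 (H_exact₁ (maximalIdeal R) j hι hex hπ)).symm ≪≫ₗ
          kerEquiv _ _ hnat ≪≫ₗ (dualCokerEquiv (delta_surjective K hι hex hπ 0) hv).symm⟩
    · exact ⟨HδEquiv (maximalIdeal R) j hι hex hπ hF
        (subsingleton_H_free_lt hn k (by omega)) ≪≫ₗ e ≪≫ₗ LinearEquiv.congrLeft E R
          (LinearEquiv.ofBijective (delta K hι hex hπ (i + 1))
            ⟨delta_injective K hι hex hπ i, delta_surjective K hι hex hπ (i + 1)⟩)⟩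

variable {f : ResidueField R →ₗ[R] E}

/-- Ext vanishes where the local cohomology does -/
theorem subsingleton_EK_of_H (hn : ringKrullDim R = n) (hf : InjHull.IsInjectiveHull f)
    (eK : (K →ₗ[R] E) ≃ₗ[R] LocCoh.H (maximalIdeal R) n R) {i j : ℕ} (hij : i + j = n)
    (M : Type u) [AddCommGroup M] [Module R M] [Module.Finite R M]
    (hH : Subsingleton (LocCoh.H (maximalIdeal R) j M)) : Subsingleton (EK (R := R) K M i) := by
  have := hf.isInjective
  obtain ⟨e⟩ := duality hn eK i j hij M
  have := e.toEquiv.symm.subsingleton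
  exact MatlisBasic.subsingleton_of_dual hf

/-- no Ext above the dimension -/
theorem subsingleton_EK_succ (hn : ringKrullDim R = n) (hf : InjHull.IsInjectiveHull f)
    (eK : (K →ₗ[R] E) ≃ₗ[R] LocCoh.H (maximalIdeal R) n R) (M : Type u) [AddCommGroup M]
    [Module R M] [Module.Finite R M] : Subsingleton (EK (R := R) K M (n + 1)) := by
  have := hf.isInjective
  obtain ⟨k, π, hπ⟩ := Module.Finite.exists_fin' R M
  have hex := LinearMap.exact_subtype_ker_map π
  have hι := (LinearMap.ker π).injective_subtype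
  refine subsingleton_of_forall_eq 0 fun x => ?_
  obtain ⟨y, rfl⟩ := delta_surjective K hι hex hπ n x
  rcases Nat.eq_zero_or_pos n with rfl | hpos
  · obtain ⟨g, rfl⟩ := (hom0 K (LinearMap.ker π)).surjective y
    rw [delta_hom0_eq_zero]
    suffices h : (LinearMap.range (LinearMap.lcomp R K (LinearMap.ker π).subtype)) = ⊤ from
      LinearMap.range_eq_top.1 h g
    rw [← Submodule.Quotient.subsingleton_iff]
    have : Subsingleton ((((LinearMap.ker π) →ₗ[R] K) ⧸
        LinearMap.range (LinearMap.lcomp R K (LinearMap.ker π).subtype)) →ₗ[R] E) := by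
      refine subsingleton_of_forall_eq 0 fun φ => Submodule.linearMap_qext _ ?_
      rw [LinearMap.zero_comp]
      obtain ⟨z, hz⟩ := (topEquiv hn eK (LinearMap.ker π)).surjective (φ ∘ₗ Submodule.mkQ _)
      have h0 : Hmap (maximalIdeal R) 0 (LinearMap.ker π).subtype z = 0 := by
        apply (topEquiv hn eK (Fin k → R)).injective
        rw [topEquiv_natural, hz, map_zero]
        refine LinearMap.ext fun h => ?_
        rw [LinearMap.comp_apply, LinearMap.comp_apply, Submodule.mkQ_apply,
          (Submodule.Quotient.mk_eq_zero _).2 (LinearMap.mem_range_self _ h), map_zero,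
          LinearMap.zero_apply]
      rw [← hz, Hmap_zero_injective (maximalIdeal R) hι (h0.trans (map_zero _).symm), map_zero]
    exact MatlisBasic.subsingleton_of_dual hf
  · have hH : Subsingleton (LocCoh.H (maximalIdeal R) 0 (LinearMap.ker π)) :=
      haveI := subsingleton_H_free_lt hn k hpos
      (Hmap_zero_injective (maximalIdeal R) hι).subsingleton
    rw [(subsingleton_EK_of_H hn hf eK (add_zero n) (LinearMap.ker π) hH).elim y 0, map_zero]

/-- the canonical module has finite injective dimension -/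
theorem injDimLT (hn : ringKrullDim R = n) (hf : InjHull.IsInjectiveHull f)
    (eK : (K →ₗ[R] E) ≃ₗ[R] LocCoh.H (maximalIdeal R) n R) :
    HasInjectiveDimensionLT (ModuleCat.of R K) (n + 1) :=
  EGA4Alg4.hasInjectiveDimensionLT_of_ext_cyclic n _ fun I =>
    subsingleton_EK_succ hn hf eK (R ⧸ I)

theorem nontrivial_of_dual (hn : ringKrullDim R = n)
    (eK : (K →ₗ[R] E) ≃ₗ[R] LocCoh.H (maximalIdeal R) n R) : Nontrivial K := by
  have : Nontrivial (LocCoh.H (maximalIdeal R) n R) :=
    nontrivial_H_supportDim n R ((Module.supportDim_self_eq_ringKrullDim R).trans hn)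
  rw [← not_subsingleton_iff_nontrivial] at this ⊢
  intro _
  exact this eK.toEquiv.symm.subsingleton

/-- its depth -/
theorem le_depth (hn : ringKrullDim R = n) (hf : InjHull.IsInjectiveHull f) [Module.Finite R K]
    (eK : (K →ₗ[R] E) ≃ₗ[R] LocCoh.H (maximalIdeal R) n R) :
    (n : ℕ∞) ≤ LocCoh.depth R K := by
  have := nontrivial_of_dual hn eK
  rw [EGA4Alg4.natCast_le_depth_iff_ext]
  intro i hi
  exact subsingleton_EK_of_H hn hf eK (Nat.add_sub_cancel' hi.le) (ResidueField R)
    (subsingleton_H_of_powerTorsion _ (InjHull18.isPowerTorsion_quotient (R := R))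
      (Nat.sub_pos_of_lt hi))

/-- the top Ext of the residue field -/
theorem not_subsingleton_EK_residueField (hn : ringKrullDim R = n)
    (hf : InjHull.IsInjectiveHull f)
    (eK : (K →ₗ[R] E) ≃ₗ[R] LocCoh.H (maximalIdeal R) n R) :
    ¬ Subsingleton (EK (R := R) K (ResidueField R) n) := by
  intro _
  have := hf.isInjective
  obtain ⟨e⟩ := duality hn eK n 0 (add_zero n) (ResidueField R)
  have h0 := e.toEquiv.subsingleton
  have hg : gamma (maximalIdeal R) (ResidueField R) = ⊤ :=
    (gamma_eq_top_iff _).2 (InjHull18.isPowerTorsion_quotient (R := R))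
  rw [subsingleton_H0_iff, hg] at h0
  exact top_ne_bot h0

theorem supportDim_eq (hn : ringKrullDim R = n) (hf : InjHull.IsInjectiveHull f) [Module.Finite R K]
    (eK : (K →ₗ[R] E) ≃ₗ[R] LocCoh.H (maximalIdeal R) n R) : Module.supportDim R K = n := by
  have := nontrivial_of_dual hn eK
  refine le_antisymm (hn ▸ Module.supportDim_le_ringKrullDim R K) (le_trans ?_
    (EGA4Alg4.depth_le_supportDim (A := R) (M := K)))
  exact WithBot.coe_le_coe.2 (le_depth hn hf eK)

theorem isCohenMacaulayModule (hn : ringKrullDim R = n) (hf : InjHull.IsInjectiveHull f)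
    [Module.Finite R K] (eK : (K →ₗ[R] E) ≃ₗ[R] LocCoh.H (maximalIdeal R) n R) :
    LocCoh.IsCohenMacaulayModule R K := by
  have := nontrivial_of_dual hn eK
  refine le_antisymm ?_ (EGA4Alg4.depth_le_supportDim (A := R) (M := K))
  rw [supportDim_eq hn hf eK]
  exact WithBot.coe_le_coe.2 (le_depth hn hf eK)

end cm

end Groth.Agent.LC16.CanonDual
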