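import Groth.Agent.LC15.NonVanish
import Groth.Agent.LC16.FlatBC
import Groth.Agent.EGA4Alg4.Depth
import Groth.Agent.InjHull18.Torsion
import Mathlib.RingTheory.Localization.BaseChange
import Mathlib.RingTheory.Flat.Localization
import Mathlib.RingTheory.Ideal.Height

/-!
Non-vanishing of local cohomology.
-/

namespace Groth.Agent.LC16.NonVanish

universe u

set_option autoImplicit false

open CategoryTheory IsLocalRing LC15

variable {R : Type u} [CommRing R] [IsNoetherianRing R]

/-- nonvanishing in the degree of the height of a minimal prime -/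
theorem nontrivial_H_of_minimalPrime (I : Ideal R) {p : Ideal R} (hp : p ∈ I.minimalPrimes) {h : ℕ}
    (hh : p.height = h) : Nontrivial (LocCoh.H I h R) := by
  haveI : p.IsPrime := hp.1.1
  let L := Localization.AtPrime p
  haveI : IsNoetherianRing L := IsLocalization.isNoetherianRing p.primeCompl L inferInstance
  haveI : Module.Flat R L := IsLocalization.flat _ p.primeCompl
  rw [← not_subsingleton_iff_nontrivial]
  intro hsub
  obtain ⟨e⟩ := FlatBC.exists_equiv L I h R
  have h1 : Subsingleton (LocCoh.H (I.map (algebraMap R L)) h (TensorProduct R L R)) :=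
    e.symm.toEquiv.subsingleton
  have h2 : Subsingleton (LocCoh.H (I.map (algebraMap R L)) h L) :=
    (Hequiv _ h (TensorProduct.AlgebraTensorModule.rid R L L).symm).toEquiv.subsingleton
  have hrad : (I.map (algebraMap R L)).radical = (maximalIdeal L).radical := by
    rw [(maximalIdeal.isMaximal L).isPrime.radical,
      IsLocalization.AtPrime.radical_map_of_mem_minimalPrimes (A := L) p I hp, Localization.AtPrime.map_eq_maximalIdeal]
  have h3 : Subsingleton (LocCoh.H (maximalIdeal L) h L) :=
    (((localCohomology.isoOfSameRadical hrad h).app (ModuleCat.of L L)).toLinearEquiv).symm.toEquiv.subsingleton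
  refine not_nontrivial_iff_subsingleton.mpr h3 (nontrivial_H_supportDim h L ?_)
  rw [Module.supportDim_self_eq_ringKrullDim, IsLocalization.AtPrime.ringKrullDim_eq_height p L, hh]
  rfl

/-- height is finite in the minimal primes of a proper ideal -/
lemma exists_height (p : Ideal R) [p.IsPrime] : ∃ h : ℕ, p.height = h :=
  ⟨p.height.toNat, (ENat.coe_toNat (Ideal.height_ne_top Ideal.IsPrime.ne_top')).symm⟩

/-- the top local cohomology is not finite in positive dimension -/
theorem not_finite_H_top [IsLocalRing R] (d : ℕ) (hd : 0 < d) (hdim : ringKrullDim R = d) :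
    ¬ Module.Finite R (LocCoh.H (maximalIdeal R) d R) := by
  intro hfin
  have hsd : Module.supportDim R R = (d : WithBot ℕ∞) := by
    rw [Module.supportDim_self_eq_ringKrullDim, hdim]
  have hnt := nontrivial_H_supportDim d R hsd
  obtain ⟨k, hk⟩ := InjHull18.exists_pow_smul_eq_zero (M := LocCoh.H (maximalIdeal R) d R)
    (isPowerTorsion_H (maximalIdeal R) d)
  exact not_nontrivial_iff_subsingleton.mpr (subsingleton_H_of_killed (maximalIdeal R) hd
    (coheightLT_of_supportDim hsd.le) k hk) hnt

/-- Cohen–Macaulay means exactly one nonvanishing degree -/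
theorem existsUnique_iff_CM [IsLocalRing R] (M : Type u) [AddCommGroup M] [Module R M]
    [Module.Finite R M] [Nontrivial M] :
    (∃! i : ℕ, Nontrivial (LocCoh.H (maximalIdeal R) i M)) ↔
      LocCoh.IsCohenMacaulayModule R M := by
  obtain ⟨n, hn⟩ : ∃ n : ℕ, Module.supportDim R M = (n : WithBot ℕ∞) := by
    obtain ⟨d, hd⟩ := WithBot.ne_bot_iff_exists.mp (Module.supportDim_ne_bot_of_nontrivial R M)
    have hlt := EGA4Alg4.supportDim_lt_top (A := R) (M := M)
    rw [← hd, WithBot.coe_lt_coe] at hlt
    obtain ⟨n, rfl⟩ := ENat.ne_top_iff_exists.mp hlt.ne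
    exact ⟨n, hd.symm⟩
  have htop := nontrivial_H_supportDim n M hn
  have hCM : LocCoh.IsCohenMacaulayModule R M ↔ (n : ℕ∞) ≤ LocCoh.depth R M := by
    have hle := EGA4Alg4.depth_le_supportDim (A := R) (M := M)
    rw [hn] at hle
    rw [LocCoh.IsCohenMacaulayModule, hn]
    refine ⟨fun h => ?_, fun h => le_antisymm ?_ hle⟩
    · exact WithBot.coe_le_coe.mp h.le
    · exact WithBot.coe_le_coe.mpr h
  rw [hCM, LocCoh.depth, LC17.natCast_le_idealDepth_iff]
  constructor
  · rintro ⟨i, hi, huniq⟩ j hj
    by_contra hcon
    rw [not_subsingleton_iff_nontrivial] at hcon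
    exact (ne_of_lt hj) ((huniq j hcon).trans (huniq n htop).symm)
  · intro h
    refine ⟨n, htop, fun j hj => ?_⟩
    by_contra hne
    rcases lt_or_gt_of_ne hne with hlt | hgt
    · exact not_subsingleton_iff_nontrivial.mpr hj (h j hlt)
    · exact not_subsingleton_iff_nontrivial.mpr hj
        (subsingleton_H_of_coheightLT (n + 1) (coheightLT_of_supportDim hn.le) j hgt)

end Groth.Agent.LC16.NonVanish
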