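import Groth.Agent.LC16.MatlisBasic
import Groth.Agent.LC16.Colim
import Groth.Agent.LC15.Dim
import Mathlib.LinearAlgebra.TensorProduct.RightExactness

/-!
Top local cohomology is right exact, and so is the dual of maps into the canonical module.
-/

namespace Groth.Agent.LC16.CanonTop

universe u

set_option autoImplicit false

open TensorProduct LC15

variable {R : Type u} [CommRing R]

section generic

variable {A M F G₁ G₀ : Type u} [AddCommGroup A] [Module R A] [AddCommGroup M] [Module R M]
  [AddCommGroup F] [Module R F] [AddCommGroup G₁] [Module R G₁] [AddCommGroup G₀] [Module R G₀]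

/-- two right exact functors agreeing on the terms of a presentation agree on the module -/
theorem bijective_of_presentation {F' G' : Type u} [AddCommGroup F'] [Module R F']
    [AddCommGroup G'] [Module R G'] {d : F' →ₗ[R] F} {π : F →ₗ[R] M}
    (hπ : Function.Surjective π) (hdπ : π ∘ₗ d = 0) (τ' : F' ⊗[R] A →ₗ[R] G')
    (τ₀ : F ⊗[R] A →ₗ[R] G₀) (τ₁ : M ⊗[R] A →ₗ[R] G₁) {Gd : G' →ₗ[R] G₀} {Gπ : G₀ →ₗ[R] G₁}
    (hd : ∀ z, Gd (τ' z) = τ₀ (d.rTensor A z)) (hp : ∀ z, Gπ (τ₀ z) = τ₁ (π.rTensor A z))
    (h' : Function.Surjective τ') (h₀ : Function.Bijective τ₀) (hGπ : Function.Surjective Gπ)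
    (hex : ∀ y, Gπ y = 0 → ∃ v, Gd v = y) : Function.Bijective τ₁ := by
  constructor
  · refine (injective_iff_map_eq_zero _).2 fun w hw => ?_
    obtain ⟨z, rfl⟩ := LinearMap.rTensor_surjective A hπ w
    obtain ⟨v, hv⟩ := hex (τ₀ z) (by rw [hp, hw])
    obtain ⟨z', rfl⟩ := h' v
    rw [hd] at hv
    rw [← h₀.1 hv, ← LinearMap.comp_apply, ← LinearMap.rTensor_comp, hdπ, LinearMap.rTensor_zero,
      LinearMap.zero_apply]
  · intro y
    obtain ⟨y', rfl⟩ := hGπ y
    obtain ⟨z, rfl⟩ := h₀.2 y'
    exact ⟨π.rTensor A z, (hp z).symm⟩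

/-- the case of a finite free module from the case of the ring -/
theorem bijective_of_free {k : ℕ} {G : Type u} [AddCommGroup G] [Module R G]
    (τF : (Fin k → R) ⊗[R] A →ₗ[R] G) (τR : R ⊗[R] A →ₗ[R] G₀) (hR : Function.Bijective τR)
    (Gs : Fin k → (G₀ →ₗ[R] G)) (Gp : Fin k → (G →ₗ[R] G₀))
    (hs : ∀ i z, Gs i (τR z) = τF ((LinearMap.single R (fun _ => R) i).rTensor A z))
    (hp : ∀ i z, Gp i (τF z) = τR ((LinearMap.proj i : (Fin k → R) →ₗ[R] R).rTensor A z))
    (hsum : ∀ y, ∑ i, Gs i (Gp i y) = y) : Function.Bijective τF := by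
  constructor
  · refine (injective_iff_map_eq_zero _).2 fun z hz => ?_
    have h : ∀ i, (LinearMap.proj i : (Fin k → R) →ₗ[R] R).rTensor A z = 0 := fun i =>
      hR.1 (by rw [← hp, hz, map_zero, map_zero])
    have hid : ∑ i, (LinearMap.single R (fun _ => R) i) ∘ₗ
        (LinearMap.proj i : (Fin k → R) →ₗ[R] R) = LinearMap.id :=
      LinearMap.ext fun v => by simp [Finset.univ_sum_single]
    calc z = (∑ i, (LinearMap.single R (fun _ => R) i) ∘ₗ
          (LinearMap.proj i : (Fin k → R) →ₗ[R] R)).rTensor A z := by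
          rw [hid, LinearMap.rTensor_id, LinearMap.id_apply]
      _ = 0 := by
        rw [← LinearMap.coe_rTensorHom, map_sum, LinearMap.sum_apply]
        refine Finset.sum_eq_zero fun i _ => ?_
        rw [LinearMap.coe_rTensorHom, LinearMap.rTensor_comp, LinearMap.comp_apply, h i, map_zero]
  · intro y
    choose w hw using fun i => hR.2 (Gp i y)
    refine ⟨∑ i, (LinearMap.single R (fun _ => R) i).rTensor A (w i), ?_⟩
    simp only [map_sum, ← hs, hw, hsum]

end generic

section top

variable (I : Ideal R) (n : ℕ) (M : Type u) [AddCommGroup M] [Module R M]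
  {N : Type u} [AddCommGroup N] [Module R N]

/-- tensor with the top cohomology of the ring, to the top cohomology -/
noncomputable def tau : M ⊗[R] LocCoh.H I n R →ₗ[R] LocCoh.H I n M :=
  TensorProduct.lift
    { toFun := fun m => Hmap I n (LinearMap.toSpanSingleton R M m)
      map_add' := fun a b => by rw [LinearMap.toSpanSingleton_add, Hmap_add]
      map_smul' := fun r m => by
        rw [RingHom.id_apply, ← Hmap_smul]
        congr 1
        ext
        simp }

variable {M}

lemma tau_tmul (m : M) (y : LocCoh.H I n R) :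
    tau I n M (m ⊗ₜ[R] y) = Hmap I n (LinearMap.toSpanSingleton R M m) y := rfl

lemma tau_natural (f : M →ₗ[R] N) (z : M ⊗[R] LocCoh.H I n R) :
    Hmap I n f (tau I n M z) = tau I n N (f.rTensor _ z) := by
  induction z using TensorProduct.induction_on with
  | zero => simp
  | tmul m y =>
    rw [LinearMap.rTensor_tmul, tau_tmul, tau_tmul]
    exact Colim.Hmap_Hmap I n f _ _ (LinearMap.ext_ring (by simp)) y
  | add a b ha hb => simp [map_add, ha, hb]

lemma tau_R_bijective : Function.Bijective (tau I n R) := by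
  have h : tau I n R = (TensorProduct.lid R (LocCoh.H I n R)).toLinearMap := by
    refine TensorProduct.ext' fun r y => ?_
    rw [tau_tmul, LinearEquiv.coe_coe, TensorProduct.lid_tmul, ← Hmap_lsmul]
    congr 2
    exact LinearMap.ext_ring (by simp)
  rw [h]
  exact (TensorProduct.lid R _).bijective

lemma sum_Hmap_single_proj (k : ℕ) (y : LocCoh.H I n (Fin k → R)) :
    ∑ i, Hmap I n (LinearMap.single R (fun _ => R) i)
      (Hmap I n (LinearMap.proj i : (Fin k → R) →ₗ[R] R) y) = y := by
  have h : (∑ i, (LinearMap.single R (fun _ => R) i) ∘ₗ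
      (LinearMap.proj i : (Fin k → R) →ₗ[R] R)) = LinearMap.id :=
    LinearMap.ext fun v => by simp [Finset.univ_sum_single]
  let Φ : ((Fin k → R) →ₗ[R] (Fin k → R)) →+
      (LocCoh.H I n (Fin k → R) →ₗ[R] LocCoh.H I n (Fin k → R)) :=
    AddMonoidHom.mk' (Hmap I n) (Hmap_add I n)
  have h2 := congrArg Φ h
  rw [map_sum] at h2
  simp only [Φ, AddMonoidHom.mk'_apply, Hmap_comp, Hmap_id] at h2
  exact (LinearMap.sum_apply _ _ y).symm.trans (LinearMap.congr_fun h2 y)

lemma tau_free_bijective (k : ℕ) : Function.Bijective (tau I n (Fin k → R)) :=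
  bijective_of_free _ (tau I n R) (tau_R_bijective I n)
    (fun i => Hmap I n (LinearMap.single R (fun _ => R) i))
    (fun i => Hmap I n (LinearMap.proj i : (Fin k → R) →ₗ[R] R))
    (fun _ z => tau_natural I n _ z) (fun _ z => tau_natural I n _ z)
    (sum_Hmap_single_proj I n k)

lemma subsingleton_H_free {j : ℕ} (h : Subsingleton (LocCoh.H I j R)) (k : ℕ) :
    Subsingleton (LocCoh.H I j (Fin k → R)) := by
  refine subsingleton_of_forall_eq 0 fun y => ?_
  rw [← sum_Hmap_single_proj I j k y]
  exact Finset.sum_eq_zero fun i _ => by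
    rw [h.elim (Hmap I j (LinearMap.proj i : (Fin k → R) →ₗ[R] R) y) 0, map_zero]

/-- the top cohomology is tensoring with the top cohomology of the ring -/
theorem tau_bijective [IsNoetherianRing R] (hcd : LocCoh.CdLE R I n) [Module.Finite R M] :
    Function.Bijective (tau I n M) := by
  obtain ⟨k, π, hπ⟩ := Module.Finite.exists_fin' R M
  obtain ⟨l, ρ, hρ⟩ := Module.Finite.exists_fin' R (LinearMap.ker π)
  have hex := LinearMap.exact_subtype_ker_map π
  have hinj := (LinearMap.ker π).injective_subtype
  have hρ' : Function.Surjective (Hmap I n ρ) :=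
    (H_exact₃ I n (LinearMap.ker ρ).injective_subtype (LinearMap.exact_subtype_ker_map ρ) hρ
      · |>.1 ((hcd _ (n + 1) n.lt_succ_self).elim _ _))
  have hπ' : Function.Surjective (Hmap I n π) :=
    (H_exact₃ I n hinj hex hπ · |>.1 ((hcd _ (n + 1) n.lt_succ_self).elim _ _))
  refine bijective_of_presentation (d := (LinearMap.ker π).subtype ∘ₗ ρ) hπ
    (LinearMap.ext fun v => (ρ v).2) (tau I n (Fin l → R)) (tau I n (Fin k → R)) _
    (tau_natural I n _) (tau_natural I n π)
    (tau_free_bijective I n l).2 (tau_free_bijective I n k) hπ' fun y hy => ?_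
  obtain ⟨v, hv⟩ := (H_exact₂ I n hinj hex hπ y).1 hy
  obtain ⟨w, rfl⟩ := hρ' v
  exact ⟨w, by rw [Hmap_comp]; exact hv⟩

end top

section theta

variable (K E : Type u) [AddCommGroup K] [Module R K] [AddCommGroup E] [Module R E]
  (M : Type u) [AddCommGroup M] [Module R M] {N : Type u} [AddCommGroup N] [Module R N]

/-- tensor with a dual, to the dual of maps -/
noncomputable def theta : M ⊗[R] (K →ₗ[R] E) →ₗ[R] ((M →ₗ[R] K) →ₗ[R] E) :=
  TensorProduct.lift
    { toFun := fun m =>
        { toFun := fun φ => φ ∘ₗ LinearMap.applyₗ m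
          map_add' := fun _ _ => rfl
          map_smul' := fun _ _ => rfl }
      map_add' := fun a b => by ext; simp
      map_smul' := fun r a => by ext; simp }

variable {M}

lemma theta_tmul (m : M) (φ : K →ₗ[R] E) (g : M →ₗ[R] K) :
    theta K E M (m ⊗ₜ[R] φ) g = φ (g m) := rfl

lemma theta_natural (f : M →ₗ[R] N) (z : M ⊗[R] (K →ₗ[R] E)) :
    theta K E M z ∘ₗ LinearMap.lcomp R K f = theta K E N (f.rTensor _ z) := by
  induction z using TensorProduct.induction_on with
  | zero => simp
  | tmul m φ => rfl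
  | add a b ha hb => simp [map_add, LinearMap.add_comp, ha, hb]

lemma theta_R_bijective : Function.Bijective (theta (R := R) K E R) := by
  have h : theta K E R = (TensorProduct.lid R (K →ₗ[R] E) ≪≫ₗ
      LinearEquiv.congrLeft E R (LinearMap.ringLmapEquivSelf R R K).symm).toLinearMap := by
    refine TensorProduct.ext' fun r φ => LinearMap.ext fun g => ?_
    rw [theta_tmul]
    simp [← map_smul]
  rw [h]
  exact LinearEquiv.bijective _

lemma theta_free_bijective (k : ℕ) : Function.Bijective (theta (R := R) K E (Fin k → R)) := by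
  refine bijective_of_free _ (theta K E R) (theta_R_bijective K E)
    (fun i => LinearMap.lcomp R E (LinearMap.lcomp R K (LinearMap.single R (fun _ => R) i)))
    (fun i => LinearMap.lcomp R E
      (LinearMap.lcomp R K (LinearMap.proj i : (Fin k → R) →ₗ[R] R)))
    (fun _ z => theta_natural K E _ z) (fun _ z => theta_natural K E _ z) fun ψ => ?_
  refine LinearMap.ext fun g => ?_
  rw [LinearMap.sum_apply]
  simp only [LinearMap.lcomp_apply]
  rw [← map_sum]
  congr 1
  refine LinearMap.ext fun v => ?_
  simp only [LinearMap.sum_apply, LinearMap.lcomp_apply', LinearMap.comp_apply, ← map_sum]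
  congr 1
  simp [Finset.univ_sum_single]

/-- maps into an injective module make the dual of maps right exact -/
theorem theta_bijective [IsNoetherianRing R] [hE : Module.Injective R E] [Module.Finite R M] :
    Function.Bijective (theta (R := R) K E M) := by
  obtain ⟨k, π, hπ⟩ := Module.Finite.exists_fin' R M
  obtain ⟨l, ρ, hρ⟩ := Module.Finite.exists_fin' R (LinearMap.ker π)
  set d := (LinearMap.ker π).subtype ∘ₗ ρ with hd
  refine bijective_of_presentation (d := d) hπ (LinearMap.ext fun v => (ρ v).2)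
    (theta K E (Fin l → R)) (theta K E (Fin k → R)) _
    (Gd := LinearMap.lcomp R E (LinearMap.lcomp R K d))
    (Gπ := LinearMap.lcomp R E (LinearMap.lcomp R K π))
    (theta_natural K E d) (theta_natural K E π)
    (theta_free_bijective K E l).2 (theta_free_bijective K E k) (fun ψ => ?_) fun ψ hψ => ?_
  · have hinj : Function.Injective (LinearMap.lcomp R K π) := fun a b hab =>
      (LinearMap.cancel_right hπ).mp hab
    obtain ⟨φ, hφ⟩ := hE.out _ hinj ψ
    exact ⟨φ, LinearMap.ext hφ⟩
  · have hker : LinearMap.ker (LinearMap.lcomp R K d) ≤ LinearMap.ker ψ := by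
      intro g hg
      have hle : LinearMap.ker π ≤ LinearMap.ker g := fun v hv => by
        obtain ⟨w, hw⟩ := hρ ⟨v, hv⟩
        have := LinearMap.congr_fun (LinearMap.mem_ker.1 hg) w
        simpa [d, hw] using this
      rw [LinearMap.mem_ker]
      have hg' : g = (Submodule.liftQ _ g hle ∘ₗ
          (π.quotKerEquivOfSurjective hπ).symm.toLinearMap) ∘ₗ π := LinearMap.ext fun v => by simp
      rw [hg']
      have h0 := LinearMap.congr_fun hψ (Submodule.liftQ _ g hle ∘ₗ
        (π.quotKerEquivOfSurjective hπ).symm.toLinearMap)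
      exact h0
    obtain ⟨φ, hφ⟩ := hE.out (Submodule.liftQ _ (LinearMap.lcomp R K d) le_rfl)
      (LinearMap.ker_eq_bot.1 (Submodule.ker_liftQ_eq_bot _ _ _ le_rfl))
      (Submodule.liftQ _ ψ hker)
    exact ⟨φ, LinearMap.ext fun g => hφ (Submodule.Quotient.mk g)⟩

end theta

section dual

variable [IsNoetherianRing R] [IsLocalRing R] {n : ℕ} {K E : Type u} [AddCommGroup K] [Module R K]
  [AddCommGroup E] [Module R E]

/-- the top local cohomology is the dual of maps into a canonical module -/
noncomputable def topEquiv (hn : ringKrullDim R = n) [Module.Injective R E]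
    (eK : (K →ₗ[R] E) ≃ₗ[R] LocCoh.H (IsLocalRing.maximalIdeal R) n R)
    (M : Type u) [AddCommGroup M] [Module R M] [Module.Finite R M] :
    LocCoh.H (IsLocalRing.maximalIdeal R) n M ≃ₗ[R] ((M →ₗ[R] K) →ₗ[R] E) :=
  (LinearEquiv.ofBijective (tau _ n M) (tau_bijective _ n (cdLE_of_ringKrullDim_le _ hn.le))).symm
    ≪≫ₗ TensorProduct.congr (LinearEquiv.refl R M) eK.symm
    ≪≫ₗ LinearEquiv.ofBijective (theta K E M) (theta_bijective K E)

theorem topEquiv_natural (hn : ringKrullDim R = n) [Module.Injective R E]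
    (eK : (K →ₗ[R] E) ≃ₗ[R] LocCoh.H (IsLocalRing.maximalIdeal R) n R)
    {M N : Type u} [AddCommGroup M] [Module R M] [Module.Finite R M]
    [AddCommGroup N] [Module R N] [Module.Finite R N] (f : M →ₗ[R] N)
    (y : LocCoh.H (IsLocalRing.maximalIdeal R) n M) :
    topEquiv hn eK N (Hmap _ n f y) = topEquiv hn eK M y ∘ₗ LinearMap.lcomp R K f := by
  obtain ⟨z, rfl⟩ := (tau_bijective (IsLocalRing.maximalIdeal R) n
    (cdLE_of_ringKrullDim_le _ hn.le) (M := M)).2 y
  rw [tau_natural]
  simp only [topEquiv, LinearEquiv.trans_apply, LinearEquiv.ofBijective_symm_apply_apply,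
    LinearEquiv.ofBijective_apply, theta_natural]
  congr 1
  induction z using TensorProduct.induction_on with
  | zero => simp
  | tmul m φ => rfl
  | add a b ha hb => simp only [map_add, ha, hb]

end dual

end Groth.Agent.LC16.CanonTop
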