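import Groth.Agent.LC16.CechTri
import Groth.Agent.LC16.DualKill
import Groth.Agent.AdicC27.Approx
import Groth.Agent.DR39.DC

/-!
The bootstrap: killed by a power of `J * I` in low degrees implies bijective in low degrees.
-/

set_option autoImplicit false
set_option linter.style.haveILetI false
set_option maxHeartbeats 1000000

noncomputable section

universe u

open CategoryTheory CategoryTheory.Limits CategoryTheory.Pretriangulated
open scoped Pointwise
attribute [local instance] HasDerivedCategory.standard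

namespace Groth.Agent.LC16.CechBoot

open Groth.Agent.DR39 Groth.Agent.LC16.HomGood Groth.Agent.LC16.CechTri

variable {A : Type u} [CommRing A] (I : Ideal A) {C : Dual.D A} {ε : C ⟶ Dual.inD A A}
  (hε : ∀ E, DRing.IsDerivedComplete I E → Function.Bijective (fun g : Dual.inD A A ⟶ E => ε ≫ g))

include hε in
theorem good_of_complete {X : Dual.D A} (h : DRing.IsDerivedComplete I X) (n : ℤ) : Good ε X n :=
  fun i _ => hε _ (DR40.dc_shift h i)

/-- killed by a power of `I` implies derived complete -/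
theorem dc_of_killed {X : Dual.D A} {N : ℕ} (h : ∀ a ∈ I ^ N, a • 𝟙 X = 0) :
    DRing.IsDerivedComplete I X := by
  intro g hg n
  refine ⟨fun u v => ?_⟩
  let M := ModuleCat.of A (Localization.Away g)
  have hiso : IsIso (g ^ N • 𝟙 M) := by
    refine (ConcreteCategory.isIso_iff_bijective _).2 ?_
    have hu : IsUnit (algebraMap A (Localization.Away g) (g ^ N)) := by
      rw [map_pow]
      exact (IsLocalization.Away.algebraMap_isUnit g).pow N
    show Function.Bijective fun y : Localization.Away g => g ^ N • y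
    simp only [Algebra.smul_def]
    exact IsUnit.isUnit_iff_mulLeft_bijective.1 hu
  have hz : ∀ w : Dual.inD A (Localization.Away g) ⟶ X⟦n⟧, w = 0 := fun w => by
    have h0 : g ^ N • 𝟙 (X⟦n⟧) = 0 := by
      rw [← CategoryTheory.Functor.map_id, ← Functor.map_smul, h _ (Ideal.pow_mem_pow hg N),
        Functor.map_zero]
    haveI := hiso
    haveI : IsIso ((DerivedCategory.singleFunctor (ModuleCat.{u} A) 0).map (g ^ N • 𝟙 M)) :=
      Functor.map_isIso _ _
    rw [← cancel_epi ((DerivedCategory.singleFunctor (ModuleCat.{u} A) 0).map (g ^ N • 𝟙 M)), comp_zero,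
      Functor.map_smul, CategoryTheory.Functor.map_id, Linear.smul_comp, Category.id_comp,
      ← Category.comp_id w, ← Linear.comp_smul, h0, comp_zero]
  rw [hz u, hz v]

theorem dc_of_iso {X Y : Dual.D A} (e : X ≅ Y) (h : DRing.IsDerivedComplete I X) :
    DRing.IsDerivedComplete I Y := fun g hg n =>
  @Equiv.subsingleton _ _ (Iso.homToEquiv ((shiftFunctor (Dual.D A) n).mapIso e)).symm (h g hg n)

variable [IsNoetherianRing A] [IsAdicComplete I A] (gs : List A)

omit [IsNoetherianRing A] [IsAdicComplete I A] in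
/-- finite modules killed by a power of `L` -/
theorem torsion_pow {M : Type u} [AddCommGroup M] [Module A M] (L : Ideal A) (Γ : Submodule A M)
    [Module.Finite A Γ] (h : ∀ x : Γ, ∃ n : ℕ, ∀ a ∈ L ^ n, a • x = 0) :
    ∃ N : ℕ, ∀ a ∈ L ^ N, ∀ x : Γ, a • x = 0 := by
  classical
  obtain ⟨t, ht⟩ := (inferInstance : Module.Finite A Γ).fg_top
  choose n hn using h
  refine ⟨t.sup n, fun a ha x => ?_⟩
  have hx : x ∈ Submodule.span A (t : Set Γ) := ht.symm ▸ Submodule.mem_top
  induction hx using Submodule.span_induction with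
  | mem w hw => exact hn w a (Ideal.pow_le_pow_right (Finset.le_sup hw) ha)
  | zero => rw [smul_zero]
  | add a b _ _ ha hb => rw [smul_add, ha, hb, add_zero]
  | smul r a _ ha => rw [smul_comm, ha, smul_zero]

include hε in
/-- torsion modules -/
theorem good_torsion (M : Type u) [AddCommGroup M] [Module A M] [Module.Finite A M] {N : ℕ}
    (h : ∀ a ∈ (Ideal.span {x | x ∈ gs} * I) ^ N, ∀ m : M, a • m = 0) (n : ℤ) :
    Good ε (XC (ModuleCat.of A M) gs) n := by
  let P : Submodule A M := I ^ N • ⊤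
  have hS := LC17.shortExact_of_exact P.subtype P.mkQ P.injective_subtype (Submodule.mkQ_surjective _)
    (LinearMap.exact_subtype_mkQ P)
  obtain ⟨T, hT, ⟨e₁⟩, ⟨e₂⟩, ⟨e₃⟩⟩ := exists_triangle hS gs
  refine (good_obj₂ hT ((good_of_complete I hε ?_ _).of_iso e₁.symm)
    ((good_of_complete I hε (dc_of_killed I (N := N) fun a ha => ?_) _).of_iso e₃.symm)).of_iso e₂
  · have hk : ∀ a ∈ Ideal.span {x | x ∈ gs} ^ N, ∀ p : P, a • p = 0 := fun a ha p => by
      refine Subtype.ext ?_
      show a • (p : M) = 0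
      exact Submodule.smul_induction_on (p := fun y => a • y = 0) p.2
        (fun b hb m _ => by rw [smul_smul]; exact h _ (by rw [mul_pow]; exact Ideal.mul_mem_mul ha hb) m)
        (fun x y hx hy => by rw [smul_add, hx, hy, add_zero])
    obtain ⟨e⟩ := nonempty_iso_of_nil (ModuleCat.of A P) gs fun f hf =>
      ⟨N, hk _ (Ideal.pow_mem_pow (Ideal.subset_span (show f ∈ {x : A | x ∈ gs} from hf)) N)⟩
    refine dc_of_iso I e.symm ?_
    haveI := AdicC27.isAdicComplete_of_finite (I := I) P
    exact (isDerivedComplete_inD_iff I P).2 fun g hg => DCM.comp_of_isAdicComplete I hg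
  · refine smul_id_eq_zero _ a (fun y => ?_) gs
    obtain ⟨m, rfl⟩ := Submodule.mkQ_surjective P y
    rw [← map_smul]
    exact (Submodule.Quotient.mk_eq_zero _).2 (Submodule.smul_mem_smul ha trivial)

omit [IsNoetherianRing A] [IsAdicComplete I A] in
/-- all maps into negative degrees vanish -/
theorem good_low {d : ℤ} (hd : 0 ≤ d) (hC : ∀ i, d < i → IsZero ((HF A i).obj C))
    (M : ModuleCat.{u} A) {n : ℤ} (hn : n + d < 0) : Good ε (XC M gs) n := fun i hi => by
  haveI : (XC M gs).IsGE 0 := (DerivedCategory.isGE_iff _ 0).2 (ComplKill.isZero_HF_cech_neg M gs)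
  haveI := DerivedCategory.TStructure.t.isGE_shift (XC M gs) 0 i (-i) (by omega)
  haveI : C.IsLE d := (DerivedCategory.isLE_iff C d).2 hC
  have hz : ∀ K : Dual.D A, K.IsLE d → Subsingleton (K ⟶ (XC M gs)⟦i⟧) := fun K hK =>
    ⟨fun a b => (DerivedCategory.TStructure.t.zero_of_isLE_of_isGE a d (-i) (by omega) hK inferInstance).trans
      (DerivedCategory.TStructure.t.zero_of_isLE_of_isGE b d (-i) (by omega) hK inferInstance).symm⟩
  haveI := hz C inferInstance
  haveI : (Dual.inD A A).IsLE 0 := inferInstanceAs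
    (((DerivedCategory.singleFunctor (ModuleCat.{u} A) 0).obj (ModuleCat.of A A)).IsLE 0)
  haveI := hz (Dual.inD A A) (DerivedCategory.TStructure.t.isLE_of_le _ 0 d hd)
  exact ⟨fun a b _ => Subsingleton.elim a b, fun z => ⟨0, Subsingleton.elim _ z⟩⟩

include hε in
/-- The bootstrap. -/
theorem good_of_kills {d : ℤ} (hd : 0 ≤ d) (hC : ∀ i, d < i → IsZero ((HF A i).obj C)) :
    ∀ (k : ℕ) (M : Type u) [AddCommGroup M] [Module A M] [Module.Finite A M] (N : ℕ),
      Kills ε ((Ideal.span {x | x ∈ gs} * I) ^ N) (XC (ModuleCat.of A M) gs) (k - d - 1) →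
        Good ε (XC (ModuleCat.of A M) gs) (k - d - 1) := by
  intro k
  induction k with
  | zero =>
    intro M _ _ _ N _
    exact good_low gs hd hC _ (by omega)
  | succ k ih =>
    intro M _ _ _ N hM
    let L := Ideal.span {x | x ∈ gs} * I
    let n : ℤ := ((k + 1 : ℕ) : ℤ) - d - 1
    have hn : n - 1 = (k : ℤ) - d - 1 := by simp only [n]; push_cast; ring
    let Γ := LC15.gamma L M
    obtain ⟨N₀, hN₀⟩ := torsion_pow L Γ (LC15.isPowerTorsion_gamma L)
    have hΓ : ∀ i, Good ε (XC (ModuleCat.of A Γ) gs) i := good_torsion I hε gs Γ hN₀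
    have hS := LC17.shortExact_of_exact Γ.subtype Γ.mkQ Γ.injective_subtype
      (Submodule.mkQ_surjective _) (LinearMap.exact_subtype_mkQ Γ)
    obtain ⟨T, hT, ⟨e₁⟩, ⟨e₂⟩, ⟨e₃⟩⟩ := exists_triangle hS gs
    refine (good_obj₂ hT ((hΓ (n + 1)).of_iso e₁.symm) (Good.of_iso ?_ e₃.symm)).of_iso e₂
    -- the torsion-free quotient
    let M' := M ⧸ Γ
    have hΓk : ∀ i, Kills ε (L ^ N₀) T.obj₁ i := fun i => by
      refine Kills.of_iso (fun j _ a ha => ?_) e₁.symm
      have hz := CechTri.smul_id_eq_zero (ModuleCat.of A Γ) a (hN₀ a ha) gs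
      have hz' : a • 𝟙 ((XC (ModuleCat.of A Γ) gs)⟦j⟧) = 0 := by
        rw [← CategoryTheory.Functor.map_id, ← Functor.map_smul, hz, Functor.map_zero]
      exact ⟨fun g => by rw [← Category.comp_id g, ← Linear.comp_smul, hz', comp_zero],
        fun g => by rw [← Category.comp_id g, ← Linear.comp_smul, hz', comp_zero]⟩
    have hM' : Kills ε (L ^ (N + N₀)) (XC (ModuleCat.of A M') gs) n := by
      rw [pow_add]
      exact (kills_obj₂ (T := T.rotate) (rot_of_distTriang _ hT) ((hM.of_iso e₂.symm))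
        ((hΓk (n + 1)).shift 1 n le_rfl)).of_iso e₃
    obtain ⟨x, hx, hreg⟩ := LC17.exists_isSMulRegular_mem (LC15.gamma_quot_gamma L (M := M))
    let N₁ := N + N₀
    obtain ⟨T', hT', a₁, a₂, hm, ⟨a₃⟩⟩ := exists_triangle_smul M' (x ^ N₁) (hreg.pow N₁) gs
    have hQ : Kills ε (L ^ (N₁ + N₁)) T'.obj₃ (n - 1) := by
      rw [pow_add]
      exact kills_obj₂ (T := T'.rotate) (rot_of_distTriang _ hT')
        ((hM'.of_iso a₂.symm).mono (by omega) le_rfl)
        (((hM'.of_iso a₁.symm).shift 1 (n - 1) (by omega)))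
    have hQg : Good ε T'.obj₃ (n - 1) := by
      rw [hn] at hQ ⊢
      exact (ih _ _ (hQ.of_iso a₃)).of_iso a₃.symm
    have hzero : ∀ (K : Dual.D A) (i : ℤ), (∀ g : K ⟶ (XC (ModuleCat.of A M') gs)⟦i⟧, x ^ N₁ • g = 0) →
        ∀ f : K ⟶ T'.obj₁⟦i⟧, f ≫ T'.mor₁⟦i⟧' = 0 := fun K i h f => by
      rw [← cancel_mono ((shiftFunctor (Dual.D A) i).map a₂.hom), zero_comp, Category.assoc,
        ← Functor.map_comp, hm, Functor.map_smul, Linear.comp_smul]
      exact h _
    have := good_step (T := T'.invRotate) (inv_rot_of_distTriang _ hT') (hQg.shift (-1) n (by omega))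
      ((Good.of_iso (ih M' (N + N₀) (hn ▸ hM'.mono (by omega) le_rfl)) a₂.symm).mono (by omega))
      (fun i hi => hzero _ i ((hM' i hi _ (Ideal.pow_mem_pow hx N₁)).1))
      (fun i hi => hzero _ i ((hM' i hi _ (Ideal.pow_mem_pow hx N₁)).2))
    exact this.of_iso a₁

end Groth.Agent.LC16.CechBoot
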