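import Groth.Agent.LC16.DTApps
import Groth.Agent.LC15.Gamma
import Mathlib.Algebra.Homology.ShortComplex.ExactFunctor

/-!
The ideal transform and the first local cohomology module; exactness of the ideal transform.
-/

namespace Groth.Agent.LC16.DT

universe u

set_option linter.unusedSectionVars false

open CategoryTheory CategoryTheory.Limits LocCoh

variable {R : Type u} [CommRing R] [IsNoetherianRing R] {I : Ideal R}
variable {M N L : Type u} [AddCommGroup M] [Module R M] [AddCommGroup N] [Module R N]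
  [AddCommGroup L] [Module R L]

lemma gamma_eq : LC15.gamma I M = DRing.torsionSub I M := Submodule.ext fun _ => Iff.rfl

lemma map_comp (g : N →ₗ[R] L) (f : M →ₗ[R] N) (x : DT I M) :
    map (I := I) (g ∘ₗ f) x = map g (map f x) := by
  obtain ⟨t, h, rfl⟩ := inc_surjective x
  rw [map_inc, map_inc, map_inc]
  rfl

lemma map_zero_apply (x : DT I M) : map (I := I) (0 : M →ₗ[R] N) x = 0 := by
  obtain ⟨t, h, rfl⟩ := inc_surjective x
  rw [map_inc, LinearMap.zero_comp, map_zero]

lemma map_injective {f : M →ₗ[R] N} (hf : Function.Injective f) :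
    Function.Injective (map (I := I) f) := by
  rw [← LinearMap.ker_eq_bot, eq_bot_iff]
  intro x hx
  obtain ⟨t, h, rfl⟩ := inc_surjective x
  rw [LinearMap.mem_ker, map_inc, inc_eq_zero_iff'] at hx
  obtain ⟨k, hk, hk'⟩ := hx
  rw [Submodule.mem_bot, inc_eq_zero_iff']
  exact ⟨k, hk, fun r hr hrk => hf ((hk' r hr hrk).trans (map_zero f).symm)⟩

lemma exact_map {f : M →ₗ[R] N} {g : N →ₗ[R] L} (hf : Function.Injective f)
    (hfg : Function.Exact f g) : Function.Exact (map (I := I) f) (map g) := by
  intro x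
  constructor
  · intro hx
    obtain ⟨t, h, rfl⟩ := inc_surjective x
    rw [map_inc, inc_eq_zero_iff] at hx
    obtain ⟨k, hk, hk'⟩ := hx
    have hmem : ∀ y, res I hk h y ∈ LinearMap.range f := fun y => (hfg _).mp (congr($hk' y))
    refine ⟨inc I M k ((LinearEquiv.ofInjective f hf).symm.toLinearMap ∘ₗ
      (res I hk h).codRestrict _ hmem), ?_⟩
    rw [map_inc, ← inc_res hk h]
    refine congrArg _ (LinearMap.ext fun y => ?_)
    exact congrArg Subtype.val ((LinearEquiv.ofInjective f hf).apply_symm_apply ⟨_, hmem y⟩)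
  · rintro ⟨y, rfl⟩
    rw [← map_comp, hfg.linearMap_comp_eq_zero, map_zero_apply]

lemma preservesFiniteLimits : PreservesFiniteLimits (idealTransform I) := by
  rw [Functor.preservesFiniteLimits_iff_forall_exact_map_and_mono]
  intro S hS
  have hinj := (ModuleCat.mono_iff_injective _).mp hS.mono_f
  refine ⟨?_, (ModuleCat.mono_iff_injective _).mpr (map_injective (I := I) (f := S.f.hom) hinj)⟩
  rw [ShortComplex.ShortExact.moduleCat_exact_iff_function_exact]
  exact exact_map (I := I) (f := S.f.hom) (g := S.g.hom) hinj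
    ((ShortComplex.ShortExact.moduleCat_exact_iff_function_exact _).mp hS.exact)

/-- surjectivity of all maps induced by surjections -/
def RightExact (I : Ideal R) : Prop :=
  ∀ (M N : Type u) [AddCommGroup M] [Module R M] [AddCommGroup N] [Module R N] (f : M →ₗ[R] N),
    Function.Surjective f → Function.Surjective (map (I := I) f)

lemma exact_iff_rightExact :
    (PreservesFiniteLimits (idealTransform I) ∧ PreservesFiniteColimits (idealTransform I)) ↔
      RightExact I := by
  constructor
  · rintro ⟨_, h⟩ M N _ _ _ _ f hf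
    have : Epi (ModuleCat.ofHom f) := (ModuleCat.epi_iff_surjective _).mpr hf
    exact (ModuleCat.epi_iff_surjective _).mp
      (inferInstance : Epi ((idealTransform I).map (ModuleCat.ofHom f)))
  · intro h
    refine ⟨preservesFiniteLimits, ?_⟩
    rw [Functor.preservesFiniteColimits_iff_forall_exact_map_and_epi]
    intro S hS
    have hinj := (ModuleCat.mono_iff_injective _).mp hS.mono_f
    refine ⟨?_, (ModuleCat.epi_iff_surjective _).mpr
      (h _ _ S.g.hom ((ModuleCat.epi_iff_surjective _).mp hS.epi_g))⟩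
    rw [ShortComplex.ShortExact.moduleCat_exact_iff_function_exact]
    exact exact_map (I := I) (f := S.f.hom) (g := S.g.hom) hinj
      ((ShortComplex.ShortExact.moduleCat_exact_iff_function_exact _).mp hS.exact)

/-- cokernel of the canonical map as first local cohomology -/
theorem exists_coker_equiv_H1 :
    Nonempty ((DT I M ⧸ LinearMap.range (toDT I M)) ≃ₗ[R] LocCoh.H I 1 M) := by
  obtain ⟨E, _, _, j, hj, hE⟩ := LC15.exists_injective_embedding (R := R) M
  set q := (LinearMap.range j).mkQ with hq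
  have hex : Function.Exact j q := LinearMap.exact_map_mkQ_range j
  have hsurj : Function.Surjective q := Submodule.mkQ_surjective _
  let P : Submodule R E := (LC15.gamma I (E ⧸ LinearMap.range j)).comap q
  let e : M →ₗ[R] P := j.codRestrict P fun m => by
    rw [Submodule.mem_comap, hex.apply_apply_eq_zero]; exact zero_mem _
  have hker : LinearMap.ker e ≤ DRing.torsionSub I M := by
    intro m hm
    rw [show m = 0 from hj ((congrArg Subtype.val (LinearMap.mem_ker.mp hm)).trans (map_zero j).symm)]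
    exact zero_mem _
  have hmemP : ∀ (x : P) (n : ℕ), (∀ a ∈ I ^ n, a • q x.1 = 0) →
      ∀ a ∈ I ^ n, ∃ m, e m = a • x := by
    intro x n hn a ha
    obtain ⟨m, hm⟩ := (hex (a • x.1)).mp (by rw [map_smul]; exact hn a ha)
    exact ⟨m, Subtype.ext hm⟩
  have hcoker : IsPowerTorsion I (P ⧸ LinearMap.range e) := by
    intro x
    obtain ⟨x, rfl⟩ := Submodule.Quotient.mk_surjective _ x
    obtain ⟨n, hn⟩ := x.2
    refine ⟨n, fun a ha => ?_⟩
    rw [← Submodule.Quotient.mk_smul, Submodule.Quotient.mk_eq_zero]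
    exact hmemP x n hn a ha
  obtain ⟨Ψ, hΨ, -⟩ := existsUnique_factor e hker hcoker LinearMap.id
  have hΨ' : ∀ m, Ψ (e m) = toDT I M m := fun m => congr($hΨ m)
  have hΨsurj : Function.Surjective Ψ := by
    intro z
    obtain ⟨t, f, rfl⟩ := inc_surjective z
    obtain ⟨g, hg⟩ := Module.Baer.of_injective hE (I ^ t) (j ∘ₗ f)
    have hgm : ∀ a (ha : a ∈ I ^ t), a • g 1 = j (f ⟨a, ha⟩) := fun a ha => by
      rw [← map_smul, smul_eq_mul, mul_one, hg a ha]; rfl
    have hP : g 1 ∈ P := ⟨t, fun a ha => by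
      rw [← map_smul, hgm a ha, hex.apply_apply_eq_zero]⟩
    refine ⟨⟨g 1, hP⟩, eq_of_smul_eq t fun a ha => ?_⟩
    rw [smul_inc_eq_toDT f ⟨a, ha⟩, ← map_smul, ← hΨ']
    exact congrArg Ψ (Subtype.ext (hgm a ha))
  have hΨker : ∀ x : P, Ψ x = 0 → x.1 ∈ DRing.torsionSub I E := by
    intro x hx
    rw [← Submodule.Quotient.mk_eq_zero]
    have h0 := LC15.gamma_quot_gamma I (M := E)
    rw [gamma_eq, gamma_eq] at h0
    rw [← Submodule.mem_bot (R := R), ← h0]
    obtain ⟨n, hn⟩ := x.2
    refine ⟨n, fun a ha => ?_⟩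
    obtain ⟨m, hm⟩ := hmemP x n hn a ha
    have h1 : m ∈ DRing.torsionSub I M := by
      rw [← ker_toDT, LinearMap.mem_ker, ← hΨ', hm, map_smul, hx, smul_zero]
    rw [← Submodule.Quotient.mk_smul, Submodule.Quotient.mk_eq_zero,
      show a • x.1 = j m from (congrArg Subtype.val hm).symm]
    exact DRing.map_mem_torsionSub I j h1
  let q0 : P →ₗ[R] LC15.gamma I (E ⧸ LinearMap.range j) :=
    (q ∘ₗ P.subtype).codRestrict _ fun x => x.2
  let φ : P →ₗ[R] LocCoh.H I 1 M :=
    LC15.Hδ I 0 hj hex hsurj ∘ₗ (LC15.H0equiv I (E ⧸ LinearMap.range j)).symm.toLinearMap ∘ₗ q0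
  have hφ : Function.Surjective φ := by
    intro y
    obtain ⟨w, rfl⟩ := LC15.Hδ_surjective I 0 hj hex hsurj
      (LC15.subsingleton_H_succ_of_injective I 0) y
    obtain ⟨x, hx⟩ := hsurj (LC15.H0equiv I _ w).1
    have hxP : x ∈ P := by
      rw [Submodule.mem_comap, hx]; exact (LC15.H0equiv I _ w).2
    refine ⟨⟨x, hxP⟩, ?_⟩
    have : q0 ⟨x, hxP⟩ = LC15.H0equiv I _ w := Subtype.ext hx
    simp only [φ, LinearMap.comp_apply, this, LinearEquiv.coe_toLinearMap,
      LinearEquiv.symm_apply_apply]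
  let χ := (LinearMap.range (toDT I M)).mkQ ∘ₗ Ψ
  have hχ : Function.Surjective χ := (Submodule.mkQ_surjective _).comp hΨsurj
  have hkk : LinearMap.ker χ = LinearMap.ker φ := by
    ext x
    have h1 : φ x = 0 ↔ ∃ g ∈ LC15.gamma I E, q g = q x.1 := by
      rw [show φ x = LC15.Hδ I 0 hj hex hsurj ((LC15.H0equiv I _).symm (q0 x)) from rfl,
        LC15.H_exact₃ I 0 hj hex hsurj]
      constructor
      · rintro ⟨w, hw⟩
        refine ⟨LC15.h0 I E w, LC15.range_h0 I E ▸ LinearMap.mem_range_self _ w, ?_⟩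
        rw [← LC15.h0_Hmap, hw, ← LC15.H0equiv_coe, LinearEquiv.apply_symm_apply]
        rfl
      · rintro ⟨g, hg, hgx⟩
        refine ⟨(LC15.H0equiv I E).symm ⟨g, hg⟩, LC15.h0_injective I _ ?_⟩
        rw [LC15.h0_Hmap, ← LC15.H0equiv_coe I E, ← LC15.H0equiv_coe, LinearEquiv.apply_symm_apply,
          LinearEquiv.apply_symm_apply]
        exact hgx
    rw [LinearMap.mem_ker, LinearMap.mem_ker, h1]
    simp only [χ, LinearMap.comp_apply, Submodule.mkQ_apply, Submodule.Quotient.mk_eq_zero,
      LinearMap.mem_range]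
    constructor
    · rintro ⟨m, hm⟩
      refine ⟨x.1 - j m, ?_, by rw [map_sub, hex.apply_apply_eq_zero, sub_zero]⟩
      rw [gamma_eq]
      have := hΨker (x - e m) (by rw [map_sub, hΨ', hm, sub_self])
      simpa [e] using this
    · rintro ⟨g, hg, hgx⟩
      obtain ⟨m, hm⟩ := (hex (x.1 - g)).mp (by rw [map_sub, hgx, sub_self])
      refine ⟨m, ?_⟩
      obtain ⟨n, hn⟩ := hg
      rw [← hΨ']
      refine eq_of_smul_eq n fun a ha => ?_
      rw [← map_smul Ψ a (e m), ← map_smul Ψ a x]
      refine congrArg Ψ (Subtype.ext ?_)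
      change a • j m = a • x.1
      rw [hm, smul_sub, hn a ha, sub_zero]
  exact ⟨(χ.quotKerEquivOfSurjective hχ).symm ≪≫ₗ Submodule.quotEquivOfEq _ _ hkk ≪≫ₗ
    φ.quotKerEquivOfSurjective hφ⟩

theorem toDT_surjective_iff : Function.Surjective (toDT I M) ↔ Subsingleton (LocCoh.H I 1 M) := by
  obtain ⟨e⟩ := exists_coker_equiv_H1 (I := I) (M := M)
  rw [← e.toEquiv.subsingleton_congr, Submodule.Quotient.subsingleton_iff, LinearMap.range_eq_top]

theorem subsingleton_H1_DT : Subsingleton (LocCoh.H I 1 (DT I M)) :=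
  toDT_surjective_iff.mp toDT_DT_bijective.2

theorem Hmap_toDT_bijective {i : ℕ} (hi : 1 < i) :
    Function.Bijective (LC15.Hmap I i (toDT I M)) := by
  obtain ⟨i, rfl⟩ : ∃ k, i = k + 1 := ⟨i - 1, by omega⟩
  set g := toDT I M
  have e : g = (LinearMap.range g).subtype ∘ₗ g.rangeRestrict := rfl
  rw [e, LC15.Hmap_comp, LinearMap.coe_comp]
  refine Function.Bijective.comp ?_ ?_
  · have hex := LinearMap.exact_subtype_mkQ (LinearMap.range g)
    have h1 := LC15.subsingleton_H_of_powerTorsion I (isPowerTorsion_coker_toDT (I := I) (M := M))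
      (i := i) (by omega)
    have h2 := LC15.subsingleton_H_succ_of_powerTorsion I i
      (isPowerTorsion_coker_toDT (I := I) (M := M))
    refine ⟨(injective_iff_map_eq_zero _).2 fun y hy => ?_, fun y => ?_⟩
    · obtain ⟨z, rfl⟩ := (LC15.H_exact₁ I i (LinearMap.range g).injective_subtype hex
        (Submodule.mkQ_surjective _) y).1 hy
      rw [Subsingleton.elim z 0, map_zero]
    · exact (LC15.H_exact₂ I (i + 1) (LinearMap.range g).injective_subtype hex
        (Submodule.mkQ_surjective _) y).1 (Subsingleton.elim _ _)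
  · have hb := LC15.Hmap_mkQ_gamma_bijective I (M := M) (i := i + 1) (by omega)
    have hk : LinearMap.ker g = LC15.gamma I M := by rw [gamma_eq]; exact ker_toDT
    let ee : (M ⧸ LC15.gamma I M) ≃ₗ[R] LinearMap.range g :=
      Submodule.quotEquivOfEq _ _ hk.symm ≪≫ₗ g.quotKerEquivRange
    have h3 : g.rangeRestrict = ee.toLinearMap ∘ₗ (LC15.gamma I M).mkQ := LinearMap.ext fun m => rfl
    rw [h3, LC15.Hmap_comp, LinearMap.coe_comp]
    exact (LC15.Hequiv I (i + 1) ee).bijective.comp hb

theorem rightExact_iff_cdLE : RightExact I ↔ LocCoh.CdLE R I 1 := by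
  constructor
  · intro h M _ _ i hi
    suffices key : ∀ (k : ℕ) (M : Type u) [AddCommGroup M] [Module R M],
        Subsingleton (LocCoh.H I (k + 2) M) by
      obtain ⟨k, rfl⟩ : ∃ k, i = k + 2 := ⟨i - 2, by omega⟩
      exact key k M
    intro k
    induction k with
    | zero =>
      intro M _ _
      obtain ⟨E, _, _, f, hf, hE⟩ := LC15.exists_injective_embedding (R := R) M
      refine LC15.subsingleton_H_left I 1 hf (LinearMap.exact_map_mkQ_range f)
        (Submodule.mkQ_surjective _) ?_ (LC15.subsingleton_H_succ_of_injective I 1)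
      refine toDT_surjective_iff.mp fun z => ?_
      obtain ⟨w, rfl⟩ := h _ _ _ (Submodule.mkQ_surjective (LinearMap.range f)) z
      obtain ⟨x, rfl⟩ := toDT_surjective_iff.mpr (LC15.subsingleton_H_succ_of_injective (M := E) I 0) w
      exact ⟨_, (map_toDT _ x).symm⟩
    | succ k ih =>
      intro M _ _
      obtain ⟨E, _, _, f, hf, hE⟩ := LC15.exists_injective_embedding (R := R) M
      exact LC15.subsingleton_H_left I (k + 2) hf (LinearMap.exact_map_mkQ_range f)
        (Submodule.mkQ_surjective _) (ih _) (LC15.subsingleton_H_succ_of_injective I _)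
  · intro h M N _ _ _ _ f hf z
    obtain ⟨E, _, _, j, hj, hE⟩ := LC15.exists_injective_embedding (R := R) M
    let K' : Submodule R E := (LinearMap.ker f).map j
    let π : E →ₗ[R] E ⧸ K' := K'.mkQ
    have hle : LinearMap.ker f ≤ LinearMap.ker (π ∘ₗ j) := fun m hm =>
      (Submodule.Quotient.mk_eq_zero _).mpr ⟨m, hm, rfl⟩
    let i0 : N →ₗ[R] E ⧸ K' :=
      Submodule.liftQ _ (π ∘ₗ j) hle ∘ₗ (f.quotKerEquivOfSurjective hf).symm.toLinearMap
    have hi0 : i0 ∘ₗ f = π ∘ₗ j := by
      refine LinearMap.ext fun m => ?_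
      have e : (f.quotKerEquivOfSurjective hf).symm (f m) = Submodule.Quotient.mk m := by
        rw [LinearEquiv.symm_apply_eq, LinearMap.quotKerEquivOfSurjective_apply_mk]
      simp only [i0, LinearMap.comp_apply, LinearEquiv.coe_toLinearMap, e, Submodule.liftQ_apply]
    have hi0inj : Function.Injective i0 := by
      refine (injective_iff_map_eq_zero _).2 fun n hn => ?_
      obtain ⟨m, rfl⟩ := hf n
      rw [← LinearMap.comp_apply, hi0, LinearMap.comp_apply] at hn
      obtain ⟨m', hm', hmm⟩ := (Submodule.Quotient.mk_eq_zero _).mp hn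
      rwa [← hj hmm]
    have hH1 : Subsingleton (LocCoh.H I 1 (E ⧸ K')) :=
      LC15.subsingleton_H_right I 1 K'.injective_subtype (LinearMap.exact_subtype_mkQ K')
        (Submodule.mkQ_surjective K') (LC15.subsingleton_H_succ_of_injective I 0)
        (h _ 2 (by omega))
    obtain ⟨u, hu⟩ := toDT_surjective_iff.mpr hH1 (map i0 z)
    obtain ⟨x, rfl⟩ := Submodule.mkQ_surjective K' u
    rw [← map_toDT] at hu
    let π2 := (LinearMap.range j).mkQ
    have hπ2 : Function.Exact j π2 := LinearMap.exact_map_mkQ_range j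
    let p : (E ⧸ K') →ₗ[R] E ⧸ LinearMap.range j := Submodule.factor (LinearMap.map_le_range)
    have hp : p ∘ₗ i0 = 0 := by
      refine LinearMap.ext fun n => ?_
      obtain ⟨m, rfl⟩ := hf n
      rw [LinearMap.comp_apply, ← LinearMap.comp_apply i0, hi0, LinearMap.zero_apply]
      exact hπ2.apply_apply_eq_zero m
    have hw : map π2 (toDT I E x) = 0 := by
      rw [show π2 = p ∘ₗ π from LinearMap.ext fun _ => rfl, map_comp, hu, ← map_comp, hp, map_zero_apply]
    obtain ⟨y, hy⟩ := (exact_map hj hπ2 _).mp hw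
    refine ⟨y, map_injective hi0inj ?_⟩
    rw [← map_comp, hi0, map_comp, hy]
    exact hu

section mult

/-- the extension of `r ↦ r z` to the transform of the ring -/
noncomputable def mu (z : DT I M) : DT I R →ₗ[R] DT I M :=
  (LinearEquiv.ofBijective _ (toDT_DT_bijective (I := I) (M := M))).symm.toLinearMap ∘ₗ
    map (LinearMap.toSpanSingleton R _ z)

lemma mu_toDT (z : DT I M) (r : R) : mu z (toDT I R r) = r • z := by
  simp only [mu, LinearMap.comp_apply, map_toDT, LinearEquiv.coe_toLinearMap,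
    LinearEquiv.symm_apply_eq, LinearEquiv.ofBijective_apply, LinearMap.toSpanSingleton_apply]

lemma mu_smul (a : R) (z : DT I M) (u : DT I R) : mu (a • z) u = a • mu z u := by
  have h : mu (a • z) = a • mu z := by
    refine ext_of_comp_eq (toDT I R) isPowerTorsion_coker_toDT (LinearMap.ext fun r => ?_)
    simp only [LinearMap.comp_apply, LinearMap.smul_apply, mu_toDT, smul_comm r a]
  rw [h]; rfl

lemma mu_map (g : M →ₗ[R] N) (w : DT I M) (u : DT I R) :
    mu (map g w) u = map g (mu w u) := by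
  have h : mu (map g w) = map g ∘ₗ mu w := by
    refine ext_of_comp_eq (toDT I R) isPowerTorsion_coker_toDT (LinearMap.ext fun r => ?_)
    simp only [LinearMap.comp_apply, mu_toDT, map_smul]
  rw [h]; rfl

theorem rightExact_of_smul_top (h : I • (⊤ : Submodule R (DT I R)) = ⊤) : RightExact I := by
  intro M N _ _ _ _ f hf z
  have hn : ∀ n : ℕ, I ^ n • (⊤ : Submodule R (DT I R)) = ⊤ := by
    intro n
    induction n with
    | zero => simp
    | succ n ih => rw [pow_succ, mul_smul, h, ih]
  obtain ⟨n, hzn⟩ := isPowerTorsion_coker_toDT (I := I) (M := N) (Submodule.Quotient.mk z)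
  have key : ∀ x ∈ I ^ n • (⊤ : Submodule R (DT I R)), mu z x ∈ LinearMap.range (map (I := I) f) := by
    intro x hx
    refine Submodule.smul_induction_on hx (fun a ha u _ => ?_) (fun x y hx hy => by
      rw [map_add]; exact add_mem hx hy)
    have h1 := hzn a ha
    rw [← Submodule.Quotient.mk_smul, Submodule.Quotient.mk_eq_zero] at h1
    obtain ⟨v, hv⟩ := h1
    obtain ⟨m, rfl⟩ := hf v
    refine ⟨mu (toDT I M m) u, ?_⟩
    rw [← mu_map, map_toDT, hv, mu_smul, map_smul]
  have h1 := key (toDT I R 1) (by rw [hn n]; trivial)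
  rwa [mu_toDT, one_smul] at h1

theorem smul_top_of_rightExact (h : RightExact I) : I • (⊤ : Submodule R (DT I R)) = ⊤ := by
  classical
  obtain ⟨s, hs⟩ := IsNoetherian.noetherian I
  let g : (s → R) →ₗ[R] I :=
    Fintype.linearCombination R fun a : s => (⟨a.1, hs ▸ Submodule.subset_span a.2⟩ : I)
  have hg : Function.Surjective g := by
    rw [← LinearMap.range_eq_top, Fintype.range_linearCombination, eq_top_iff,
      ← Submodule.map_le_map_iff_of_injective (Submodule.injective_subtype _), Submodule.map_span,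
      Submodule.map_top, Submodule.range_subtype, ← Set.range_comp]
    refine hs.ge.trans (Submodule.span_mono fun x hx => ⟨⟨x, hx⟩, rfl⟩)
  have hI : Function.Bijective (map (I := I) I.subtype) := by
    refine map_bijective _ (by rw [Submodule.ker_subtype]; exact bot_le) fun x => ⟨1, fun a ha => ?_⟩
    obtain ⟨x, rfl⟩ := Submodule.Quotient.mk_surjective _ x
    rw [pow_one] at ha
    rw [← Submodule.Quotient.mk_smul, Submodule.Quotient.mk_eq_zero, Submodule.range_subtype]
    exact Ideal.mul_mem_right _ _ ha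
  refine eq_top_iff.mpr fun z _ => ?_
  obtain ⟨y, rfl⟩ := hI.2 z
  obtain ⟨w, rfl⟩ := h _ _ g hg y
  obtain ⟨t, φ, rfl⟩ := inc_surjective w
  rw [map_inc, map_inc]
  have e : I.subtype ∘ₗ (g ∘ₗ φ) = ∑ a : s, (a : R) • (LinearMap.proj a ∘ₗ φ) := by
    refine LinearMap.ext fun x => ?_
    simp [g, Fintype.linearCombination_apply, mul_comm]
  rw [e, map_sum]
  refine Submodule.sum_mem _ fun a _ => ?_
  rw [map_smul]
  exact Submodule.smul_mem_smul (hs ▸ Submodule.subset_span a.2) Submodule.mem_top

end mult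

end Groth.Agent.LC16.DT
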