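import Groth.Agent.LC15.Gamma
import Mathlib.Algebra.Module.LocalizedModule.Basic
import Mathlib.RingTheory.Noetherian.Basic

/-!
An injective module over a Noetherian ring surjects onto its localisation at an element.
-/

namespace Groth.Agent.LC16.InjLoc

universe u

set_option autoImplicit false

variable {R : Type u} [CommRing R] [IsNoetherianRing R]

theorem exists_smul_eq (E : Type u) [AddCommGroup E] [Module R E] [Module.Injective R E] (f : R)
    (n : ℕ) (x : E) : ∃ (c : E) (m : ℕ), f ^ m • f ^ n • c = f ^ m • x := by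
  obtain ⟨m, hm⟩ := monotone_stabilizes_iff_noetherian.2 inferInstance
    (⟨fun k => LinearMap.ker (LinearMap.lsmul R R (f ^ k)), monotone_nat_of_le_succ fun k a ha => by
      simp only [LinearMap.mem_ker, LinearMap.lsmul_apply, smul_eq_mul] at ha ⊢
      rw [pow_succ', mul_assoc, ha, mul_zero]⟩ : ℕ →o Submodule R R)
  let φ : R →ₗ[R] R := LinearMap.lsmul R R (f ^ (m + n))
  let ψ : R →ₗ[R] E := LinearMap.toSpanSingleton R E (f ^ m • x)
  have hker : LinearMap.ker φ ≤ LinearMap.ker ψ := fun a ha => by
    have h' : a ∈ LinearMap.ker (LinearMap.lsmul R R (f ^ m)) := by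
      have := hm (m + n) (Nat.le_add_right m n)
      exact this.ge ha
    simp only [LinearMap.mem_ker, LinearMap.lsmul_apply, smul_eq_mul] at h'
    simp only [LinearMap.mem_ker, ψ, LinearMap.toSpanSingleton_apply, smul_smul, mul_comm a, h',
      zero_smul]
  obtain ⟨h, hh⟩ := Module.Injective.out ((LinearMap.ker φ).liftQ φ le_rfl)
    (LinearMap.ker_eq_bot.1 (Submodule.ker_liftQ_eq_bot _ φ le_rfl le_rfl))
    ((LinearMap.ker φ).liftQ ψ hker)
  refine ⟨h 1, m, ?_⟩
  have h1 := hh (Submodule.Quotient.mk 1)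
  simp only [Submodule.liftQ_apply, φ, ψ, LinearMap.lsmul_apply,
    LinearMap.toSpanSingleton_apply, one_smul] at h1
  rw [map_smul] at h1
  rwa [smul_smul, ← pow_add]

/-- the localisation map is surjective -/
theorem mk_surjective (E : Type u) [AddCommGroup E] [Module R E] [Module.Injective R E] (f : R)
    (x : E) (s : Submonoid.powers f) :
    ∃ c : E, (LocalizedModule.mk c 1 : LocalizedModule (Submonoid.powers f) E) =
      LocalizedModule.mk x s := by
  obtain ⟨_, n, rfl⟩ := s
  obtain ⟨c, m, hc⟩ := exists_smul_eq E f n x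
  refine ⟨c, LocalizedModule.mk_eq.2 ⟨⟨f ^ m, m, rfl⟩, ?_⟩⟩
  simp only [Submonoid.smul_def, one_smul]
  exact hc

end Groth.Agent.LC16.InjLoc
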