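import Groth.Agent.LC16.CechPairs
import Groth.Agent.LC16.InjLoc

/-!
The extended Cech complex of an injective module over a Noetherian ring is exact in positive degrees.
-/

namespace Groth.Agent.LC16.CechExact

universe u

set_option autoImplicit false

open CategoryTheory CategoryTheory.Limits LC15 CechPairs

variable {R : Type u} [CommRing R] [IsNoetherianRing R]

theorem exact_pos (fs : List R) (M : ModuleCat.{u} R) [Module.Injective R M] :
    ∀ (p q r : ℤ), p + 1 = q → q + 1 = r → 1 ≤ q → ∀ z : (C fs M).X q,
      ((C fs M).d q r).hom z = 0 → ∃ w, ((C fs M).d p q).hom w = z := by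
  induction fs with
  | nil =>
    intro p q r _ _ hq1 z _
    have := subsingleton_nil M (q := q) (by omega)
    exact ⟨0, Subsingleton.elim _ _⟩
  | cons f fs ih =>
    intro p q r hpq hqr hq1 z hz
    obtain ⟨ha, hb⟩ := (cycle_iff f fs M q r p hqr hpq z).1 hz
    obtain ⟨w, hw⟩ := ih p q r hpq hqr hq1 _ ha
    set a := (pairs f fs M q p hpq z).1
    set b := (pairs f fs M q p hpq z).2
    let D (i j : ℤ) := IsLocalizedModule.map (Submonoid.powers f)
      (LocalizedModule.mkLinearMap (Submonoid.powers f) ((C fs M).X i))
      (LocalizedModule.mkLinearMap (Submonoid.powers f) ((C fs M).X j)) ((C fs M).d i j).hom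
    have hDmk : ∀ (i j : ℤ) (x : (C fs M).X i) (s : Submonoid.powers f),
        D i j (LocalizedModule.mk x s) = LocalizedModule.mk (((C fs M).d i j).hom x) s :=
      fun i j x s => by
        rw [IsLocalizedModule.mk_eq_mk', IsLocalizedModule.mk_eq_mk']
        exact IsLocalizedModule.map_mk' _ _ _ _ _ _
    have hy : D p q (b + LocalizedModule.mk w 1) = 0 := by
      rw [map_add, hDmk, hw]
      change D p q b + LocalizedModule.mk a 1 = 0
      linear_combination (norm := module) (-1 : R) • hb
    have main : ∃ (w' : (C fs M).X p) (v : LocalizedModule (Submonoid.powers f) ((C fs M).X (p - 1))),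
        ((C fs M).d p q).hom w' = a ∧
          -LocalizedModule.mk w' (1 : Submonoid.powers f) - D (p - 1) p v = b := by
      generalize hY : b + LocalizedModule.mk w 1 = y at hy
      induction y using LocalizedModule.induction_on with | h u s => ?_
      rw [hDmk, ← LocalizedModule.zero_mk s, LocalizedModule.mk_eq] at hy
      obtain ⟨t, ht⟩ := hy
      simp only [Submonoid.smul_def, smul_zero] at ht
      have hcyc : ((C fs M).d p q).hom ((t : R) • (s : R) • u) = 0 := by
        simpa only [map_smul] using ht
      have hy' : LocalizedModule.mk u s =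
          LocalizedModule.mk ((t : R) • (s : R) • u) (t * s * s) := by
        rw [LocalizedModule.mk_eq]
        refine ⟨1, ?_⟩
        simp only [Submonoid.smul_def, one_smul, Submonoid.coe_mul, smul_smul]
        ring_nf
      rcases (show 1 ≤ p ∨ p = 0 by omega) with hp | hp
      · obtain ⟨v, hv⟩ := ih (p - 1) p q (by omega) hpq hp _ hcyc
        refine ⟨w, -LocalizedModule.mk v (t * s * s), hw, ?_⟩
        rw [map_neg, hDmk, hv, ← hy', ← hY]
        abel
      · obtain rfl := hp
        obtain rfl : q = 1 := by omega
        let I : Ideal R := Ideal.span {x | x ∈ fs}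
        have hm := (d_zero_iff_mem_gamma fs M _).1 hcyc
        have := injective_gamma I (M : Type u)
        obtain ⟨c, hc⟩ := InjLoc.mk_surjective (gamma I M) f ⟨_, hm⟩ (t * s * s)
        refine ⟨w - (e0 fs M).symm (c : M), 0, ?_, ?_⟩
        · rw [map_sub, hw, (d_zero_iff_mem_gamma fs M _).2
            (by rw [LinearEquiv.apply_symm_apply]; exact c.2), sub_zero]
        · have hc' : LocalizedModule.mk ((e0 fs M).symm (c : M)) (1 : Submonoid.powers f) =
              LocalizedModule.mk u s := by
            obtain ⟨e, he⟩ := LocalizedModule.mk_eq.1 hc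
            rw [hy', LocalizedModule.mk_eq]
            refine ⟨e, (e0 fs M).injective ?_⟩
            have := congrArg Subtype.val he
            simpa only [Submonoid.smul_def, Submodule.coe_smul, map_smul,
              LinearEquiv.apply_symm_apply] using this
          rw [← hc'] at hY
          rw [map_zero, sub_zero, sub_eq_add_neg w, ← LocalizedModule.mkLinearMap_apply,
            map_add, map_neg, LocalizedModule.mkLinearMap_apply, LocalizedModule.mkLinearMap_apply,
            ← hY]
          abel
    obtain ⟨w', v, hw', hv⟩ := main
    refine ⟨(pairs f fs M p (p - 1) (by omega)).symm (w', v),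
      (pairs f fs M q p hpq).injective ?_⟩
    rw [pairs_d f fs M p q (p - 1) hpq (by omega), LinearEquiv.apply_symm_apply]
    exact Prod.ext hw' hv

end Groth.Agent.LC16.CechExact
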