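import Groth.Agent.LC16.CechExact
import Groth.Agent.LC16.Univ
import Groth.Agent.Koszul19.Cone
import Mathlib.Algebra.Homology.HomologySequence
import Mathlib.Algebra.Homology.HomologicalComplexAbelian

/-!
The extended Cech complex computes local cohomology over a Noetherian ring.
-/

namespace Groth.Agent.LC16.CechFam

universe u

set_option autoImplicit false

open CategoryTheory CategoryTheory.Limits LC15 CechPairs

variable {R : Type u} [CommRing R] (fs : List R)

/-- the cohomology -/
noncomputable abbrev T (i : ℕ) (M : ModuleCat.{u} R) : ModuleCat.{u} R := (C fs M).homology (i : ℤ)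

/-- functoriality -/
noncomputable def Tmap (i : ℕ) {M N : ModuleCat.{u} R} (g : M →ₗ[R] N) : T fs i M →ₗ[R] T fs i N :=
  (HomologicalComplex.homologyMap (Cmap fs (ModuleCat.ofHom g)) (i : ℤ)).hom

section Seq

variable {M N L : ModuleCat.{u} R} (f : M →ₗ[R] N) (g : N →ₗ[R] L) (hf : Function.Injective f)
  (h : Function.Exact f g) (hg : Function.Surjective g)

/-- the sequence of complexes -/
noncomputable def seq : ShortComplex (ConePair.Cx R) :=
  ShortComplex.mk (Cmap fs (ModuleCat.ofHom f)) (Cmap fs (ModuleCat.ofHom g)) (by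
    apply HomologicalComplex.hom_ext
    intro q
    ext x
    exact (degreewise (ModuleCat.ofHom f) (ModuleCat.ofHom g) hf h hg fs q).2.1.apply_apply_eq_zero x)

theorem seq_shortExact : (seq fs f g hf h hg).ShortExact := by
  refine HomologicalComplex.shortExact_of_degreewise_shortExact _ fun q => ?_
  obtain ⟨h1, h2, h3⟩ := degreewise (ModuleCat.ofHom f) (ModuleCat.ofHom g) hf h hg fs q
  refine { exact := ?_, mono_f := ?_, epi_g := ?_ }
  · rw [ShortComplex.ShortExact.moduleCat_exact_iff_function_exact]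
    exact h2
  · rw [ModuleCat.mono_iff_injective]
    exact h1
  · rw [ModuleCat.epi_iff_surjective]
    exact h3

/-- the connecting map -/
noncomputable def delta (i : ℕ) : T fs i L →ₗ[R] T fs (i + 1) M :=
  ((seq_shortExact fs f g hf h hg).δ (i : ℤ) ((i + 1 : ℕ) : ℤ) (by simp)).hom

theorem exact_map_delta (i : ℕ) :
    Function.Exact (Tmap fs i g) (delta fs f g hf h hg i) :=
  (ShortComplex.ShortExact.moduleCat_exact_iff_function_exact _).mp
    ((seq_shortExact fs f g hf h hg).homology_exact₃ (i : ℤ) ((i + 1 : ℕ) : ℤ) (by simp))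

theorem exact_delta_map (i : ℕ) :
    Function.Exact (delta fs f g hf h hg i) (Tmap fs (i + 1) f) :=
  (ShortComplex.ShortExact.moduleCat_exact_iff_function_exact _).mp
    ((seq_shortExact fs f g hf h hg).homology_exact₁ (i : ℤ) ((i + 1 : ℕ) : ℤ) (by simp))

end Seq

theorem isZero_homology [IsNoetherianRing R] (M : ModuleCat.{u} R) [Module.Injective R M] (q : ℤ)
    (hq : 1 ≤ q) : IsZero ((C fs M).homology q) := by
  rw [Koszul19.isZero_homology_iff_ex]
  exact fun p j hp hj z hz => CechExact.exact_pos fs M p q j hp hj hq z hz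

/-- the zero cycles are the torsion -/
noncomputable def kerEquiv (M : ModuleCat.{u} R) :
    LinearMap.ker ((C fs M).d 0 1).hom ≃ₗ[R] gamma (Ideal.span {x | x ∈ fs}) M :=
  (e0 fs M).ofSubmodules _ _ (by
    ext m
    constructor
    · rintro ⟨x, hx, rfl⟩
      exact (d_zero_iff_mem_gamma fs M x).1 hx
    · intro hm
      exact ⟨(e0 fs M).symm m,
        (d_zero_iff_mem_gamma fs M _).2 (by rwa [LinearEquiv.apply_symm_apply]), by simp⟩)

theorem isZero_prev (M : ModuleCat.{u} R) : IsZero ((C fs M).X (-1)) := by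
  have := subsingleton_X fs M (-1) (by omega)
  exact ModuleCat.isZero_of_subsingleton _

/-- cycles to homology in degree zero -/
noncomputable def cyclesHomology (M : ModuleCat.{u} R) :
    (C fs M).cycles 0 ≅ (C fs M).homology 0 :=
  (C fs M).isoHomologyπ (-1) 0 (by simp) ((isZero_prev fs M).eq_of_src _ _)

/-- degree zero -/
noncomputable def zeroEquiv (M : ModuleCat.{u} R) :
    ((C fs M).homology 0 : Type u) ≃ₗ[R] gamma (Ideal.span {x | x ∈ fs}) M :=
  (cyclesHomology fs M).toLinearEquiv.symm ≪≫ₗ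
    LinearEquiv.ofBijective
      (LinearMap.codRestrict (LinearMap.ker ((C fs M).d 0 1).hom) ((C fs M).iCycles 0).hom
        fun x => LinearMap.mem_ker.2
          (congrArg (fun ψ : (C fs M).cycles 0 ⟶ (C fs M).X 1 => ψ.hom x) ((C fs M).iCycles_d 0 1)))
      ⟨fun x y hxy => (ModuleCat.mono_iff_injective _).1 inferInstance (congrArg Subtype.val hxy),
       fun ⟨x, hx⟩ => by
        let g : ModuleCat.of R R ⟶ (C fs M).X 0 :=
          ModuleCat.ofHom (LinearMap.toSpanSingleton R _ x)
        have hg : g ≫ (C fs M).d 0 1 = 0 := by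
          ext
          have : ((C fs M).d 0 1).hom x = 0 := hx
          simpa [g] using this
        refine ⟨((C fs M).liftCycles g 1 (by simp) hg).hom 1, Subtype.ext ?_⟩
        have := congrArg (fun ψ : ModuleCat.of R R ⟶ (C fs M).X 0 => ψ.hom 1)
          ((C fs M).liftCycles_i g 1 (by simp) hg)
        exact this.trans (LinearMap.toSpanSingleton_apply_one R _ x)⟩ ≪≫ₗ kerEquiv fs M

theorem zeroEquiv_π (M : ModuleCat.{u} R) (c : (C fs M).cycles 0) :
    (zeroEquiv fs M (((C fs M).homologyπ 0).hom c) : M) = e0 fs M (((C fs M).iCycles 0).hom c) := by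
  have hc : (cyclesHomology fs M).toLinearEquiv.symm (((C fs M).homologyπ 0).hom c) = c := by
    rw [LinearEquiv.symm_apply_eq]
    rfl
  rw [zeroEquiv, LinearEquiv.trans_apply, LinearEquiv.trans_apply, hc]
  rfl

theorem zeroEquiv_natural {M N : ModuleCat.{u} R} (g : M →ₗ[R] N) (x : (C fs M).homology 0) :
    zeroEquiv fs N (Tmap fs 0 g x) = gammaMap (Ideal.span {x | x ∈ fs}) g (zeroEquiv fs M x) := by
  obtain ⟨c, rfl⟩ := (cyclesHomology fs M).toLinearEquiv.surjective x
  apply Subtype.ext
  have h1 := congrArg (fun ψ => ψ.hom c)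
    (HomologicalComplex.homologyπ_naturality (Cmap fs (ModuleCat.ofHom g)) (0 : ℤ))
  have h2 := congrArg (fun ψ => ψ.hom c)
    (HomologicalComplex.cyclesMap_i (Cmap fs (ModuleCat.ofHom g)) (0 : ℤ))
  calc (zeroEquiv fs N (Tmap fs 0 g (((C fs M).homologyπ 0).hom c)) : N)
      = zeroEquiv fs N (((C fs N).homologyπ 0).hom
          ((HomologicalComplex.cyclesMap (Cmap fs (ModuleCat.ofHom g)) 0).hom c)) :=
        congrArg (fun y => (zeroEquiv fs N y : N)) h1
    _ = e0 fs N (((Cmap fs (ModuleCat.ofHom g)).f 0).hom (((C fs M).iCycles 0).hom c)) :=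
        (zeroEquiv_π fs N _).trans (congrArg (e0 fs N) h2)
    _ = g (zeroEquiv fs M (((C fs M).homologyπ 0).hom c)) := by
        rw [e0_Cmap, zeroEquiv_π]; rfl

/-- the family -/
noncomputable def fam [IsNoetherianRing R] : Univ.Fam (Ideal.span {x : R | x ∈ fs}) where
  T := T fs
  map i _ _ g := Tmap fs i g
  δ i _ _ _ _ _ hf h hg := delta fs _ _ hf h hg i
  exact₃ i _ _ _ _ _ hf h hg := exact_map_delta fs _ _ hf h hg i
  exact₁ i _ _ _ _ _ hf h hg := exact_delta_map fs _ _ hf h hg i
  subsingleton i E _ := ModuleCat.subsingleton_of_isZero (isZero_homology fs E _ (by simp))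
  zero M := zeroEquiv fs M
  zero_natural g x := zeroEquiv_natural fs g x

/-- the comparison -/
theorem nonempty_equiv [IsNoetherianRing R] (i : ℕ) (M : Type u) [AddCommGroup M] [Module R M] :
    Nonempty (DerCA.extCechH fs (ModuleCat.of R M) (i : ℤ) ≃ₗ[R]
      LocCoh.H (Ideal.span {x | x ∈ fs}) i M) :=
  Univ.nonempty_equiv (fam fs) i M

end Groth.Agent.LC16.CechFam
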