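import Groth.Agent.DerC41.KosReg
import Groth.Agent.Koszul19.Coefficients
import Groth.Agent.Koszul19.BaseChange
import Groth.Agent.KosCech41.Compare
import Mathlib.RingTheory.Flat.Basic

/-!
Colimit Koszul cohomology vanishes above the length, and outside it for a Koszul regular sequence
with coefficients in a flat module.
-/

namespace Groth.Agent.LC16.CechFlat

universe u

set_option autoImplicit false

open CategoryTheory CategoryTheory.Limits MonoidalCategory
open Groth.Agent.DerC41 LC16.CechPairs
open Koszul19 (Ex dd ConeData)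

variable {R : Type u} [CommRing R]

/-- The base case: the module in degree zero is the empty Koszul complex with coefficients. -/
theorem nonempty_nil_iso (M : ModuleCat.{u} R) :
    Nonempty (C ([] : List R) M ≅ DRing.tensorCx (Koszul.koszul R []) M) :=
  ⟨(HomologicalComplex.single (ModuleCat.{u} R) (ComplexShape.up ℤ) 0).mapIso (λ_ M).symm ≪≫
    ((HomologicalComplex.singleMapHomologicalComplex (tensorRight M) (ComplexShape.up ℤ) 0).app
      (ModuleCat.of R R)).symm⟩

theorem nonempty_kos_iso (M : ModuleCat.{u} R) (l : List R) :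
    Nonempty (Kos l (C ([] : List R) M) ≅ DRing.tensorCx (Koszul.koszul R l) M) := by
  induction l with
  | nil => exact nonempty_nil_iso M
  | cons f l ih =>
    obtain ⟨e⟩ := ih
    exact ⟨((kosData f l _).congr e).iso ((Koszul19.consData f l).tensor M)⟩

theorem ex_kos_of_flat (M : ModuleCat.{u} R) [Module.Flat R M] {fs : List R}
    (hfs : LCI.IsKoszulRegularSeq R fs) (q : ℤ) (hq : q ≠ 0) :
    Ex (Kos fs (C ([] : List R) M)) q := by
  obtain ⟨e⟩ := nonempty_kos_iso M fs
  refine Koszul19.Ex.of_iso e.symm ?_
  intro p j hp hj z hz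
  have hex := Module.Flat.rTensor_exact (R := R) (M : Type u)
    ((Koszul19.ex_iff_exact _ p q j hp hj).1 ((Koszul19.isZero_homology_iff_ex _ q).1 (hfs q hq)))
  exact (hex z).1 hz

/-- The extended Cech complex of a Koszul regular sequence with coefficients in a flat module. -/
theorem ex_cech_of_flat (M : ModuleCat.{u} R) [Module.Flat R M] {fs : List R}
    (hfs : LCI.IsKoszulRegularSeq R fs) : ∀ q : ℤ, q ≠ (fs.length : ℤ) → Ex (C fs M) q := by
  suffices H : ∀ n : ℕ, n < fs.length → Ex (C fs M) n by
    intro q hq
    rcases lt_or_ge q 0 with h | h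
    · exact ex_outside fs _ q (Or.inl h)
    rcases lt_or_gt_of_ne hq with h' | h'
    · lift q to ℕ using h
      exact H q (by omega)
    · exact ex_outside fs _ q (Or.inr h')
  intro n
  induction n using Nat.strong_induction_on with | _ n ih => ?_
  intro hn
  by_contra hcon
  have hlow : ∀ q < (n : ℤ), Ex (C fs M) q := fun q hq => by
    rcases lt_or_ge q 0 with h | h
    · exact ex_outside fs _ q (Or.inl h)
    · lift q to ℕ using h
      exact ih q (by omega) (by omega)
  simp only [Koszul19.Ex, not_forall] at hcon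
  obtain ⟨p, j, hp, hj, z, hz, hz'⟩ := hcon
  obtain rfl : p = (n : ℤ) - 1 := by omega
  obtain rfl : j = (n : ℤ) + 1 := by omega
  have hz₀ := exists_killed _ _ _ _ hp hj fs (kills_mem fs _) z hz hz'
  obtain ⟨-, m, p, j, hm, hp, hj, w, hw, hw', -⟩ :=
    kos_survives fs (C fs M) n hlow (· ∈ fs) (fun _ h => h) hz₀
  exact hw' (kos_cech_ex fs _ m (ex_kos_of_flat M hfs m (by omega)) fs (fun _ h => h) p j hp hj w hw)

theorem subsingleton_koszulHLim_of_ex (M : ModuleCat.{u} R) (fs : List R) (i : ℕ)
    (h : Ex (C fs M) i) : Subsingleton (CohIII.koszulHLim fs M i) := by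
  obtain ⟨e⟩ := KosCech41.Compare.nonempty_koszulHLim_equiv M fs i
  have : Subsingleton (KosCech41.Compare.Hch M fs i) := by
    refine subsingleton_of_forall_eq 0 fun x => ?_
    obtain ⟨⟨z, hz⟩, rfl⟩ := Submodule.Quotient.mk_surjective _ x
    exact (Submodule.Quotient.mk_eq_zero _).2
      (LinearMap.mem_range.2 (h _ _ (by omega) rfl z hz))
  exact e.toEquiv.subsingleton

/-- No colimit Koszul cohomology above the length. -/
theorem subsingleton_koszulHLim_of_lt (M : ModuleCat.{u} R) (fs : List R) (i : ℕ)
    (hi : fs.length < i) : Subsingleton (CohIII.koszulHLim fs M i) :=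
  subsingleton_koszulHLim_of_ex M fs i (ex_outside fs M i (Or.inr (by omega)))

/-- No colimit Koszul cohomology outside the length, for a regular sequence and a flat module. -/
theorem subsingleton_koszulHLim_of_flat (M : ModuleCat.{u} R) [Module.Flat R M] {fs : List R}
    (hfs : LCI.IsKoszulRegularSeq R fs) (i : ℕ) (hi : i ≠ fs.length) :
    Subsingleton (CohIII.koszulHLim fs M i) :=
  subsingleton_koszulHLim_of_ex M fs i (ex_cech_of_flat M hfs i (by omega))

end Groth.Agent.LC16.CechFlat
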