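import Groth.Agent.DR40.CechRHom
import Groth.Agent.DR39.Rep
import Groth.Agent.DR39.PC2
import Groth.Agent.LC16.CechFam
import Groth.Agent.LC16.CechRgamma
import Groth.Agent.LC16.Algebraize

/-!
Annihilators of the derived completion of `RΓ_J(M)`.
-/

set_option autoImplicit false
set_option maxHeartbeats 1000000

noncomputable section

universe u

open CategoryTheory CategoryTheory.Limits CategoryTheory.Pretriangulated
attribute [local instance] HasDerivedCategory.standard

namespace Groth.Agent.LC16.ComplKill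

open Groth.Agent.DR39 Groth.Agent.DR40

variable {A : Type u} [CommRing A]

/-- the extended Cech complex is zero in negative degrees -/
theorem isZero_cech_neg (M : ModuleCat.{u} A) :
    ∀ (fs : List A) (i : ℤ), i < 0 → IsZero ((DerCA.extCech M fs).X i)
  | [], i, hi => HomologicalComplex.isZero_single_obj_X _ _ _ _ (by omega)
  | f :: fs, i, hi => by
    refine IsZero.of_iso ?_
      (DerCA.mappingCoconeXIso (DerCA.locCxUnit (Submonoid.powers f) (DerCA.extCech M fs)) i)
    exact (biprod_isZero_iff _ _).2 ⟨isZero_cech_neg M fs i hi,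
      Functor.map_isZero (DerCA.locFunctor (Submonoid.powers f)) (isZero_cech_neg M fs (i - 1) (by omega))⟩

theorem isZero_HF_cech_neg (M : ModuleCat.{u} A) (fs : List A) (i : ℤ) (hi : i < 0) :
    IsZero ((HF A i).obj ((QA A).obj (DerCA.extCech M fs))) :=
  IsZero.of_iso (ShortComplex.isZero_homology_of_isZero_X₂ _ (isZero_cech_neg M fs i hi))
    (HQIso (DerCA.extCech M fs) i)

/-- the map forgetting some of the elements -/
theorem exists_forget (I : Ideal A) (M : ModuleCat.{u} A) (hs : List A) :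
    ∀ gs : List A, (∀ g ∈ gs, g ∈ I) →
      ∃ η : (QA A).obj (DerCA.extCech M (gs ++ hs)) ⟶ (QA A).obj (DerCA.extCech M hs),
        ∀ E, DRing.IsDerivedComplete I E → Function.Bijective (fun g : _ ⟶ E => η ≫ g)
  | [], _ => ⟨𝟙 _, fun E _ => ⟨fun a b h => by simpa using h, fun a => ⟨a, Category.id_comp a⟩⟩⟩
  | f :: gs, hf => by
    obtain ⟨η, hη⟩ := exists_forget I M hs gs fun g hg => hf g (List.mem_cons_of_mem _ hg)
    let C := DerCA.extCech M (gs ++ hs)
    let φ := DerCA.locCxUnit (Submonoid.powers f) C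
    have hor : Orth I ((QA A).obj ((DerCA.locCx (Submonoid.powers f)).obj C)) := by
      let K := (DerCA.locCx (Submonoid.powers f)).obj C
      have : ∀ j, IsIso ((f • 𝟙 K : K ⟶ K).f j) := fun j => by
        rw [DR39.isIso_iff_bijective]
        exact bijective_smul_loc f (C.X j)
      have : IsIso (f • 𝟙 K : K ⟶ K) := HomologicalComplex.Hom.isIso_of_components _
      refine orth_of_bijective f (hf f (List.mem_cons_self ..)) fun n => ?_
      have h2 := (DR39.isIso_iff_bijective (HomologicalComplex.homologyMap (f • 𝟙 K) n)).1 inferInstance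
      let l := (HQIso K n).toLinearEquiv
      rw [show (fun x : Dual.HD A ((QA A).obj K) n => f • x) =
        l.symm ∘ (HomologicalComplex.homologyMap (f • 𝟙 K) n).hom ∘ l from funext fun x => by
          simp [homologyMap_smul_id_apply]]
      exact l.symm.bijective.comp (h2.comp l.bijective)
    refine ⟨(QA A).map (CochainComplex.mappingCocone.fst φ) ≫ η, fun E hE => ?_⟩
    have h1 := bijective_of_orth (CechRgamma.cocone_distinguished φ) hor E hE
    have := h1.comp (hη E hE)
    refine (congrArg Function.Bijective (funext fun g => ?_)).mp this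
    exact (Category.assoc _ _ _).symm

variable (I : Ideal A) [DRing.HasDerivedCompletion I]

/-- completions along maps with bijective restriction to complete objects agree -/
theorem nonempty_compl_iso {K X : Dual.D A} (η : K ⟶ X)
    (hη : ∀ E, DRing.IsDerivedComplete I E → Function.Bijective (fun g : X ⟶ E => η ≫ g)) :
    Nonempty (((DRing.derivedCompletion I).obj K).obj ≅ ((DRing.derivedCompletion I).obj X).obj) := by
  have h : IsCompl I (η ≫ DRing.toDerivedCompletion I X) := by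
    refine ⟨(isCompl_unit I X).1, fun E hE => ?_⟩
    have := (hη E hE).comp ((isCompl_unit I X).2 E hE)
    simpa only [Function.comp_def, Category.assoc] using this
  obtain ⟨e, -⟩ := (isCompl_unit I K).unique h
  exact ⟨e⟩

/-- cohomology of the completion through the Cech complex -/
theorem nonempty_HD_compl_equiv (fs : List A) (hI : Ideal.span {x : A | x ∈ fs} = I) (K : Dual.D A) (n : ℤ) :
    Nonempty (Dual.HD A ((DRing.derivedCompletion I).obj K).obj n ≃ₗ[A]
      ((QA A).obj (DerCA.extCech (ModuleCat.of A A) fs) ⟶ K⟦n⟧)) := by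
  obtain ⟨P, hP, ⟨e⟩⟩ := exists_kinj_rep K
  haveI := hP
  let C := DerCA.extCech (ModuleCat.of A A) fs
  obtain ⟨η, hη⟩ := exists_cech_map I P fs fun f hf => hI ▸ Ideal.subset_span hf
  have hc : IsCompl I (e.inv ≫ η) := by
    refine ⟨dc_of_generators _ hI fun f hf => compD_homCx_of_tors f _ P (tors_extCech _ fs f hf), fun E hE => ?_⟩
    have : Function.Bijective fun g : (QA A).obj P ⟶ E => e.inv ≫ g :=
      ⟨fun a b h => (cancel_epi _).1 h, fun a => ⟨e.hom ≫ a, by simp⟩⟩
    simpa only [Function.comp_def, Category.assoc] using this.comp (hη E hE)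
  obtain ⟨i, -⟩ := (isCompl_unit I K).unique hc
  obtain ⟨l⟩ := nonempty_homology_homCx_equiv C P n
  let eK : (QA A).obj (P⟦n⟧) ≅ K⟦n⟧ :=
    ((QA A).commShiftIso n).app P ≪≫ (shiftFunctor (Dual.D A) n).mapIso e
  exact ⟨((HF A n).mapIso i ≪≫ HQIso (DRing.homCx C P) n).toLinearEquiv ≪≫ₗ l ≪≫ₗ
    Linear.homCongr A (Iso.refl _) eK⟩

omit [DRing.HasDerivedCompletion I] in
/-- bounded objects with killed cohomology are killed by a power -/
theorem exists_pow_kill (f : A) (X : Dual.D A) (a b : ℤ)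
    (hlow : ∀ i, i < a → IsZero ((HF A i).obj X)) (hb : Acyc b X)
    (hf : ∀ i, ∀ x : Dual.HD A X i, f • x = 0) : ∃ N : ℕ, f ^ N • 𝟙 X = 0 := by
  refine induction_homology (P := fun Y : Dual.D A => ∃ N : ℕ, f ^ N • 𝟙 Y = 0) ?_ ?_ a X ?_ ?_ b hb
  · rintro Y Z e ⟨N, hN⟩
    refine ⟨N, ?_⟩
    rw [← cancel_epi e.hom, Linear.comp_smul, Category.comp_id, comp_zero, ← Category.id_comp e.hom,
      ← Linear.smul_comp, hN, zero_comp]
  · rintro T hT ⟨N₁, h₁⟩ ⟨N₃, h₃⟩
    refine ⟨N₁ + N₃, ?_⟩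
    obtain ⟨q, hq⟩ := Triangle.coyoneda_exact₂ T hT (f ^ N₃ • 𝟙 T.obj₂) (by
      rw [Linear.smul_comp, Category.id_comp, ← Category.comp_id T.mor₂, ← Linear.comp_smul, h₃, comp_zero])
    rw [pow_add, mul_smul, hq, ← Linear.comp_smul, ← Category.id_comp T.mor₁, ← Linear.smul_comp, h₁,
      zero_comp, comp_zero]
  · intro Y hY hlowY
    refine ⟨0, (isZero_of_forall fun i => ?_).eq_of_src _ _⟩
    by_cases hi : a ≤ i
    · exact hY i hi
    · obtain ⟨e⟩ := hlowY i (by omega)
      exact (hlow i (by omega)).of_iso e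
  · intro i _
    refine ⟨1, ?_⟩
    have h : f • 𝟙 ((HF A i).obj X) = 0 := by
      ext x; exact hf i x
    rw [pow_one, ← CategoryTheory.Functor.map_id, ← Functor.map_smul, h, Functor.map_zero]

open DerivedCategory DerivedCategory.TStructure in
omit [DRing.HasDerivedCompletion I] in
/-- killing maps into an object whose low cohomology is killed -/
theorem exists_pow_kill_hom (f : A) (C K : Dual.D A) (d b : ℤ)
    (hC : ∀ i, d < i → IsZero ((HF A i).obj C))
    (hK : ∀ i, i < 0 → IsZero ((HF A i).obj K))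
    (hf : ∀ i, i ≤ b → ∀ x : Dual.HD A K i, f • x = 0) :
    ∃ N : ℕ, ∀ (n : ℤ), n + d ≤ b → ∀ g : C ⟶ K⟦n⟧, f ^ N • g = 0 := by
  let T := ((t : Triangulated.TStructure (Dual.D A)).triangleLTGE (b + 1)).obj K
  have hT : T ∈ distinguishedTriangles := t.triangleLTGE_distinguished (b + 1) K
  haveI hLE : T.obj₁.IsLE b := by
    have : T.obj₁.IsLE (b + 1 - 1) := inferInstanceAs (t.IsLE _ (b + 1 - 1))
    simpa using this
  haveI hGE : T.obj₃.IsGE (b + 1) := inferInstanceAs (t.IsGE _ (b + 1))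
  have hlow : ∀ i, i ≤ b → IsIso ((HF A i).map T.mor₁) := fun i hi => by
    haveI : Epi ((HF A i).map T.mor₁) := (HomologySequence.epi_homologyMap_mor₁_iff T hT i).2
      ((T.obj₃.isZero_of_isGE (b + 1) i (by omega)).eq_of_tgt _ _)
    haveI : Mono ((HF A i).map T.mor₁) :=
      (HomologySequence.mono_homologyMap_mor₁_iff T hT (i - 1) i (by omega)).2
        ((T.obj₃.isZero_of_isGE (b + 1) (i - 1) (by omega)).eq_of_src _ _)
    exact isIso_of_mono_of_epi _
  obtain ⟨N, hN⟩ : ∃ N : ℕ, f ^ N • 𝟙 T.obj₁ = 0 := by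
    refine exists_pow_kill f T.obj₁ 0 (b + 1) (fun i hi => ?_)
      (fun i hi => T.obj₁.isZero_of_isLE b i (by omega)) (fun i x => ?_)
    · by_cases hib : i ≤ b
      · exact (hK i hi).of_iso (@asIso _ _ _ _ _ (hlow i hib))
      · exact T.obj₁.isZero_of_isLE b i (by omega)
    · by_cases hib : i ≤ b
      · haveI := hlow i hib
        refine (@asIso _ _ _ _ ((HF A i).map T.mor₁) (hlow i hib)).toLinearEquiv.injective ?_
        rw [map_smul, map_zero]
        exact hf i hib _
      · haveI : Subsingleton (Dual.HD A T.obj₁ i) :=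
          (isZero_HF_iff _ i).1 (T.obj₁.isZero_of_isLE b i (by omega))
        exact Subsingleton.elim _ _
  refine ⟨N, fun n hn g => ?_⟩
  haveI : C.IsLE d := (DerivedCategory.isLE_iff C d).2 hC
  haveI : t.IsLE (C⟦(-n)⟧) (d + n) := t.isLE_shift C d (-n) (d + n) (by omega)
  let e : (K⟦n⟧)⟦(-n)⟧ ≅ T.obj₂ := (shiftFunctorCompIsoId (Dual.D A) n (-n) (by omega)).app K
  let g' : C⟦(-n)⟧ ⟶ T.obj₂ := g⟦(-n)⟧' ≫ e.hom
  obtain ⟨q, hq⟩ := Triangle.coyoneda_exact₂ T hT g'
    (t.zero_of_isLE_of_isGE (g' ≫ T.mor₂) (d + n) (b + 1) (by omega) inferInstance inferInstance)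
  have h : f ^ N • g' = 0 := by
    rw [hq, ← Linear.comp_smul, ← Category.id_comp T.mor₁, ← Linear.smul_comp, hN, zero_comp, comp_zero]
  refine (shiftFunctor (Dual.D A) (-n)).map_injective ?_
  rw [Functor.map_smul, Functor.map_zero, ← cancel_mono e.hom, Linear.smul_comp, zero_comp]
  exact h

omit [DRing.HasDerivedCompletion I] in
theorem isZero_HF_cech_of_cd [IsNoetherianRing A] (fs : List A) (hfs : Ideal.span {x : A | x ∈ fs} = I)
    {d : ℕ} (hd : LocCoh.CdLE A I d) (i : ℤ) (hi : (d : ℤ) < i) :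
    IsZero ((HF A i).obj ((QA A).obj (DerCA.extCech (ModuleCat.of A A) fs))) := by
  obtain ⟨j, rfl⟩ := Int.eq_ofNat_of_zero_le (a := i) (by omega)
  obtain ⟨e⟩ := CechFam.nonempty_equiv fs j A
  haveI : Subsingleton (LocCoh.H (Ideal.span {x : A | x ∈ fs}) j A) :=
    hfs.symm ▸ hd A j (by omega)
  refine (isZero_HF_iff _ _).2 ?_
  exact ((HQIso (DerCA.extCech (ModuleCat.of A A) fs) j).toLinearEquiv ≪≫ₗ e).toEquiv.subsingleton

/-- The annihilation theorem. -/
theorem exists_notMem {ω : Dual.D A} (hω : Dual.IsDualizing A ω) [IsNoetherianRing A] (J : Ideal A)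
    [DRing.HasRgammaI J] (M : Type u) [AddCommGroup M] [Module A M] [Module.Finite A M]
    (p : PrimeSpectrum A) (s d : ℕ) (hd : LocCoh.CdLE A I d)
    (hcond : ∀ p' : PrimeSpectrum A, p' ≤ p → ∀ q : PrimeSpectrum A, p' ≤ q → J ≤ q.asIdeal →
      I ≤ q.asIdeal → ∀ k : ℕ,
      LocCoh.depth (Localization.AtPrime p'.asIdeal) (LocalizedModule p'.asIdeal.primeCompl M) = k →
        ((d + s : ℕ) : ℤ) < k + (DualAnn.mu hω q - DualAnn.mu hω p')) :
    ∃ f : A, f ∉ p.asIdeal ∧ ∀ i : ℤ, i ≤ s → ∀ x : Dual.HD A ((DRing.derivedCompletion I).obj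
      ((DRing.RgammaI J).obj (Dual.inD A M))).obj i, f • x = 0 := by
  classical
  obtain ⟨gs₀, hgs⟩ := exists_list_of_fg (IsNoetherian.noetherian I : I.FG)
  obtain ⟨hl, hhs⟩ := exists_list_of_fg (IsNoetherian.noetherian J : J.FG)
  let gs : List A := 0 :: gs₀
  have hgI : Ideal.span {x : A | x ∈ gs} = I := by
    rw [show {x : A | x ∈ gs} = insert 0 {x | x ∈ gs₀} from by ext; simp [gs], Ideal.span_insert, hgs]
    simp
  have hspan : Ideal.span {x : A | x ∈ gs ++ hl} = I ⊔ J := by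
    rw [show {x : A | x ∈ gs ++ hl} = {x | x ∈ gs} ∪ {x | x ∈ hl} from by ext; simp,
      Ideal.span_union, hgI, hhs]
  -- the annihilator
  let T : Set (PrimeSpectrum A) := PrimeSpectrum.zeroLocus ((I ⊔ J : Ideal A) : Set A)
  obtain ⟨J₁, hJ₁, hk⟩ := DualAnn.exists_ann hω M (T := T) (T' := {q | ¬ q ≤ p})
    (fun r r' h hr hle => hr (((PrimeSpectrum.le_iff_specializes r r').2 h).trans hle)) (d + s)
    (fun p' q hp' hq hpq k hk => hcond p' (not_not.1 hp') q hpq
      (fun a ha => hq (Ideal.mem_sup_right ha)) (fun a ha => hq (Ideal.mem_sup_left ha)) k hk)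
  obtain ⟨f, hfJ, hfp⟩ := SetLike.not_le_iff_exists.1 (fun h : J₁ ≤ p.asIdeal => hJ₁ h le_rfl)
  have hc : ∀ a ≤ d + s, SuppStable.Cond (T := T) (I ⊔ J) a M := fun a _ =>
    Algebraize.cond_of_kills M (L := ⊥)
      (fun b hb x => by rw [(Submodule.mem_bot A).1 hb, zero_smul]) fun r hr _ b hb => hr hb
  -- the torsion complex of the sum
  let K := (QA A).obj (DerCA.extCech (ModuleCat.of A M) (gs ++ hl))
  have hKlow : ∀ i, i < 0 → IsZero ((HF A i).obj K) := isZero_HF_cech_neg _ _
  have hKf : ∀ i, i ≤ ((d + s : ℕ) : ℤ) → ∀ x : Dual.HD A K i, f • x = 0 := fun i hi x => by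
    rcases lt_or_ge i 0 with hneg | hpos
    · haveI : Subsingleton (Dual.HD A K i) := (isZero_HF_iff _ _).1 (hKlow i hneg)
      exact Subsingleton.elim _ _
    obtain ⟨j, rfl⟩ := Int.eq_ofNat_of_zero_le hpos
    obtain ⟨e⟩ := CechFam.nonempty_equiv (gs ++ hl) j M
    let e' := (HQIso (DerCA.extCech (ModuleCat.of A M) (gs ++ hl)) j).toLinearEquiv ≪≫ₗ e
    refine e'.injective ?_
    rw [map_smul, map_zero]
    have key : ∀ I' : Ideal A, I' = I ⊔ J → ∀ y : LocCoh.H I' j M, f • y = 0 := by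
      rintro I' rfl y
      refine (SuppStable.toT_bijective (T := T) le_rfl j M fun a ha => hc a (by omega)).1 ?_
      rw [map_smul, hk j (by omega) f hfJ, map_zero]
    exact key _ hspan (e' x)
  obtain ⟨N, hN⟩ := exists_pow_kill_hom f ((QA A).obj (DerCA.extCech (ModuleCat.of A A) gs)) K d
    ((d + s : ℕ) : ℤ) (isZero_HF_cech_of_cd I gs hgI hd) hKlow hKf
  refine ⟨f ^ N, fun h => hfp (p.isPrime.mem_of_pow_mem N h), fun i hi x => ?_⟩
  obtain ⟨η, hη⟩ := exists_forget I (ModuleCat.of A M) hl gs fun g hg => hgI ▸ Ideal.subset_span hg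
  obtain ⟨e₁⟩ := nonempty_compl_iso I η hη
  obtain ⟨e₂⟩ := CechRgamma.nonempty_cech_Rgamma J hl hhs.le (k := 1) (by rw [pow_one, hhs])
    (ModuleCat.of A M)
  obtain ⟨l⟩ := nonempty_HD_compl_equiv I gs hgI K i
  let C := DRing.derivedCompletion I ⋙ ObjectProperty.ι _
  let e₃ : C.obj K ≅ C.obj ((DRing.RgammaI J).obj (Dual.inD A M)) := e₁ ≪≫ C.mapIso e₂
  let L : Dual.HD A ((DRing.derivedCompletion I).obj
      ((DRing.RgammaI J).obj (Dual.inD A M))).obj i ≃ₗ[A] _ :=
    ((HF A i).mapIso e₃).symm.toLinearEquiv ≪≫ₗ l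
  refine L.injective ?_
  rw [map_smul, map_zero]
  exact hN i (by push_cast; omega) (L x)

end Groth.Agent.LC16.ComplKill
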