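import Groth.Agent.LC16.HomGood
import Groth.Agent.LC16.ComplKill
import Mathlib.Algebra.Homology.DerivedCategory.SingleTriangle
import Mathlib.Algebra.Category.ModuleCat.Biproducts

/-!
Triangles of extended Cech complexes attached to short exact sequences of modules.
-/

set_option autoImplicit false
set_option linter.style.haveILetI false
set_option maxHeartbeats 1000000

noncomputable section

universe u

open CategoryTheory CategoryTheory.Limits CategoryTheory.Pretriangulated
open scoped Pointwise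
attribute [local instance] HasDerivedCategory.standard

namespace Groth.Agent.LC16.CechTri

open Groth.Agent.DR39 Groth.Agent.LC16.CechRgamma

variable {A : Type u} [CommRing A]

/-- the Cech complex in the derived category -/
abbrev XC (M : ModuleCat.{u} A) (gs : List A) : Dual.D A := (QA A).obj (DerCA.extCech M gs)

/-- a triangle from a map of injective representatives -/
theorem exists_triangle_of_rep [IsNoetherianRing A] {S : ShortComplex (ModuleCat.{u} A)}
    (hS : S.ShortExact) (gs : List A) {E₁ E₂ : DRing.Cx A} (g : E₁ ⟶ E₂)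
    (hE₁ : ∀ i, Module.Injective A (E₁.X i)) (hE₂ : ∀ i, Module.Injective A (E₂.X i))
    (e₁ : (DerivedCategory.singleFunctor (ModuleCat.{u} A) 0).obj S.X₁ ≅ (QA A).obj E₁)
    (e₂ : (DerivedCategory.singleFunctor (ModuleCat.{u} A) 0).obj S.X₂ ≅ (QA A).obj E₂)
    (h : (DerivedCategory.singleFunctor (ModuleCat.{u} A) 0).map S.f ≫ e₂.hom = e₁.hom ≫ (QA A).map g) :
    ∃ T ∈ distTriang (Dual.D A),
      ∃ (a₁ : T.obj₁ ≅ (QA A).obj ((gCx (Ideal.span {x | x ∈ gs})).obj E₁))
        (a₂ : T.obj₂ ≅ (QA A).obj ((gCx (Ideal.span {x | x ∈ gs})).obj E₂)),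
        T.mor₁ ≫ a₂.hom = a₁.hom ≫ (QA A).map ((gCx (Ideal.span {x | x ∈ gs})).map g) ∧
        Nonempty (T.obj₃ ≅ XC S.X₃ gs) := by
  let G := gCx (Ideal.span {x | x ∈ gs})
  let T₀ := hS.singleTriangle
  let T₁ := DerivedCategory.Q.mapTriangle.obj (CochainComplex.mappingCone.triangle g)
  have hT₁ : T₁ ∈ distTriang (Dual.D A) :=
    (DerivedCategory.mem_distTriang_iff _).2 ⟨_, _, g, ⟨Iso.refl _⟩⟩
  have e := isoTriangleOfIso₁₂ T₀ T₁ hS.singleTriangle_distinguished hT₁ e₁ e₂ h
  have hcone : ∀ i, Module.Injective A ((CochainComplex.mappingCone g).X i) := fun i => by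
    haveI := Module.injective_object_of_injective_module A (E₁.X (i + 1))
      (inj := hE₁ (i + 1))
    haveI := Module.injective_object_of_injective_module A (E₂.X i) (inj := hE₂ i)
    haveI : Injective (ModuleCat.of A (E₁.X (i + 1))) := by assumption
    haveI : Injective ((CochainComplex.mappingCone g).X i) :=
      Injective.of_iso (HomologicalComplex.homotopyCofiber.XIsoBiprod g i (i + 1) (by simp)).symm
        inferInstance
    exact Module.injective_module_of_injective_object A _
  obtain ⟨a⟩ := nonempty_cech_iso S.X₃ (CochainComplex.mappingCone g) hcone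
    ((SingleFunctorsIso.app S.X₃) ≪≫ Triangle.π₃.mapIso e) gs
  refine ⟨DerivedCategory.Q.mapTriangle.obj (CochainComplex.mappingCone.triangle (G.map g)),
    (DerivedCategory.mem_distTriang_iff _).2 ⟨_, _, _, ⟨Iso.refl _⟩⟩, Iso.refl _, Iso.refl _, ?_, ⟨?_⟩⟩
  · exact (Category.comp_id _).trans (Category.id_comp _).symm
  · exact (QA A).mapIso (CochainComplex.mappingCone.mapHomologicalComplexIso g
      (DRing.gammaI (Ideal.span {x | x ∈ gs}))).symm ≪≫ a.symm
where
  /-- the two descriptions of a module in degree zero -/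
  SingleFunctorsIso.app (M : ModuleCat.{u} A) :
      DerivedCategory.Q.obj ((HomologicalComplex.single _ (ComplexShape.up ℤ) 0).obj M) ≅
        (DerivedCategory.singleFunctor (ModuleCat.{u} A) 0).obj M :=
    ((DerivedCategory.singleFunctorIsoCompQ (ModuleCat.{u} A) 0).app M).symm

/-- an injective representative of a module with its comparison -/
theorem exists_rep (M : ModuleCat.{u} A) : ∃ E : DRing.Cx A, E.IsKInjective ∧
    (∀ i, Module.Injective A (E.X i)) ∧
      Nonempty ((DerivedCategory.singleFunctor (ModuleCat.{u} A) 0).obj M ≅ (QA A).obj E) := by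
  obtain ⟨E, r, hKI, hr, -, hE⟩ := CohDer42.exists_kinjective_resolution
    ((HomologicalComplex.single _ (ComplexShape.up ℤ) 0).obj M)
  have hiso : IsIso (DerivedCategory.Q.map r) := (DerivedCategory.isIso_Q_map_iff_quasiIso _ r).2 hr
  exact ⟨E, hKI, fun i => haveI := hE i; Module.injective_module_of_injective_object A (E.X i),
    ⟨(DerivedCategory.singleFunctorIsoCompQ (ModuleCat.{u} A) 0).app M ≪≫ @asIso _ _ _ _ (DerivedCategory.Q.map r) hiso⟩⟩

theorem nonempty_cech_gCx [IsNoetherianRing A] (M : ModuleCat.{u} A) (gs : List A) {E : DRing.Cx A}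
    (hE : ∀ i, Module.Injective A (E.X i))
    (e : (DerivedCategory.singleFunctor (ModuleCat.{u} A) 0).obj M ≅ (QA A).obj E) :
    Nonempty (XC M gs ≅ (QA A).obj ((gCx (Ideal.span {x | x ∈ gs})).obj E)) :=
  nonempty_cech_iso M E hE
    (((DerivedCategory.singleFunctorIsoCompQ (ModuleCat.{u} A) 0).app M).symm ≪≫ e) gs

/-- the triangle of Cech complexes of a short exact sequence -/
theorem exists_triangle [IsNoetherianRing A] {S : ShortComplex (ModuleCat.{u} A)}
    (hS : S.ShortExact) (gs : List A) : ∃ T ∈ distTriang (Dual.D A),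
      Nonempty (T.obj₁ ≅ XC S.X₁ gs) ∧ Nonempty (T.obj₂ ≅ XC S.X₂ gs) ∧
        Nonempty (T.obj₃ ≅ XC S.X₃ gs) := by
  obtain ⟨E₁, -, hE₁, ⟨e₁⟩⟩ := exists_rep S.X₁
  obtain ⟨E₂, hK, hE₂, ⟨e₂⟩⟩ := exists_rep S.X₂
  obtain ⟨g, hg⟩ := Q_map_surjective_to E₁ E₂
    (e₁.inv ≫ (DerivedCategory.singleFunctor (ModuleCat.{u} A) 0).map S.f ≫ e₂.hom)
  obtain ⟨T, hT, a₁, a₂, -, h₃⟩ := exists_triangle_of_rep hS gs g hE₁ hE₂ e₁ e₂ (by
    rw [hg, Iso.hom_inv_id_assoc])
  obtain ⟨b₁⟩ := nonempty_cech_gCx S.X₁ gs hE₁ e₁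
  obtain ⟨b₂⟩ := nonempty_cech_gCx S.X₂ gs hE₂ e₂
  exact ⟨T, hT, ⟨a₁ ≪≫ b₁.symm⟩, ⟨a₂ ≪≫ b₂.symm⟩, h₃⟩

/-- the triangle of multiplication by a nonzerodivisor -/
theorem exists_triangle_smul [IsNoetherianRing A] (M : Type u) [AddCommGroup M] [Module A M] (x : A)
    (hx : IsSMulRegular M x) (gs : List A) : ∃ T ∈ distTriang (Dual.D A),
      ∃ (a₁ : T.obj₁ ≅ XC (ModuleCat.of A M) gs) (a₂ : T.obj₂ ≅ XC (ModuleCat.of A M) gs),
        T.mor₁ ≫ a₂.hom = x • a₁.hom ∧
        Nonempty (T.obj₃ ≅ XC (ModuleCat.of A (M ⧸ x • (⊤ : Submodule A M))) gs) := by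
  obtain ⟨hinj, hex⟩ := LC17.regular_ses hx
  have hS := LC17.shortExact_of_exact _ _ hinj (Submodule.mkQ_surjective _) hex
  have hlsmul : (ModuleCat.ofHom (LinearMap.lsmul A M x) : ModuleCat.of A M ⟶ ModuleCat.of A M) =
      x • 𝟙 (ModuleCat.of A M) := rfl
  obtain ⟨E, -, hE, ⟨e⟩⟩ := exists_rep (ModuleCat.of A M)
  obtain ⟨T, hT, a₁, a₂, hm, h₃⟩ := exists_triangle_of_rep hS gs (x • 𝟙 E) hE hE e e (by
    dsimp only
    rw [hlsmul, Functor.map_smul, Functor.map_smul, CategoryTheory.Functor.map_id, CategoryTheory.Functor.map_id,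
      Linear.comp_smul, Linear.smul_comp, Category.id_comp, Category.comp_id])
  obtain ⟨b⟩ := nonempty_cech_gCx (ModuleCat.of A M) gs hE e
  refine ⟨T, hT, a₁ ≪≫ b.symm, a₂ ≪≫ b.symm, ?_, h₃⟩
  rw [RgammaVanish.gamma_mul, Functor.map_smul, CategoryTheory.Functor.map_id, Linear.comp_smul,
    Category.comp_id] at hm
  rw [Iso.trans_hom, Iso.trans_hom, ← Category.assoc, hm, Linear.smul_comp]

theorem smul_localized (S : Submonoid A) (a : A) {N : Type u} [AddCommGroup N] [Module A N]
    (h : ∀ n : N, a • n = 0) (y : LocalizedModule S N) : a • y = 0 := by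
  induction y using LocalizedModule.induction_on with | h m s => ?_
  rw [LocalizedModule.smul'_mk, h m, LocalizedModule.zero_mk]

/-- elements killing the module kill the Cech complex -/
theorem smul_term_eq_zero (M : ModuleCat.{u} A) (a : A) (ha : ∀ m : M, a • m = 0) :
    ∀ (fs : List A) (i : ℤ) (x : (DerCA.extCech M fs).X i), a • x = 0
  | [], i, x => by
    by_cases h : i = 0
    · subst h
      refine (HomologicalComplex.singleObjXSelf (ComplexShape.up ℤ) 0 M).toLinearEquiv.injective ?_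
      exact ((map_smul _ a x).trans (ha _)).trans (map_zero _).symm
    · haveI : Subsingleton ((DerCA.extCech M []).X i) := ModuleCat.subsingleton_of_isZero
        (HomologicalComplex.isZero_single_obj_X _ _ _ _ h)
      exact Subsingleton.elim _ _
  | f :: fs, i, x => by
    let C := DerCA.extCech M fs
    let e := (DerCA.mappingCoconeXIso (DerCA.locCxUnit (Submonoid.powers f) C) i ≪≫
      ModuleCat.biprodIsoProd _ _).toLinearEquiv
    refine e.injective ?_
    refine (map_smul e a x).trans (Eq.trans ?_ (map_zero e).symm)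
    refine Prod.ext (smul_term_eq_zero M a ha fs i _) ?_
    exact smul_localized (Submonoid.powers f) a (smul_term_eq_zero M a ha fs (i - 1)) _

theorem smul_id_eq_zero (M : ModuleCat.{u} A) (a : A) (ha : ∀ m : M, a • m = 0) (fs : List A) :
    a • 𝟙 (XC M fs) = 0 := by
  have h : a • 𝟙 (DerCA.extCech M fs) = 0 :=
    HomologicalComplex.hom_ext _ _ fun i => ModuleCat.hom_ext
      (LinearMap.ext fun x => smul_term_eq_zero M a ha fs i x)
  rw [← CategoryTheory.Functor.map_id, ← Functor.map_smul, h, Functor.map_zero]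

/-- the Cech complex of a module killed by powers of the elements -/
theorem nonempty_iso_of_nil (M : ModuleCat.{u} A) :
    ∀ fs : List A, (∀ f ∈ fs, ∃ N : ℕ, ∀ m : M, f ^ N • m = 0) →
      Nonempty (XC M fs ≅ (DerivedCategory.singleFunctor (ModuleCat.{u} A) 0).obj M)
  | [], _ => ⟨((DerivedCategory.singleFunctorIsoCompQ (ModuleCat.{u} A) 0).app M).symm⟩
  | f :: fs, h => by
    obtain ⟨e⟩ := nonempty_iso_of_nil M fs fun g hg => h g (List.mem_cons_of_mem _ hg)
    obtain ⟨N, hN⟩ := h f (List.mem_cons_self ..)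
    let C := DerCA.extCech M fs
    let φ := DerCA.locCxUnit (Submonoid.powers f) C
    have hz : IsZero ((QA A).obj ((DerCA.locCx (Submonoid.powers f)).obj C)) := by
      refine Functor.map_isZero _ ?_
      rw [IsZero.iff_id_eq_zero]
      refine HomologicalComplex.hom_ext _ _ fun i => ?_
      have hs : Subsingleton (LocalizedModule (Submonoid.powers f) (C.X i)) :=
        LocalizedModule.subsingleton_iff.2 fun m =>
          ⟨f ^ N, ⟨N, rfl⟩, smul_term_eq_zero M _ hN fs i m⟩
      exact (@ModuleCat.isZero_of_subsingleton A _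
        (ModuleCat.of A (LocalizedModule (Submonoid.powers f) (C.X i))) hs).eq_of_src _ _
    have hT := CechRgamma.cocone_distinguished φ
    have hi : IsIso ((QA A).map (CochainComplex.mappingCocone.fst φ)) :=
      (Triangle.isZero₃_iff_isIso₁ _ hT).1 hz
    exact ⟨@asIso _ _ _ _ _ hi ≪≫ e⟩

end Groth.Agent.LC16.CechTri
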