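import Groth.Agent.LC16.CechFam

/-!
The extended Cech complex of a module on which one of the elements is invertible is exact.
-/

namespace Groth.Agent.LC16.CechVanish

universe u

set_option autoImplicit false

open CategoryTheory CategoryTheory.Limits CechPairs

variable {R : Type u} [CommRing R]

theorem bijective_loc {N : Type u} [AddCommGroup N] [Module R N] (S : Submonoid R) (g : R)
    (h : Function.Bijective fun x : N => g • x) :
    Function.Bijective fun x : LocalizedModule S N => g • x := by
  refine ⟨fun x y hxy => ?_, fun y => ?_⟩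
  · induction x using LocalizedModule.induction_on with | h a s => ?_
    induction y using LocalizedModule.induction_on with | h b t => ?_
    simp only [LocalizedModule.smul'_mk, LocalizedModule.mk_eq] at hxy ⊢
    obtain ⟨r, hr⟩ := hxy
    refine ⟨r, h.1 ?_⟩
    simp only [Submonoid.smul_def] at hr ⊢
    rw [smul_comm g, smul_comm g (t : R), hr, smul_comm g, smul_comm g (s : R)]
  · induction y using LocalizedModule.induction_on with | h b t => ?_
    obtain ⟨a, ha⟩ := h.2 b
    exact ⟨LocalizedModule.mk a t, by simp only [LocalizedModule.smul'_mk]; exact congrArg (LocalizedModule.mk · t) ha⟩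

theorem bijective_term {M : ModuleCat.{u} R} (g : R) (h : Function.Bijective fun m : M => g • m) :
    ∀ (fs : List R) (q : ℤ), Function.Bijective fun x : (C fs M).X q => g • x := by
  intro fs
  induction fs with
  | nil =>
    intro q
    rcases eq_or_ne q 0 with rfl | hq
    · refine ⟨fun x y hxy => (nilEquiv M).injective (h.1 ?_), fun y => ?_⟩
      · simpa only [map_smul] using congrArg (nilEquiv M) hxy
      · obtain ⟨m, hm⟩ := h.2 (nilEquiv M y)
        exact ⟨(nilEquiv M).symm m, (nilEquiv M).injective (by
          simpa only [map_smul, LinearEquiv.apply_symm_apply] using hm)⟩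
    · have := subsingleton_nil M hq
      exact ⟨fun x y _ => Subsingleton.elim x y, fun y => ⟨0, Subsingleton.elim _ _⟩⟩
  | cons f fs ih =>
    intro q
    have hb := bijective_loc (Submonoid.powers f) g (ih (q - 1))
    let e := pairs f fs M q (q - 1) (by omega)
    refine ⟨fun x y hxy => e.injective (Prod.ext ((ih q).1 ?_) (hb.1 ?_)), fun y => ?_⟩
    · simpa only [map_smul, Prod.smul_fst] using congrArg (fun v => (e v).1) hxy
    · simpa only [map_smul, Prod.smul_snd] using congrArg (fun v => (e v).2) hxy
    · obtain ⟨a, ha⟩ := (ih q).2 (e y).1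
      obtain ⟨b, hb⟩ := hb.2 (e y).2
      exact ⟨e.symm (a, b), e.injective (by
        rw [map_smul, LinearEquiv.apply_symm_apply]
        exact Prod.ext ha hb)⟩

theorem mk_bijective {N : Type u} [AddCommGroup N] [Module R N] (f : R)
    (h : Function.Bijective fun x : N => f • x) :
    Function.Bijective (LocalizedModule.mkLinearMap (Submonoid.powers f) N) := by
  have hk : ∀ k : ℕ, Function.Bijective fun x : N => f ^ k • x := fun k => by
    induction k with
    | zero =>
      simp only [pow_zero, one_smul]
      exact Function.bijective_id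
    | succ k ih =>
      have : (fun x : N => f ^ (k + 1) • x) = (fun x => f • x) ∘ fun x => f ^ k • x :=
        funext fun x => by simp [pow_succ', mul_smul]
      rw [this]
      exact h.comp ih
  refine ⟨fun x y hxy => ?_, fun z => ?_⟩
  · obtain ⟨⟨_, k, rfl⟩, hr⟩ := LocalizedModule.mk_eq.1 hxy
    simp only [one_smul, Submonoid.smul_def] at hr
    exact (hk k).1 hr
  · induction z using LocalizedModule.induction_on with | h b t => ?_
    obtain ⟨_, k, rfl⟩ := t
    obtain ⟨a, ha⟩ := (hk k).2 b
    refine ⟨a, LocalizedModule.mk_eq.2 ⟨1, ?_⟩⟩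
    simp only [one_smul, Submonoid.smul_def]
    exact ha

theorem exact_all {M : ModuleCat.{u} R} (g : R) (h : Function.Bijective fun m : M => g • m) :
    ∀ (fs : List R), g ∈ fs → ∀ (p q r : ℤ), p + 1 = q → q + 1 = r → ∀ z : (C fs M).X q,
      ((C fs M).d q r).hom z = 0 → ∃ w, ((C fs M).d p q).hom w = z := by
  intro fs
  induction fs with
  | nil => exact fun hg => absurd hg List.not_mem_nil
  | cons f fs ih =>
    intro hg p q r hpq hqr z hz
    obtain ⟨ha, hb⟩ := (cycle_iff f fs M q r p hqr hpq z).1 hz
    set a := (pairs f fs M q p hpq z).1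
    set b := (pairs f fs M q p hpq z).2
    let D (i j : ℤ) := IsLocalizedModule.map (Submonoid.powers f)
      (LocalizedModule.mkLinearMap (Submonoid.powers f) ((C fs M).X i))
      (LocalizedModule.mkLinearMap (Submonoid.powers f) ((C fs M).X j)) ((C fs M).d i j).hom
    change -LocalizedModule.mk a (1 : Submonoid.powers f) - D p q b = 0 at hb
    have hDmk : ∀ (i j : ℤ) (x : (C fs M).X i) (s : Submonoid.powers f),
        D i j (LocalizedModule.mk x s) = LocalizedModule.mk (((C fs M).d i j).hom x) s :=
      fun i j x s => by
        rw [IsLocalizedModule.mk_eq_mk', IsLocalizedModule.mk_eq_mk']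
        exact IsLocalizedModule.map_mk' _ _ _ _ _ _
    suffices main : ∃ (w' : (C fs M).X p) (v : LocalizedModule (Submonoid.powers f)
        ((C fs M).X (p - 1))), ((C fs M).d p q).hom w' = a ∧
          -LocalizedModule.mk w' (1 : Submonoid.powers f) - D (p - 1) p v = b by
      obtain ⟨w', v, hw', hv⟩ := main
      refine ⟨(pairs f fs M p (p - 1) (by omega)).symm (w', v),
        (pairs f fs M q p hpq).injective ?_⟩
      rw [pairs_d f fs M p q (p - 1) hpq (by omega), LinearEquiv.apply_symm_apply]
      exact Prod.ext hw' hv
    by_cases hfg : g = f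
    · subst hfg
      have hφ := fun i => mk_bijective g (bijective_term g h fs i)
      obtain ⟨w, hw⟩ := (hφ p).2 (-b)
      rw [LocalizedModule.mkLinearMap_apply] at hw
      refine ⟨w, 0, (hφ q).1 ?_, by rw [hw, map_zero, sub_zero, neg_neg]⟩
      rw [LocalizedModule.mkLinearMap_apply, LocalizedModule.mkLinearMap_apply, ← hDmk, hw,
        map_neg]
      linear_combination (norm := module) hb
    · have hg' : g ∈ fs := (List.mem_cons.1 hg).resolve_left hfg
      obtain ⟨w, hw⟩ := ih hg' p q r hpq hqr _ ha
      have hy : D p q (b + LocalizedModule.mk w 1) = 0 := by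
        rw [map_add, hDmk, hw]
        linear_combination (norm := module) (-1 : R) • hb
      generalize hY : b + LocalizedModule.mk w 1 = y at hy
      induction y using LocalizedModule.induction_on with | h u s => ?_
      rw [hDmk, ← LocalizedModule.zero_mk s, LocalizedModule.mk_eq] at hy
      obtain ⟨t, ht⟩ := hy
      simp only [Submonoid.smul_def, smul_zero] at ht
      obtain ⟨v, hv⟩ := ih hg' (p - 1) p q (by omega) hpq ((t : R) • (s : R) • u)
        (by simpa only [map_smul] using ht)
      refine ⟨w, -LocalizedModule.mk v (t * s * s), hw, ?_⟩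
      have hy' : LocalizedModule.mk u s =
          LocalizedModule.mk ((t : R) • (s : R) • u) (t * s * s) := by
        rw [LocalizedModule.mk_eq]
        refine ⟨1, ?_⟩
        simp only [Submonoid.smul_def, one_smul, Submonoid.coe_mul, smul_smul]
        ring_nf
      rw [map_neg, hDmk, hv, ← hy', ← hY]
      abel

theorem isZero_homology {M : ModuleCat.{u} R} (g : R) (h : Function.Bijective fun m : M => g • m)
    (fs : List R) (hg : g ∈ fs) (q : ℤ) : IsZero ((C fs M).homology q) := by
  rw [Koszul19.isZero_homology_iff_ex]
  exact fun p j hp hj z hz => exact_all g h fs hg p q j hp hj z hz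

end Groth.Agent.LC16.CechVanish
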