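import Groth.Agent.LC16.DerivedGamma
import Groth.Prelude.Def_DualLC

/-!
Local cohomology classes of torsion cocycles in an injective resolution.
-/

namespace Groth.Agent.LC16.CocycleClass

universe u

set_option autoImplicit false

open CategoryTheory CategoryTheory.Limits Opposite LC15 DerivedGamma

variable {R : Type u} [CommRing R] {M : Type u} [AddCommGroup M] [Module R M]
  (J : InjectiveResolution (ModuleCat.of R M)) (I : Ideal R)

/-- torsion cocycles -/
def Z (i : ℕ) : Submodule R (J.cocomplex.X i) :=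
  gamma I (J.cocomplex.X i) ⊓ LinearMap.ker (J.cocomplex.d i (i + 1)).hom

/-- torsion coboundaries -/
def IsBd : (i : ℕ) → J.cocomplex.X i → Prop
  | 0, z => z = 0
  | j + 1, z => ∃ w ∈ gamma I (J.cocomplex.X j), (J.cocomplex.d j (j + 1)).hom w = z

lemma zval_mem_Z (i : ℕ) (c : (gCx I J).cycles i) : zval I J i c ∈ Z J I i :=
  ⟨zval_mem I J i c, LinearMap.mem_ker.mpr (zval_d I J i c)⟩

/-- cycles are torsion cocycles -/
noncomputable def cyclesEquiv (i : ℕ) : (gCx I J).cycles i ≃ₗ[R] Z J I i :=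
  LinearEquiv.ofBijective ((zval I J i).codRestrict _ (zval_mem_Z J I i))
    ⟨fun _ _ h => zval_injective I J i (congrArg (fun w : Z J I i => (w : J.cocomplex.X i)) h), fun z => by
      obtain ⟨c, hc⟩ := exists_cycle I J i z.1 z.2.1 (LinearMap.mem_ker.mp z.2.2)
      exact ⟨c, Subtype.ext hc⟩⟩

/-- the class of a torsion cocycle -/
noncomputable def clsL (i : ℕ) : Z J I i →ₗ[R] LocCoh.H I i M :=
  (cyclesToH I J i).hom ∘ₗ (cyclesEquiv J I i).symm.toLinearMap

lemma clsL_eq (i : ℕ) (z : Z J I i) {n : ℕ} (h : ∀ a ∈ I ^ n, a • z.1 = 0) :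
    clsL J I i z = cls I J i z.1 n h (LinearMap.mem_ker.mp z.2.2) := by
  obtain ⟨c, rfl⟩ := (cyclesEquiv J I i).surjective z
  simp only [clsL, LinearMap.comp_apply, LinearEquiv.coe_toLinearMap,
    LinearEquiv.symm_apply_apply]
  exact cyclesToH_apply I J i c h

lemma clsL_surjective (i : ℕ) : Function.Surjective (clsL J I i) := by
  intro y
  obtain ⟨x, rfl⟩ := (homologyToH_bijective I J i).2 y
  obtain ⟨c, rfl⟩ := (ModuleCat.epi_iff_surjective ((gCx I J).homologyπ i)).1 inferInstance x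
  refine ⟨cyclesEquiv J I i c, ?_⟩
  simp only [clsL, LinearMap.comp_apply, LinearEquiv.coe_toLinearMap,
    LinearEquiv.symm_apply_apply]
  exact (ConcreteCategory.congr_hom (homologyπ_homologyToH I J i) c).symm

lemma clsL_eq_zero_iff (i : ℕ) (z : Z J I i) : clsL J I i z = 0 ↔ IsBd J I i z.1 := by
  obtain ⟨n, hn⟩ := z.2.1
  rw [clsL_eq J I i z hn]
  constructor
  · intro hx
    obtain ⟨m, hm, hm'⟩ := (toH_eq_zero_iff I i M _).1 hx
    replace hm' := (J.mk₀_comp_extMk (qf I z.1 hn) (i + 1) rfl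
      (qf_comp_d I J i hn (LinearMap.mem_ker.mp z.2.2)) (qmap I hm)).symm.trans hm'
    have hv : (qmap I hm ≫ qf I z.1 hn).hom (Submodule.Quotient.mk 1) = z.1 := one_smul R _
    rcases i with - | p
    · have h0 := extMk_zero_degree_eq_zero J _ _ hm'
      rw [h0] at hv
      exact hv.symm
    · obtain ⟨g, hg⟩ := (J.extMk_eq_zero_iff _ _ rfl _ p rfl).1 hm'
      exact ⟨g.hom (Submodule.Quotient.mk 1), ⟨m, kills I g⟩,
        (congr(($hg).hom (Submodule.Quotient.mk 1))).trans hv⟩
  · intro h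
    rcases i with - | p
    · have h' : z = 0 := Subtype.ext h
      rw [← clsL_eq J I 0 z hn, h', map_zero]
    · obtain ⟨w, ⟨m, hm⟩, hw⟩ := h
      have hk : ∀ a ∈ I ^ m, a • z.1 = 0 := fun a ha => by
        rw [← hw, ← map_smul, hm a ha, map_zero]
      rw [cls_eq I J (p + 1) rfl hn hk (LinearMap.mem_ker.mp z.2.2) (LinearMap.mem_ker.mp z.2.2)]
      refine (congrArg (toH I (p + 1) M m) ((J.extMk_eq_zero_iff _ _ rfl _ p rfl).2
        ⟨qf I w hm, ?_⟩)).trans (map_zero _)
      refine quotPow_hom_ext I ?_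
      change (J.cocomplex.d p (p + 1)).hom ((1 : R) • w) = (1 : R) • z.1
      rw [map_smul, hw]

section change

variable {I} {I' : Ideal R}

/-- projection between powers of two ideals -/
noncomputable def qle (h : I ≤ I') (n : ℕ) : quotPow I n ⟶ quotPow I' n :=
  ModuleCat.ofHom (Submodule.factor (Ideal.pow_right_mono h n))

lemma HmapOfLE_toH (h : I ≤ I') (i n : ℕ)
    (x : Abelian.Ext (quotPow I' n) (ModuleCat.of R M) i) :
    ((Dual2.HmapOfLE h i).app (ModuleCat.of R M)).hom (toH I' i M n x) =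
      toH I i M n ((Abelian.Ext.mk₀ (qle h n)).comp x (zero_add i)) := by
  obtain ⟨z, rfl⟩ := (extEquiv (quotPow I' n) (ModuleCat.of R M) i).surjective x
  refine (congrArg _ (hCocone_ι_apply I' i M n z).symm).trans ?_
  refine Eq.trans ?_ (congrArg (toH I i M n) (extEquiv_naturality_left (qle h n) _ i z))
  refine Eq.trans ?_ (hCocone_ι_apply I i M n _)
  have e : colimit.ι (localCohomology.diagram (localCohomology.idealPowersDiagram I') i)
      (op (op n)) ≫ Dual2.HmapOfLE h i =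
      (Functor.whiskerRight (NatTrans.op (Dual2.quotMapOfLE h))
        (Ext R (ModuleCat.{u} R) i)).app (op (op n)) ≫
      colimit.ι (localCohomology.diagram (localCohomology.idealPowersDiagram I) i) (op (op n)) :=
    ι_colimMap _ _
  exact congr(($e).app (ModuleCat.of R M) z)

lemma gamma_antitone (h : I ≤ I') (X : Type u) [AddCommGroup X] [Module R X] :
    gamma I' X ≤ gamma I X :=
  fun _ ⟨n, hn⟩ => ⟨n, fun a ha => hn a (Ideal.pow_right_mono h n ha)⟩

lemma Z_antitone (h : I ≤ I') (i : ℕ) : Z J I' i ≤ Z J I i :=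
  inf_le_inf (gamma_antitone h _) le_rfl

lemma HmapOfLE_clsL (h : I ≤ I') (i : ℕ) (z : Z J I' i) :
    ((Dual2.HmapOfLE h i).app (ModuleCat.of R M)).hom (clsL J I' i z) =
      clsL J I i ⟨z.1, Z_antitone J h i z.2⟩ := by
  obtain ⟨n, hn⟩ := z.2.1
  have hn' : ∀ a ∈ I ^ n, a • z.1 = 0 := fun a ha => hn a (Ideal.pow_right_mono h n ha)
  rw [clsL_eq J I' i z hn, clsL_eq J I i ⟨z.1, Z_antitone J h i z.2⟩ (n := n) hn']
  refine (HmapOfLE_toH h i n _).trans (congrArg (toH I i M n) ?_)
  refine (J.mk₀_comp_extMk _ _ rfl (qf_comp_d I' J i hn (LinearMap.mem_ker.mp z.2.2))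
    (qle h n)).trans ?_
  exact extMk_congr J i (eq_qf I z.1 hn' _ (one_smul R _)) _

end change

end Groth.Agent.LC16.CocycleClass
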