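import Groth.Agent.LC16.HomGood
import Groth.Agent.LC16.ComplKill

/-!
Bijectivity of `X ⟶ X^∧` on cohomology through `Hom(A[0], -)` and `Hom(C, -)`.
-/

set_option autoImplicit false
set_option linter.style.haveILetI false
set_option maxHeartbeats 1000000

noncomputable section

universe u

open CategoryTheory CategoryTheory.Limits CategoryTheory.Pretriangulated
attribute [local instance] HasDerivedCategory.standard

namespace Groth.Agent.LC16.CompletionBij

open Groth.Agent.DR39 Groth.Agent.DR40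

variable {A : Type u} [CommRing A] (I : Ideal A) [DRing.HasDerivedCompletion I]

/-- elements killing cohomology kill maps from `A[0]` -/
theorem smul_hom_eq_zero (X : Dual.D A) (i : ℤ) (a : A) (h : ∀ x : Dual.HD A X i, a • x = 0)
    (g : Dual.inD A A ⟶ X⟦i⟧) : a • g = 0 := by
  refine (homToH0_bijective (ModuleCat.of A A) (X⟦i⟧)).1 ?_
  have h1 : homToH0 (ModuleCat.of A A) (X⟦i⟧) (a • g) =
      (a • 𝟙 (ModuleCat.of A A)) ≫ homToH0 (ModuleCat.of A A) (X⟦i⟧) g := by
    refine Eq.trans ?_ (homToH0_precomp (a • 𝟙 (ModuleCat.of A A)) _ g)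
    rw [Functor.map_smul, CategoryTheory.Functor.map_id, Linear.smul_comp, Category.id_comp]
  have h0 : homToH0 (ModuleCat.of A A) (X⟦i⟧) 0 = 0 := by simp [homToH0]
  rw [h1, h0]
  ext
  let e := (((DerivedCategory.homologyFunctor (ModuleCat.{u} A) 0).shiftIso i 0 i (by omega)).app X).toLinearEquiv
  refine e.injective ?_
  simp only [Linear.smul_comp, Category.id_comp]
  exact (map_smul e a _).trans ((h _).trans (map_zero e).symm)

/-- Bijectivity of the completion map on cohomology. -/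
theorem bijective_of_good (fs : List A) (hfs : Ideal.span {x : A | x ∈ fs} = I)
    {ε : (QA A).obj (DerCA.extCech (ModuleCat.of A A) fs) ⟶ Dual.inD A A}
    (hε : ∀ E, DRing.IsDerivedComplete I E → Function.Bijective (fun g : Dual.inD A A ⟶ E => ε ≫ g))
    (X : Dual.D A) {n : ℤ} (hX : HomGood.Good ε X n) (i : ℤ) (hi : i ≤ n) :
    Function.Bijective ((HF A i).map (DRing.toDerivedCompletion I X)).hom := by
  let τ := DRing.toDerivedCompletion I X
  have hcX : DRing.IsDerivedComplete I ((DRing.derivedCompletion I).obj X).obj :=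
    (isCompl_unit I X).1
  obtain ⟨G, v, δ, hT⟩ := distinguished_cocone_triangle τ
  let T := Triangle.mk τ v δ
  have hG : ∀ (m : ℤ), Subsingleton ((QA A).obj (DerCA.extCech (ModuleCat.of A A) fs) ⟶ G⟦m⟧) := by
    intro m
    have hz : ∀ E, DRing.IsDerivedComplete I E → ∀ g : G ⟶ E, g = 0 := fun E hE g => by
      have h := (DR39.subsingleton_hom_iff_precomp_bijective T hT E).2
        (fun l => (isCompl_unit I X).2 _ (dc_shift hE l)) 0
      let e := (shiftFunctorZero (Dual.D A) ℤ).app E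
      rw [← cancel_mono e.inv, zero_comp]
      exact h.elim _ _
    have hcG : IsZero ((DRing.derivedCompletion I).obj G).obj := by
      have h1 := hz _ (isCompl_unit I G).1 (DRing.toDerivedCompletion I G)
      rw [IsZero.iff_id_eq_zero]
      refine ((isCompl_unit I G).2 _ (isCompl_unit I G).1).1 ?_
      show DRing.toDerivedCompletion I G ≫ 𝟙 _ = DRing.toDerivedCompletion I G ≫ 0
      rw [comp_zero, Category.comp_id, h1]
    obtain ⟨l⟩ := ComplKill.nonempty_HD_compl_equiv I fs hfs G m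
    haveI := (isZero_HF_iff _ m).1 (Functor.map_isZero (HF A m) hcG)
    exact l.symm.toEquiv.subsingleton
  have hC : ∀ m : ℤ, Function.Bijective
      (fun g : (QA A).obj (DerCA.extCech (ModuleCat.of A A) fs) ⟶ X⟦m⟧ => g ≫ τ⟦m⟧') := by
    intro m
    refine ⟨fun f f' h => sub_eq_zero.1 ?_, fun g => ?_⟩
    · obtain ⟨w, hw⟩ := HomGood.exact₂ (T := T.invRotate) (inv_rot_of_distTriang _ hT) (f - f')
        (by
          show (f - f') ≫ τ⟦m⟧' = 0
          rw [Preadditive.sub_comp, sub_eq_zero]; exact h)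
      let e := (shiftFunctorAdd' (Dual.D A) (-1) m (m - 1) (by omega)).app G
      haveI := hG (m - 1)
      have hw0 : w = 0 := (Iso.homToEquiv e.symm).injective (Subsingleton.elim _ _)
      rw [hw0] at hw
      exact hw.trans zero_comp
    · obtain ⟨w, hw⟩ := HomGood.exact₂ hT g ((hG m).elim _ _)
      exact ⟨w, hw.symm⟩
  have hU : Function.Bijective (fun g : Dual.inD A A ⟶ X⟦i⟧ => g ≫ τ⟦i⟧') := by
    have h1 := hε _ (dc_shift hcX i)
    refine (h1.of_comp_iff' _).1 ?_
    have : ((fun g : Dual.inD A A ⟶ ((DRing.derivedCompletion I).obj X).obj⟦i⟧ => ε ≫ g) ∘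
        fun g : Dual.inD A A ⟶ X⟦i⟧ => g ≫ τ⟦i⟧') =
        (fun g => g ≫ τ⟦i⟧') ∘ fun g : Dual.inD A A ⟶ X⟦i⟧ => ε ≫ g :=
      funext fun g => (Category.assoc _ _ _).symm
    rw [this]
    exact (hC i).comp (hX i hi)
  -- through `H⁰`
  let H0 := DerivedCategory.homologyFunctor (ModuleCat.{u} A) 0
  have hH : Function.Bijective (fun φ : ModuleCat.of A A ⟶ H0.obj (X⟦i⟧) => φ ≫ H0.map (τ⟦i⟧')) := by
    refine (Function.Bijective.of_comp_iff _ (homToH0_bijective (ModuleCat.of A A) (X⟦i⟧))).1 ?_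
    have : (fun φ : ModuleCat.of A A ⟶ H0.obj (X⟦i⟧) => φ ≫ H0.map (τ⟦i⟧')) ∘
        homToH0 (ModuleCat.of A A) (X⟦i⟧) =
        homToH0 (ModuleCat.of A A) _ ∘ fun g => g ≫ τ⟦i⟧' :=
      funext fun g => (homToH0_postcomp _ g _).symm
    rw [this]
    exact (homToH0_bijective _ _).comp hU
  have hH' : Function.Bijective (H0.map (τ⟦i⟧')).hom := by
    refine ⟨fun x y hxy => ?_, fun z => ?_⟩
    · have h1 := hH.1 (a₁ := ModuleCat.ofHom (LinearMap.toSpanSingleton A _ x))
        (a₂ := ModuleCat.ofHom (LinearMap.toSpanSingleton A _ y)) (ModuleCat.hom_ext (LinearMap.ext_ring (by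
          simpa using hxy)))
      simpa using congrArg (fun φ => φ.hom (1 : A)) h1
    · obtain ⟨φ, hφ⟩ := hH.2 (ModuleCat.ofHom (LinearMap.toSpanSingleton A _ z))
      exact ⟨φ.hom (1 : A), by simpa using congrArg (fun ψ => ψ.hom (1 : A)) hφ⟩
  let s₁ := (H0.shiftIso i 0 i (by omega))
  let e := (s₁.app X).toLinearEquiv
  let e' := (s₁.app ((DRing.derivedCompletion I).obj X).obj).toLinearEquiv
  have hn : ∀ y, ((HF A i).map τ).hom (e y) = e' ((H0.map (τ⟦i⟧')).hom y) := fun y =>
    (congrArg (fun φ => φ.hom y) (s₁.hom.naturality τ)).symm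
  refine (Function.Bijective.of_comp_iff _ e.bijective).1 ?_
  have : ((HF A i).map (DRing.toDerivedCompletion I X)).hom ∘ e = e' ∘ (H0.map (τ⟦i⟧')).hom :=
    funext hn
  exact this.symm ▸ e'.bijective.comp hH'

end Groth.Agent.LC16.CompletionBij
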