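import Groth.Prelude.Def_W4bk5brsh16IT
import Mathlib.Algebra.Category.ModuleCat.FilteredColimits
import Mathlib.CategoryTheory.Limits.ConcreteCategory.Filtered

/-!
Concrete description of the ideal transform: classes of linear maps on powers of the ideal.
-/

namespace Groth.Agent.LC16.DT

universe u

open CategoryTheory CategoryTheory.Limits Opposite LocCoh

variable {R : Type u} [CommRing R]

theorem preservesColimitsOfShape_forget :
    PreservesColimitsOfShape ℕᵒᵖᵒᵖ (forget (ModuleCat.{u} R)) :=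
  have : PreservesFilteredColimitsOfSize.{0, 0} (forget (ModuleCat.{u} R)) :=
    preservesFilteredColimitsOfSize_shrink.{0, u, 0, u} _
  inferInstance

variable (I : Ideal R)

/-- restriction of a map on `I ^ t` to `I ^ k` -/
def res {M : Type u} [AddCommGroup M] [Module R M] {t k : ℕ} (h : t ≤ k)
    (f : ↥(I ^ t) →ₗ[R] M) : ↥(I ^ k) →ₗ[R] M :=
  f ∘ₗ Submodule.inclusion (Ideal.pow_le_pow_right h)

lemma res_apply {M : Type u} [AddCommGroup M] [Module R M] {t k : ℕ} (h : t ≤ k)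
    (f : ↥(I ^ t) →ₗ[R] M) (x : ↥(I ^ k)) :
    res I h f x = f ⟨x.1, Ideal.pow_le_pow_right h x.2⟩ := rfl

variable (M : Type u) [AddCommGroup M] [Module R M]

/-- the class of a map on `I ^ t` -/
noncomputable def inc (t : ℕ) : (↥(I ^ t) →ₗ[R] M) →ₗ[R] DT I M :=
  ((colimit.ι (transformDiagram I) (op (op t))).app (ModuleCat.of R M)).hom ∘ₗ
    (ModuleCat.homLinearEquiv (S := R) (M := ModuleCat.of R ↥(I ^ t))
      (N := ModuleCat.of R M)).symm.toLinearMap

variable {I M}

lemma ι_eq_inc (t : ℕ) (f : ModuleCat.of R ↥(I ^ t) ⟶ ModuleCat.of R M) :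
    ((colimit.ι (transformDiagram I) (op (op t))).app (ModuleCat.of R M)).hom f =
      inc I M t f.hom := rfl

lemma inc_res {t k : ℕ} (h : t ≤ k) (f : ↥(I ^ t) →ₗ[R] M) :
    inc I M k (res I h f) = inc I M t f := by
  exact congr($(NatTrans.congr_app (colimit.w (transformDiagram I) (homOfLE h).op.op)
    (ModuleCat.of R M)).hom (ModuleCat.ofHom f))

lemma inc_surjective (x : DT I M) : ∃ t f, x = inc I M t f := by
  have := preservesColimitsOfShape_forget (R := R)
  let e := colimitObjIsoColimitCompEvaluation (transformDiagram I) (ModuleCat.of R M)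
  obtain ⟨j, y, hy⟩ := Concrete.colimit_exists_rep
    (transformDiagram I ⋙ (evaluation _ _).obj (ModuleCat.of R M)) (e.hom.hom x)
  let y' : ModuleCat.of R ↥(I ^ j.unop.unop) ⟶ ModuleCat.of R M := y
  refine ⟨j.unop.unop, y'.hom, ?_⟩
  have h1 : e.inv.hom (e.hom.hom x) = x := congr($(e.hom_inv_id).hom x)
  rw [← h1, ← hy]
  exact congr($(colimitObjIsoColimitCompEvaluation_ι_inv (transformDiagram I) j
    (ModuleCat.of R M)).hom y)

lemma inc_eq_zero_iff {t : ℕ} (f : ↥(I ^ t) →ₗ[R] M) :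
    inc I M t f = 0 ↔ ∃ k, ∃ h : t ≤ k, res I h f = 0 := by
  have := preservesColimitsOfShape_forget (R := R)
  refine ⟨fun hf => ?_, fun ⟨k, h, hk⟩ => by rw [← inc_res h f, hk, map_zero]⟩
  let e := colimitObjIsoColimitCompEvaluation (transformDiagram I) (ModuleCat.of R M)
  let F := transformDiagram I ⋙ (evaluation _ _).obj (ModuleCat.of R M)
  have h1 : (colimit.ι F (op (op t))).hom (ModuleCat.ofHom f) =
      (colimit.ι F (op (op t))).hom (0 : F.obj (op (op t))) := by
    rw [map_zero]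
    have h2 := congr($(colimitObjIsoColimitCompEvaluation_ι_app_hom (transformDiagram I)
      (op (op t)) (ModuleCat.of R M)).hom (ModuleCat.ofHom f))
    rw [← h2]
    change e.hom.hom (inc I M t f) = 0
    rw [hf]
    exact map_zero e.hom.hom
  obtain ⟨k, g₁, g₂, hk⟩ := (colimit_eq_iff F).mp h1
  refine ⟨k.unop.unop, leOfHom g₁.unop.unop, ?_⟩
  have hz : (F.map g₂).hom 0 = 0 := map_zero _
  have hk' : (F.map g₁).hom (ModuleCat.ofHom f) = 0 := hk.trans hz
  exact congrArg (fun (g : ModuleCat.of R ↥(I ^ k.unop.unop) ⟶ ModuleCat.of R M) => g.hom) hk'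

lemma inc_eq_zero_iff' {t : ℕ} (f : ↥(I ^ t) →ₗ[R] M) :
    inc I M t f = 0 ↔ ∃ k, t ≤ k ∧ ∀ (r : R) (hr : r ∈ I ^ t), r ∈ I ^ k → f ⟨r, hr⟩ = 0 := by
  rw [inc_eq_zero_iff]
  refine ⟨fun ⟨k, h, hk⟩ => ⟨k, h, fun r hr hrk => ?_⟩, fun ⟨k, h, hk⟩ => ⟨k, h, ?_⟩⟩
  · exact congr($hk ⟨r, hrk⟩)
  · ext x
    exact hk x.1 _ x.2

lemma toDT_apply (m : M) :
    toDT I M m = inc I M 0 (((LinearMap.lsmul R M).domRestrict (I ^ 0)).flip m) := rfl

lemma smul_inc_eq_toDT {t : ℕ} (f : ↥(I ^ t) →ₗ[R] M) (a : ↥(I ^ t)) :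
    (a : R) • inc I M t f = toDT I M (f a) := by
  rw [toDT_apply, ← inc_res (Nat.zero_le t) (((LinearMap.lsmul R M).domRestrict (I ^ 0)).flip (f a)),
    ← map_smul]
  congr 1
  ext x
  change (a : R) • f x = (x : R) • f a
  rw [← map_smul, ← map_smul]
  congr 1
  exact Subtype.ext (mul_comm _ _)

variable {M' : Type u} [AddCommGroup M'] [Module R M']

/-- functoriality -/
noncomputable def map (g : M →ₗ[R] M') : DT I M →ₗ[R] DT I M' :=
  ((idealTransform I).map (ModuleCat.ofHom g)).hom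

lemma map_inc (g : M →ₗ[R] M') {t : ℕ} (f : ↥(I ^ t) →ₗ[R] M) :
    map g (inc I M t f) = inc I M' t (g ∘ₗ f) := by
  exact congr($(((colimit.ι (transformDiagram I) (op (op t))).naturality
    (ModuleCat.ofHom g))).hom (ModuleCat.ofHom f)).symm

lemma map_toDT (g : M →ₗ[R] M') (m : M) : map g (toDT I M m) = toDT I M' (g m) := by
  rw [toDT_apply, map_inc, toDT_apply]
  congr 1
  ext x
  exact map_smul g _ _

variable {J : Ideal R}

lemma dtMapOfLE_inc (h : I ≤ J) {t : ℕ} (f : ↥(J ^ t) →ₗ[R] M) :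
    ((DTmapOfLE h).app (ModuleCat.of R M)).hom (inc J M t f) =
      inc I M t (f ∘ₗ Submodule.inclusion (Ideal.pow_right_mono h t)) := by
  exact congr($(NatTrans.congr_app (ι_colimMap (Functor.whiskerRight
    (NatTrans.op (Functor.whiskerRight (powLE h) idealModFunctor))
    (linearCoyoneda R (ModuleCat.{u} R))) (op (op t))) (ModuleCat.of R M)).hom (ModuleCat.ofHom f))

end Groth.Agent.LC16.DT
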