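import Groth.Agent.LC16.DTCore
import Mathlib.Algebra.Module.LocalizedModule.Basic
import Mathlib.RingTheory.Regular.RegularSequence

/-!
Consequences of the universal property of the ideal transform.
-/

namespace Groth.Agent.LC16.DT

universe u

set_option linter.unusedSectionVars false

open LocCoh Pointwise

variable {R : Type u} [CommRing R] [IsNoetherianRing R] {I : Ideal R}
variable {M M' : Type u} [AddCommGroup M] [Module R M] [AddCommGroup M'] [Module R M']

theorem torsionSub_eq_bot_of_regular {x : R} (hx : x ∈ I) (h : IsSMulRegular M x) :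
    DRing.torsionSub I M = ⊥ := by
  refine eq_bot_iff.mpr fun m ⟨n, hn⟩ => ?_
  exact (h.pow n).right_eq_zero_of_smul (hn _ (Ideal.pow_mem_pow hx n))

theorem toDT_bijective_of_pair (x y : R) (hx : x ∈ I) (hy : y ∈ I)
    (hreg : RingTheory.Sequence.IsWeaklyRegular M [x, y]) : Function.Bijective (toDT I M) := by
  rw [RingTheory.Sequence.isWeaklyRegular_cons_iff,
    RingTheory.Sequence.isWeaklyRegular_singleton_iff] at hreg
  obtain ⟨h1, h2⟩ := hreg
  have hinj : Function.Injective (toDT I M) := by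
    rw [← LinearMap.ker_eq_bot, ker_toDT, torsionSub_eq_bot_of_regular hx h1]
  have hxDT : ∀ z : DT I M, x • z = 0 → z = 0 := by
    intro z hz
    obtain ⟨t, f, rfl⟩ := inc_surjective z
    rw [← map_smul, inc_eq_zero_iff'] at hz
    obtain ⟨k, hk, hk'⟩ := hz
    rw [inc_eq_zero_iff']
    exact ⟨k, hk, fun r hr hrk => h1.right_eq_zero_of_smul (hk' r hr hrk)⟩
  refine ⟨hinj, fun z => ?_⟩
  suffices key : ∀ (n : ℕ) (z : DT I M),
      (∀ a ∈ I ^ n, a • z ∈ LinearMap.range (toDT I M)) → z ∈ LinearMap.range (toDT I M) by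
    obtain ⟨n, hn⟩ := isPowerTorsion_coker_toDT (I := I) (M := M) (Submodule.Quotient.mk z)
    refine key n z fun a ha => ?_
    have h := hn a ha
    rwa [← Submodule.Quotient.mk_smul, Submodule.Quotient.mk_eq_zero] at h
  intro n
  induction n with
  | zero => intro z h; simpa using h 1 (by simp)
  | succ n ih =>
    intro z h
    refine ih z fun a ha => ?_
    have hax : x • a • z ∈ LinearMap.range (toDT I M) := by
      rw [smul_smul]; exact h _ (by rw [pow_succ']; exact Ideal.mul_mem_mul hx ha)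
    have hay : y • a • z ∈ LinearMap.range (toDT I M) := by
      rw [smul_smul]; exact h _ (by rw [pow_succ']; exact Ideal.mul_mem_mul hy ha)
    obtain ⟨m1, hm1⟩ := hax
    obtain ⟨m2, hm2⟩ := hay
    have h3 : y • m1 = x • m2 := hinj (by rw [map_smul, map_smul, hm1, hm2, smul_comm])
    have h4 : (Submodule.Quotient.mk m1 : QuotSMulTop x M) = 0 := by
      refine h2.right_eq_zero_of_smul ?_
      rw [← Submodule.Quotient.mk_smul, h3, Submodule.Quotient.mk_eq_zero]
      exact Submodule.smul_mem_pointwise_smul _ _ _ Submodule.mem_top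
    rw [Submodule.Quotient.mk_eq_zero] at h4
    obtain ⟨m, -, rfl⟩ := h4
    refine ⟨m, (sub_eq_zero.mp (hxDT _ ?_)).symm⟩
    rw [smul_sub, ← hm1, sub_eq_zero]
    exact map_smul (toDT I M) x m

theorem dtMapOfLE_mul_bijective (I J : Ideal R) :
    Function.Bijective ((DTmapOfLE (Ideal.mul_le_left : I * J ≤ I)).app
      (ModuleCat.of R (DT J M))).hom := by
  have hle : I * J ≤ I := Ideal.mul_le_left
  have hJ : DRing.torsionSub J (DT J M) = ⊥ := torsionSub_DT
  refine ⟨?_, ?_⟩
  · rw [← LinearMap.ker_eq_bot, eq_bot_iff]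
    intro z hz
    obtain ⟨t, f, rfl⟩ := inc_surjective z
    rw [LinearMap.mem_ker, dtMapOfLE_inc, inc_eq_zero_iff'] at hz
    obtain ⟨k, hk, hk'⟩ := hz
    rw [Submodule.mem_bot, inc_eq_zero_iff']
    refine ⟨k, hk, fun r hr hrk => ?_⟩
    have h : f ⟨r, hr⟩ ∈ DRing.torsionSub J (DT J M) := by
      refine ⟨k, fun a ha => ?_⟩
      have hmem : a * r ∈ (I * J) ^ k := by
        rw [mul_pow, mul_comm a]; exact Ideal.mul_mem_mul hrk ha
      rw [← map_smul]
      exact hk' (a * r) (Ideal.pow_le_pow_right hk hmem) hmem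
    rwa [hJ, Submodule.mem_bot] at h
  · intro z
    obtain ⟨t, f, rfl⟩ := inc_surjective z
    have hm : ∀ {b c : R}, b ∈ I ^ t → c ∈ J ^ t → b * c ∈ (I * J) ^ t := fun hb hc => by
      rw [mul_pow]; exact Ideal.mul_mem_mul hb hc
    have hG : ∀ b : ↥(I ^ t), ∃ u : DT J M,
        ∀ c (hc : c ∈ J ^ t), c • u = f ⟨(b : R) * c, hm b.2 hc⟩ := by
      intro b
      let gb : ↥(J ^ t) →ₗ[R] DT J M :=
        { toFun := fun c => f ⟨(b : R) * c, hm b.2 c.2⟩
          map_add' := fun c d => by rw [← map_add]; exact congrArg f (Subtype.ext (mul_add _ _ _))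
          map_smul' := fun r c => by
            rw [RingHom.id_apply, ← map_smul]
            exact congrArg f (Subtype.ext (mul_left_comm _ _ _)) }
      obtain ⟨u, hu⟩ := toDT_DT_bijective.2 (inc J (DT J M) t gb)
      refine ⟨u, fun c hc => toDT_DT_bijective.1 ?_⟩
      rw [map_smul, hu]
      exact smul_inc_eq_toDT gb ⟨c, hc⟩
    choose G hG using hG
    let g : ↥(I ^ t) →ₗ[R] DT J M :=
      { toFun := G
        map_add' := fun b d => eq_of_smul_eq t fun c hc => by
          rw [smul_add, hG _ c hc, hG _ c hc, hG _ c hc, ← map_add]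
          exact congrArg f (Subtype.ext (add_mul _ _ _))
        map_smul' := fun r b => eq_of_smul_eq t fun c hc => by
          rw [RingHom.id_apply, smul_comm, hG _ c hc, hG _ c hc, ← map_smul]
          exact congrArg f (Subtype.ext (mul_assoc _ _ _)) }
    refine ⟨inc I (DT J M) t g, ?_⟩
    rw [dtMapOfLE_inc]
    refine congrArg _ (LinearMap.ext fun x => ?_)
    obtain ⟨r, hr⟩ := x
    have key : ∀ r ∈ I ^ t * J ^ t, ∀ hr : r ∈ (I * J) ^ t,
        g ⟨r, Ideal.pow_right_mono hle t hr⟩ = f ⟨r, hr⟩ := by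
      intro r hr
      induction hr using Submodule.mul_induction_on' with
      | mem_mul_mem b hb c hc =>
        intro hbc
        rw [show (⟨b * c, Ideal.pow_right_mono hle t hbc⟩ : ↥(I ^ t)) = c • ⟨b, hb⟩ from
          Subtype.ext (mul_comm _ _), map_smul]
        exact hG ⟨b, hb⟩ c hc
      | add x hx y hy ihx ihy =>
        intro hxy
        have hx' : x ∈ (I * J) ^ t := by rwa [mul_pow]
        have hy' : y ∈ (I * J) ^ t := by rwa [mul_pow]
        rw [show (⟨x + y, Ideal.pow_right_mono hle t hxy⟩ : ↥(I ^ t)) =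
          ⟨x, Ideal.pow_right_mono hle t hx'⟩ + ⟨y, Ideal.pow_right_mono hle t hy'⟩
          from Subtype.ext rfl, map_add, ihx hx', ihy hy', ← map_add]
        exact congrArg f (Subtype.ext rfl)
    exact key r (by rwa [← mul_pow]) hr

section principal

variable (a : R)

lemma smul_bijective :
    Function.Bijective (fun z : DT (Ideal.span {a}) M => a • z) := by
  have h := map_bijective (I := Ideal.span {a}) (a • (LinearMap.id : M →ₗ[R] M))
    (fun m hm => ⟨1, fun r hr => by
      rw [pow_one] at hr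
      obtain ⟨c, rfl⟩ := Ideal.mem_span_singleton'.mp hr
      rw [mul_smul, show a • m = 0 from LinearMap.mem_ker.mp hm, smul_zero]⟩)
    (fun m => by
      obtain ⟨m, rfl⟩ := Submodule.Quotient.mk_surjective _ m
      refine ⟨1, fun r hr => ?_⟩
      rw [pow_one] at hr
      obtain ⟨c, rfl⟩ := Ideal.mem_span_singleton'.mp hr
      rw [← Submodule.Quotient.mk_smul, Submodule.Quotient.mk_eq_zero]
      exact ⟨c • m, show a • c • m = (c * a) • m by rw [smul_smul, mul_comm]⟩)
  convert h using 1
  funext z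
  obtain ⟨t, f, rfl⟩ := inc_surjective z
  rw [map_inc, ← map_smul]
  rfl

lemma smul_pow_bijective (t : ℕ) :
    Function.Bijective (fun z : DT (Ideal.span {a}) M => a ^ t • z) := by
  induction t with
  | zero => simp only [pow_zero, one_smul]; exact Function.bijective_id
  | succ t ih =>
    convert ih.comp (smul_bijective (M := M) a) using 1
    funext z
    simp [pow_succ, mul_smul]

theorem isLocalizedModule_toDT :
    IsLocalizedModule (Submonoid.powers a) (toDT (Ideal.span {a}) M) where
  map_units := by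
    rintro ⟨_, t, rfl⟩
    exact (Module.End.isUnit_iff _).mpr (smul_pow_bijective a t)
  surj z := by
    obtain ⟨t, f, rfl⟩ := inc_surjective z
    exact ⟨⟨f ⟨a ^ t, Ideal.pow_mem_pow (Ideal.mem_span_singleton_self a) t⟩,
      ⟨a ^ t, t, rfl⟩⟩,
      smul_inc_eq_toDT f ⟨a ^ t, Ideal.pow_mem_pow (Ideal.mem_span_singleton_self a) t⟩⟩
  exists_of_eq {m1 m2} h := by
    have h' : m1 - m2 ∈ DRing.torsionSub (Ideal.span {a}) M := by
      rw [← ker_toDT, LinearMap.mem_ker, map_sub, h, sub_self]
    obtain ⟨n, hn⟩ := h'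
    refine ⟨⟨a ^ n, n, rfl⟩, ?_⟩
    have := hn _ (Ideal.pow_mem_pow (Ideal.mem_span_singleton_self a) n)
    rwa [smul_sub, sub_eq_zero] at this

/-- the isomorphism with the localization at `a` -/
noncomputable def omega : DT (Ideal.span {a}) M ≃ₗ[R] LocalizedModule (Submonoid.powers a) M :=
  have := isLocalizedModule_toDT (M := M) a
  (IsLocalizedModule.iso (Submonoid.powers a) (toDT (Ideal.span {a}) M)).symm

lemma omega_toDT (m : M) :
    omega a (toDT (Ideal.span {a}) M m) = LocalizedModule.mkLinearMap (Submonoid.powers a) M m := by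
  have := isLocalizedModule_toDT (M := M) a
  exact IsLocalizedModule.iso_symm_apply' _ _ _ m 1 (one_smul _ _)

lemma omega_inc (t : ℕ) (f : ↥((Ideal.span {a}) ^ t) →ₗ[R] M) :
    omega a (inc (Ideal.span {a}) M t f) = LocalizedModule.mk
      (f ⟨a ^ t, Ideal.pow_mem_pow (Ideal.mem_span_singleton_self a) t⟩)
      ⟨a ^ t, pow_mem (Submonoid.mem_powers a) t⟩ := by
  have := isLocalizedModule_toDT (M := M) a
  refine IsLocalizedModule.iso_symm_apply' _ _ _ _ _ ?_
  exact smul_inc_eq_toDT f ⟨a ^ t, Ideal.pow_mem_pow (Ideal.mem_span_singleton_self a) t⟩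

end principal

section changeOfRings

variable {R' : Type u} [CommRing R'] [IsNoetherianRing R'] [Algebra R R']
variable {N : Type u} [AddCommGroup N] [Module R' N] [Module R N] [IsScalarTower R R' N]

local notation "IR'" => Ideal.map (algebraMap R R') I

lemma torsionSub_map_iff {m : N} :
    m ∈ DRing.torsionSub IR' N ↔ m ∈ DRing.torsionSub I N := by
  refine ⟨fun ⟨n, hn⟩ => ⟨n, fun a ha => ?_⟩, fun ⟨n, hn⟩ => ⟨n, fun a ha => ?_⟩⟩
  · rw [← algebraMap_smul R' a m]
    exact hn _ (by rw [← Ideal.map_pow]; exact Ideal.mem_map_of_mem _ ha)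
  · rw [← Ideal.map_pow] at ha
    induction ha using Submodule.span_induction with
    | mem x hx =>
      obtain ⟨r, hr, rfl⟩ := hx
      rw [algebraMap_smul]
      exact hn r hr
    | zero => exact zero_smul _ _
    | add x y _ _ hx hy => rw [add_smul, hx, hy, add_zero]
    | smul c x _ hx => rw [smul_assoc, hx, smul_zero]

/-- restriction of a map along `I ^ t → (I R') ^ t` -/
def restrictMap {t : ℕ} (f : ↥(IR' ^ t) →ₗ[R'] N) : ↥(I ^ t) →ₗ[R] N where
  toFun x := f ⟨algebraMap R R' x, by rw [← Ideal.map_pow]; exact Ideal.mem_map_of_mem _ x.2⟩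
  map_add' x y := by rw [← map_add]; exact congrArg f (Subtype.ext (map_add _ _ _))
  map_smul' r x := by
    rw [RingHom.id_apply, ← LinearMap.map_smul_of_tower f r]
    exact congrArg f (Subtype.ext ((map_mul _ _ _).trans (Algebra.smul_def r _).symm))

lemma restrict_inc_eq_zero {t : ℕ} (f : ↥(IR' ^ t) →ₗ[R'] N) (h : inc IR' N t f = 0) :
    inc I N t (restrictMap f) = 0 := by
  obtain ⟨k, hk, hk'⟩ := (inc_eq_zero_iff' f).mp h
  refine (inc_eq_zero_iff' _).mpr ⟨k, hk, fun r hr hrk => hk' _ _ ?_⟩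
  rw [← Ideal.map_pow]
  exact Ideal.mem_map_of_mem _ hrk

lemma restrict_inc_congr {t t' : ℕ} (f : ↥(IR' ^ t) →ₗ[R'] N) (f' : ↥(IR' ^ t') →ₗ[R'] N)
    (h : inc IR' N t f = inc IR' N t' f') :
    inc I N t (restrictMap f) = inc I N t' (restrictMap f') := by
  set k := max t t'
  rw [← inc_res (le_max_left t t' : t ≤ k), ← inc_res (le_max_right t t' : t' ≤ k),
    ← sub_eq_zero, ← map_sub] at h ⊢
  exact restrict_inc_eq_zero _ h

/-- the comparison map -/
noncomputable def epsFun (z : DT IR' N) : DT I N :=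
  inc I N (inc_surjective z).choose (restrictMap (inc_surjective z).choose_spec.choose)

lemma epsFun_inc {t : ℕ} (f : ↥(IR' ^ t) →ₗ[R'] N) :
    epsFun (I := I) (inc IR' N t f) = inc I N t (restrictMap f) :=
  restrict_inc_congr _ _ (inc_surjective (inc IR' N t f)).choose_spec.choose_spec.symm

lemma epsFun_add (z w : DT IR' N) : epsFun (I := I) (z + w) = epsFun z + epsFun w := by
  obtain ⟨t, f, rfl⟩ := inc_surjective z
  obtain ⟨s, g, rfl⟩ := inc_surjective w
  set k := max t s
  rw [← inc_res (le_max_left t s : t ≤ k) f, ← inc_res (le_max_right t s : s ≤ k) g, ← map_add,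
    epsFun_inc, epsFun_inc, epsFun_inc, ← map_add]
  rfl

lemma epsFun_smul (r : R) (z : DT IR' N) :
    epsFun (I := I) (algebraMap R R' r • z) = r • epsFun z := by
  obtain ⟨t, f, rfl⟩ := inc_surjective z
  rw [← map_smul, epsFun_inc, epsFun_inc, ← map_smul]
  refine congrArg _ (LinearMap.ext fun x => ?_)
  exact algebraMap_smul R' r _

lemma epsFun_toDT (m : N) : epsFun (I := I) (toDT IR' N m) = toDT I N m := by
  rw [toDT_apply, toDT_apply, epsFun_inc]
  refine congrArg _ (LinearMap.ext fun x => ?_)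
  exact algebraMap_smul R' _ _

lemma epsFun_bijective : Function.Bijective (epsFun (I := I) (R' := R') (N := N)) := by
  refine ⟨fun z w h => ?_, fun z => ?_⟩
  · obtain ⟨t, f, rfl⟩ := inc_surjective z
    obtain ⟨s, g, rfl⟩ := inc_surjective w
    set k := max t s
    rw [← inc_res (le_max_left t s : t ≤ k) f, ← inc_res (le_max_right t s : s ≤ k) g] at h ⊢
    rw [epsFun_inc, epsFun_inc, ← sub_eq_zero, ← map_sub, inc_eq_zero_iff'] at h
    obtain ⟨l, hl, hl'⟩ := h
    rw [← sub_eq_zero, ← map_sub, inc_eq_zero_iff']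
    refine ⟨l, hl, fun r hr hrl => ?_⟩
    set F := res IR' (le_max_left t s : t ≤ k) f - res IR' (le_max_right t s : s ≤ k) g
    suffices key : ∀ r ∈ Ideal.map (algebraMap R R') (I ^ l), ∀ hr : r ∈ IR' ^ k, F ⟨r, hr⟩ = 0 from
      key r (by rwa [Ideal.map_pow]) hr
    intro r hr
    induction hr using Submodule.span_induction with
    | mem x hx =>
      intro hxk
      obtain ⟨a, ha, rfl⟩ := hx
      exact hl' a (Ideal.pow_le_pow_right hl ha) ha
    | zero => intro _; exact map_zero F
    | add x y hx hy ihx ihy =>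
      intro hxy
      have hx' : x ∈ IR' ^ k := Ideal.pow_le_pow_right hl (by rw [← Ideal.map_pow]; exact hx)
      have hy' : y ∈ IR' ^ k := Ideal.pow_le_pow_right hl (by rw [← Ideal.map_pow]; exact hy)
      rw [show (⟨x + y, hxy⟩ : ↥(IR' ^ k)) = ⟨x, hx'⟩ + ⟨y, hy'⟩ from Subtype.ext rfl, map_add,
        ihx hx', ihy hy', add_zero]
    | smul c x hx ih =>
      intro hcx
      have hx' : x ∈ IR' ^ k := Ideal.pow_le_pow_right hl (by rw [← Ideal.map_pow]; exact hx)
      rw [show (⟨c • x, hcx⟩ : ↥(IR' ^ k)) = c • ⟨x, hx'⟩ from Subtype.ext rfl, map_smul,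
        ih hx', smul_zero]
  · classical
    obtain ⟨t, f, rfl⟩ := inc_surjective z
    obtain ⟨s, hs⟩ := IsNoetherian.noetherian (I ^ t)
    let g : s → ↥(I ^ t) := fun x => ⟨x.1, hs ▸ Submodule.subset_span x.2⟩
    have hmem : ∀ x : ↥(I ^ t), algebraMap R R' x ∈ IR' ^ t := fun x => by
      rw [← Ideal.map_pow]; exact Ideal.mem_map_of_mem _ x.2
    let G : s → ↥(IR' ^ t) := fun x => ⟨algebraMap R R' (g x : R), hmem (g x)⟩
    let π : (s → R') →ₗ[R'] ↥(IR' ^ t) := Fintype.linearCombination R' G
    have hπ : Function.Surjective π := by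
      rw [← LinearMap.range_eq_top, Fintype.range_linearCombination, eq_top_iff,
        ← Submodule.map_le_map_iff_of_injective (Submodule.injective_subtype _), Submodule.map_span,
        Submodule.map_top, Submodule.range_subtype, ← Set.range_comp]
      have e : IR' ^ t = Submodule.span R' (algebraMap R R' '' (s : Set R)) := by
        rw [← Ideal.map_pow, ← hs]
        exact Ideal.map_span (algebraMap R R') (s : Set R)
      exact e.le.trans (Submodule.span_mono fun _ ⟨x, hx, hxe⟩ => ⟨⟨x, hx⟩, hxe⟩)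
    let φ : (s → R') →ₗ[R'] N := Fintype.linearCombination R' fun x => f (g x)
    let Q := N ⧸ DRing.torsionSub IR' N
    have hkill : LinearMap.ker π ≤ LinearMap.ker ((DRing.torsionSub IR' N).mkQ ∘ₗ φ) := by
      intro x hx
      rw [LinearMap.mem_ker, LinearMap.comp_apply, Submodule.mkQ_apply, Submodule.Quotient.mk_eq_zero,
        torsionSub_map_iff]
      refine ⟨t, fun b hb => ?_⟩
      have hx' : ∑ j, x j * algebraMap R R' (g j : R) = 0 := by
        have := congrArg Subtype.val (LinearMap.mem_ker.mp hx)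
        simpa [π, G, Fintype.linearCombination_apply] using this
      calc b • φ x = ∑ j, x j • (b • f (g j)) := by
            simp [φ, Fintype.linearCombination_apply, Finset.smul_sum, smul_comm b]
        _ = ∑ j, x j • ((g j : R) • f ⟨b, hb⟩) := by
            refine Finset.sum_congr rfl fun j _ => ?_
            refine congrArg (x j • ·) ?_
            rw [← map_smul, ← map_smul]
            exact congrArg f (Subtype.ext (mul_comm _ _))
        _ = (∑ j, x j * algebraMap R R' (g j : R)) • f ⟨b, hb⟩ := by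
            simp [Finset.sum_smul, mul_smul]
        _ = 0 := by rw [hx', zero_smul]
    let h : ↥(IR' ^ t) →ₗ[R'] Q :=
      Submodule.liftQ _ ((DRing.torsionSub IR' N).mkQ ∘ₗ φ) hkill ∘ₗ
        (π.quotKerEquivOfSurjective hπ).symm.toLinearMap
    have hh : ∀ j, h (G j) = Submodule.Quotient.mk (f (g j)) := by
      intro j
      have e1 : π (Pi.single j 1) = G j := by simp [π]
      have e2 : (π.quotKerEquivOfSurjective hπ).symm (G j) = Submodule.Quotient.mk (Pi.single j 1) := by
        rw [LinearEquiv.symm_apply_eq, LinearMap.quotKerEquivOfSurjective_apply_mk, e1]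
      simp only [h, LinearMap.comp_apply, LinearEquiv.coe_toLinearMap, e2, Submodule.liftQ_apply]
      simp [φ]; rfl
    obtain ⟨k, hk, f', hf'⟩ := exists_lift (DRing.torsionSub IR' N).mkQ
      (by rw [Submodule.ker_mkQ]) h (by rw [Submodule.range_mkQ]; exact le_top)
    refine ⟨inc IR' N k f', ?_⟩
    rw [epsFun_inc, ← inc_res hk f, ← sub_eq_zero, ← map_sub]
    refine inc_eq_zero_of_le_torsion _ ?_
    rintro _ ⟨y, rfl⟩
    rw [← torsionSub_map_iff (R' := R'), ← Submodule.Quotient.mk_eq_zero, LinearMap.sub_apply,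
      Submodule.Quotient.mk_sub, sub_eq_zero]
    refine (congr($hf' ⟨algebraMap R R' y.1, _⟩)).trans ?_
    rw [res_apply, res_apply]
    have hy : (y : R) ∈ Submodule.span R (s : Set R) := hs ▸ Ideal.pow_le_pow_right hk y.2
    have key : ∀ r ∈ Submodule.span R (s : Set R), ∀ hr : r ∈ I ^ t,
        h ⟨algebraMap R R' r, hmem ⟨r, hr⟩⟩ = Submodule.Quotient.mk (f ⟨r, hr⟩) := by
      intro r hr
      induction hr using Submodule.span_induction with
      | mem x hx => intro _; exact hh ⟨x, hx⟩
      | zero =>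
        intro hr
        have e0 : (⟨algebraMap R R' 0, hmem ⟨0, hr⟩⟩ : ↥(IR' ^ t)) = 0 := Subtype.ext (map_zero _)
        have e1 : f ⟨0, hr⟩ = 0 := map_zero f
        rw [e0, map_zero, e1, Submodule.Quotient.mk_zero]
      | add a b ha hb iha ihb =>
        intro hab
        have ha' : a ∈ I ^ t := hs ▸ ha
        have hb' : b ∈ I ^ t := hs ▸ hb
        have e1 : f ⟨a + b, hab⟩ = f ⟨a, ha'⟩ + f ⟨b, hb'⟩ := map_add f ⟨a, ha'⟩ ⟨b, hb'⟩
        rw [e1, Submodule.Quotient.mk_add, ← iha ha', ← ihb hb', ← map_add]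
        exact congrArg h (Subtype.ext (map_add _ _ _))
      | smul c a ha iha =>
        intro hca
        have ha' : a ∈ I ^ t := hs ▸ ha
        have e1 : f ⟨c • a, hca⟩ = c • f ⟨a, ha'⟩ := map_smul f c ⟨a, ha'⟩
        rw [e1, Submodule.Quotient.mk_smul, ← algebraMap_smul R' c (Submodule.Quotient.mk (f ⟨a, ha'⟩) : Q),
          ← iha ha', ← map_smul]
        exact congrArg h (Subtype.ext (map_mul _ _ _))
    exact key y hy _

end changeOfRings

end Groth.Agent.LC16.DT
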