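import Groth.Agent.LC16.FlatBC
import Groth.Agent.LC16.ChangeRings
import Mathlib.Algebra.TrivSqZeroExt.Basic
import Mathlib.Algebra.DualNumber
import Mathlib.RingTheory.Derivation.Basic
import Mathlib.RingTheory.Finiteness.Basic
import Mathlib.LinearAlgebra.FreeModule.Basic

/-!
Derivations act on local cohomology of the ring.
-/

namespace Groth.Agent.LC16.DerivationH

universe u

set_option autoImplicit false

open CategoryTheory TensorProduct TrivSqZeroExt

variable (A : Type u) [CommRing A] (θ : Derivation ℤ A A)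

/-- dual numbers, to be given the structure map twisted by a derivation -/
def Tw (_θ : Derivation ℤ A A) : Type u := DualNumber A

noncomputable instance : CommRing (Tw A θ) := inferInstanceAs (CommRing (DualNumber A))

/-- the twisted structure map -/
noncomputable def twHom : A →+* DualNumber A where
  toFun a := inl a + inr (θ a)
  map_one' := by rw [θ.map_one_eq_zero, inr_zero, add_zero, inl_one]
  map_mul' a b := by
    refine TrivSqZeroExt.ext ?_ ?_
    · simp
    · simp [θ.leibniz]; ring
  map_zero' := by simp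
  map_add' a b := by
    refine TrivSqZeroExt.ext ?_ ?_ <;> simp

noncomputable instance : Algebra A (Tw A θ) :=
  RingHom.toAlgebra (show A →+* Tw A θ from twHom A θ)

lemma algebraMap_tw (a : A) :
    algebraMap A (Tw A θ) a = (show Tw A θ from inl a + inr (θ a)) := rfl

/-- the twisted dual numbers are free of rank two -/
noncomputable def twEquiv : Tw A θ ≃ₗ[A] (A × A) where
  toFun x := (fst (R := A) (M := A) x, snd (R := A) (M := A) x - θ (fst (R := A) (M := A) x))
  map_add' x y := by
    refine Prod.ext (fst_add _ _) ?_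
    change snd (R := A) (M := A) (x + y) - θ (fst (R := A) (M := A) (x + y)) = _ + _
    erw [fst_add, snd_add, map_add]
    ring
  map_smul' a x := by
    have h : a • x = (show Tw A θ from (inl a + inr (θ a) : DualNumber A)) * x := Algebra.smul_def a x
    have h1 : fst (R := A) (M := A) (a • x) = a * fst (R := A) (M := A) x := by
      rw [h]; erw [fst_mul, fst_add, fst_inl, fst_inr, add_zero]
    have h2 : snd (R := A) (M := A) (a • x) =
        a * snd (R := A) (M := A) x + θ a * fst (R := A) (M := A) x := by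
      rw [h]; erw [TrivSqZeroExt.snd_mul, fst_add, snd_add, fst_inl, fst_inr, snd_inl, snd_inr]
      simp [mul_comm]
    refine Prod.ext h1 ?_
    change snd (R := A) (M := A) (a • x) - θ (fst (R := A) (M := A) (a • x)) = a * (_ - _)
    rw [h1, h2, θ.leibniz]
    simp only [smul_eq_mul]
    ring
  invFun p := (show Tw A θ from (inl p.1 + inr (p.2 + θ p.1) : DualNumber A))
  left_inv x := by
    refine TrivSqZeroExt.ext (R := A) (M := A) ?_ ?_
    · erw [fst_add, fst_inl, fst_inr, add_zero]
    · erw [snd_add, snd_inl, snd_inr, zero_add]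
      ring
  right_inv p := by
    have h1 : fst (R := A) (M := A) (inl p.1 + inr (p.2 + θ p.1) : DualNumber A) = p.1 := by
      rw [fst_add, fst_inl, fst_inr, add_zero]
    have h2 : snd (R := A) (M := A) (inl p.1 + inr (p.2 + θ p.1) : DualNumber A) = p.2 + θ p.1 := by
      rw [snd_add, snd_inl, snd_inr, zero_add]
    refine Prod.ext h1 ?_
    change snd (R := A) (M := A) (inl p.1 + inr (p.2 + θ p.1) : DualNumber A) -
      θ (fst (R := A) (M := A) (inl p.1 + inr (p.2 + θ p.1) : DualNumber A)) = p.2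
    rw [h1, h2, add_sub_cancel_right]

variable [IsNoetherianRing A] (I : Ideal A)

instance : Module.Free A (Tw A θ) := Module.Free.of_equiv (twEquiv A θ).symm

instance : Module.Finite A (Tw A θ) := Module.Finite.equiv (twEquiv A θ).symm

instance : IsNoetherianRing (Tw A θ) := IsNoetherianRing.of_finite A _

lemma fst_algebraMap (θ' : Derivation ℤ A A) (a : A) :
    fst (R := A) (M := A) (algebraMap A (Tw A θ') a) = a := by
  rw [algebraMap_tw]; erw [fst_add, fst_inl, fst_inr, add_zero]

lemma mem_radical_map (θ' : Derivation ℤ A A) {a : A} (ha : a ∈ I) :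
    (show Tw A θ' from (inl a + inr (θ a) : DualNumber A)) ∈
      (I.map (algebraMap A (Tw A θ'))).radical := by
  have h0 : (show Tw A θ' from (inr (θ a - θ' a) : DualNumber A)) ∈
      (I.map (algebraMap A (Tw A θ'))).radical := by
    refine ⟨2, ?_⟩
    rw [pow_two]
    erw [inr_mul_inr]
    exact zero_mem _
  have h1 : algebraMap A (Tw A θ') a ∈ (I.map (algebraMap A (Tw A θ'))).radical :=
    Ideal.le_radical (Ideal.mem_map_of_mem _ ha)
  have key : (inl a + inr (θ a) : DualNumber A) = (inl a + inr (θ' a)) + inr (θ a - θ' a) := by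
    refine TrivSqZeroExt.ext ?_ ?_ <;> simp
  have e : (show Tw A θ' from (inl a + inr (θ a) : DualNumber A)) =
      algebraMap A (Tw A θ') a + (show Tw A θ' from (inr (θ a - θ' a) : DualNumber A)) := key
  rw [e]
  exact add_mem h1 h0

/-- forget the twist -/
def cast (θ₁ θ₂ : Derivation ℤ A A) : Tw A θ₁ ≃+* Tw A θ₂ := RingEquiv.refl (DualNumber A)

/-- the nilpotent generator -/
noncomputable def eps (θ' : Derivation ℤ A A) : Tw A θ' :=
  show Tw A θ' from (inr 1 : DualNumber A)

lemma cast_eps (θ₁ θ₂ : Derivation ℤ A A) : cast A θ₁ θ₂ (eps A θ₁) = eps A θ₂ := rfl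

lemma cast_algebraMap (a : A) : cast A θ 0 (algebraMap A (Tw A θ) a) =
    (show Tw A 0 from (inl a + inr (θ a) : DualNumber A)) := rfl

lemma radical_map_cast :
    ((I.map (algebraMap A (Tw A θ))).map (cast A θ 0).toRingHom).radical =
      (I.map (algebraMap A (Tw A 0))).radical := by
  refine le_antisymm (Ideal.radical_le_radical_iff.mpr ?_) (Ideal.radical_le_radical_iff.mpr ?_)
  · rw [Ideal.map_le_iff_le_comap, Ideal.map_le_iff_le_comap]
    exact fun a ha => mem_radical_map A θ I 0 ha
  · rw [Ideal.map_le_iff_le_comap]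
    intro a ha
    have h1 : cast A θ 0 (algebraMap A (Tw A θ) a) ∈
        ((I.map (algebraMap A (Tw A θ))).map (cast A θ 0).toRingHom).radical :=
      Ideal.le_radical (Ideal.mem_map_of_mem _ (Ideal.mem_map_of_mem _ ha))
    have h2 : (show Tw A 0 from (inr (θ a) : DualNumber A)) ∈
        ((I.map (algebraMap A (Tw A θ))).map (cast A θ 0).toRingHom).radical := by
      refine ⟨2, ?_⟩
      rw [pow_two]
      erw [inr_mul_inr]
      exact zero_mem _
    rw [Ideal.mem_comap]
    have e : algebraMap A (Tw A 0) a = cast A θ 0 (algebraMap A (Tw A θ) a) -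
        (show Tw A 0 from (inr (θ a) : DualNumber A)) := by
      rw [cast_algebraMap, algebraMap_tw, Derivation.zero_apply]
      erw [inr_zero, add_zero, add_sub_cancel_right]
    rw [e]
    exact sub_mem h1 h2

section comps

variable {A θ}
variable {H : Type u} [AddCommGroup H] [Module A H]

/-- first component -/
noncomputable def p0 : Tw A θ ⊗[A] H →ₗ[A] H :=
  (TensorProduct.lid A H).toLinearMap ∘ₗ
    (LinearMap.fst A A A ∘ₗ (twEquiv A θ).toLinearMap).rTensor H

/-- second component -/
noncomputable def p1 : Tw A θ ⊗[A] H →ₗ[A] H :=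
  (TensorProduct.lid A H).toLinearMap ∘ₗ
    (LinearMap.snd A A A ∘ₗ (twEquiv A θ).toLinearMap).rTensor H

omit [IsNoetherianRing A] in
lemma p0_tmul (d : Tw A θ) (h : H) : p0 (d ⊗ₜ[A] h) = fst (R := A) (M := A) d • h := rfl

omit [IsNoetherianRing A] in
lemma p1_tmul (d : Tw A θ) (h : H) :
    p1 (d ⊗ₜ[A] h) = (snd (R := A) (M := A) d - θ (fst (R := A) (M := A) d)) • h := rfl

omit [IsNoetherianRing A] in
lemma fst_mul' (d c : Tw A θ) :
    fst (R := A) (M := A) (d * c) = fst (R := A) (M := A) d * fst (R := A) (M := A) c :=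
  fst_mul (show DualNumber A from d) (show DualNumber A from c)

omit [IsNoetherianRing A] in
lemma snd_mul' (d c : Tw A θ) :
    snd (R := A) (M := A) (d * c) = fst (R := A) (M := A) d * snd (R := A) (M := A) c +
      snd (R := A) (M := A) d * fst (R := A) (M := A) c :=
  DualNumber.snd_mul (show DualNumber A from d) (show DualNumber A from c)

omit [IsNoetherianRing A] in
lemma p0_smul (d : Tw A θ) (z : Tw A θ ⊗[A] H) :
    p0 (d • z) = fst (R := A) (M := A) d • p0 z := by
  induction z using TensorProduct.induction_on with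
  | zero => rw [smul_zero, map_zero, smul_zero]
  | tmul c h => rw [smul_tmul', smul_eq_mul, p0_tmul, p0_tmul, fst_mul', mul_smul]
  | add x y hx hy => rw [smul_add, map_add, map_add, hx, hy, smul_add]

omit [IsNoetherianRing A] in
lemma p1_smul (d : Tw A (0 : Derivation ℤ A A)) (z : Tw A (0 : Derivation ℤ A A) ⊗[A] H) :
    p1 (d • z) = fst (R := A) (M := A) d • p1 z + snd (R := A) (M := A) d • p0 z := by
  induction z using TensorProduct.induction_on with
  | zero => simp
  | tmul c h =>
    rw [smul_tmul', smul_eq_mul, p1_tmul, p1_tmul, p0_tmul, snd_mul', Derivation.zero_apply,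
      sub_zero, Derivation.zero_apply, sub_zero, add_smul, mul_smul, mul_smul]
  | add x y hx hy =>
    rw [smul_add, map_add, map_add, map_add, hx, hy, smul_add, smul_add]
    abel

omit [IsNoetherianRing A] in
lemma exists_eps_smul (z : Tw A θ ⊗[A] H) : ∃ w, z = (1 : Tw A θ) ⊗ₜ p0 z + eps A θ • w := by
  induction z using TensorProduct.induction_on with
  | zero => exact ⟨0, by simp⟩
  | tmul d h =>
    refine ⟨(show Tw A θ from
      (inl (snd (R := A) (M := A) d - θ (fst (R := A) (M := A) d)) : DualNumber A)) ⊗ₜ h, ?_⟩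
    rw [p0_tmul, smul_tmul', ← smul_tmul, ← add_tmul, Algebra.smul_def, mul_one, smul_eq_mul]
    refine congrArg (· ⊗ₜ[A] h) ?_
    have key : ∀ (d : DualNumber A) (c : A),
        d = (inl c + inr (θ c)) + inr 1 * inl (snd d - θ c) ↔ fst d = c := by
      intro d c
      constructor
      · intro e; rw [e]; simp
      · intro e; refine TrivSqZeroExt.ext ?_ ?_ <;> simp [e]
    exact (key d _).2 rfl
  | add x y hx hy =>
    obtain ⟨a, ha⟩ := hx
    obtain ⟨b, hb⟩ := hy
    refine ⟨a + b, ?_⟩
    conv_lhs => rw [ha, hb]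
    rw [map_add, tmul_add, smul_add]
    abel

end comps

/-- the two base changes agree, semilinearly along the identification of the rings -/
theorem exists_semilinear (i : ℕ) :
    ∃ Ψ : Tw A θ ⊗[A] LocCoh.H I i A ≃+ Tw A (0 : Derivation ℤ A A) ⊗[A] LocCoh.H I i A,
      ∀ (d : Tw A θ) (z : Tw A θ ⊗[A] LocCoh.H I i A), Ψ (d • z) = cast A θ 0 d • Ψ z := by
  let : Algebra (Tw A θ) (Tw A (0 : Derivation ℤ A A)) := (cast A θ 0).toRingHom.toAlgebra
  obtain ⟨eθ⟩ := FlatBC.exists_equiv (Tw A θ) I i A
  obtain ⟨e0⟩ := FlatBC.exists_equiv (Tw A (0 : Derivation ℤ A A)) I i A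
  obtain ⟨φ, hφ⟩ := ChangeRings.exists_equiv (R := Tw A θ) (R' := Tw A (0 : Derivation ℤ A A))
    (I.map (algebraMap A (Tw A θ))) i (Tw A (0 : Derivation ℤ A A))
  let gθ : Tw A θ ⊗[A] A ≃ₗ[Tw A θ] Tw A (0 : Derivation ℤ A A) :=
    TensorProduct.AlgebraTensorModule.rid A (Tw A θ) (Tw A θ) ≪≫ₗ
      { (cast A θ 0).toAddEquiv with
        map_smul' := fun r x => map_mul (cast A θ 0) r x }
  let g0 := (TensorProduct.AlgebraTensorModule.rid A (Tw A (0 : Derivation ℤ A A))
    (Tw A (0 : Derivation ℤ A A))).symm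
  let ρ := ((localCohomology.isoOfSameRadical (radical_map_cast A θ I) i).app
    (ModuleCat.of (Tw A (0 : Derivation ℤ A A)) (Tw A (0 : Derivation ℤ A A)))).toLinearEquiv
  let left := eθ ≪≫ₗ LC15.Hequiv _ i gθ
  let right : LocCoh.H ((I.map (algebraMap A (Tw A θ))).map
      (algebraMap (Tw A θ) (Tw A (0 : Derivation ℤ A A)))) i (Tw A (0 : Derivation ℤ A A)) ≃ₗ[_] _ :=
    ρ ≪≫ₗ LC15.Hequiv _ i g0 ≪≫ₗ e0.symm
  refine ⟨(left.toAddEquiv.trans φ.symm).trans right.toAddEquiv, fun d z => ?_⟩
  change right (φ.symm (left (d • z))) = cast A θ 0 d • right (φ.symm (left z))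
  rw [map_smul, ← map_smul right]
  refine congrArg right (φ.injective ?_)
  rw [AddEquiv.apply_symm_apply]
  exact (congrArg (d • ·) (φ.apply_symm_apply (left z))).symm.trans (hφ d _).symm

/-- derivations act on local cohomology -/
theorem exists_operator (i : ℕ) :
    ∃ D : LocCoh.H I i A →+ LocCoh.H I i A,
      ∀ (a : A) (ξ : LocCoh.H I i A), D (a • ξ) = θ a • ξ + a • D ξ := by
  obtain ⟨Ψ, hΨ⟩ := exists_semilinear A θ I i
  let u : LocCoh.H I i A →+ Tw A (0 : Derivation ℤ A A) ⊗[A] LocCoh.H I i A :=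
    Ψ.toAddMonoidHom.comp (TensorProduct.mk A (Tw A θ) (LocCoh.H I i A) 1).toAddMonoidHom
  have hu : ∀ (a : A) ξ, u (a • ξ) =
      (show Tw A (0 : Derivation ℤ A A) from (inl a + inr (θ a) : DualNumber A)) • u ξ := by
    intro a ξ
    change Ψ ((1 : Tw A θ) ⊗ₜ[A] (a • ξ)) = _
    rw [tmul_smul, ← algebraMap_smul (Tw A θ) a, hΨ]
    rfl
  let α : LocCoh.H I i A →ₗ[A] LocCoh.H I i A :=
    { toFun := fun ξ => p0 (u ξ)
      map_add' := fun x y => by rw [map_add, map_add]
      map_smul' := fun a ξ => by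
        rw [hu, p0_smul, RingHom.id_apply]
        congr 1
        exact (fst_add _ _).trans ((congrArg₂ (· + ·) (fst_inl A a) (fst_inr A (θ a))).trans
          (add_zero a)) }
  have hα : ∀ z, p0 (Ψ z) = α (p0 z) := by
    intro z
    obtain ⟨w, hw⟩ := exists_eps_smul z
    conv_lhs => rw [hw]
    rw [map_add, map_add, hΨ, cast_eps, p0_smul]
    refine (congrArg _ ((congrArg (· • _) (fst_inr A (1 : A))).trans (zero_smul _ _))).trans
      (add_zero _)
  have hbij : Function.Bijective α := by
    constructor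
    · refine (injective_iff_map_eq_zero α).2 fun ξ hξ => ?_
      obtain ⟨w, hw⟩ := exists_eps_smul (Ψ ((1 : Tw A θ) ⊗ₜ[A] ξ))
      rw [show p0 (Ψ ((1 : Tw A θ) ⊗ₜ[A] ξ)) = 0 from hξ, tmul_zero, zero_add, ← cast_eps A θ 0,
        ← Ψ.apply_symm_apply w, ← hΨ] at hw
      have h1 := congrArg p0 (Ψ.injective hw)
      rw [p0_tmul, p0_smul] at h1
      refine ((one_smul A ξ).symm.trans ?_)
      refine ((congrArg (· • ξ) ?_).trans h1).trans
        ((congrArg (· • _) (fst_inr A (1 : A))).trans (zero_smul _ _))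
      exact (fst_one (R := A) (M := A)).symm
    · intro y
      refine ⟨p0 (Ψ.symm ((1 : Tw A (0 : Derivation ℤ A A)) ⊗ₜ[A] y)), ?_⟩
      rw [← hα, AddEquiv.apply_symm_apply, p0_tmul]
      exact (congrArg (· • y) (fst_one (R := A) (M := A))).trans (one_smul A y)
  let e := LinearEquiv.ofBijective α hbij
  refine ⟨e.symm.toLinearMap.toAddMonoidHom.comp (p1.toAddMonoidHom.comp u), fun a ξ => ?_⟩
  change e.symm (p1 (u (a • ξ))) = θ a • ξ + a • e.symm (p1 (u ξ))
  rw [hu, p1_smul, LinearEquiv.symm_apply_eq, map_add, map_smul, map_smul,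
    LinearEquiv.apply_symm_apply, add_comm]
  refine congrArg₂ (· + ·) ?_ ?_
  · refine congrArg (· • p0 (u ξ)) ?_
    exact (snd_add _ _).trans ((congrArg₂ (· + ·) (snd_inl A a) (snd_inr A (θ a))).trans
      (zero_add _))
  · refine congrArg (· • p1 (u ξ)) ?_
    exact (fst_add _ _).trans ((congrArg₂ (· + ·) (fst_inl A a) (fst_inr A (θ a))).trans
      (add_zero a))

end Groth.Agent.LC16.DerivationH
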