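import Groth.Agent.LC15.Gamma
import Groth.Prelude.Def_DRing3
import Mathlib.CategoryTheory.Abelian.RightDerived
import Mathlib.CategoryTheory.Abelian.Injective.Ext
import Mathlib.CategoryTheory.Abelian.Injective.Resolution

/-!
The right derived functors of the torsion functor are local cohomology.
-/

namespace Groth.Agent.LC16.DerivedGamma

universe u

set_option autoImplicit false

open CategoryTheory CategoryTheory.Limits LC15

variable {R : Type u} [CommRing R] (I : Ideal R)

section qf

variable {N : ModuleCat.{u} R} (z : N) {n : ℕ} (h : ∀ a ∈ I ^ n, a • z = 0)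

/-- the map out of the truncation sending one to a killed element -/
def qf : quotPow I n ⟶ N :=
  ModuleCat.ofHom ((I ^ n).liftQ (LinearMap.toSpanSingleton R N z) fun a ha => h a ha)

lemma qf_mk (r : R) : (qf I z h).hom (Submodule.Quotient.mk r) = r • z := rfl

omit h in
lemma quotPow_hom_ext {N : ModuleCat.{u} R} {n : ℕ} {f g : quotPow I n ⟶ N}
    (hfg : f.hom (Submodule.Quotient.mk 1) = g.hom (Submodule.Quotient.mk 1)) : f = g := by
  ext
  exact hfg

lemma eq_qf (f : quotPow I n ⟶ N) (hf : f.hom (Submodule.Quotient.mk 1) = z) :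
    f = qf I z h := quotPow_hom_ext I (hf.trans (one_smul R z).symm)

omit h in
lemma kills (f : quotPow I n ⟶ N) : ∀ a ∈ I ^ n, a • f.hom (Submodule.Quotient.mk 1) = 0 := by
  intro a ha
  rw [← map_smul, ← Submodule.Quotient.mk_smul, smul_eq_mul, mul_one,
    (Submodule.Quotient.mk_eq_zero _).mpr ha, map_zero]

end qf

variable {M : ModuleCat.{u} R} (J : InjectiveResolution M) (i : ℕ)

/-- the complex of torsion sections of the resolution -/
abbrev gCx : CochainComplex (ModuleCat.{u} R) ℕ :=
  ((DRing.gammaI I).mapHomologicalComplex _).obj J.cocomplex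

lemma qf_comp_d {z : J.cocomplex.X i} {n : ℕ} (h : ∀ a ∈ I ^ n, a • z = 0)
    (hz : (J.cocomplex.d i (i + 1)).hom z = 0) :
    qf I z h ≫ J.cocomplex.d i (i + 1) = 0 := by
  refine quotPow_hom_ext I ?_
  change (J.cocomplex.d i (i + 1)).hom ((1 : R) • z) = 0
  rw [one_smul, hz]

/-- the class of a torsion cocycle -/
noncomputable def cls (z : J.cocomplex.X i) (n : ℕ) (h : ∀ a ∈ I ^ n, a • z = 0)
    (hz : (J.cocomplex.d i (i + 1)).hom z = 0) : LocCoh.H I i M :=
  toH I i M n (J.extMk (qf I z h) (i + 1) rfl (qf_comp_d I J i h hz))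

lemma cls_le {z : J.cocomplex.X i} {n m : ℕ} (hnm : n ≤ m) (h : ∀ a ∈ I ^ n, a • z = 0)
    (h' : ∀ a ∈ I ^ m, a • z = 0) (hz : (J.cocomplex.d i (i + 1)).hom z = 0) :
    cls I J i z m h' hz = cls I J i z n h hz := by
  have e1 := J.mk₀_comp_extMk (qf I z h) (i + 1) rfl (qf_comp_d I J i h hz) (qmap I hnm)
  have e2 : qmap I hnm ≫ qf I z h = qf I z h' := eq_qf I z h' _ (one_smul R z)
  have e3 : J.extMk (qf I z h') (i + 1) rfl (qf_comp_d I J i h' hz) =
      (Abelian.Ext.mk₀ (qmap I hnm)).comp (J.extMk (qf I z h) (i + 1) rfl (qf_comp_d I J i h hz))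
        (zero_add i) := by
    rw [e1]
    simp only [e2]
  exact (congrArg (toH I i M m) e3).trans (toH_precomp I i M hnm _)

lemma cls_eq {z w : J.cocomplex.X i} (e : z = w) {n m : ℕ} (h : ∀ a ∈ I ^ n, a • z = 0)
    (h' : ∀ a ∈ I ^ m, a • w = 0) (hz : (J.cocomplex.d i (i + 1)).hom z = 0)
    (hw : (J.cocomplex.d i (i + 1)).hom w = 0) :
    cls I J i z n h hz = cls I J i w m h' hw := by
  subst e
  have hk : ∀ a ∈ I ^ (max n m), a • z = 0 := fun a ha =>
    h a (Ideal.pow_le_pow_right (le_max_left n m) ha)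
  rw [← cls_le I J i (le_max_left n m) h hk hz, ← cls_le I J i (le_max_right n m) h' hk hz]

/-- underlying element of a cocycle -/
noncomputable def zval : (gCx I J).cycles i →ₗ[R] J.cocomplex.X i :=
  (DRing.torsionSub I (J.cocomplex.X i)).subtype ∘ₗ ((gCx I J).iCycles i).hom

lemma zval_d (c : (gCx I J).cycles i) : (J.cocomplex.d i (i + 1)).hom (zval I J i c) = 0 := by
  have h := congr(($((gCx I J).iCycles_d i (i + 1))).hom c)
  exact congrArg Subtype.val h

lemma zval_injective : Function.Injective (zval I J i) := by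
  have h : Function.Injective ((gCx I J).iCycles i) :=
    (ModuleCat.mono_iff_injective _).1 inferInstance
  exact fun a b e => h (Subtype.ext e)

lemma zval_mem (c : (gCx I J).cycles i) : zval I J i c ∈ DRing.torsionSub I (J.cocomplex.X i) :=
  (((gCx I J).iCycles i).hom c).2

lemma exists_cycle (z : J.cocomplex.X i) (hz : z ∈ DRing.torsionSub I (J.cocomplex.X i))
    (hd : (J.cocomplex.d i (i + 1)).hom z = 0) : ∃ c, zval I J i c = z := by
  let k : ModuleCat.of R R ⟶ (gCx I J).X i :=
    ModuleCat.ofHom (LinearMap.toSpanSingleton R (DRing.torsionSub I (J.cocomplex.X i)) ⟨z, hz⟩)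
  have hk : k ≫ (gCx I J).d i (i + 1) = 0 := by
    ext
    exact Subtype.ext ((congrArg (J.cocomplex.d i (i + 1)).hom (one_smul R z)).trans hd)
  refine ⟨(gCx I J).liftCycles k (i + 1) (CochainComplex.next _ i) hk (1 : R), ?_⟩
  refine (congrArg Subtype.val (ConcreteCategory.congr_hom
    ((gCx I J).liftCycles_i k (i + 1) (CochainComplex.next _ i) hk) (1 : R))).trans ?_
  exact one_smul R z

lemma extMk_congr {X : ModuleCat.{u} R} {f f' : X ⟶ J.cocomplex.X i} (e : f = f')
    (hf : f ≫ J.cocomplex.d i (i + 1) = 0) :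
    J.extMk f (i + 1) rfl hf = J.extMk f' (i + 1) rfl (e ▸ hf) := by
  subst e; rfl

lemma cls_add {z w : J.cocomplex.X i} {n : ℕ} (h : ∀ a ∈ I ^ n, a • z = 0)
    (h' : ∀ a ∈ I ^ n, a • w = 0) (h'' : ∀ a ∈ I ^ n, a • (z + w) = 0)
    (hz : (J.cocomplex.d i (i + 1)).hom z = 0) (hw : (J.cocomplex.d i (i + 1)).hom w = 0)
    (hzw : (J.cocomplex.d i (i + 1)).hom (z + w) = 0) :
    cls I J i (z + w) n h'' hzw = cls I J i z n h hz + cls I J i w n h' hw := by
  have e2 : qf I (z + w) h'' = qf I z h + qf I w h' :=
    quotPow_hom_ext I (smul_add (1 : R) z w)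
  have e3 : J.extMk (qf I (z + w) h'') (i + 1) rfl (qf_comp_d I J i h'' hzw) =
      J.extMk (qf I z h) (i + 1) rfl (qf_comp_d I J i h hz) +
        J.extMk (qf I w h') (i + 1) rfl (qf_comp_d I J i h' hw) := by
    rw [InjectiveResolution.add_extMk]
    simp only [e2]
  exact (congrArg (toH I i M n) e3).trans (map_add _ _ _)

lemma cls_smul {z : J.cocomplex.X i} {n : ℕ} (r : R) (h : ∀ a ∈ I ^ n, a • z = 0)
    (h' : ∀ a ∈ I ^ n, a • (r • z) = 0) (hz : (J.cocomplex.d i (i + 1)).hom z = 0)
    (hrz : (J.cocomplex.d i (i + 1)).hom (r • z) = 0) :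
    cls I J i (r • z) n h' hrz = r • cls I J i z n h hz := by
  have e1 := J.mk₀_comp_extMk (qf I z h) (i + 1) rfl (qf_comp_d I J i h hz)
    (r • 𝟙 (quotPow I n))
  have e2 : (r • 𝟙 (quotPow I n)) ≫ qf I z h = qf I (r • z) h' := by
    refine quotPow_hom_ext I ?_
    exact (map_smul (qf I z h).hom r (Submodule.Quotient.mk 1)).trans (smul_comm r (1 : R) z)
  have e3 : J.extMk (qf I (r • z) h') (i + 1) rfl (qf_comp_d I J i h' hrz) =
      r • J.extMk (qf I z h) (i + 1) rfl (qf_comp_d I J i h hz) := by
    rw [Abelian.Ext.mk₀_smul, Abelian.Ext.smul_comp, Abelian.Ext.mk₀_id_comp] at e1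
    rw [e1]
    simp only [e2]
  exact (congrArg (toH I i M n) e3).trans (map_smul _ _ _)

/-- cocycles to local cohomology -/
noncomputable def cyclesToH : (gCx I J).cycles i ⟶ ModuleCat.of R (LocCoh.H I i M) :=
  ModuleCat.ofHom
    { toFun := fun c => cls I J i (zval I J i c) (zval_mem I J i c).choose
        (zval_mem I J i c).choose_spec (zval_d I J i c)
      map_add' := fun c d => by
        obtain ⟨n, hn⟩ := zval_mem I J i c
        obtain ⟨k, hk⟩ := zval_mem I J i d
        have hn' : ∀ a ∈ I ^ (max n k), a • zval I J i c = 0 := fun a ha =>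
          hn a (Ideal.pow_le_pow_right (le_max_left n k) ha)
        have hk' : ∀ a ∈ I ^ (max n k), a • zval I J i d = 0 := fun a ha =>
          hk a (Ideal.pow_le_pow_right (le_max_right n k) ha)
        have hs : ∀ a ∈ I ^ (max n k), a • (zval I J i c + zval I J i d) = 0 := fun a ha => by
          rw [smul_add, hn' a ha, hk' a ha, add_zero]
        exact (cls_eq I J i (map_add (zval I J i) c d) (zval_mem I J i (c + d)).choose_spec hs
            (zval_d I J i (c + d)) (((map_add _ _ _).trans (congrArg₂ (· + ·) (zval_d I J i c) (zval_d I J i d))).trans (add_zero _))).trans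
          ((cls_add I J i hn' hk' hs (zval_d I J i c) (zval_d I J i d) _).trans
          (congrArg₂ (· + ·)
            (cls_eq I J i rfl hn' (zval_mem I J i c).choose_spec (zval_d I J i c) (zval_d I J i c))
            (cls_eq I J i rfl hk' (zval_mem I J i d).choose_spec (zval_d I J i d) (zval_d I J i d))))
      map_smul' := fun r c => by
        obtain ⟨n, hn⟩ := zval_mem I J i c
        have hs : ∀ a ∈ I ^ n, a • (r • zval I J i c) = 0 := fun a ha => by
          rw [smul_comm, hn a ha, smul_zero]
        exact (cls_eq I J i (map_smul (zval I J i) r c) (zval_mem I J i (r • c)).choose_spec hs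
            (zval_d I J i (r • c)) (((map_smul _ r _).trans (congrArg (r • ·) (zval_d I J i c))).trans (smul_zero r))).trans
          ((cls_smul I J i r hn hs (zval_d I J i c) _).trans
          (congrArg (r • ·)
            (cls_eq I J i rfl hn (zval_mem I J i c).choose_spec (zval_d I J i c) (zval_d I J i c)))) }

lemma cyclesToH_apply (c : (gCx I J).cycles i) {n : ℕ} (h : ∀ a ∈ I ^ n, a • zval I J i c = 0) :
    cyclesToH I J i c = cls I J i (zval I J i c) n h (zval_d I J i c) :=
  cls_eq I J i rfl (zval_mem I J i c).choose_spec h (zval_d I J i c) (zval_d I J i c)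

lemma extMk_zero_degree_eq_zero {X : ModuleCat.{u} R} (f : X ⟶ J.cocomplex.X 0)
    (hf : f ≫ J.cocomplex.d 0 1 = 0) (h : J.extMk f 1 rfl hf = 0) : f = 0 := by
  have h' : J.extEquivCohomologyClass (J.extMk f 1 rfl hf) = 0 := by
    rw [h, InjectiveResolution.extEquivCohomologyClass_zero]
  rw [InjectiveResolution.extEquivCohomologyClass_extMk,
    CochainComplex.HomComplex.CohomologyClass.mk_eq_zero_iff,
    CochainComplex.HomComplex.Cocycle.fromSingleMk_mem_coboundaries_iff _ _ _ _ _ (-1) (by simp)]
    at h'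
  obtain ⟨g, hg⟩ := h'
  have hz : IsZero (J.cochainComplex.X (-1)) :=
    J.cochainComplex.isZero_of_isStrictlyGE 0 (-1) (by lia)
  rw [hz.eq_of_tgt g 0, zero_comp] at hg
  rw [← cancel_mono (J.cochainComplexXIso (0 : ℕ) 0 rfl).inv, zero_comp]
  exact hg.symm

lemma toCycles_cyclesToH (j : ℕ) : (gCx I J).toCycles j i ≫ cyclesToH I J i = 0 := by
  by_cases h : (ComplexShape.up ℕ).Rel j i
  · obtain rfl : j + 1 = i := h
    ext w
    obtain ⟨n, hn⟩ := w.2
    have hv : zval I J (j + 1) (((gCx I J).toCycles j (j + 1)).hom w) =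
        (J.cocomplex.d j (j + 1)).hom w.1 :=
      congrArg Subtype.val (ConcreteCategory.congr_hom ((gCx I J).toCycles_i j (j + 1)) w)
    refine (cyclesToH_apply I J (j + 1) (((gCx I J).toCycles j (j + 1)).hom w) (n := n)
      (fun a ha => by rw [hv, ← map_smul, hn a ha, map_zero])).trans ?_
    change toH I (j + 1) M n _ = (0 : LocCoh.H I (j + 1) M)
    refine (congrArg _ ((J.extMk_eq_zero_iff _ _ rfl _ j rfl).2 ⟨qf I w.1 hn, ?_⟩)).trans (map_zero _)
    refine quotPow_hom_ext I ?_
    change (J.cocomplex.d j (j + 1)).hom ((1 : R) • w.1) = (1 : R) • zval I J (j + 1) _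
    rw [map_smul, hv]
  · rw [(gCx I J).toCycles_eq_zero h, zero_comp]

/-- the comparison on homology -/
noncomputable def homologyToH : (gCx I J).homology i ⟶ ModuleCat.of R (LocCoh.H I i M) :=
  ((gCx I J).homologyIsCokernel _ i rfl).desc
    (CokernelCofork.ofπ (cyclesToH I J i) (toCycles_cyclesToH I J i _))

@[reassoc]
lemma homologyπ_homologyToH : (gCx I J).homologyπ i ≫ homologyToH I J i = cyclesToH I J i :=
  ((gCx I J).homologyIsCokernel _ i rfl).fac _ WalkingParallelPair.one

lemma homologyToH_bijective : Function.Bijective (homologyToH I J i) := by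
  have key : ∀ c, homologyToH I J i ((gCx I J).homologyπ i c) = cyclesToH I J i c :=
    fun c => ConcreteCategory.congr_hom (homologyπ_homologyToH I J i) c
  constructor
  · refine (injective_iff_map_eq_zero _).2 fun x hx => ?_
    obtain ⟨c, rfl⟩ := (ModuleCat.epi_iff_surjective ((gCx I J).homologyπ i)).1 inferInstance x
    obtain ⟨n, hn⟩ := zval_mem I J i c
    rw [key, cyclesToH_apply I J i c hn, cls] at hx
    obtain ⟨m, hm, hm'⟩ := (toH_eq_zero_iff I i M _).1 hx
    rw [InjectiveResolution.mk₀_comp_extMk] at hm'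
    have hv : (qmap I hm ≫ qf I (zval I J i c) hn).hom (Submodule.Quotient.mk 1) = zval I J i c :=
      one_smul R _
    rcases Nat.eq_zero_or_pos i with rfl | hi
    · have h0 := extMk_zero_degree_eq_zero J _ _ hm'
      rw [h0] at hv
      rw [show c = 0 from zval_injective I J 0 (hv.symm.trans (map_zero _).symm), map_zero]
    · obtain ⟨p, rfl⟩ : ∃ p, i = p + 1 := ⟨i - 1, by omega⟩
      obtain ⟨g, hg⟩ := (J.extMk_eq_zero_iff _ _ rfl _ p rfl).1 hm'
      let w : (gCx I J).X p := ⟨g.hom (Submodule.Quotient.mk 1), m, kills I g⟩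
      have hw : (gCx I J).toCycles p (p + 1) w = c := by
        refine zval_injective I J (p + 1) ?_
        refine (congrArg Subtype.val (ConcreteCategory.congr_hom
          ((gCx I J).toCycles_i p (p + 1)) w)).trans ?_
        exact (congr(($hg).hom (Submodule.Quotient.mk 1))).trans hv
      rw [← hw]
      exact ConcreteCategory.congr_hom ((gCx I J).toCycles_comp_homologyπ p (p + 1)) w
  · intro y
    obtain ⟨n, x, rfl⟩ := toH_surj I i M y
    obtain ⟨f, hf, rfl⟩ := J.extMk_surjective x (i + 1) rfl
    have hd : (J.cocomplex.d i (i + 1)).hom (f.hom (Submodule.Quotient.mk 1)) = 0 :=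
      congr(($hf).hom (Submodule.Quotient.mk 1))
    obtain ⟨c, hc⟩ := exists_cycle I J i _ ⟨n, kills I f⟩ hd
    have hn : ∀ a ∈ I ^ n, a • zval I J i c = 0 := fun a ha => by rw [hc]; exact kills I f a ha
    refine ⟨(gCx I J).homologyπ i c, (key c).trans ((cyclesToH_apply I J i c hn).trans ?_)⟩
    have e : f = qf I (zval I J i c) hn := eq_qf I _ hn f hc.symm
    subst e
    rfl

variable {M' : ModuleCat.{u} R} (J' : InjectiveResolution M')

lemma homologyToH_natural {g : M ⟶ M'} (φ : InjectiveResolution.Hom J J' g)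
    (x : (gCx I J).homology i) :
    homologyToH I J' i (HomologicalComplex.homologyMap
      (((DRing.gammaI I).mapHomologicalComplex _).map φ.hom) i x) =
        Hmap I i g.hom (homologyToH I J i x) := by
  obtain ⟨c, rfl⟩ := (ModuleCat.epi_iff_surjective ((gCx I J).homologyπ i)).1 inferInstance x
  set ψ := ((DRing.gammaI I).mapHomologicalComplex (ComplexShape.up ℕ)).map φ.hom
  rw [← ConcreteCategory.comp_apply (f := (gCx I J).homologyπ i),
    HomologicalComplex.homologyπ_naturality]
  erw [ConcreteCategory.congr_hom (homologyπ_homologyToH I J' i) _,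
    ConcreteCategory.congr_hom (homologyπ_homologyToH I J i) c]
  obtain ⟨n, hn⟩ := zval_mem I J i c
  generalize hc' : (HomologicalComplex.cyclesMap ψ i) c = c'
  have hv : zval I J' i c' = (φ.hom.f i).hom (zval I J i c) := by
    subst hc'
    exact congrArg Subtype.val (ConcreteCategory.congr_hom (HomologicalComplex.cyclesMap_i ψ i) c)
  have hn' : ∀ a ∈ I ^ n, a • zval I J' i c' = 0 := fun a ha => by
    rw [hv, ← map_smul, hn a ha, map_zero]
  have hd : qf I (zval I J' i c') hn' = qf I (zval I J i c) hn ≫ φ.hom.f i := by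
    refine quotPow_hom_ext I ?_
    change (1 : R) • zval I J' i c' = (φ.hom.f i).hom ((1 : R) • zval I J i c)
    rw [hv, map_smul]
  subst hc'
  refine (cyclesToH_apply I J' i _ hn').trans ?_
  refine Eq.trans ?_ (congrArg (Hmap I i g.hom) (cyclesToH_apply I J i c hn)).symm
  refine Eq.trans ?_ (Hmap_toH I i g.hom n _).symm
  refine congrArg (toH I i M' n) ?_
  refine Eq.trans ?_ (InjectiveResolution.extMk_comp_mk₀ _ _ rfl
    (qf_comp_d I J i hn (zval_d I J i c)) φ).symm
  exact extMk_congr J' i hd _

variable (M) in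
/-- the isomorphism for one module -/
noncomputable def appIso : ((DRing.gammaI I).rightDerived i).obj M ≅ (localCohomology I i).obj M :=
  (injectiveResolution M).isoRightDerivedObj (DRing.gammaI I) i ≪≫
    ((LinearEquiv.ofBijective (homologyToH I (injectiveResolution M) i).hom
      (homologyToH_bijective I _ i)).toModuleIso : _ ≅ ModuleCat.of R (LocCoh.H I i M))

lemma appIso_apply (x : ((DRing.gammaI I).rightDerived i).obj M) :
    (appIso I M i).hom x = homologyToH I (injectiveResolution M) i
      (((injectiveResolution M).isoRightDerivedObj (DRing.gammaI I) i).hom x) := rfl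

/-- the right derived functors of the torsion functor are local cohomology -/
noncomputable def natIso : (DRing.gammaI I).rightDerived i ≅ localCohomology I i :=
  NatIso.ofComponents (fun M => appIso I M i) fun {M M'} g => by
    let φ : InjectiveResolution.Hom (injectiveResolution M) (injectiveResolution M') g :=
      { hom := InjectiveResolution.desc g _ _
        ι_f_zero_comp_hom_f_zero := by
          rw [InjectiveResolution.desc_commutes_zero, CochainComplex.single₀_map_f_zero]
          rfl }
    ext x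
    have h := ConcreteCategory.congr_hom (InjectiveResolution.isoRightDerivedObj_hom_naturality g
      (injectiveResolution M) (injectiveResolution M') φ.hom
      (InjectiveResolution.desc_commutes_zero _ _ _) (DRing.gammaI I) i) x
    change (appIso I M' i).hom _ = Hmap I i g.hom ((appIso I M i).hom x)
    rw [appIso_apply, appIso_apply]
    exact (congrArg _ h).trans (homologyToH_natural I (injectiveResolution M) i (injectiveResolution M') φ _)

end Groth.Agent.LC16.DerivedGamma
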