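import Groth.Agent.RD97.LES
import Mathlib.Algebra.Homology.HomologySequence
import Mathlib.Algebra.Homology.HomologicalComplexAbelian

/-!
An exact functor to cochain complexes whose degree zero cohomology is a left exact functor `T` and
which is acyclic on injectives computes the right derived functors of `T`.
-/

set_option autoImplicit false
set_option linter.style.haveILetI false
set_option backward.isDefEq.respectTransparency.types false

noncomputable section

universe v u v' u'

open CategoryTheory CategoryTheory.Limits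

namespace Groth.Agent.LC16.DimShift

variable {C : Type u} [Category.{v} C] [Abelian C] [HasInjectiveResolutions C]
  {D : Type u'} [Category.{v'} D] [Abelian D]

/-- Dimension shifting. -/
theorem nonempty_homology_iso_rightDerived (T : C ⥤ D) [T.Additive] [PreservesFiniteLimits T]
    (K : C ⥤ CochainComplex D ℕ) [K.PreservesZeroMorphisms]
    (hK : ∀ S : ShortComplex C, S.ShortExact → (S.map K).ShortExact)
    (e₀ : T ≅ K ⋙ HomologicalComplex.homologyFunctor D (ComplexShape.up ℕ) 0)
    (hI : ∀ (I : C), Injective I → ∀ n : ℕ, (K.obj I).ExactAt (n + 1))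
    (n : ℕ) : ∀ G : C, Nonempty ((K.obj G).homology n ≅ (T.rightDerived n).obj G) := by
  let ε : ∀ G : C, (K.obj G).homology 0 ≅ (T.rightDerived 0).obj G := fun G =>
    (e₀.app G).symm ≪≫ (T.rightDerivedZeroIsoSelf.app G).symm
  have hε : ∀ {A B : C} (g : A ⟶ B), HomologicalComplex.homologyMap (K.map g) 0 ≫ (ε B).hom =
      (ε A).hom ≫ (T.rightDerived 0).map g := fun {A B} g => by
    have h1 := e₀.inv.naturality g
    have h2 := T.rightDerivedZeroIsoSelf.inv.naturality g
    simp only [Functor.comp_map, HomologicalComplex.homologyFunctor_map] at h1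
    change HomologicalComplex.homologyMap (K.map g) 0 ≫ e₀.inv.app B ≫ T.rightDerivedZeroIsoSelf.inv.app B =
      (e₀.inv.app A ≫ T.rightDerivedZeroIsoSelf.inv.app A) ≫ (T.rightDerived 0).map g
    rw [← Category.assoc]
    refine (congrArg (· ≫ _) h1).trans ?_
    rw [Category.assoc]
    exact (congrArg (_ ≫ ·) h2).trans (Category.assoc _ _ _).symm
  obtain ⟨Δ⟩ := RD97.nonempty_derivedLES T
  induction n with
  | zero => exact fun G => ⟨ε G⟩
  | succ n ih =>
    intro G
    let P := injectiveResolution G
    haveI : Injective (P.cocomplex.X 0) := P.injective 0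
    haveI hmono : Mono (RD97.aug P) := inferInstance
    let S : ShortComplex C := ShortComplex.mk (RD97.aug P) (cokernel.π (RD97.aug P)) (cokernel.condition _)
    have hS : S.ShortExact :=
      { exact := ShortComplex.exact_of_g_is_cokernel _ (cokernelIsCokernel _) }
    have hij : (ComplexShape.up ℕ).Rel n (n + 1) := rfl
    have hT := hK S hS
    have a1 := hT.homology_exact₁ n (n + 1) hij
    have a3 := hT.homology_exact₃ n (n + 1) hij
    have hz : IsZero ((K.obj S.X₂).homology (n + 1)) :=
      ((HomologicalComplex.exactAt_iff_isZero_homology _ _).1 (hI _ inferInstance n))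
    haveI : Epi (hT.δ n (n + 1) hij) := a1.epi_f (hz.eq_of_tgt _ _)
    have eK : cokernel (HomologicalComplex.homologyMap (K.map S.g) n) ≅ (K.obj G).homology (n + 1) :=
      (cokernelIsCokernel _).coconePointUniqueUpToIso a3.gIsCokernel
    have b1 := Δ.exact₁ S hS n (n + 1) rfl
    have b3 := Δ.exact₃ S hS n (n + 1) rfl
    have hz' : IsZero ((T.rightDerived (n + 1)).obj S.X₂) :=
      T.isZero_rightDerived_obj_injective_succ n _
    haveI : Epi (Δ.δ S hS n (n + 1) rfl) := b1.epi_f (hz'.eq_of_tgt _ _)
    have eT : cokernel ((T.rightDerived n).map S.g) ≅ (T.rightDerived (n + 1)).obj G :=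
      (cokernelIsCokernel _).coconePointUniqueUpToIso b3.gIsCokernel
    cases n with
    | zero =>
      exact ⟨eK.symm ≪≫ cokernel.mapIso _ _ (ε S.X₂) (ε S.X₃) (hε S.g) ≪≫ eT⟩
    | succ m =>
      obtain ⟨q⟩ := ih S.X₃
      have hzK : IsZero ((K.obj S.X₂).homology (m + 1)) :=
        (HomologicalComplex.exactAt_iff_isZero_homology _ _).1 (hI _ inferInstance m)
      have hzT : IsZero ((T.rightDerived (m + 1)).obj S.X₂) :=
        T.isZero_rightDerived_obj_injective_succ m _
      exact ⟨eK.symm ≪≫ cokernelIsoOfEq (hzK.eq_of_src _ 0) ≪≫ cokernelZeroIsoTarget ≪≫ q ≪≫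
        cokernelZeroIsoTarget.symm ≪≫ cokernelIsoOfEq (hzT.eq_of_src 0 _) ≪≫ eT⟩

end Groth.Agent.LC16.DimShift
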