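import Groth.Agent.LC16.SuppT3
import Groth.Agent.LC16.SuppStable
import Groth.Agent.LC16.DualKill
import Groth.Agent.DR39.LocalDual4

/-!
Annihilators of `H^i_T(M)` in the presence of a dualizing complex.
-/

set_option autoImplicit false
set_option maxHeartbeats 1000000

noncomputable section

universe u

open CategoryTheory TensorProduct

attribute [local instance] HasDerivedCategory.standard

namespace Groth.Agent.LC16.DualAnn

open Groth.Agent.DR39 (Mu DF extA)

variable {A : Type u} [CommRing A] {ω : Dual.D A} (hω : Dual.IsDualizing A ω)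

/-- minus the dimension function -/
def mu (p : PrimeSpectrum A) : ℤ := (DR39.exists_mu hω p.asIdeal).choose

theorem mu_spec (p : PrimeSpectrum A) : Mu ω p.asIdeal (mu hω p) :=
  (DR39.exists_mu hω p.asIdeal).choose_spec

theorem mu_bound : ∃ a b : ℤ, ∀ q : PrimeSpectrum A, a ≤ mu hω q ∧ mu hω q ≤ b := by
  haveI := hω.isNoetherianRing
  obtain ⟨a, b, hab⟩ := hω.finite_injective_dimension
  refine ⟨a, b, fun q => ?_⟩
  by_contra hout
  have := DR39.subsingleton_gm_iff.1 (hab (A ⧸ q.asIdeal) (mu hω q) (by omega))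
  exact q.2.ne_top (top_le_iff.1 (this ▸ mu_spec hω q))

/-- `mu` increases along chains at least by their length -/
theorem mu_chain (l : LTSeries (PrimeSpectrum A)) :
    mu hω l.head + l.length ≤ mu hω l.last := by
  obtain ⟨j, hj, hj'⟩ := Mu.chain hω l (mu_spec hω _)
  rwa [DR39.mu_unique hω _ (mu_spec hω l.last) hj']

theorem mu_mono {p q : PrimeSpectrum A} (h : p ≤ q) : mu hω p ≤ mu hω q := by
  rcases eq_or_lt_of_le h with rfl | h
  · exact le_rfl
  · have := mu_chain hω ((RelSeries.singleton _ p).snoc q (by simpa using h))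
    simp at this
    omega

theorem mu_lt {p q : PrimeSpectrum A} (h : p < q) : mu hω p < mu hω q := by
  have := mu_chain hω ((RelSeries.singleton _ p).snoc q (by simpa using h))
  simp at this
  omega

/-- along some chain `mu` increases exactly by the length -/
theorem exists_chain {p q : PrimeSpectrum A} (h : p ≤ q) :
    ∃ l : LTSeries (PrimeSpectrum A), l.head = p ∧ l.last = q ∧
      (l.length : ℤ) = mu hω q - mu hω p := by
  haveI := hω.isNoetherianRing
  suffices ∀ (n : ℕ) (p : PrimeSpectrum A), p ≤ q → mu hω q - mu hω p ≤ n →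
      ∃ l : LTSeries (PrimeSpectrum A), l.head = p ∧ l.last = q ∧
        (l.length : ℤ) = mu hω q - mu hω p from
    this (mu hω q - mu hω p).toNat p h (by have := mu_mono hω h; omega)
  intro n
  induction n with
  | zero =>
    intro p hpq hn
    obtain rfl : p = q := by
      by_contra hne
      have := mu_lt hω (lt_of_le_of_ne hpq hne)
      omega
    exact ⟨RelSeries.singleton _ p, rfl, rfl, by simp⟩
  | succ n ih =>
    intro p hpq hn
    by_cases hne : p = q
    · subst hne
      exact ⟨RelSeries.singleton _ p, rfl, rfl, by simp⟩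
    -- a cover of `p` below `q`
    obtain ⟨r, ⟨hpr, hrq⟩, hmin⟩ : ∃ r, (p < r ∧ r ≤ q) ∧ ∀ r', p < r' → r' ≤ q → ¬ r' < r := by
      let S : Set ℕ := (fun r => (mu hω r - mu hω p).toNat) '' {r | p < r ∧ r ≤ q}
      obtain ⟨r, hr, hrn⟩ := Nat.sInf_mem (s := S) ⟨_, q, ⟨lt_of_le_of_ne hpq hne, le_rfl⟩, rfl⟩
      refine ⟨r, hr, fun r' h1 h2 hlt => ?_⟩
      have h3 : sInf S ≤ (mu hω r' - mu hω p).toNat := Nat.sInf_le ⟨r', ⟨h1, h2⟩, rfl⟩
      have hrn' : (mu hω r - mu hω p).toNat = sInf S := hrn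
      have := mu_lt hω hlt
      have := mu_lt hω h1
      omega
    have hcov : p ⋖ r := ⟨hpr, fun c hc hcr => hmin c hc (hcr.le.trans hrq) hcr⟩
    have hstep : mu hω r = mu hω p + 1 :=
      DR39.mu_unique hω r.asIdeal (mu_spec hω r) (Mu.exists_succ hω (mu_spec hω p) hcov)
    obtain ⟨l, hl, hl', hlen⟩ := ih r hrq (by omega)
    refine ⟨l.cons p (by rw [hl]; exact hpr), RelSeries.head_cons .., by simpa using hl', ?_⟩
    simp only [RelSeries.cons_length, Nat.cast_add, Nat.cast_one]
    omega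

/-- the dimension between two primes bounds the difference of `mu` -/
theorem mu_sub_le_dim {p q : PrimeSpectrum A} (h : p ≤ q) {d : ℕ}
    (hd : ∀ l : LTSeries (PrimeSpectrum A), l.head = p → l.last = q → l.length ≤ d) :
    mu hω q - mu hω p ≤ d := by
  obtain ⟨l, h1, h2, h3⟩ := exists_chain hω h
  have := hd l h1 h2
  omega

/-- the normalised localisation of the dualizing complex -/
abbrev omegaAt (q : PrimeSpectrum A) : Dual.D (Localization.AtPrime q.asIdeal) :=
  ((DF (extA A (Localization.AtPrime q.asIdeal))).obj ω)⟦mu hω q⟧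

theorem isDualizing_omegaAt (q : PrimeSpectrum A) :
    Dual.IsDualizing (Localization.AtPrime q.asIdeal) (omegaAt hω q) :=
  DR39.isDualizing_shift (DR39.isDualizing_atPrime hω q.asIdeal) _

theorem isNormalized_omegaAt (q : PrimeSpectrum A) :
    Dual.IsNormalized (Localization.AtPrime q.asIdeal) (omegaAt hω q) := by
  intro i hi
  refine @Equiv.subsingleton _ _ (Iso.homToEquiv ((shiftFunctorAdd' (Dual.D (Localization.AtPrime q.asIdeal))
    (mu hω q) i (mu hω q + i) rfl).app ((DF (extA A (Localization.AtPrime q.asIdeal))).obj ω)).symm) ?_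
  show Subsingleton (Dual.inD (Localization.AtPrime q.asIdeal)
    (Localization.AtPrime q.asIdeal ⧸ IsLocalRing.maximalIdeal (Localization.AtPrime q.asIdeal)) ⟶ _)
  by_contra hne
  change ¬ Subsingleton (Dual.inD (Localization.AtPrime q.asIdeal)
    (Localization.AtPrime q.asIdeal ⧸ IsLocalRing.maximalIdeal (Localization.AtPrime q.asIdeal)) ⟶
      ((DF (extA A (Localization.AtPrime q.asIdeal))).obj ω)⟦mu hω q + i⟧) at hne
  rw [DR39.subsingleton_gm_iff] at hne
  have := DR39.mu_unique hω q.asIdeal ((DR39.mu_iff_atPrime hω q.asIdeal _).2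
    (IsLocalRing.le_maximalIdeal hne)) (mu_spec hω q)
  omega

/-- the localised module -/
abbrev locM (q : PrimeSpectrum A) (M : Type u) [AddCommGroup M] [Module A M] :
    ModuleCat.{u} (Localization.AtPrime q.asIdeal) :=
  ModuleCat.of _ (LocalizedModule q.asIdeal.primeCompl M)

/-- the comparison of the two models of localisation -/
def locIso (q : PrimeSpectrum A) (M : Type u) [AddCommGroup M] [Module A M] :
    ModuleCat.of (Localization.AtPrime q.asIdeal) (Localization.AtPrime q.asIdeal ⊗[A] M) ≅ locM q M :=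
  (LocalizedModule.equivTensorProduct q.asIdeal.primeCompl M).symm.toModuleIso

variable (M : Type u) [AddCommGroup M] [Module A M] [Module.Finite A M]

/-- annihilators localise -/
theorem map_gAnn_le (n : ℤ) (q : PrimeSpectrum A) :
    (LC17.gAnn ω (ModuleCat.of A M) n).map (algebraMap A (Localization.AtPrime q.asIdeal)) ≤
      LC17.gAnn (omegaAt hω q) (locM q M) (n - mu hω q) := by
  haveI := hω.isNoetherianRing
  obtain ⟨a₀, b₀, hb, -⟩ := DR39.exists_bounds hω
  let B := Localization.AtPrime q.asIdeal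
  have hg : DR39.Good B (Dual.inD A M) (ω⟦n⟧) :=
    DR39.good_shift B (DR39.pc_inD M) (c := a₀) (fun j hj => hb j (Or.inl hj)) n
  obtain ⟨e⟩ := DR39.rep_inD_baseChange (B := B) (A := A) M
  rw [← LC17.gAnn_congr _ (locIso q M), Ideal.map_le_iff_le_comap]
  intro a ha
  rw [Ideal.mem_comap, LC17.mem_gAnn]
  intro g
  -- transport to the base change of the module
  let e₂ : ((DF (extA A B)).obj ω)⟦n⟧ ≅ (omegaAt hω q)⟦n - mu hω q⟧ :=
    (shiftFunctorAdd' (Dual.D B) (mu hω q) (n - mu hω q) n (by omega)).app _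
  let c := ((DF (extA A B)).commShiftIso n).app ω
  obtain ⟨w, hw⟩ := hg.2 (e.hom ≫ g ≫ e₂.inv ≫ c.inv)
  have hz : algebraMap A B a • w = 0 := by
    clear hw
    induction w using TensorProduct.induction_on with
    | zero => rw [smul_zero]
    | tmul b f =>
      rw [algebraMap_smul, ← TensorProduct.tmul_smul, (LC17.mem_gAnn ω).1 ha f, TensorProduct.tmul_zero]
    | add x y hx hy => rw [smul_add, hx, hy, add_zero]
  have h := congrArg (DR39.thetaBar B (Dual.inD A M) (ω⟦n⟧)) hz
  rw [map_smul, hw, map_zero, ← Linear.comp_smul, ← Linear.smul_comp] at h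
  have h' := (cancel_mono (e₂.inv ≫ c.inv)).1
    (((cancel_epi e.hom).1 (h.trans Limits.comp_zero.symm)).trans Limits.zero_comp.symm)
  exact h'

/-- where the annihilator is small the depth is small -/
theorem exists_depth_le {n : ℤ} {p : PrimeSpectrum A}
    (h : LC17.gAnn ω (ModuleCat.of A M) n ≤ p.asIdeal) :
    ∃ k : ℕ, LocCoh.depth (Localization.AtPrime p.asIdeal) (LocalizedModule p.asIdeal.primeCompl M) = k ∧
      (k : ℤ) ≤ mu hω p - n := by
  haveI := hω.isNoetherianRing
  let B := Localization.AtPrime p.asIdeal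
  haveI : IsNoetherianRing B := IsLocalization.isNoetherianRing p.asIdeal.primeCompl _ inferInstance
  have hd := isDualizing_omegaAt hω p
  have hn := isNormalized_omegaAt hω p
  have hne : LC17.gAnn (omegaAt hω p) (locM p M) (n - mu hω p) ≠ ⊤ := by
    rw [← LC17.gAnn_congr _ (locIso p M), Ne, ← DR39.subsingleton_gm_iff]
    have h1 := (DR39.gAnn_le_iff_atPrime hω M n p.asIdeal).1 h
    rw [Ne, ← DR39.subsingleton_gm_iff] at h1
    exact fun h2 => h1 ((Iso.homToEquiv ((shiftFunctorAdd' (Dual.D B) (mu hω p) (n - mu hω p) n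
      (by omega)).app _)).subsingleton_congr.2 h2)
  have hle : n - mu hω p ≤ 0 := by
    by_contra hpos
    exact hne (LC17.gAnn_pos hd hn (LocalizedModule p.asIdeal.primeCompl M) (by omega))
  haveI : Nontrivial (LocalizedModule p.asIdeal.primeCompl M) := by
    rw [← not_subsingleton_iff_nontrivial]
    intro hs
    exact hne ((LC17.gAnn_eq_top_iff _).2 fun f => ((DerivedCategory.singleFunctor _ 0).map_isZero
      (ModuleCat.isZero_of_subsingleton _)).eq_of_src f 0)
  haveI : Module.Finite B (LocalizedModule p.asIdeal.primeCompl M) :=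
    Module.Finite.of_isLocalizedModule p.asIdeal.primeCompl (LocalizedModule.mkLinearMap _ M)
  obtain ⟨k, hk⟩ := EGA4Alg4.exists_depth_eq (A := B) (M := LocalizedModule p.asIdeal.primeCompl M)
  refine ⟨k, hk, ?_⟩
  by_contra hlt
  refine hne ?_
  have := (DR39.depth_spec hd hn k (LocalizedModule p.asIdeal.primeCompl M) hk).1
    (mu hω p - n).toNat (by omega)
  rwa [show -((mu hω p - n).toNat : ℤ) = n - mu hω p by omega] at this

/-- an ideal with zero locus in `T'` which is inside a given ideal off `T'` -/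
theorem exists_sat [IsNoetherianRing A] {T' : Set (PrimeSpectrum A)} (hT' : StableUnderSpecialization T')
    (I : Ideal A) :
    ∃ J : Ideal A, PrimeSpectrum.zeroLocus (J : Set A) ⊆ T' ∧ ∀ q : PrimeSpectrum A,
      (∀ p : PrimeSpectrum A, p ∉ T' → p ≤ q → ¬ I ≤ p.asIdeal) →
        ∀ c ∈ J, ∃ v ∉ q.asIdeal, v * c ∈ I := by
  classical
  let P := (Ideal.finite_minimalPrimes_of_isNoetherianRing A I).toFinset
  have hP : ∀ Q, Q ∈ P → Q.IsPrime ∧ I ≤ Q := fun Q hQ => ((Set.Finite.mem_toFinset _).1 hQ).1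
  let inT : Ideal A → Prop := fun Q => ∃ h : Q.IsPrime, (⟨Q, h⟩ : PrimeSpectrum A) ∈ T'
  obtain ⟨k, hk⟩ : ∃ k, (∏ Q ∈ P, Q) ^ k ≤ I := by
    refine Ideal.exists_pow_le_of_le_radical_of_fg ?_ (IsNoetherian.noetherian _)
    rw [← Ideal.sInf_minimalPrimes]
    exact le_sInf fun Q hQ => Ideal.le_of_dvd (Finset.dvd_prod_of_mem _ ((Set.Finite.mem_toFinset _).2 hQ))
  refine ⟨(∏ Q ∈ P.filter inT, Q) ^ k, fun r hr => ?_, fun q hq c hc => ?_⟩
  · rw [PrimeSpectrum.mem_zeroLocus, SetLike.coe_subset_coe] at hr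
    rcases Nat.eq_zero_or_pos k with rfl | hk0
    · rw [pow_zero, Ideal.one_eq_top] at hr
      exact absurd (top_le_iff.1 hr) r.2.ne_top
    obtain ⟨Q, hQ, hQr⟩ := (r.isPrime.prod_le).1 (r.isPrime.le_of_pow_le hr)
    obtain ⟨-, hQp, hQT⟩ := Finset.mem_filter.1 hQ
    exact hT' ((PrimeSpectrum.le_iff_specializes ⟨Q, hQp⟩ r).1 hQr) hQT
  · have hb : ¬ (∏ Q ∈ P.filter (fun Q => ¬ inT Q), Q) ^ k ≤ q.asIdeal := fun hle => by
      obtain ⟨Q, hQ, hQq⟩ := (q.isPrime.prod_le).1 (q.isPrime.le_of_pow_le hle)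
      obtain ⟨hQP, hQT⟩ := Finset.mem_filter.1 hQ
      exact hq ⟨Q, (hP Q hQP).1⟩ (fun h => hQT ⟨_, h⟩) hQq (hP Q hQP).2
    obtain ⟨v, hv, hvq⟩ := SetLike.not_le_iff_exists.1 hb
    refine ⟨v, hvq, hk ?_⟩
    rw [← Finset.prod_filter_mul_prod_filter_not P inT, mul_pow, mul_comm v c]
    exact Ideal.mul_mem_mul hc hv

include hω in
/-- The annihilator theorem. -/
theorem exists_ann {T T' : Set (PrimeSpectrum A)} (hT' : StableUnderSpecialization T') (s : ℕ)
    (h : ∀ p q : PrimeSpectrum A, p ∉ T' → q ∈ T → p ≤ q → ∀ k : ℕ,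
      LocCoh.depth (Localization.AtPrime p.asIdeal) (LocalizedModule p.asIdeal.primeCompl M) = k →
        (s : ℤ) < k + (mu hω q - mu hω p)) :
    ∃ J : Ideal A, PrimeSpectrum.zeroLocus (J : Set A) ⊆ T' ∧
      ∀ i : ℕ, i ≤ s → ∀ a ∈ J, ∀ x : Dual2.HT T i M, a • x = 0 := by
  classical
  haveI := hω.isNoetherianRing
  obtain ⟨lo, hi, hbd⟩ := mu_bound hω
  choose Jn hJn hsat using fun n : ℤ => exists_sat hT' (LC17.gAnn ω (ModuleCat.of A M) n)
  let J : Ideal A := ∏ n ∈ Finset.Icc (lo - s) hi, Jn n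
  have hJ : PrimeSpectrum.zeroLocus (J : Set A) ⊆ T' := fun r hr => by
    rw [PrimeSpectrum.mem_zeroLocus, SetLike.coe_subset_coe] at hr
    obtain ⟨n, -, hn⟩ := (r.isPrime.prod_le).1 hr
    exact hJn n hn
  have hloc : ∀ q ∈ T, ∀ j : ℕ, j ≤ s →
      J.map (algebraMap A (Localization.AtPrime q.asIdeal)) ≤
        LC17.gAnn (omegaAt hω q) (locM q M) (-(j : ℤ)) := by
    intro q hq j hj
    rw [show -(j : ℤ) = (mu hω q - j) - mu hω q by omega, Ideal.map_le_iff_le_comap]
    intro c hc
    have hc' : c ∈ Jn (mu hω q - j) := Ideal.le_of_dvd (Finset.dvd_prod_of_mem Jn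
      (Finset.mem_Icc.2 ⟨by have := hbd q; omega, by have := hbd q; omega⟩)) hc
    obtain ⟨v, hvq, hv⟩ := hsat _ q (fun p hp hpq hle => by
      obtain ⟨k, hk, hk'⟩ := exists_depth_le hω M hle
      have := h p q hp hq hpq k hk
      omega) c hc'
    rw [Ideal.mem_comap]
    have h1 := map_gAnn_le hω M (mu hω q - j) q (Ideal.mem_map_of_mem _ hv)
    rw [map_mul] at h1
    exact (Ideal.unit_mul_mem_iff_mem _ (IsLocalization.map_units (Localization.AtPrime q.asIdeal)
      (⟨v, hvq⟩ : q.asIdeal.primeCompl))).1 h1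
  let K : ℕ := (s + 1) * 2 ^ s
  obtain ⟨N, hN⟩ := DR39.exists_dim_le hω
  let e := N + 1
  let J' : Ideal A := Ideal.span ((fun c : A => c ^ e) '' (J ^ K : Ideal A))
  refine ⟨J', fun r hr => hJ ?_, fun i hi' a ha x => ?_⟩
  · rw [PrimeSpectrum.mem_zeroLocus, SetLike.coe_subset_coe] at hr ⊢
    refine r.isPrime.le_of_pow_le (n := K) fun c hc => r.isPrime.mem_of_pow_mem e ?_
    exact hr (Ideal.subset_span ⟨c, hc, rfl⟩)
  induction ha using Submodule.span_induction with
  | zero => rw [zero_smul]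
  | add a b _ _ ha hb => rw [add_smul, ha, hb, add_zero]
  | smul r a _ ha => rw [smul_eq_mul, mul_smul, ha, smul_zero]
  | mem a ha =>
    obtain ⟨c, hc, rfl⟩ := ha
    let φ : ∀ k m : ℕ, m ≤ k → (M →ₗ[A] M) := fun k m _ => LinearMap.lsmul A M (c ^ (k - m))
    have hφ : ∀ (k l m : ℕ) (h₁ : m ≤ l) (h₂ : l ≤ k), φ k m (h₁.trans h₂) = φ l m h₁ ∘ₗ φ k l h₂ := by
      intro k l m h₁ h₂
      ext y
      simp only [φ, LinearMap.comp_apply, LinearMap.lsmul_apply, smul_smul, ← pow_add]
      congr 2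
      omega
    have key := SuppT.map_eq_zero (fun _ => M) φ hφ i Nat.succ Nat.le_succ e T (fun l => by
      have h1 : (l.map Subtype.val (fun _ _ h => h)).length ≤ N := by
        have := (Order.LTSeries.length_le_krullDim (l.map Subtype.val (fun _ _ h => h))).trans hN
        exact_mod_cast this
      have h1' : l.length ≤ N := h1
      omega) (fun q hq m k hmk hk => ?_) 0 e (Nat.zero_le _)
      (le_of_eq (by rw [Nat.succ_iterate, Nat.zero_add]))
    · have := key x
      rw [SuppStable.HTmap_eq] at this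
      simpa only [φ, Nat.sub_zero, LC15.HT.Tmap_lsmul] using this
    -- locally the element kills
    let B := Localization.AtPrime q.asIdeal
    haveI : IsNoetherianRing B := IsLocalization.isNoetherianRing q.asIdeal.primeCompl _ inferInstance
    haveI : Module.Finite B (LocalizedModule q.asIdeal.primeCompl M) :=
      Module.Finite.of_isLocalizedModule q.asIdeal.primeCompl (LocalizedModule.mkLinearMap _ M)
    have hkill : ∀ y : LocCoh.H (IsLocalRing.maximalIdeal B) i (LocalizedModule q.asIdeal.primeCompl M),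
        algebraMap A B c • y = 0 := fun y => by
      refine DualKill.smul_H_eq_zero (isDualizing_omegaAt hω q) (isNormalized_omegaAt hω q) i _ _ ?_ y
      have h1 : J.map (algebraMap A B) ^ (i + 1) ≤
          DualKill.P (omegaAt hω q) i (LocalizedModule q.asIdeal.primeCompl M) := by
        rw [DualKill.P]
        refine le_trans (le_of_eq (by rw [Finset.prod_const, Finset.card_range])) (Finset.prod_le_prod'
          fun j hj => hloc q hq j (by rw [Finset.mem_range] at hj; omega))
      refine Ideal.pow_right_mono h1 _ ?_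
      rw [← pow_mul, ← Ideal.map_pow]
      refine Ideal.mem_map_of_mem _ (Ideal.pow_le_pow_right ?_ hc)
      exact Nat.mul_le_mul (by omega) (Nat.pow_le_pow_right (by omega) hi')
    apply ModuleCat.hom_ext
    refine LinearMap.ext fun y => ?_
    have heq : LocalizedModule.map q.asIdeal.primeCompl (φ k m hmk) =
        LinearMap.lsmul B (LocalizedModule q.asIdeal.primeCompl M) (algebraMap A B (c ^ (k - m))) := by
      refine LinearMap.ext fun z => ?_
      induction z using LocalizedModule.induction_on with | h y t => ?_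
      rw [LocalizedModule.map_mk]
      show _ = algebraMap A B (c ^ (k - m)) • LocalizedModule.mk y t
      rw [algebraMap_smul, LocalizedModule.smul'_mk]
      rfl
    show LC15.Hmap (IsLocalRing.maximalIdeal B) i (LocalizedModule.map q.asIdeal.primeCompl (φ k m hmk)) y = 0
    rw [heq, LC15.Hmap_lsmul]
    obtain ⟨t, ht⟩ : ∃ t, k - m = t + 1 := ⟨k - m - 1, by omega⟩
    rw [ht, map_pow, pow_succ, mul_smul, hkill, smul_zero]

end Groth.Agent.LC16.DualAnn
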