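import Groth.Agent.LC16.GammaTorsion
import Groth.Agent.LC16.DualAnn
import Groth.Agent.DR39.Bidual3

/-!
The duals `Hom•(N[-n], I)` of finite modules for a dualizing complex `I`: degrees and maps from modules.
-/

set_option autoImplicit false
set_option linter.style.haveILetI false
set_option linter.unusedSectionVars false
set_option maxHeartbeats 1000000

noncomputable section

universe u

open CategoryTheory CategoryTheory.Limits CategoryTheory.Pretriangulated
open scoped Pointwise
attribute [local instance] HasDerivedCategory.standard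

namespace Groth.Agent.LC16.DualVanish

open Groth.Agent.DR39

variable {A : Type u} [CommRing A] [IsNoetherianRing A]

section Vanish

variable {ω : Dual.D A} (hω : Dual.IsDualizing A ω)
include hω

/-- `Hom((A/P)[0], ω⟦m⟧) = 0` below `μ(P)` -/
theorem gAnn_top_of_lt_mu : ∀ (P : PrimeSpectrum A) (m : ℤ), m < DualAnn.mu hω P →
    LC17.gAnn ω (ModuleCat.of A (A ⧸ P.asIdeal)) m = ⊤ := by
  suffices key : ∀ (c : Ideal A) (P : PrimeSpectrum A), P.asIdeal = c → ∀ m : ℤ, m < DualAnn.mu hω P →
      LC17.gAnn ω (ModuleCat.of A (A ⧸ P.asIdeal)) m = ⊤ from fun P => key _ P rfl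
  intro c
  induction c using WellFoundedGT.induction with
  | ind c ih =>
    intro P hP m hm
    by_contra hne
    obtain ⟨q, hq, hle⟩ := Ideal.exists_le_maximal _ hne
    haveI := hq.isPrime
    have hPq : P.asIdeal ≤ q := (le_gAnn_quotient P.asIdeal m).trans hle
    obtain ⟨a, haq, haP⟩ : ∃ a ∈ q, a ∉ P.asIdeal := by
      by_contra h
      push Not at h
      have hPq' : P.asIdeal = q := le_antisymm hPq h
      exact hm.ne (DR39.mu_unique hω P.asIdeal (show Mu ω P.asIdeal m from hle.trans hPq'.ge)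
        (DualAnn.mu_spec hω P))
    let M := A ⧸ P.asIdeal
    have hreg : IsSMulRegular M a := fun x y hxy => by
      obtain ⟨x, rfl⟩ := Ideal.Quotient.mk_surjective x
      obtain ⟨y, rfl⟩ := Ideal.Quotient.mk_surjective y
      replace hxy : Ideal.Quotient.mk P.asIdeal (a * x) = Ideal.Quotient.mk P.asIdeal (a * y) := hxy
      rw [Ideal.Quotient.eq, ← mul_sub] at hxy
      exact Ideal.Quotient.eq.2 ((P.isPrime.mem_or_mem hxy).resolve_left haP)
    obtain ⟨hinj, hex⟩ := LC17.regular_ses hreg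
    have hS := LC17.shortExact_of_exact _ _ hinj (Submodule.mkQ_surjective _) hex
    have hX : LC17.gAnn ω (ModuleCat.of A (M ⧸ a • (⊤ : Submodule A M))) (m + 1) = ⊤ := by
      by_contra hne'
      obtain ⟨r, hr, hr'⟩ := Ideal.exists_le_maximal _ hne'
      haveI := hr.isPrime
      obtain ⟨p, hp, hpq, -⟩ := exists_prime_of_gAnn_le hω r (m + 1) _ hr'
      rw [Module.mem_support_iff_of_finite] at hp
      have hPp : P.asIdeal ≤ p.asIdeal := fun x hx => hp (Module.mem_annihilator.2 fun y => by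
        obtain ⟨y, rfl⟩ := Submodule.mkQ_surjective _ y
        rw [← map_smul, show x • y = 0 from ?_, map_zero]
        obtain ⟨y, rfl⟩ := Ideal.Quotient.mk_surjective y
        exact Ideal.Quotient.eq_zero_iff_mem.2 (Ideal.mul_mem_right y _ hx))
      have hap : a ∈ p.asIdeal := hp (Module.mem_annihilator.2 fun y => by
        obtain ⟨y, rfl⟩ := Submodule.mkQ_surjective _ y
        rw [← map_smul]
        exact (Submodule.Quotient.mk_eq_zero _).2 ⟨y, trivial, rfl⟩)
      have hlt : P < p := lt_of_le_not_ge hPp fun h => haP (h hap)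
      have hmu := DualAnn.mu_lt hω hlt
      exact r.ne_top_iff_one.1 hr.ne_top (hpq ((ih p.asIdeal
        (hP ▸ lt_of_le_not_ge hPp fun h => haP (h hap)) p rfl (m + 1) (by omega)).ge trivial))
    have hsurj := LC17.pre_surjective_of_gAnn_eq_top ω hS m (m + 1) rfl hX
    haveI : Module.Finite A (LC17.GM ω (ModuleCat.of A M) m) := LC17.finite_GM hω m M
    have htop : (⊤ : Submodule A (LC17.GM ω (ModuleCat.of A M) m)) ≤ q • ⊤ := fun f _ => by
      obtain ⟨g, rfl⟩ := hsurj f
      rw [show LC17.pre ω _ m g = a • g from by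
        show (DerivedCategory.singleFunctor (ModuleCat.{u} A) 0).map _ ≫ g = a • g
        refine (congrArg (fun φ => (DerivedCategory.singleFunctor (ModuleCat.{u} A) 0).map φ ≫ g)
          (show (ModuleCat.ofHom (LinearMap.lsmul A M a) : ModuleCat.of A M ⟶ ModuleCat.of A M) =
          a • 𝟙 (ModuleCat.of A M) from rfl)).trans ?_
        rw [Functor.map_smul, CategoryTheory.Functor.map_id, Linear.smul_comp, Category.id_comp]]
      exact Submodule.smul_mem_smul haq trivial
    obtain ⟨r, hr1, hr⟩ := Submodule.exists_sub_one_mem_and_smul_eq_zero_of_fg_of_le_smul q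
      (⊤ : Submodule A (LC17.GM ω (ModuleCat.of A M) m)) (Module.Finite.fg_top) htop
    have hrq : r ∈ q := hle ((LC17.mem_gAnn ω).2 fun f => hr f trivial)
    exact q.ne_top_iff_one.1 hq.ne_top (by simpa using sub_mem hrq hr1)

end Vanish

variable (D : DualModel A)

/-- a module in degree `n` -/
abbrev Sn (n : ℤ) (M : ModuleCat.{u} A) : DRing.Cx A :=
  (HomologicalComplex.single (ModuleCat.{u} A) (ComplexShape.up ℤ) n).obj M

/-- the dual of a module placed in degree `n` -/
abbrev Dn (n : ℤ) (M : ModuleCat.{u} A) : Dual.D A := (QA A).obj (DRing.homCx (Sn n M) D.I)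

/-- cohomology of the dual -/
theorem nonempty_HD_Dn (n : ℤ) (M : Type u) [AddCommGroup M] [Module A M] (l : ℤ) :
    Nonempty (Dual.HD A (Dn D n (ModuleCat.of A M)) l ≃ₗ[A]
      (Dual.inD A M ⟶ ((QA A).obj D.I)⟦l + n⟧)) := by
  haveI := D.isKInjective
  let e₁ := (HQIso (DRing.homCx (Sn n (ModuleCat.of A M)) D.I) l).toLinearEquiv ≪≫ₗ
    homologyHomCxEquiv (Sn n (ModuleCat.of A M)) D.I l
  let eS : (Dual.inD A M)⟦-n⟧ ≅ (QA A).obj (Sn n (ModuleCat.of A M)) :=
    DR39.singleShiftIso (ModuleCat.of A M) n (-n) (by omega) ≪≫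
      (DerivedCategory.singleFunctorIsoCompQ (ModuleCat.{u} A) n).app _
  let eI : (QA A).obj (D.I⟦l⟧) ≅ ((QA A).obj D.I)⟦l⟧ := ((QA A).commShiftIso l).app _
  let eB : (((QA A).obj D.I)⟦l + n⟧)⟦-n⟧ ≅ ((QA A).obj D.I)⟦l⟧ :=
    ((shiftFunctorAdd' (Dual.D A) (l + n) (-n) l (by omega)).app _).symm
  let Sh : (Dual.inD A M ⟶ ((QA A).obj D.I)⟦l + n⟧) ≃ₗ[A]
      ((Dual.inD A M)⟦-n⟧ ⟶ (((QA A).obj D.I)⟦l + n⟧)⟦-n⟧) :=
    { toFun := fun f => f⟦-n⟧'
      map_add' := fun f g => Functor.map_add _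
      map_smul' := fun a f => by simp
      invFun := fun g => (shiftFunctor (Dual.D A) (-n)).preimage g
      left_inv := fun f => (shiftFunctor (Dual.D A) (-n)).preimage_map f
      right_inv := fun g => (shiftFunctor (Dual.D A) (-n)).map_preimage g }
  exact ⟨e₁ ≪≫ₗ Linear.homCongr A eS.symm (eI ≪≫ eB.symm) ≪≫ₗ Sh.symm⟩

theorem single_smul (n : ℤ) (M : ModuleCat.{u} A) (a : A) :
    (HomologicalComplex.single (ModuleCat.{u} A) (ComplexShape.up ℤ) n).map (a • 𝟙 M) = a • 𝟙 (Sn n M) := by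
  refine HomologicalComplex.from_single_hom_ext ?_
  rw [HomologicalComplex.single_map_f_self, HomologicalComplex.smul_f_apply, HomologicalComplex.id_f,
    Linear.smul_comp, Category.id_comp, Linear.comp_smul, Iso.hom_inv_id]

/-- multiplication -/
theorem smul_Dn_eq_zero (n : ℤ) (M : ModuleCat.{u} A) (a : A) (ha : ∀ x : M, a • x = 0) :
    a • 𝟙 (Dn D n M) = 0 := by
  have hm : a • 𝟙 M = 0 := ModuleCat.hom_ext (LinearMap.ext ha)
  have h1 : a • 𝟙 (Sn n M) = 0 := by rw [← single_smul, hm, Functor.map_zero]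
  have h2 : a • 𝟙 (DRing.homCx (Sn n M) D.I) = 0 := by
    rw [← DR40.homCxPre_smul_id, h1]
    exact HomologicalComplex.hom_ext _ _ fun l => ModuleCat.hom_ext
      (LinearMap.ext fun (z : CochainComplex.HomComplex.Cochain (Sn n M) D.I l) => by
        show (CochainComplex.HomComplex.Cochain.ofHom (0 : Sn n M ⟶ Sn n M)).comp z (zero_add l) = 0
        simp)
  rw [← CategoryTheory.Functor.map_id, ← Functor.map_smul, h2, Functor.map_zero]

/-- the triangle of duals -/
theorem exists_triangle_Dn (n : ℤ) {S : ShortComplex (ModuleCat.{u} A)} (hS : S.ShortExact) :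
    ∃ T ∈ distTriang (Dual.D A), ∃ (_a₁ : T.obj₁ ≅ Dn D n S.X₃) (a₂ : T.obj₂ ≅ Dn D n S.X₂)
      (a₃ : T.obj₃ ≅ Dn D n S.X₁), T.mor₂ ≫ a₃.hom = a₂.hom ≫ (QA A).map (homCxPre
        ((HomologicalComplex.single (ModuleCat.{u} A) (ComplexShape.up ℤ) n).map S.f) D.I) := by
  have h := homCxOpp_shortExact D.I D.inj (hS.map_of_exact (HomologicalComplex.single (ModuleCat.{u} A) (ComplexShape.up ℤ) n))
  exact ⟨_, DerivedCategory.triangleOfSES_distinguished h, Iso.refl _, Iso.refl _,
    Iso.refl _, (Category.comp_id _).trans (Category.id_comp _).symm⟩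

variable (hD : Dual.IsDualizing A ((QA A).obj D.I))

/-- degrees of the dual of a prime quotient -/
theorem isGE_Dn_prime (n : ℤ) (P : PrimeSpectrum A) {b : ℤ} (hb : b + n ≤ DualAnn.mu hD P) :
    (Dn D n (ModuleCat.of A (A ⧸ P.asIdeal))).IsGE b := by
  refine (DerivedCategory.isGE_iff _ b).2 fun l hl => ?_
  obtain ⟨e⟩ := nonempty_HD_Dn D n (A ⧸ P.asIdeal) l
  haveI := subsingleton_gm_iff.2 (gAnn_top_of_lt_mu hD P (l + n) (by omega))
  exact (isZero_HF_iff _ l).2 e.toEquiv.subsingleton

theorem subsingleton_of_epi {M M' : Type u} [AddCommGroup M] [Module A M] [AddCommGroup M'] [Module A M']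
    (a : A) (hM : IsSMulRegular M a) (X : Dual.D A) (hX : a • 𝟙 X = 0)
    (e : ModuleCat.of A (M ⧸ a • (⊤ : Submodule A M)) ≅ ModuleCat.of A M')
    (h : Subsingleton (Dual.inD A M' ⟶ X)) : Subsingleton (Dual.inD A M ⟶ X) := by
  obtain ⟨hinj, hex⟩ := LC17.regular_ses hM
  have hS := LC17.shortExact_of_exact _ _ hinj (Submodule.mkQ_surjective _) hex
  haveI : Subsingleton ((DerivedCategory.singleFunctor (ModuleCat.{u} A) 0).obj
      (ModuleCat.of A (M ⧸ a • (⊤ : Submodule A M))) ⟶ X) :=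
    (Iso.homFromEquiv ((DerivedCategory.singleFunctor (ModuleCat.{u} A) 0).mapIso e)).subsingleton
  refine subsingleton_of_forall_eq 0 fun f => ?_
  obtain ⟨g, hg⟩ := Triangle.yoneda_exact₂ _ hS.singleTriangle_distinguished f (by
    show (DerivedCategory.singleFunctor (ModuleCat.{u} A) 0).map _ ≫ f = 0
    refine (congrArg (fun φ => (DerivedCategory.singleFunctor (ModuleCat.{u} A) 0).map φ ≫ f)
          (show (ModuleCat.ofHom (LinearMap.lsmul A M a) : ModuleCat.of A M ⟶ ModuleCat.of A M) =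
          a • 𝟙 (ModuleCat.of A M) from rfl)).trans ?_
    rw [Functor.map_smul, CategoryTheory.Functor.map_id, Linear.smul_comp,
      Category.id_comp, ← Category.comp_id f, ← Linear.comp_smul, hX, comp_zero])
  rw [hg]
  exact (congrArg (hS.singleTriangle.mor₂ ≫ ·) (Subsingleton.elim
    (α := (DerivedCategory.singleFunctor (ModuleCat.{u} A) 0).obj
      (ModuleCat.of A (M ⧸ a • (⊤ : Submodule A M))) ⟶ X) g 0)).trans comp_zero

/-- dévissage in the first variable -/
theorem subsingleton_of_primes (X : Dual.D A) (M : Type u) [AddCommGroup M] [Module A M] [Module.Finite A M] :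
    (∀ p ∈ Module.support A M, Subsingleton (Dual.inD A (A ⧸ p.asIdeal) ⟶ X)) →
      Subsingleton (Dual.inD A M ⟶ X) := by
  induction ‹Module.Finite A M› using IsNoetherianRing.induction_on_isQuotientEquivQuotientPrime A with
  | subsingleton N =>
    intro _
    exact ⟨fun f g => ((DerivedCategory.singleFunctor _ 0).map_isZero (ModuleCat.isZero_of_subsingleton
      (ModuleCat.of A N))).eq_of_src f g⟩
  | quotient N p e =>
    intro h
    haveI := h p (by rw [e.support_eq, Module.mem_support_iff_of_finite, Ideal.annihilator_quotient])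
    exact (Iso.homFromEquiv ((DerivedCategory.singleFunctor (ModuleCat.{u} A) 0).mapIso e.toModuleIso)).subsingleton
  | exact N₁ N₂ N₃ f g hf hg hfg ih₁ ih₃ =>
    intro h
    rw [Module.support_of_exact hfg hf hg] at h
    haveI h₁ := ih₁ fun p hp => h p (Or.inl hp)
    haveI h₃ := ih₃ fun p hp => h p (Or.inr hp)
    have hS := LC17.shortExact_of_exact f g hf hg hfg
    refine subsingleton_of_forall_eq 0 fun u => ?_
    obtain ⟨v, hv⟩ := Triangle.yoneda_exact₂ _ hS.singleTriangle_distinguished u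
      (Subsingleton.elim (α := Dual.inD A N₁ ⟶ X) _ _)
    rw [hv]
    exact (congrArg (hS.singleTriangle.mor₂ ≫ ·) (Subsingleton.elim (α := Dual.inD A N₃ ⟶ X) v 0)).trans
      comp_zero

/-- dévissage in the second variable -/
theorem subsingleton_of_primes₂ (n l : ℤ) (Y : Dual.D A) (N : Type u) [AddCommGroup N] [Module A N]
    [Module.Finite A N] :
    (∀ p ∈ Module.support A N, Subsingleton (Y ⟶ (Dn D n (ModuleCat.of A (A ⧸ p.asIdeal)))⟦l⟧)) →
      Subsingleton (Y ⟶ (Dn D n (ModuleCat.of A N))⟦l⟧) := by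
  induction ‹Module.Finite A N› using IsNoetherianRing.induction_on_isQuotientEquivQuotientPrime A with
  | subsingleton N =>
    intro _
    have hz : IsZero ((Dn D n (ModuleCat.of A N))⟦l⟧) := Functor.map_isZero _ <| by
      rw [IsZero.iff_id_eq_zero, ← one_smul A (𝟙 _)]
      exact smul_Dn_eq_zero D n _ 1 fun x => Subsingleton.elim (α := N) _ _
    exact ⟨fun f g => hz.eq_of_tgt f g⟩
  | quotient N p e =>
    intro h
    haveI := h p (by rw [e.support_eq, Module.mem_support_iff_of_finite, Ideal.annihilator_quotient])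
    haveI := D.isKInjective
    obtain ⟨i⟩ := homCx_iso_of_iso D.I ((QA A).mapIso
      ((HomologicalComplex.single (ModuleCat.{u} A) (ComplexShape.up ℤ) n).mapIso e.toModuleIso))
    exact (Iso.homToEquiv ((shiftFunctor (Dual.D A) l).mapIso i)).subsingleton
  | exact N₁ N₂ N₃ f g hf hg hfg ih₁ ih₃ =>
    intro h
    rw [Module.support_of_exact hfg hf hg] at h
    haveI h₁ := ih₁ fun p hp => h p (Or.inl hp)
    haveI h₃ := ih₃ fun p hp => h p (Or.inr hp)
    obtain ⟨T, hT, a₁, a₂, a₃, -⟩ := exists_triangle_Dn D n (LC17.shortExact_of_exact f g hf hg hfg)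
    haveI : Subsingleton (Y ⟶ T.obj₁⟦l⟧) := (Iso.homToEquiv ((shiftFunctor (Dual.D A) l).mapIso a₁)).subsingleton
    haveI : Subsingleton (Y ⟶ T.obj₃⟦l⟧) := (Iso.homToEquiv ((shiftFunctor (Dual.D A) l).mapIso a₃)).subsingleton
    refine (Iso.homToEquiv ((shiftFunctor (Dual.D A) l).mapIso a₂)).symm.subsingleton_congr.2
      (subsingleton_of_forall_eq 0 fun u => ?_)
    obtain ⟨v, rfl⟩ := HomGood.exact₂ hT u (Subsingleton.elim _ _)
    rw [Subsingleton.elim v 0, zero_comp]

/-- maps from prime quotients into duals of prime quotients -/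
theorem subsingleton_prime (n : ℤ) : ∀ (q P : PrimeSpectrum A) (l : ℤ),
    (∀ r : PrimeSpectrum A, q ≤ r → P ≤ r → l + n < DualAnn.mu hD r) →
      Subsingleton (Dual.inD A (A ⧸ q.asIdeal) ⟶ (Dn D n (ModuleCat.of A (A ⧸ P.asIdeal)))⟦l⟧) := by
  suffices key : ∀ (c c' : Ideal A) (q P : PrimeSpectrum A), q.asIdeal = c → P.asIdeal = c' → ∀ l : ℤ,
      (∀ r : PrimeSpectrum A, q ≤ r → P ≤ r → l + n < DualAnn.mu hD r) →
      Subsingleton (Dual.inD A (A ⧸ q.asIdeal) ⟶ (Dn D n (ModuleCat.of A (A ⧸ P.asIdeal)))⟦l⟧) from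
    fun q P => key _ _ q P rfl rfl
  intro c
  induction c using WellFoundedGT.induction with
  | ind c ih =>
  intro c'
  induction c' using WellFoundedGT.induction with
  | ind c' ih' =>
  intro q P hq hP l hl
  by_cases hPq : P.asIdeal ≤ q.asIdeal
  · by_cases hqP : q.asIdeal ≤ P.asIdeal
    · obtain rfl : q = P := PrimeSpectrum.ext (le_antisymm hqP hPq)
      haveI := isGE_Dn_prime D hD n q (b := l + 1) (by have := hl q le_rfl le_rfl; omega)
      haveI := DerivedCategory.TStructure.t.isGE_shift (Dn D n (ModuleCat.of A (A ⧸ q.asIdeal)))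
        (l + 1) l 1 (by omega)
      haveI : (Dual.inD A (A ⧸ q.asIdeal)).IsLE 0 := inferInstanceAs
        (((DerivedCategory.singleFunctor (ModuleCat.{u} A) 0).obj (ModuleCat.of A (A ⧸ q.asIdeal))).IsLE 0)
      exact ⟨fun u v => (DerivedCategory.TStructure.t.zero_of_isLE_of_isGE u 0 1 (by omega) inferInstance
        inferInstance).trans (DerivedCategory.TStructure.t.zero_of_isLE_of_isGE v 0 1 (by omega)
        inferInstance inferInstance).symm⟩
    -- `a ∈ q ∖ P`
    obtain ⟨a, haq, haP⟩ := SetLike.not_le_iff_exists.1 hqP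
    let M := A ⧸ P.asIdeal
    have hreg : IsSMulRegular M a := fun x y hxy => by
      obtain ⟨x, rfl⟩ := Ideal.Quotient.mk_surjective x
      obtain ⟨y, rfl⟩ := Ideal.Quotient.mk_surjective y
      replace hxy : Ideal.Quotient.mk P.asIdeal (a * x) = Ideal.Quotient.mk P.asIdeal (a * y) := hxy
      rw [Ideal.Quotient.eq, ← mul_sub] at hxy
      exact Ideal.Quotient.eq.2 ((P.isPrime.mem_or_mem hxy).resolve_left haP)
    obtain ⟨hinj, hex⟩ := LC17.regular_ses hreg
    have hS := LC17.shortExact_of_exact _ _ hinj (Submodule.mkQ_surjective _) hex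
    obtain ⟨T, hT, a₁, a₂, a₃, hm₂⟩ := exists_triangle_Dn D n hS
    haveI : Subsingleton (Dual.inD A (A ⧸ q.asIdeal) ⟶
        (Dn D n (ModuleCat.of A (M ⧸ a • (⊤ : Submodule A M))))⟦l⟧) :=
      subsingleton_of_primes₂ D n l _ _ fun p hp => by
        rw [Module.mem_support_iff_of_finite] at hp
        have hPp : P.asIdeal ≤ p.asIdeal := fun x hx => hp (Module.mem_annihilator.2 fun y => by
          obtain ⟨y, rfl⟩ := Submodule.mkQ_surjective _ y
          rw [← map_smul, show x • y = 0 from ?_, map_zero]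
          obtain ⟨y, rfl⟩ := Ideal.Quotient.mk_surjective y
          exact Ideal.Quotient.eq_zero_iff_mem.2 (Ideal.mul_mem_right y _ hx))
        have hap : a ∈ p.asIdeal := hp (Module.mem_annihilator.2 fun y => by
          obtain ⟨y, rfl⟩ := Submodule.mkQ_surjective _ y
          rw [← map_smul]
          exact (Submodule.Quotient.mk_eq_zero _).2 ⟨y, trivial, rfl⟩)
        exact ih' p.asIdeal (hP ▸ lt_of_le_not_ge hPp fun h => haP (h hap)) q p hq rfl l
          fun r hr1 hr2 => hl r hr1 (le_trans (show P ≤ p from hPp) hr2)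
    haveI : Subsingleton (Dual.inD A (A ⧸ q.asIdeal) ⟶ T.obj₁⟦l⟧) :=
      (Iso.homToEquiv ((shiftFunctor (Dual.D A) l).mapIso a₁)).subsingleton
    refine subsingleton_of_forall_eq 0 fun f => ?_
    let f₂ : Dual.inD A (A ⧸ q.asIdeal) ⟶ T.obj₂⟦l⟧ := f ≫ a₂.inv⟦l⟧'
    have hz : a • 𝟙 (Dual.inD A (A ⧸ q.asIdeal)) = 0 := by
      have h : a • 𝟙 (ModuleCat.of A (A ⧸ q.asIdeal)) = 0 := ModuleCat.hom_ext (LinearMap.ext fun y => by
        obtain ⟨y, rfl⟩ := Ideal.Quotient.mk_surjective y
        exact Ideal.Quotient.eq_zero_iff_mem.2 (Ideal.mul_mem_right y _ haq))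
      rw [← CategoryTheory.Functor.map_id, ← Functor.map_smul, h, Functor.map_zero]
    -- the second map is multiplication by `a`
    obtain ⟨w, hw⟩ := HomGood.exact₂ hT f₂ ((cancel_mono ((shiftFunctor (Dual.D A) l).mapIso a₃).hom).1 (by
      rw [zero_comp]
      dsimp only at hm₂
      rw [show (ModuleCat.ofHom (LinearMap.lsmul A M a) : ModuleCat.of A M ⟶ ModuleCat.of A M) =
        a • 𝟙 (ModuleCat.of A M) from rfl, single_smul, DR40.homCxPre_smul_id, Functor.map_smul,
        CategoryTheory.Functor.map_id, Linear.comp_smul, Category.comp_id] at hm₂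
      have key : ∀ g : Dual.inD A (A ⧸ q.asIdeal) ⟶ (Dn D n (ModuleCat.of A M))⟦l⟧, a • g = 0 := fun g => by
        rw [← Category.id_comp g, ← Linear.smul_comp, hz, zero_comp]
      rw [Functor.mapIso_hom, Category.assoc, ← Functor.map_comp, hm₂, Functor.map_smul, Linear.comp_smul]
      exact key _))
    rw [Subsingleton.elim (α := Dual.inD A (A ⧸ q.asIdeal) ⟶ T.obj₁⟦l⟧) w 0, zero_comp] at hw
    rw [← cancel_mono ((shiftFunctor (Dual.D A) l).mapIso a₂.symm).hom, zero_comp]
    exact hw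
  · obtain ⟨a, haP, haq⟩ := SetLike.not_le_iff_exists.1 hPq
    have hreg : IsSMulRegular (A ⧸ q.asIdeal) a := fun x y hxy => by
      obtain ⟨x, rfl⟩ := Ideal.Quotient.mk_surjective x
      obtain ⟨y, rfl⟩ := Ideal.Quotient.mk_surjective y
      replace hxy : Ideal.Quotient.mk q.asIdeal (a * x) = Ideal.Quotient.mk q.asIdeal (a * y) := hxy
      rw [Ideal.Quotient.eq, ← mul_sub] at hxy
      exact Ideal.Quotient.eq.2 ((q.isPrime.mem_or_mem hxy).resolve_left haq)
    have hzero : a • 𝟙 ((Dn D n (ModuleCat.of A (A ⧸ P.asIdeal)))⟦l⟧) = 0 := by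
      rw [← CategoryTheory.Functor.map_id, ← Functor.map_smul, smul_Dn_eq_zero D n _ a (fun y => by
        obtain ⟨y, rfl⟩ := Ideal.Quotient.mk_surjective (show A ⧸ P.asIdeal from y)
        exact Ideal.Quotient.eq_zero_iff_mem.2 (Ideal.mul_mem_right y _ haP)), Functor.map_zero]
    refine subsingleton_of_epi a hreg _ hzero (Iso.refl _) (subsingleton_of_primes _ _ fun p hp => ?_)
    rw [Module.mem_support_iff_of_finite] at hp
    have hqp : q.asIdeal ≤ p.asIdeal := fun x hx => hp (Module.mem_annihilator.2 fun y => by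
      obtain ⟨y, rfl⟩ := Submodule.mkQ_surjective _ y
      rw [← map_smul, show x • y = 0 from ?_, map_zero]
      obtain ⟨y, rfl⟩ := Ideal.Quotient.mk_surjective y
      exact Ideal.Quotient.eq_zero_iff_mem.2 (Ideal.mul_mem_right y _ hx))
    have hap : a ∈ p.asIdeal := hp (Module.mem_annihilator.2 fun y => by
      obtain ⟨y, rfl⟩ := Submodule.mkQ_surjective _ y
      rw [← map_smul]
      exact (Submodule.Quotient.mk_eq_zero _).2 ⟨y, trivial, rfl⟩)
    exact ih p.asIdeal (hq ▸ lt_of_le_not_ge hqp fun h => haq (h hap)) P.asIdeal p P rfl rfl l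
      fun r hr1 hr2 => hl r (le_trans (show q ≤ p from hqp) hr1) hr2

end Groth.Agent.LC16.DualVanish
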