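import Groth.Agent.Sk62.Constructible
import Groth.Agent.E4O.ValDim
import Groth.Agent.E4O.DvrCrit
import Groth.Agent.Cyc90.TensorGen
import Groth.Agent.EGA4Alg4.Depth
import Mathlib.RingTheory.Filtration

/-! Flat families over a discrete valuation ring with no embedded points in the special fibre:
the components of the generic fibre have at least the dimension of those of the special fibre. -/

set_option autoImplicit false

universe u

open CategoryTheory Limits AlgebraicGeometry IsLocalRing TopologicalSpace Topology TensorProduct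

namespace Groth.Agent.LC16.DvrFibre

/-- If a minimal prime of `m + πB` is not a minimal prime of `πB`, for an associated prime `m` and a
regular element `π`, then the quotient by `π` has depth zero there. -/
theorem depth_quotient_eq_zero {R : Type u} [CommRing R] [IsNoetherianRing R] [IsLocalRing R] (π : R)
    (hπ : IsSMulRegular R π) (hπm : π ∈ maximalIdeal R) [IsLocalRing (R ⧸ Ideal.span {π})]
    [IsNoetherianRing (R ⧸ Ideal.span {π})]
    (m : Ideal R) (hm : m ∈ associatedPrimes R R)
    (hmax : maximalIdeal R ∈ (m ⊔ Ideal.span {π}).minimalPrimes) :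
    LocCoh.depth (R ⧸ Ideal.span {π}) (R ⧸ Ideal.span {π}) = 0 := by
  obtain ⟨hmp, x, hxm⟩ := (isAssociatedPrime_iff_exists_injective_linearMap m R).1 hm
  let a : R := x (Ideal.Quotient.mk m 1)
  have ha : a ≠ 0 := fun h => by
    have := hxm (h.trans (map_zero x).symm)
    exact hmp.ne_top ((Ideal.eq_top_iff_one m).2 (Ideal.Quotient.eq_zero_iff_mem.1 this))
  have hma : ∀ r ∈ m, r * a = 0 := fun r hr => by
    rw [← smul_eq_mul, ← map_smul]
    have : r • Ideal.Quotient.mk m 1 = 0 := by
      rw [Algebra.smul_def, map_one, mul_one]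
      exact Ideal.Quotient.eq_zero_iff_mem.2 hr
    rw [this, map_zero]
  have hne : Ideal.span {π} ≠ ⊤ := fun h => (maximalIdeal.isMaximal R).ne_top
    (top_le_iff.1 (h ▸ (Ideal.span_singleton_le_iff_mem _).2 hπm))
  obtain ⟨n, hn⟩ : ∃ n : ℕ, a ∉ Ideal.span {π} ^ n := by
    by_contra h
    simp only [not_exists, not_not] at h
    have h2 : a ∈ (⨅ i : ℕ, Ideal.span {π} ^ i) := Ideal.mem_iInf.2 h
    rw [Ideal.iInf_pow_eq_bot_of_isLocalRing _ hne] at h2
    exact ha h2
  have key : ∀ n : ℕ, ∀ a : R, a ∉ Ideal.span {π} ^ n → (∀ r ∈ m, r * a = 0) →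
      ∃ b : R, b ∉ Ideal.span {π} ∧ ∀ r ∈ m, r * b = 0 := by
    intro n
    induction n with
    | zero => exact fun a h => absurd (by simp) h
    | succ n ih =>
      intro a h hma
      by_cases h1 : a ∈ Ideal.span {π}
      · obtain ⟨b, rfl⟩ := Ideal.mem_span_singleton.1 h1
        refine ih b (fun hb => h ?_) fun r hr => hπ (show π • (r * b) = π • 0 by
          rw [smul_zero, smul_eq_mul, mul_left_comm]; exact hma r hr)
        rw [pow_succ']
        exact Ideal.mul_mem_mul (Ideal.mem_span_singleton_self π) hb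
      · exact ⟨a, h1, hma⟩
  obtain ⟨b, hb, hmb⟩ := key n a hn hma
  rw [EGA4Alg4.depth_eq_zero_iff, EGA4Alg4.maximalIdeal_mem_assoc_iff]
  intro z hz hreg
  obtain ⟨r, rfl⟩ := Ideal.Quotient.mk_surjective z
  have hr : r ∈ maximalIdeal R := fun hu => hz (hu.map (Ideal.Quotient.mk _))
  have hrad : r ∈ (m ⊔ Ideal.span {π}).radical := by
    rw [← Ideal.sInf_minimalPrimes, Submodule.mem_sInf]
    intro P hP
    have : P = maximalIdeal R := le_antisymm (le_maximalIdeal hP.1.1.ne_top)
      (hmax.2 hP.1 (le_maximalIdeal hP.1.1.ne_top))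
    exact this ▸ hr
  obtain ⟨N, hN⟩ := hrad
  obtain ⟨u, hu, v, hv, huv⟩ := Submodule.mem_sup.1 hN
  apply hb
  rw [← Ideal.Quotient.eq_zero_iff_mem]
  apply hreg.pow N
  show (Ideal.Quotient.mk _ r) ^ N • Ideal.Quotient.mk _ b = (Ideal.Quotient.mk _ r) ^ N • 0
  rw [smul_zero, smul_eq_mul, ← map_pow, ← map_mul, Ideal.Quotient.eq_zero_iff_mem, ← huv, add_mul,
    hmb u hu, zero_add]
  exact Ideal.mul_mem_right _ _ hv

/-- Over a discrete valuation ring: a lower bound on the dimensions of the components of the special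
fibre through a point, and absence of embedded points there, bound the dimensions of the components
of the generic fibre specializing to that point. -/
theorem le_fdeg_of_dvr {V B : Type u} [CommRing V] [IsDomain V] [IsDiscreteValuationRing V]
    [CommRing B] [Algebra V B] [Module.Flat V B] [Algebra.FiniteType V B] (e : ℕ)
    (f : Spec (CommRingCat.of B) ⟶ Spec (CommRingCat.of V)) [LocallyOfFiniteType f]
    (hf : f = Spec.map (CommRingCat.ofHom (algebraMap V B)))
    (q m : PrimeSpectrum B) (hm : IsMin m) (hmq : m ≤ q)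
    (hq : f q = closedPoint V)
    (H1 : ∀ r : ↥(Spec (CommRingCat.of B)), r ⤳ (show ↥(Spec (CommRingCat.of B)) from q) → f r = f q →
      E4O.IsFibreMax f r → e ≤ E4O.fdeg f r)
    (H2 : ∀ v : ↥(Spec (CommRingCat.of B)), v ⤳ (show ↥(Spec (CommRingCat.of B)) from q) → f v = f q →
      min ((1 : ℕ) : WithBot ℕ∞) (Sk62.fdim f v) ≤ ((Sk62.fdepth f v : ℕ∞) : WithBot ℕ∞)) :
    e ≤ E4O.fdeg f m := by
  obtain ⟨π, hπ⟩ := IsDiscreteValuationRing.exists_irreducible V
  have hmaxV : maximalIdeal V = Ideal.span {π} := hπ.maximalIdeal_eq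
  have : IsNoetherianRing B := Algebra.FiniteType.isNoetherianRing V B
  have hqV : q.asIdeal.comap (algebraMap V B) = maximalIdeal V := by
    subst hf
    exact congrArg PrimeSpectrum.asIdeal hq
  have hle : m.asIdeal ⊔ Ideal.span {algebraMap V B π} ≤ q.asIdeal := by
    refine sup_le hmq ((Ideal.span_singleton_le_iff_mem _).2 ?_)
    rw [← Ideal.mem_comap, hqV, hmaxV]
    exact Ideal.mem_span_singleton_self π
  obtain ⟨v, hv, hvq⟩ := Ideal.exists_minimalPrimes_le hle
  have hvp : v.IsPrime := hv.1.1
  let v' : PrimeSpectrum B := ⟨v, hvp⟩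
  have hvV : v.comap (algebraMap V B) = maximalIdeal V := by
    refine le_antisymm (le_maximalIdeal (Ideal.IsPrime.comap _).ne_top) ?_
    rw [hmaxV, Ideal.span_singleton_le_iff_mem, Ideal.mem_comap]
    exact hv.1.2 (Ideal.mem_sup_right (Ideal.mem_span_singleton_self _))
  have hfv : f v' = closedPoint V := by
    subst hf
    exact PrimeSpectrum.ext hvV
  have hmv : m ≤ v' := le_sup_left.trans hv.1.2
  let vS : ↥(Spec (CommRingCat.of B)) := v'
  let qS : ↥(Spec (CommRingCat.of B)) := q
  let mS : ↥(Spec (CommRingCat.of B)) := m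
  have hspec : mS ⤳ vS := (PrimeSpectrum.le_iff_specializes m v').1 hmv
  have hvq' : vS ⤳ qS := (PrimeSpectrum.le_iff_specializes v' q).1 hvq
  have hdeg : E4O.fdeg f vS ≤ E4O.fdeg f mS :=
    E4O.fdeg_le_of_specializes_of_valuationRing f hspec hfv
  obtain ⟨z, hz, hfz, hzmax, hzd, -⟩ := E4O.exists_isFibreMax_specializes f vS
  by_cases hzv : z = vS
  · subst hzv
    exact (H1 _ hvq' (hfv.trans hq.symm) hzmax).trans hdeg
  exfalso
  have hlt : E4O.fdeg f vS < E4O.fdeg f z := E4O.fdeg_lt hz hfz hzv
  obtain ⟨k, hk, hkd⟩ := CM62.exists_fibre_dim f vS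
  rw [hzd] at hkd
  have hk1 : 1 ≤ k := by
    have : E4O.fdeg f z = k + E4O.fdeg f vS := by exact_mod_cast hkd
    omega
  have hdep : ((1 : ℕ) : WithBot ℕ∞) ≤ ((Sk62.fdepth f vS : ℕ∞) : WithBot ℕ∞) := by
    refine le_trans (le_min le_rfl ?_) (H2 vS hvq' (hfv.trans hq.symm))
    rw [Sk62.fdim, hk]
    exact_mod_cast hk1
  obtain ⟨hdep', -, -⟩ := Sk62.fibreRing_data f (A := V) (B := B) (𝟙 _) (𝟙 _)
    (by rw [Category.comp_id, Category.id_comp, hf]) v'
  haveI : IsLocalRing (RelPd52.fibreRing V v') := Sk62.isLocalRing_fibreRing v'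
  have h0 : LocCoh.depth (RelPd52.fibreRing V v') (RelPd52.fibreRing V v') = 0 := by
    let R := Localization.AtPrime v
    have : IsNoetherianRing R := IsLocalization.isNoetherianRing v.primeCompl R inferInstance
    have hreg : IsSMulRegular R (algebraMap V R π) := by
      have : Module.Flat B R := IsLocalization.flat R v.primeCompl
      have : Module.Flat V R := Module.Flat.trans V B R
      have h : IsSMulRegular V π := fun a b h => mul_left_cancel₀ hπ.ne_zero h
      have h2 := (h.of_flat (S := R))
      exact h2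
    have hI : (maximalIdeal R).comap (algebraMap B R) = v := Localization.AtPrime.under_maximalIdeal
    have hmem : algebraMap V R π ∈ maximalIdeal R := by
      rw [IsScalarTower.algebraMap_apply V B R, ← Ideal.mem_comap, hI]
      exact hv.1.2 (Ideal.mem_sup_right (Ideal.mem_span_singleton_self _))
    have heqI : (v.comap (algebraMap V B)).map (algebraMap V R) = Ideal.span {algebraMap V R π} := by
      rw [hvV, hmaxV, Ideal.map_span, Set.image_singleton]
    have : IsLocalRing (R ⧸ Ideal.span {algebraMap V R π}) :=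
      have : Nontrivial (R ⧸ Ideal.span {algebraMap V R π}) := Ideal.Quotient.nontrivial_iff.2
        (ne_top_of_le_ne_top (maximalIdeal.isMaximal R).ne_top
          ((Ideal.span_singleton_le_iff_mem _).2 hmem))
      IsLocalRing.of_surjective' (Ideal.Quotient.mk _) Ideal.Quotient.mk_surjective
    have hdisj : Disjoint (v.primeCompl : Set B) m.asIdeal :=
      Set.disjoint_left.2 fun y hy hym => hy (hmv hym)
    let mR := m.asIdeal.map (algebraMap B R)
    have hmR : mR.IsPrime := IsLocalization.isPrime_of_isPrime_disjoint v.primeCompl R _ m.2 hdisj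
    have hmRc : mR.comap (algebraMap B R) = m.asIdeal :=
      IsLocalization.under_map_of_isPrime_disjoint v.primeCompl R m.2 hdisj
    have hass : mR ∈ associatedPrimes R R := by
      refine Module.associatedPrimes.minimalPrimes_annihilator_subset_associatedPrimes R R ?_
      rw [Module.annihilator_eq_bot.2 inferInstance]
      refine ⟨⟨hmR, bot_le⟩, fun P hP hPle => Ideal.map_le_iff_le_comap.2 ?_⟩
      exact @hm ⟨P.comap (algebraMap B R), hP.1.comap _⟩
        ((Ideal.comap_mono hPle).trans hmRc.le)
    have hmax : maximalIdeal R ∈ (mR ⊔ Ideal.span {algebraMap V R π}).minimalPrimes := by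
      refine ⟨⟨inferInstance, sup_le (le_maximalIdeal hmR.ne_top)
        ((Ideal.span_singleton_le_iff_mem _).2 hmem)⟩, fun P hP hPle => ?_⟩
      have h1 : m.asIdeal ⊔ Ideal.span {algebraMap V B π} ≤ P.comap (algebraMap B R) := by
        refine sup_le (Ideal.map_le_iff_le_comap.1 (le_sup_left.trans hP.2))
          ((Ideal.span_singleton_le_iff_mem _).2 ?_)
        rw [Ideal.mem_comap, ← IsScalarTower.algebraMap_apply]
        exact hP.2 (Ideal.mem_sup_right (Ideal.mem_span_singleton_self _))
      have h2 := hv.2 ⟨hP.1.comap _, h1⟩ ((Ideal.comap_mono hPle).trans hI.le)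
      rw [← IsLocalization.map_under v.primeCompl R (maximalIdeal R)]
      exact Ideal.map_le_iff_le_comap.2 (hI.le.trans h2)
    have h := depth_quotient_eq_zero (algebraMap V R π) hreg hmem mR hass hmax
    rw [← h]
    exact (CAlg1.depth_eq_of_ringEquiv (Ideal.quotEquivOfEq heqI.symm)).symm
  rw [show Sk62.fdepth f vS = 0 from hdep'.symm.trans h0] at hdep
  norm_num at hdep

end Groth.Agent.LC16.DvrFibre
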