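import Mathlib.CategoryTheory.Abelian.RightDerived
import Mathlib.Algebra.Homology.ShortComplex.PreservesHomology
import Mathlib.CategoryTheory.Abelian.Exact
import Mathlib.CategoryTheory.Preadditive.Injective.Basic

/-!
A complex of injectives which is exact below degree `d`: homology in degree `d` commutes with
left exact functors.
-/

set_option autoImplicit false

universe v v' u u'

open CategoryTheory CategoryTheory.Limits

namespace Groth.Agent.LC16.EdgeIso

variable {C : Type u} [Category.{v} C] [Abelian C]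

/-- A map out of an injective with injective kernel is regular. -/
theorem exists_regular {A B : C} (t : A ⟶ B) [Injective A] [Injective (kernel t)] :
    ∃ r : B ⟶ A, t ≫ r ≫ t = t := by
  let ρ : A ⟶ kernel t := Injective.factorThru (𝟙 _) (kernel.ι t)
  have hρ : kernel.ι t ≫ ρ = 𝟙 _ := Injective.comp_factorThru _ _
  let q : A ⟶ A := 𝟙 A - ρ ≫ kernel.ι t
  have hq : kernel.ι t ≫ q = 0 := by
    simp only [q, Preadditive.comp_sub, Category.comp_id, reassoc_of% hρ, sub_self]
  let σ : Abelian.coimage t ⟶ A := cokernel.desc _ q hq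
  have hσ : σ ≫ Abelian.coimage.π t = 𝟙 _ := by
    refine coequalizer.hom_ext ?_
    change cokernel.π (kernel.ι t) ≫ cokernel.desc _ q hq ≫ cokernel.π (kernel.ι t) = _
    rw [cokernel.π_desc_assoc, Preadditive.sub_comp, Category.assoc, cokernel.condition,
      comp_zero, sub_zero, Category.id_comp, Category.comp_id]
  have hinj : Injective (Abelian.coimage t) := Retract.injective ⟨σ, Abelian.coimage.π t, hσ⟩
  let m : Abelian.coimage t ⟶ B := Abelian.factorThruCoimage t
  let ρ' : B ⟶ Abelian.coimage t := Injective.factorThru (𝟙 _) m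
  have hρ' : m ≫ ρ' = 𝟙 _ := Injective.comp_factorThru _ _
  refine ⟨ρ' ≫ σ, ?_⟩
  have ht : Abelian.coimage.π t ≫ m = t := Abelian.coimage.fac t
  calc t ≫ (ρ' ≫ σ) ≫ t = Abelian.coimage.π t ≫ (m ≫ ρ') ≫ σ ≫ t := by
        conv_lhs => arg 1; rw [← ht]
        simp only [Category.assoc]
    _ = Abelian.coimage.π t ≫ (σ ≫ Abelian.coimage.π t) ≫ m := by
        rw [hρ', Category.id_comp, Category.assoc, ht]
    _ = t := by rw [hσ, Category.id_comp, ht]

variable (K : CochainComplex C ℕ) [∀ n, Injective (K.X n)]

theorem exists_regular_toCycles (d : ℕ) (h : ∀ i < d, K.ExactAt i) :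
    ∃ r : K.cycles d ⟶ K.X ((ComplexShape.up ℕ).prev d),
      K.toCycles ((ComplexShape.up ℕ).prev d) d ≫ r ≫ K.toCycles ((ComplexShape.up ℕ).prev d) d =
        K.toCycles ((ComplexShape.up ℕ).prev d) d := by
  induction d with
  | zero =>
    refine ⟨0, ?_⟩
    have h0 : K.toCycles ((ComplexShape.up ℕ).prev 0) 0 = 0 := by
      rw [← cancel_mono (K.iCycles 0), HomologicalComplex.toCycles_i, zero_comp]
      exact K.shape _ _ (by simp)
    rw [h0, zero_comp]
  | succ n ih =>
    obtain ⟨r, hr⟩ := ih fun i hi => h i (by omega)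
    let p := (ComplexShape.up ℕ).prev n
    haveI : Epi (K.toCycles p n) := (K.sc n).exact_iff_epi_toCycles.1 (h n (by omega))
    have hr1 : r ≫ K.toCycles p n = 𝟙 _ := by
      rw [← cancel_epi (K.toCycles p n), hr, Category.comp_id]
    have hZ : Injective (K.cycles n) := Retract.injective ⟨r, K.toCycles p n, hr1⟩
    have hp : (ComplexShape.up ℕ).prev (n + 1) = n := CochainComplex.prev_nat_succ n
    suffices ∀ m, m = n → ∃ r' : K.cycles (n + 1) ⟶ K.X m,
        K.toCycles m (n + 1) ≫ r' ≫ K.toCycles m (n + 1) = K.toCycles m (n + 1) from this _ hp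
    intro m hm
    subst m
    have h1 : Injective (kernel (K.toCycles n (n + 1))) := by
      let e : kernel (K.toCycles n (n + 1)) ≅ K.cycles n :=
        (kernelCompMono (K.toCycles n (n + 1)) (K.iCycles (n + 1))).symm ≪≫
          kernelIsoOfEq (K.toCycles_i n (n + 1)) ≪≫
          (kernelIsKernel _).conePointUniqueUpToIso (K.cyclesIsKernel n (n + 1) (by simp))
      exact Injective.of_iso e.symm hZ
    exact exists_regular _

variable {D : Type u'} [Category.{v'} D] [Abelian D] (T : C ⥤ D) [T.Additive] [PreservesFiniteLimits T]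

/-- Homology in degree `d` of a complex of injectives exact below `d` commutes with left exact
functors. -/
theorem nonempty_homology_map_iso (d : ℕ) (h : ∀ i < d, K.ExactAt i) :
    Nonempty (((T.mapHomologicalComplex (ComplexShape.up ℕ)).obj K).homology d ≅
      T.obj (K.homology d)) := by
  obtain ⟨r₀, hr⟩ := exists_regular_toCycles K d h
  let S := K.sc d
  let hd := S.leftHomologyData
  let t : S.X₁ ⟶ hd.K := hd.f'
  let r : hd.K ⟶ S.X₁ := r₀
  have hr' : t ≫ r ≫ t = t := hr
  let s : hd.H ⟶ hd.K := hd.descH (𝟙 hd.K - r ≫ t) (by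
    rw [Preadditive.comp_sub, Category.comp_id]
    exact sub_eq_zero.2 hr'.symm)
  have hs : hd.π ≫ s = 𝟙 hd.K - r ≫ t := hd.π_descH _ _
  have hsπ : s ≫ hd.π = 𝟙 _ := by
    rw [← cancel_epi hd.π, reassoc_of% hs, Preadditive.sub_comp, Category.assoc, Category.comp_id]
    simp [t]
  have hwπ : T.map t ≫ T.map hd.π = 0 := by rw [← T.map_comp, hd.f'_π, T.map_zero]
  haveI : hd.IsPreservedBy T :=
    { g := inferInstance
      f' := preservesColimit_of_preserves_colimit_cocone hd.hπ <| by
        refine (CokernelCofork.isColimitMapCoconeEquiv _ T).symm ?_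
        refine CokernelCofork.IsColimit.ofπ _ hwπ (fun a _ => T.map s ≫ a) (fun a ha => ?_)
          fun a _ b hb => ?_
        · change T.map hd.π ≫ T.map s ≫ a = a
          rw [← T.map_comp_assoc, hs, T.map_sub, Preadditive.sub_comp, T.map_id, Category.id_comp,
            T.map_comp, Category.assoc, show T.map t ≫ a = 0 from ha, comp_zero, sub_zero]
        · change b = T.map s ≫ a
          rw [← show T.map hd.π ≫ b = a from hb, ← T.map_comp_assoc, hsπ, T.map_id,
            Category.id_comp] }
  exact ⟨(hd.map T).homologyIso ≪≫ T.mapIso hd.homologyIso.symm⟩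

end Groth.Agent.LC16.EdgeIso
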