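import Groth.Prelude.Def_DerCA
import Mathlib.RingTheory.Artinian.Module

/-!
An inverse system of Artinian modules whose limit is an Artinian module is essentially constant.
-/

namespace Groth.Agent.LC16.EssConst

universe u

set_option autoImplicit false

open CategoryTheory Opposite

variable {A : Type u} [CommRing A] (X : ℕᵒᵖ ⥤ ModuleCat.{u} A) {H : ModuleCat.{u} A}
  (c : (Functor.const ℕᵒᵖ).obj H ⟶ X)

lemma tr_tr {n m k : ℕ} (h : n ≤ m) (h' : m ≤ k) (y : X.obj (op k)) :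
    (ARSys.tr X h).hom ((ARSys.tr X h').hom y) = (ARSys.tr X (h.trans h')).hom y := by
  have e : ARSys.tr X (h.trans h') = ARSys.tr X h' ≫ ARSys.tr X h :=
    (congrArg X.map (Subsingleton.elim _ _)).trans (X.map_comp _ _)
  rw [e]; rfl

lemma tr_self {n : ℕ} (y : X.obj (op n)) : (ARSys.tr X (le_refl n)).hom y = y := by
  have e : ARSys.tr X (le_refl n) = 𝟙 _ :=
    (congrArg X.map (Subsingleton.elim _ _)).trans (X.map_id _)
  rw [e]; rfl

lemma c_tr {n m : ℕ} (h : n ≤ m) (x : H) :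
    (ARSys.tr X h).hom ((c.app (op m)).hom x) = (c.app (op n)).hom x := by
  have e := congr(($(c.naturality (homOfLE h).op)).hom x)
  exact e.symm

theorem isEssConstant (hX : ∀ n : ℕ, IsArtinian A (X.obj (op n))) (hH : IsArtinian A H)
    (hinj : ∀ x : H, (∀ n : ℕ, (c.app (op n)).hom x = 0) → x = 0)
    (hsurj : ∀ y : ∀ n : ℕ, X.obj (op n),
      (∀ (n m : ℕ) (h : n ≤ m), (ARSys.tr X h).hom (y m) = y n) →
        ∃ x : H, ∀ n : ℕ, (c.app (op n)).hom x = y n) :
    DerCA.IsEssConstant X H c := by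
  have hst : ∀ n : ℕ, ∃ (r : ℕ) (hr : n ≤ r), ∀ (m : ℕ) (hm : r ≤ m),
      LinearMap.range (ARSys.tr X (hr.trans hm)).hom = LinearMap.range (ARSys.tr X hr).hom := by
    intro n
    obtain ⟨d, hd⟩ := monotone_stabilizes_iff_artinian.mpr (hX n)
      ⟨fun d => OrderDual.toDual (LinearMap.range (ARSys.tr X (Nat.le_add_right n d)).hom),
        fun a b hab => by
          rintro _ ⟨y, rfl⟩
          exact ⟨(ARSys.tr X (Nat.add_le_add_left hab n)).hom y, tr_tr X _ _ y⟩⟩
    refine ⟨n + d, Nat.le_add_right n d, fun m hm => ?_⟩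
    obtain ⟨e, rfl⟩ : ∃ e, m = n + e := ⟨m - n, by omega⟩
    exact (hd e (by omega)).symm
  choose r hr hrst using hst
  have hone : ∀ (n : ℕ) (y : X.obj (op (r n))), ∃ x : H,
      (c.app (op n)).hom x = (ARSys.tr X (hr n)).hom y := by
    intro n₀ y₀
    let S : ∀ n, Submodule A (X.obj (op n)) := fun n => LinearMap.range (ARSys.tr X (hr n)).hom
    have hSle : ∀ (n k : ℕ) (h : n ≤ k) (y : X.obj (op k)), r n ≤ k → (ARSys.tr X h).hom y ∈ S n := by
      intro n k h y hk
      show (ARSys.tr X h).hom y ∈ S n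
      have := hrst n k hk
      exact this.le ⟨y, rfl⟩
    have hlift : ∀ (n : ℕ) (y : S n), ∃ z : S (n + 1),
        (ARSys.tr X (Nat.le_succ n)).hom z.1 = y.1 := by
      intro n y
      obtain ⟨w, hw⟩ := (hrst n (max (r n) (r (n + 1))) (le_max_left _ _)).ge y.2
      refine ⟨⟨(ARSys.tr X ((hr (n + 1)).trans (le_max_right _ _))).hom w,
        hSle _ _ _ w (le_max_right _ _)⟩, ?_⟩
      exact (tr_tr X _ _ w).trans hw
    choose g hg using hlift
    let z : ∀ d : ℕ, S (n₀ + d) := fun d =>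
      Nat.rec (motive := fun d => S (n₀ + d)) ⟨(ARSys.tr X (hr n₀)).hom y₀, ⟨y₀, rfl⟩⟩
        (fun d v => g (n₀ + d) v) d
    have hz : ∀ (a b : ℕ) (h : n₀ + a ≤ n₀ + b), (ARSys.tr X h).hom (z b).1 = (z a).1 := by
      intro a b h
      induction b, (Nat.le_of_add_le_add_left h : a ≤ b) using Nat.le_induction with
      | base => exact tr_self X _
      | succ b hab ih =>
        rw [← tr_tr X (Nat.add_le_add_left hab n₀) (Nat.le_succ (n₀ + b))]
        exact (congrArg _ (hg (n₀ + b) (z b))).trans (ih _)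
    obtain ⟨x, hx⟩ := hsurj (fun n => (ARSys.tr X (Nat.le_add_left n n₀)).hom (z n).1) fun n m h => by
      rw [← hz n m (Nat.add_le_add_left h n₀), tr_tr, tr_tr]
    refine ⟨x, (hx n₀).trans ?_⟩
    exact hz 0 n₀ (Nat.le_add_right n₀ n₀)
  obtain ⟨i₀, hi₀⟩ : ∃ i₀, LinearMap.ker (c.app (op i₀)).hom = ⊥ := by
    obtain ⟨i₀, h⟩ := monotone_stabilizes_iff_artinian.mpr hH
      ⟨fun n => OrderDual.toDual (LinearMap.ker (c.app (op n)).hom), fun a b hab x hx =>
        LinearMap.mem_ker.mpr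
          ((c_tr X c hab x).symm.trans ((congrArg _ (LinearMap.mem_ker.mp hx)).trans (map_zero _)))⟩
    refine ⟨i₀, (Submodule.eq_bot_iff _).mpr fun x hx => hinj x fun n => ?_⟩
    have h1 : (c.app (op (max i₀ n))).hom x = 0 :=
      LinearMap.mem_ker.mp ((congrArg OrderDual.ofDual (h (max i₀ n) (le_max_left _ _))).le hx)
    rw [← c_tr X c (le_max_right i₀ n) x, h1, map_zero]
  choose sf hsf using fun y => hone i₀ y
  have hinj₀ : Function.Injective (c.app (op i₀)).hom := LinearMap.ker_eq_bot.mp hi₀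
  let s : X.obj (op (r i₀)) →ₗ[A] H :=
    { toFun := sf
      map_add' := fun a b => hinj₀ (by rw [map_add, hsf, hsf, hsf, map_add])
      map_smul' := fun a b => hinj₀ (by rw [RingHom.id_apply, map_smul, hsf, hsf, map_smul]) }
  refine ⟨r i₀, ModuleCat.ofHom s, ?_, fun j => ?_⟩
  · ext x
    exact hinj₀ ((hsf _).trans (c_tr X c (hr i₀) x))
  · set m := max i₀ j
    refine ⟨max (r i₀) (r m), le_max_left _ _,
      (le_max_right i₀ j).trans ((hr m).trans (le_max_right _ _)), ?_⟩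
    ext y
    obtain ⟨w, hw⟩ : (ARSys.tr X ((hr m).trans (le_max_right (r i₀) (r m)))).hom y ∈
        LinearMap.range (ARSys.tr X (hr m)).hom :=
      (hrst m (max (r i₀) (r m)) (le_max_right _ _)).le ⟨y, rfl⟩
    obtain ⟨x, hx⟩ := hone m w
    have hs : s ((ARSys.tr X (le_max_left (r i₀) (r m))).hom y) = x := hinj₀ <| by
      rw [← c_tr X c (le_max_left i₀ j : i₀ ≤ m) x, hx, hw, tr_tr]
      exact (hsf _).trans (tr_tr X _ _ y)
    change _ = (c.app (op j)).hom (s ((ARSys.tr X (le_max_left (r i₀) (r m))).hom y))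
    rw [hs, ← c_tr X c (le_max_right i₀ j : j ≤ m) x, hx, hw, tr_tr]

end Groth.Agent.LC16.EssConst
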