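import Groth.Prelude.Def_Coh
import Mathlib.AlgebraicGeometry.Morphisms.Etale
import Mathlib.RingTheory.Etale.Kaehler
import Mathlib.RingTheory.Derivation.Basic
import Mathlib.Topology.Sheaves.SheafCondition.Sites

/-!
# Derivations of the base act on the structure sheaf of an étale scheme

If `V` is étale over `Spec A`, a derivation of `A` extends uniquely to every ring of sections over an
affine open, hence to an additive endomorphism of the sheaf `O_V`, hence to cohomology.
-/

universe u

open CategoryTheory AlgebraicGeometry Opposite TopologicalSpace TensorProduct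

namespace Groth.Agent.LC16.EtaleDer

variable {A : Type u} [CommRing A] {B : Type u} [CommRing B]

/-- A derivation of `A` extends along a formally étale map. -/
theorem exists_extend (φ : A →+* B)
    (hφ : @Algebra.FormallyEtale A B _ _ φ.toAlgebra) (θ : Derivation ℤ A A) :
    ∃ D : B →+ B, (∀ x y, D (x * y) = x * D y + y * D x) ∧ ∀ a, D (φ a) = φ (θ a) := by
  letI : Algebra A B := φ.toAlgebra
  haveI := hφ
  haveI : IsScalarTower ℤ A B := IsScalarTower.of_algebraMap_eq' (RingHom.ext_int _ _)
  let θ' : Derivation ℤ A B :=
    Derivation.mk' (((algebraMap A B).toAddMonoidHom.comp θ.toLinearMap.toAddMonoidHom).toIntLinearMap)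
      (fun a b => by
        show φ (θ (a * b)) = a • φ (θ b) + b • φ (θ a)
        rw [Derivation.leibniz, smul_eq_mul, smul_eq_mul, map_add, map_mul, map_mul,
          Algebra.smul_def, Algebra.smul_def]
        rfl)
  let D : Derivation ℤ B B :=
    ((LinearMap.liftBaseChange B θ'.liftKaehlerDifferential).comp
      (KaehlerDifferential.tensorKaehlerEquivOfFormallyEtale ℤ A B).symm.toLinearMap).compDer
        (KaehlerDifferential.D ℤ B)
  refine ⟨D.toLinearMap.toAddMonoidHom, fun x y => ?_, fun a => ?_⟩
  · exact D.leibniz x y
  · show (LinearMap.liftBaseChange B θ'.liftKaehlerDifferential)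
      ((KaehlerDifferential.tensorKaehlerEquivOfFormallyEtale ℤ A B).symm
        (KaehlerDifferential.D ℤ B (algebraMap A B a))) = _
    rw [KaehlerDifferential.tensorKaehlerEquivOfFormallyEtale_symm_D_algebraMap]
    rw [LinearMap.liftBaseChange_tmul, Derivation.liftKaehlerDifferential_comp_D, one_smul]
    rfl

/-- Derivations out of a formally étale algebra are determined by their restriction to the base. -/
theorem eq_of_agree (φ : A →+* B)
    (hφ : @Algebra.FormallyEtale A B _ _ φ.toAlgebra) {C : Type u} [CommRing C] (ψ : B →+* C)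
    (d d' : B →+ C) (hd : ∀ x y, d (x * y) = ψ x * d y + ψ y * d x)
    (hd' : ∀ x y, d' (x * y) = ψ x * d' y + ψ y * d' x) (h : ∀ a, d (φ a) = d' (φ a)) :
    d = d' := by
  letI : Algebra A B := φ.toAlgebra
  haveI := hφ
  letI : Algebra B C := ψ.toAlgebra
  letI : Algebra A C := (ψ.comp φ).toAlgebra
  haveI : IsScalarTower A B C := IsScalarTower.of_algebraMap_eq' rfl
  let e : Derivation A B C := Derivation.mk'
    { toFun := fun x => d x - d' x
      map_add' := fun x y => by rw [map_add, map_add]; abel
      map_smul' := fun a x => by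
        show d (φ a * x) - d' (φ a * x) = ψ (φ a) * (d x - d' x)
        rw [hd, hd', h a]
        ring }
    (fun x y => by
      show d (x * y) - d' (x * y) = ψ x * (d y - d' y) + ψ y * (d x - d' x)
      rw [hd, hd']
      ring)
  have he : e = 0 := by
    ext x
    rw [← Derivation.liftKaehlerDifferential_comp_D e x,
      Subsingleton.elim (KaehlerDifferential.D A B x) 0, map_zero]
    rfl
  ext x
  exact sub_eq_zero.mp (DFunLike.congr_fun he x)

section Sheaf

variable {V : Scheme.{u}} (f : V ⟶ Spec (CommRingCat.of A))

/-- The structure map into the sections over an open. -/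
noncomputable def toSections (U : V.Opens) : A →+* Γ(V, U) :=
  (Coh.resTop V (op U)).comp (Coh.toGlobal f)

theorem toSections_res {U U' : V.Opens} (i : U' ⟶ U) (a : A) :
    (V.presheaf.map i.op).hom (toSections f U a) = toSections f U' a :=
  Coh.resTop_comp (op U) (op U') i.op (Coh.toGlobal f a)

theorem formallyEtale_toSections [Etale f] (U : V.affineOpens) :
    @Algebra.FormallyEtale A Γ(V, U.1) _ _ (toSections f U.1).toAlgebra := by
  have h := HasRingHomProperty.appLE @Etale f inferInstance
    ⟨⊤, isAffineOpen_top _⟩ U le_top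
  have h2 := RingHom.Etale.respectsIso.2 _
    (Scheme.ΓSpecIso (CommRingCat.of A)).symm.commRingCatIsoToRingEquiv h
  have h3 : (toSections f U.1).Etale := h2
  letI : Algebra A Γ(V, U.1) := (toSections f U.1).toAlgebra
  haveI : Algebra.Etale A Γ(V, U.1) := RingHom.etale_algebraMap.mp h3
  infer_instance

variable (θ : Derivation ℤ A A) [Etale f]

/-- The extension of `θ` to the sections over an affine open. -/
noncomputable def locD (U : V.affineOpens) : Γ(V, U.1) →+ Γ(V, U.1) :=
  (exists_extend (toSections f U.1) (formallyEtale_toSections f U) θ).choose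

theorem locD_mul (U : V.affineOpens) (x y : Γ(V, U.1)) :
    locD f θ U (x * y) = x * locD f θ U y + y * locD f θ U x :=
  (exists_extend (toSections f U.1) (formallyEtale_toSections f U) θ).choose_spec.1 x y

theorem locD_toSections (U : V.affineOpens) (a : A) :
    locD f θ U (toSections f U.1 a) = toSections f U.1 (θ a) :=
  (exists_extend (toSections f U.1) (formallyEtale_toSections f U) θ).choose_spec.2 a

theorem locD_res {U U' : V.affineOpens} (i : U'.1 ⟶ U.1) (x : Γ(V, U.1)) :
    locD f θ U' ((V.presheaf.map i.op).hom x) = (V.presheaf.map i.op).hom (locD f θ U x) := by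
  let r := (V.presheaf.map i.op).hom
  refine DFunLike.congr_fun (eq_of_agree (toSections f U.1) (formallyEtale_toSections f U) r
    ((locD f θ U').comp r.toAddMonoidHom) (r.toAddMonoidHom.comp (locD f θ U))
    (fun x y => ?_) (fun x y => ?_) (fun a => ?_)) x
  · show locD f θ U' (r (x * y)) = _
    rw [map_mul, locD_mul]
    rfl
  · show r (locD f θ U (x * y)) = _
    rw [locD_mul, map_add, map_mul, map_mul]
    rfl
  · show locD f θ U' (r (toSections f U.1 a)) = r (locD f θ U (toSections f U.1 a))
    rw [toSections_res, locD_toSections, locD_toSections, toSections_res]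

theorem isBasis_affine (V : Scheme.{u}) :
    Opens.IsBasis (Set.range fun U : V.affineOpens => U.1) := by
  rw [Subtype.range_coe]
  exact V.isBasis_affineOpens

/-- The derivation endomorphism of `O_V`. -/
noncomputable def sheafD : Coh.toAb (Coh.structureModule V) ⟶ Coh.toAb (Coh.structureModule V) :=
  ⟨TopCat.Sheaf.restrictHomEquivHom (Coh.toAb (Coh.structureModule V)).obj
    (Coh.toAb (Coh.structureModule V)) (isBasis_affine V)
    { app := fun U => AddCommGrpCat.ofHom (locD f θ U.unop)
      naturality := fun U U' i => by
        ext x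
        exact locD_res f θ (U := U.unop) (U' := U'.unop) i.unop.hom x }⟩

theorem sheafD_app (U : V.affineOpens) (x : Γ(V, U.1)) :
    ((sheafD f θ).hom.app (op U.1)).hom x = locD f θ U x :=
  DFunLike.congr_fun (congrArg AddCommGrpCat.Hom.hom
    (TopCat.Sheaf.extend_hom_app (Coh.toAb (Coh.structureModule V)).obj
      (Coh.toAb (Coh.structureModule V)) (isBasis_affine V) _ U)) x

theorem smulAb_comp_sheafD (a : A) :
    Coh.smulAb (Coh.structureModule V) (Coh.toGlobal f a) ≫ sheafD f θ =
      Coh.smulAb (Coh.structureModule V) (Coh.toGlobal f (θ a)) +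
        sheafD f θ ≫ Coh.smulAb (Coh.structureModule V) (Coh.toGlobal f a) := by
  apply Sheaf.hom_ext
  refine TopCat.Sheaf.hom_ext (Coh.toAb (Coh.structureModule V)).obj
    (Coh.toAb (Coh.structureModule V)) (isBasis_affine V) fun U => ?_
  refine AddCommGrpCat.hom_ext (AddMonoidHom.ext fun y => ?_)
  revert y
  show ∀ x : Γ(V, U.1), ((sheafD f θ).hom.app (op U.1)).hom (toSections f U.1 a * x : Γ(V, U.1)) =
    (show Γ(V, U.1) from toSections f U.1 (θ a) * x +
      toSections f U.1 a * (show Γ(V, U.1) from ((sheafD f θ).hom.app (op U.1)).hom x))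
  intro x
  rw [sheafD_app, sheafD_app, locD_mul, locD_toSections]
  ring

end Sheaf

end Groth.Agent.LC16.EtaleDer
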