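import Groth.Agent.LC16.ExtCodim
import Groth.Agent.Curves2.ProjLine
import Groth.Agent.H98Proj.SmoothPn
import Groth.Agent.Var76.RegKaehler
import Groth.Agent.S10829

set_option autoImplicit false
set_option backward.isDefEq.respectTransparency.types false

universe u

open CategoryTheory Limits AlgebraicGeometry TopologicalSpace

namespace Groth.Agent.LC16.ExtCodim

theorem regular_projSpace (k : Type u) [Field k] (N : ℕ) (p : CohB1.ProjSpace N k) :
    IsRegularLocalRing ((CohB1.ProjSpace N k).presheaf.stalk p) := by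
  let f := CohB1.ProjSpace.toSpec N k
  have : Smooth f := H98Proj.smooth_toSpec N k
  have hx : (f.stalkMap p).hom.FormallySmooth :=
    Scheme.Hom.mem_smoothLocus.1 ((Scheme.Hom.smoothLocus_eq_top f).ge trivial)
  have : IsRegularLocalRing ((Spec (CommRingCat.of k)).presheaf.stalk (f p)) :=
    let y : PrimeSpectrum k := f p
    (Var76.RegKaehler.regular_stalk_iff (CommRingCat.of k) y).2 (IsRegularRing.isRegularLocalRing_localization y.asIdeal)
  exact (Unr55.isRegularLocalRing_stalk_iff_of_smooth f p hx).2 this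

theorem dim_components_projSpace (k : Type u) [Field k] (N : ℕ)
    (Z : Set ↥(CohB1.ProjSpace N k)) (hZ : Z ∈ irreducibleComponents ↥(CohB1.ProjSpace N k)) :
    topologicalKrullDim ↥Z = (N : WithBot ℕ∞) := by
  have := Curves2.ProjLine.isIntegral k N
  rw [irreducibleComponents_eq_singleton, Set.mem_singleton_iff] at hZ
  subst hZ
  rw [(Homeomorph.Set.univ _).isHomeomorph.topologicalKrullDim_eq _]
  exact S10829.result k N

theorem isZero_extSh_projSpace {k : Type u} [Field k] (N : ℕ) {X : Scheme.{u}}
    (ι : X ⟶ CohB1.ProjSpace N k) [IsClosedImmersion ι] (r : ℕ)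
    (hr : topologicalKrullDim ↥X + (r : WithBot ℕ∞) ≤ (N : WithBot ℕ∞))
    (E : (CohB1.ProjSpace N k).Modules) (hE : FlatMod.IsFinLocFree E)
    [ModSite.HasSheafHom (O := (CohB1.ProjSpace N k).sheaf) ((Scheme.Modules.pushforward ι).obj (Coh.structureModule X))]
    [HasInjectiveResolutions (ModSite.Mod (CohB1.ProjSpace N k).sheaf)] (i : ℕ) (hi : i < r) :
    IsZero ((ModSite.extSh (O := (CohB1.ProjSpace N k).sheaf)
      ((Scheme.Modules.pushforward ι).obj (Coh.structureModule X)) i).obj E) :=
  have : Smooth (CohB1.ProjSpace.toSpec N k) := H98Proj.smooth_toSpec N k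
  isZero_extSh_of_codim (CohB1.ProjSpace.toSpec N k) (regular_projSpace k N) N r
    (dim_components_projSpace k N) ι hr E hE i hi

end Groth.Agent.LC16.ExtCodim
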