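import Groth.Agent.LC16.ExtStalk
import Groth.Agent.LC16.StalkMod
import Groth.Agent.LC15.ExtDepth
import Groth.Agent.CohSerre72.Basic

set_option autoImplicit false
set_option backward.isDefEq.respectTransparency.types false
set_option linter.style.haveILetI false

/-!
Depth along a closed subset and vanishing of the `Ext` sheaves.
-/

noncomputable section

universe u

open CategoryTheory Limits AlgebraicGeometry TopologicalSpace Opposite

namespace Groth.Agent.LC16.ExtDepthSheaf

variable {X : Scheme.{u}} [IsLocallyNoetherian X] {F G : X.Modules}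
  [ModSite.HasSheafHom (O := X.sheaf) G] [HasInjectiveResolutions (ModSite.Mod X.sheaf)]

theorem depth_ge_of_extSh_vanish (hF : Coh.IsCoh F) (hG : Coh.IsCoh G) (n : ℕ)
    (h : ∀ i < n, IsZero ((ModSite.extSh (O := X.sheaf) G i).obj F)) {x : X}
    (hx : x ∈ CohB1.support G) :
    (n : ℕ∞) ≤ LocCoh.depth (X.presheaf.stalk x) (F.presheaf.stalk x) := by
  haveI := hF.1
  haveI := hF.2
  haveI := hG.1
  haveI := hG.2
  haveI : Module.Finite (X.presheaf.stalk x) (F.presheaf.stalk x) := QC70.finite_stalk F x
  haveI : Module.Finite (X.presheaf.stalk x) (G.presheaf.stalk x) := QC70.finite_stalk G x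
  haveI : Nontrivial (G.presheaf.stalk x) := not_subsingleton_iff_nontrivial.1 hx
  let I := Module.annihilator (X.presheaf.stalk x) (G.presheaf.stalk x)
  have hI : I ≤ IsLocalRing.maximalIdeal (X.presheaf.stalk x) :=
    IsLocalRing.le_maximalIdeal fun h' => by
      obtain ⟨m, hm⟩ := exists_ne (0 : G.presheaf.stalk x)
      refine hm ?_
      rw [← one_smul (X.presheaf.stalk x) m]
      exact Module.mem_annihilator.1 ((Ideal.eq_top_iff_one I).1 h') m
  refine le_trans ((LC17.natCast_le_idealDepth_iff I _ n).2 ?_) (LC17.idealDepth_mono hI)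
  refine LC15.subsingleton_H_of_ext (F := G.presheaf.stalk x) (Module.support_eq_zeroLocus) n _
    fun i hi => ?_
  obtain ⟨l⟩ := ExtStalk.nonempty_stalk_extSh x hG F i
  haveI := ModuleCat.subsingleton_of_isZero ((DCK91.SP x).map_isZero (h i hi))
  exact l.symm.toEquiv.subsingleton

theorem isZero_extSh_of_depth_ge (hF : Coh.IsCoh F) (hG : Coh.IsCoh G) (n : ℕ)
    (h : ∀ x ∈ CohB1.support G, (n : ℕ∞) ≤ LocCoh.depth (X.presheaf.stalk x) (F.presheaf.stalk x))
    (i : ℕ) (hi : i < n) : IsZero ((ModSite.extSh (O := X.sheaf) G i).obj F) := by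
  haveI := hF.1
  haveI := hF.2
  haveI := hG.1
  haveI := hG.2
  refine DCK91.isZero_of_stalks fun x => ?_
  obtain ⟨l⟩ := ExtStalk.nonempty_stalk_extSh x hG F i
  haveI : Module.Finite (X.presheaf.stalk x) (F.presheaf.stalk x) := QC70.finite_stalk F x
  haveI : Module.Finite (X.presheaf.stalk x) (G.presheaf.stalk x) := QC70.finite_stalk G x
  let I := Module.annihilator (X.presheaf.stalk x) (G.presheaf.stalk x)
  have hd : (n : ℕ∞) ≤ LocCoh.idealDepth I (F.presheaf.stalk x) := by
    refine LC17.natCast_le_idealDepth_of_forall I n _ fun q hq => ?_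
    let z := X.fromSpecStalk x q
    have hz : z ⤳ x := Cyc90.fromSpecStalk_specializes q
    have hgen : Cyc90.genPrime hz = q := Cyc90.genPrime_fromSpecStalk q
    obtain ⟨h1, -⟩ := StalkMod.localization_invariants F hF hz
    have key : ∀ q₁ : PrimeSpectrum (X.presheaf.stalk x), q₁ = q →
        (n : ℕ∞) ≤ LocCoh.depth (Localization.AtPrime q₁.asIdeal)
          (LocalizedModule q₁.asIdeal.primeCompl (F.presheaf.stalk x)) →
        (n : ℕ∞) ≤ LocCoh.depth (Localization.AtPrime q.asIdeal)
          (LocalizedModule q.asIdeal.primeCompl (F.presheaf.stalk x)) := by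
      rintro _ rfl hh; exact hh
    refine key _ hgen ?_
    rw [h1]
    refine h z ((StalkMod.mem_support_genPrime_iff G hG hz).1 ?_)
    rw [hgen, Module.support_eq_zeroLocus]
    exact hq
  haveI : Subsingleton (Abelian.Ext ((DCK91.SP x).obj G) ((DCK91.SP x).obj F) i) :=
    LC15.subsingleton_ext_of_H (I := I) (F := G.presheaf.stalk x)
      (LC15.isPowerTorsion_of_support_subset Module.support_eq_zeroLocus.subset) n _
      ((LC17.natCast_le_idealDepth_iff I _ n).1 hd) i hi
  haveI := l.toEquiv.subsingleton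
  exact ModuleCat.isZero_of_subsingleton _

end Groth.Agent.LC16.ExtDepthSheaf
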