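import Mathlib.CategoryTheory.Abelian.Injective.Ext
import Mathlib.Algebra.Homology.DerivedCategory.Ext.Linear
import Mathlib.CategoryTheory.Linear.Yoneda
import Mathlib.Algebra.Homology.ShortComplex.ModuleCat
import Mathlib.Algebra.Category.ModuleCat.Colimits

/-! `Ext` as the homology of maps into an injective resolution, linearly. -/

set_option autoImplicit false

universe w v u r

open CategoryTheory CategoryTheory.Limits CategoryTheory.Abelian Opposite

namespace Groth.Agent.LC16.ExtRes

variable {R : Type r} [CommRing R] {C : Type u} [Category.{v} C] [Abelian C] [Linear R C] [HasExt.{w} C]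
  {Y : C} (Res : InjectiveResolution Y) (M : C)

theorem smul_extMk {n : ℕ} (a : R) (f : M ⟶ Res.cocomplex.X n) (m : ℕ) (hm : n + 1 = m)
    (hf : f ≫ Res.cocomplex.d n m = 0) :
    Res.extMk (a • f) m hm (by rw [Linear.smul_comp, hf, smul_zero]) = a • Res.extMk f m hm hf := by
  have h := Res.mk₀_comp_extMk f m hm hf (a • 𝟙 M)
  rw [Ext.mk₀_smul, Ext.smul_comp, Ext.mk₀_id_comp] at h
  rw [h]
  congr 1
  rw [Linear.smul_comp, Category.id_comp]

theorem eq_zero_of_extMk_zero (f : M ⟶ Res.cocomplex.X 0) (hf : f ≫ Res.cocomplex.d 0 1 = 0)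
    (h : Res.extMk f 1 rfl hf = 0) : f = 0 := by
  rw [← Res.extEquivCohomologyClass.apply_eq_iff_eq, InjectiveResolution.extEquivCohomologyClass_extMk,
    InjectiveResolution.extEquivCohomologyClass_zero, CochainComplex.HomComplex.CohomologyClass.mk_eq_zero_iff,
    CochainComplex.HomComplex.Cocycle.fromSingleMk_mem_coboundaries_iff _ _ _ _ _ (-1) (by norm_num)] at h
  obtain ⟨g, hg⟩ := h
  have hz : IsZero (Res.cochainComplex.X (-1)) :=
    CochainComplex.isZero_of_isStrictlyGE Res.cochainComplex 0 (-1) (by norm_num)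
  rw [hz.eq_of_tgt g 0, zero_comp] at hg
  exact (cancel_mono (Res.cochainComplexXIso (0 : ℕ) 0 rfl).inv).1 (hg.symm.trans zero_comp.symm)

/-- The cocycles map onto `Ext`. -/
noncomputable def toExt (n : ℕ) :
    LinearMap.ker (Linear.rightComp R M (Res.cocomplex.d n (n + 1))) →ₗ[R] Ext.{w} M Y n where
  toFun f := Res.extMk f.1 (n + 1) rfl f.2
  map_add' f g := (Res.add_extMk f.1 g.1 (n + 1) rfl f.2 g.2).symm
  map_smul' a f := smul_extMk Res M a f.1 (n + 1) rfl f.2

/-- The complex of maps into the resolution. -/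
noncomputable abbrev homCx : CochainComplex (ModuleCat.{v} R) ℕ :=
  (((linearCoyoneda R C).obj (op M)).mapHomologicalComplex (ComplexShape.up ℕ)).obj Res.cocomplex

theorem nonempty_homology_linearEquiv_ext (n : ℕ) :
    Nonempty (((homCx (R := R) Res M).homology n : Type v) ≃ₗ[R] Ext.{w} M Y n) := by
  have key : ∀ p : ℕ, (ComplexShape.up ℕ).prev n = p →
      Nonempty ((((homCx (R := R) Res M).sc' p n (n + 1)).homology : Type v) ≃ₗ[R] Ext.{w} M Y n) := by
    intro p hp
    let S := (homCx (R := R) Res M).sc' p n (n + 1)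
    have hsurj : Function.Surjective (toExt (R := R) Res M n) := fun α => by
      obtain ⟨f, hf, rfl⟩ := Res.extMk_surjective α (n + 1) rfl
      exact ⟨⟨f, hf⟩, rfl⟩
    have hker : LinearMap.range S.moduleCatToCycles = LinearMap.ker (toExt (R := R) Res M n) := by
      ext f
      constructor
      · rintro ⟨g', rfl⟩
        obtain ⟨g, rfl⟩ : ∃ g : M ⟶ Res.cocomplex.X p, g = g' := ⟨g', rfl⟩
        have hd : (g ≫ Res.cocomplex.d p n) ≫ Res.cocomplex.d n (n + 1) = 0 := by
          rw [Category.assoc, HomologicalComplex.d_comp_d, comp_zero]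
        show Res.extMk (g ≫ Res.cocomplex.d p n) (n + 1) rfl hd = 0
        cases n with
        | zero =>
          have : Res.cocomplex.d p 0 = 0 := Res.cocomplex.shape _ _ (Nat.succ_ne_zero p)
          simp only [this, comp_zero]
          exact Res.extMk_zero _ _
        | succ k =>
          obtain rfl : p = k := by simpa using hp.symm
          exact (Res.extMk_eq_zero_iff _ _ rfl hd p rfl).2 ⟨g, rfl⟩
      · intro h
        cases n with
        | zero =>
          have h0 : f.1 = 0 := eq_zero_of_extMk_zero Res M f.1 f.2 h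
          exact ⟨0, Subtype.ext (by rw [map_zero]; exact h0.symm)⟩
        | succ k =>
          obtain rfl : p = k := by simpa using hp.symm
          obtain ⟨g, hg⟩ := (Res.extMk_eq_zero_iff f.1 _ rfl f.2 p rfl).1 h
          exact ⟨g, Subtype.ext hg⟩
    have eH : S.homology ≅ ModuleCat.of R
        (LinearMap.ker S.g.hom ⧸ LinearMap.range S.moduleCatToCycles) :=
      S.moduleCatLeftHomologyData.homologyIso
    let q : (LinearMap.ker S.g.hom ⧸ LinearMap.range S.moduleCatToCycles) →ₗ[R] Ext.{w} M Y n :=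
      (LinearMap.range S.moduleCatToCycles).liftQ (toExt (R := R) Res M n) hker.le
    have hq : Function.Bijective q := by
      refine ⟨(injective_iff_map_eq_zero _).2 fun z hz => ?_, fun α => ?_⟩
      · obtain ⟨f, rfl⟩ := Submodule.Quotient.mk_surjective _ z
        rw [Submodule.Quotient.mk_eq_zero]
        exact hker.ge hz
      · obtain ⟨f, rfl⟩ := hsurj α
        exact ⟨Submodule.Quotient.mk f, rfl⟩
    exact ⟨eH.toLinearEquiv ≪≫ₗ LinearEquiv.ofBijective q hq⟩
  obtain ⟨e⟩ := key _ rfl
  exact ⟨((homCx (R := R) Res M).homologyIsoSc' _ n (n + 1) rfl (by simp)).toLinearEquiv ≪≫ₗ e⟩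

end Groth.Agent.LC16.ExtRes
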