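import Groth.Agent.QC70.ExtCoh
import Groth.Agent.LC16.DimShift
import Groth.Prelude.Def_ExtSupp

/-!
`𝓔xt^i(F, G)` from a resolution of `F` by finite locally free modules.
-/

set_option autoImplicit false
set_option backward.isDefEq.respectTransparency.types false
set_option linter.style.haveILetI false

noncomputable section

universe u

open CategoryTheory CategoryTheory.Limits AlgebraicGeometry TopologicalSpace Opposite MonoidalCategory
open Groth.Agent.QC70

namespace Groth.Agent.LC16.ExtResolution

variable {X : Scheme.{u}}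

/-- Exactness of modules from exactness on sections. -/
theorem exact_of_app (S : ShortComplex X.Modules)
    (h : ∀ (U : X.Opens) (φ : Γ(S.X₂, U)), S.g.app U φ = 0 → ∃ ψ, S.f.app U ψ = φ) : S.Exact := by
  rw [ShortComplex.exact_iff_epi_kernel_lift]
  refine epi_of_locally_surjective _ fun U s p hp => ?_
  obtain ⟨ψ, hψ⟩ := h U ((kernel.ι S.g).app U s)
    congr((Scheme.Modules.Hom.app $(kernel.condition S.g) U) s)
  refine ⟨U, le_rfl, ψ, hp, ?_⟩
  rw [res_self]
  refine app_injective_of_mono (kernel.ι S.g) U (Eq.trans ?_ hψ)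
  exact congr((Scheme.Modules.Hom.app $(kernel.lift_ι S.g S.f S.zero) U) ψ)

variable {S : ShortComplex X.Modules}

/-- `𝓗om(-, I)` is exact for injective `I`. -/
theorem exact_homComap (hS : S.Exact) (I : X.Modules) [Injective I] :
    (ShortComplex.mk ((homComap S.g).app I) ((homComap S.f).app I)
      (homComap_comp_eq_zero I)).Exact := by
  refine exact_of_app _ fun U φ h => ?_
  let R := Scheme.Modules.restrictFunctor U.ι
  haveI : Injective (I.restrict U.ι) := injective_restrict U.ι I
  have hmap : (S.map R).Exact := hS.map R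
  have h0 : R.map S.f ≫ (ofSec φ).toRestrictHom = 0 := by
    rw [← HomOn.toRestrictHom_comp, ← HomOn.toRestrictHom_zero (M := S.X₁) (N := I) (U := U)]
    exact congrArg HomOn.toRestrictHom h
  refine ⟨(HomOn.ofRestrictHom (hmap.descToInjective (ofSec φ).toRestrictHom h0)).toSec,
    HomOn.toRestrictHom_injective ?_⟩
  refine (HomOn.toRestrictHom_comp _ _).trans ?_
  rw [HomOn.toRestrictHom_ofRestrictHom]
  exact hmap.comp_descToInjective _ h0

/-- `0 → 𝓗om(X₃, G) → 𝓗om(X₂, G) → 𝓗om(X₁, G)` is exact when `X₁ → X₂ → X₃ → 0` is. -/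
theorem mono_exact_homComap (hS : S.Exact) [Epi S.g] (G : X.Modules) :
    Mono ((homComap S.g).app G) ∧
      (ShortComplex.mk ((homComap S.g).app G) ((homComap S.f).app G)
        (homComap_comp_eq_zero G)).Exact := by
  let R := fun U : X.Opens => Scheme.Modules.restrictFunctor U.ι
  constructor
  · refine mono_of_app_injective _ fun U φ ψ h => ?_
    haveI : Epi ((R U).map S.g) := inferInstance
    refine HomOn.toRestrictHom_injective ((cancel_epi ((R U).map S.g)).mp ?_)
    rw [← HomOn.toRestrictHom_comp, ← HomOn.toRestrictHom_comp]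
    exact congrArg HomOn.toRestrictHom h
  · refine exact_of_app _ fun U φ h => ?_
    have hmap : (S.map (R U)).Exact := hS.map (R U)
    haveI : Epi (S.map (R U)).g := inferInstanceAs (Epi ((R U).map S.g))
    have h0 : (R U).map S.f ≫ (ofSec φ).toRestrictHom = 0 := by
      rw [← HomOn.toRestrictHom_comp, ← HomOn.toRestrictHom_zero (M := S.X₁) (N := G) (U := U)]
      exact congrArg HomOn.toRestrictHom h
    refine ⟨(HomOn.ofRestrictHom (hmap.desc (ofSec φ).toRestrictHom h0)).toSec,
      HomOn.toRestrictHom_injective ?_⟩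
    refine (HomOn.toRestrictHom_comp _ _).trans ?_
    rw [HomOn.toRestrictHom_ofRestrictHom]
    exact hmap.g_desc _ h0

variable (E : ChainComplex X.Modules ℕ)

/-- `𝓗om(E_•, G)`. -/
def homCx (G : X.Modules) : CochainComplex X.Modules ℕ :=
  CochainComplex.of (fun j => homMod (E.X j) G) (fun j => (homComap (E.d (j + 1) j)).app G)
    fun j => homComap_comp_eq_zero
      (S := ShortComplex.mk (E.d (j + 1 + 1) (j + 1)) (E.d (j + 1) j) (E.d_comp_d _ _ _)) G

lemma homCx_d (G : X.Modules) (j : ℕ) :
    (homCx E G).d j (j + 1) = (homComap (E.d (j + 1) j)).app G :=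
  CochainComplex.of_d (fun j => homMod (E.X j) G) (fun j => (homComap (E.d (j + 1) j)).app G) j

/-- `G ↦ 𝓗om(E_•, G)`. -/
def homCxFunctor : X.Modules ⥤ CochainComplex X.Modules ℕ where
  obj G := homCx E G
  map {G G'} g :=
    { f := fun j => homMap (E.X j) g
      comm' := fun i j hij => by
        obtain rfl : i + 1 = j := hij
        rw [homCx_d, homCx_d]
        exact (homComap (E.d (i + 1) i)).naturality g }
  map_id G := HomologicalComplex.hom_ext _ _ fun j => (homFunctor (E.X j)).map_id G
  map_comp g h := HomologicalComplex.hom_ext _ _ fun j => (homFunctor (E.X j)).map_comp g h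

instance preservesZeroMorphisms_homCxFunctor : (homCxFunctor E).PreservesZeroMorphisms where
  map_zero G G' := HomologicalComplex.hom_ext _ _ fun j =>
    haveI := additive_homFunctor (E.X j)
    (homFunctor (E.X j)).map_zero G G'

theorem shortExact_homCxFunctor (hE : ∀ j, FlatMod.IsFinLocFree (E.X j))
    (T : ShortComplex X.Modules) (hT : T.ShortExact) : (T.map (homCxFunctor E)).ShortExact := by
  refine HomologicalComplex.shortExact_of_degreewise_shortExact _ fun j => ?_
  haveI := additive_homFunctor (E.X j)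
  haveI := preservesHomology_homFunctor (hE j)
  haveI : PreservesFiniteLimits (homFunctor (E.X j)) := preservesFiniteLimits_homFunctor _
  haveI : PreservesFiniteColimits (homFunctor (E.X j)) :=
    Functor.preservesFiniteColimits_of_preservesHomology _
  exact hT.map_of_exact (homFunctor (E.X j))

theorem exactAt_homCx (hex : ∀ j : ℕ, E.ExactAt (j + 1)) (I : X.Modules) [Injective I] (n : ℕ) :
    (homCx E I).ExactAt (n + 1) := by
  have h := (HomologicalComplex.exactAt_iff' E (n + 2) (n + 1) n (by simp) (by simp)).1 (hex n)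
  rw [HomologicalComplex.exactAt_iff' _ n (n + 1) (n + 2) (by simp) (by simp)]
  refine ShortComplex.exact_of_iso ?_ (exact_homComap h I)
  exact ShortComplex.isoMk (Iso.refl _) (Iso.refl _) (Iso.refl _)
    ((Category.id_comp _).trans ((homCx_d E I n).trans (Category.comp_id _).symm))
    ((Category.id_comp _).trans ((homCx_d E I (n + 1)).trans (Category.comp_id _).symm))

variable {F : X.Modules} (π : E.X 0 ⟶ F) (hπ : E.d 1 0 ≫ π = 0)

include hπ in
lemma homComap_comp_d (G : X.Modules) : (homComap π).app G ≫ (homCx E G).d 0 1 = 0 := by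
  rw [homCx_d]
  exact homComap_comp_eq_zero (S := ShortComplex.mk (E.d 1 0) π hπ) G

/-- The augmentation into degree zero cohomology. -/
def toH0 : homFunctor F ⟶
    homCxFunctor E ⋙ HomologicalComplex.homologyFunctor X.Modules (ComplexShape.up ℕ) 0 where
  app G := (homCx E G).liftCycles ((homComap π).app G) 1 (by simp) (homComap_comp_d E π hπ G) ≫
    (homCx E G).homologyπ 0
  naturality G G' g := by
    let φ : homCx E G ⟶ homCx E G' := (homCxFunctor E).map g
    change (homFunctor F).map g ≫ (homCx E G').liftCycles _ _ _ _ ≫ _ =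
      ((homCx E G).liftCycles _ _ _ _ ≫ _) ≫ HomologicalComplex.homologyMap φ 0
    rw [Category.assoc, HomologicalComplex.homologyπ_naturality,
      HomologicalComplex.liftCycles_comp_cyclesMap_assoc, ← Category.assoc]
    congr 1
    rw [← cancel_mono ((homCx E G').iCycles 0), Category.assoc]
    erw [HomologicalComplex.liftCycles_i, HomologicalComplex.liftCycles_i]
    exact (homComap π).naturality g

theorem isIso_toH0 [Epi π] (hex0 : (ShortComplex.mk (E.d 1 0) π hπ).Exact) :
    IsIso (toH0 E π hπ) := by
  haveI : ∀ G, IsIso ((toH0 E π hπ).app G) := fun G => by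
    haveI : Epi (ShortComplex.mk (E.d 1 0) π hπ).g := inferInstanceAs (Epi π)
    obtain ⟨hm, hx⟩ := mono_exact_homComap hex0 G
    let K := homCx E G
    let S' := ShortComplex.mk ((homComap π).app G) (K.d 0 1) (homComap_comp_d E π hπ G)
    have hx' : S'.Exact := ShortComplex.exact_of_iso
      (ShortComplex.isoMk (Iso.refl _) (Iso.refl _) (Iso.refl _)
        ((Category.id_comp _).trans (Category.comp_id _).symm)
        ((Category.id_comp _).trans ((homCx_d E G 0).trans (Category.comp_id _).symm))) hx
    haveI : Mono S'.f := hm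
    let e : S'.X₁ ≅ K.cycles 0 :=
      hx'.fIsKernel.conePointUniqueUpToIso (K.cyclesIsKernel 0 1 (by simp))
    have he : e.hom = K.liftCycles ((homComap π).app G) 1 (by simp) (homComap_comp_d E π hπ G) := by
      rw [← cancel_mono (K.iCycles 0), HomologicalComplex.liftCycles_i]
      exact IsLimit.conePointUniqueUpToIso_hom_comp hx'.fIsKernel (K.cyclesIsKernel 0 1 (by simp))
        WalkingParallelPair.zero
    change IsIso (K.liftCycles _ _ _ _ ≫ K.homologyπ 0)
    rw [← he]
    infer_instance
  exact NatIso.isIso_of_isIso_app _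

section Compat

variable {M M' : X.Modules} (g : M' ⟶ M)

lemma homComap_eq_homModEquiv (N : X.Modules) :
    (homComap g).app N = homModEquiv M' (homMod M N) N
      (Mod48.shf.map (Mod48.fgt.map g ▷ Mod48.pre (homMod M N)) ≫
        (homModEquiv M (homMod M N) N).symm (𝟙 _)) := by
  have h1 : Mod48.shfHomEquiv (O := X.sheaf) _ N
      (Mod48.shf.map (Mod48.fgt.map g ▷ Mod48.pre (homMod M N)) ≫
        (homModEquiv M (homMod M N) N).symm (𝟙 _)) =
      (Mod48.fgt.map g ▷ Mod48.pre (homMod M N)) ≫ uncurryHom M (𝟙 (homMod M N)) := by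
    rw [Mod48.shfHomEquiv_naturality_left]
    exact congrArg (_ ≫ ·) (Equiv.apply_symm_apply _ _)
  refine Eq.trans ?_ (congrArg (curryHom M') h1).symm
  refine Scheme.Modules.hom_ext _ _ fun U => ?_
  ext φ
  exact HomOn.ext' fun W hW s => rfl

lemma homModAdjL_homEquiv (M : X.Modules) {H N : X.Modules}
    (x : (Mod48.tL (O := X.sheaf) M).obj H ⟶ N) :
    (homModAdjL M).homEquiv H N x = homModEquiv M H N x :=
  congrFun (congrArg DFunLike.coe (congrFun (congrFun (Adjunction.mkOfHomEquiv_homEquiv _) H) N)) x

lemma homModEquiv_symm_id (N : X.Modules) :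
    (homModEquiv M (homMod M N) N).symm (𝟙 _) = (homModAdjL M).counit.app N := by
  rw [Equiv.symm_apply_eq]
  refine Eq.trans ?_ (homModAdjL_homEquiv M ((homModAdjL M).counit.app N))
  exact (((homModAdjL M).homEquiv_unit _ _ _).trans
    ((homModAdjL M).right_triangle_components N)).symm

theorem homComap_eq_conjugateEquiv :
    homComap g = conjugateEquiv (homModAdjR M) (homModAdjR M')
      ((ModSite.tensorBi X.sheaf).flip.map g) := by
  refine NatTrans.ext (funext fun N => ?_)
  rw [conjugateEquiv_apply_app]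
  refine (homComap_eq_homModEquiv g N).trans ?_
  rw [homModEquiv_symm_id]
  refine (homModAdjL_homEquiv M' _).symm.trans (((homModAdjL M').homEquiv_unit _ _ _).trans ?_)
  have key : Mod48.shf.map (Mod48.fgt.map g ▷ Mod48.pre (homMod M N)) ≫ (homModAdjL M).counit.app N =
      (Mod48.tensSymm (O := X.sheaf) M').hom.app (homMod M N) ≫
      ((ModSite.tensorBi X.sheaf).flip.map g).app (homMod M N) ≫
      (Mod48.tensSymm (O := X.sheaf) M).inv.app (homMod M N) ≫ (homModAdjL M).counit.app N := by
    rw [← Category.assoc, ← Category.assoc]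
    refine congrArg (· ≫ _) ?_
    change _ = (Mod48.shf.map (β_ (Mod48.pre M') (Mod48.pre (homMod M N))).hom ≫
      Mod48.shf.map (Mod48.pre (homMod M N) ◁ Mod48.fgt.map g)) ≫
      Mod48.shf.map (β_ (Mod48.pre M) (Mod48.pre (homMod M N))).inv
    rw [← Functor.map_comp, ← Functor.map_comp]
    congr 1
    rw [Iso.eq_comp_inv, BraidedCategory.braiding_naturality_left]
  refine (congrArg (fun x => (homModAdjL M').unit.app (homMod M N) ≫ (homFunctor M').map x) key).trans ?_
  change _ = ((homModAdjL M').unit.app (homMod M N) ≫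
      (homFunctor M').map ((Mod48.tensSymm (O := X.sheaf) M').hom.app (homMod M N))) ≫
      (homFunctor M').map (((ModSite.tensorBi X.sheaf).flip.map g).app (homMod M N)) ≫
      (homFunctor M').map ((Mod48.tensSymm (O := X.sheaf) M).inv.app (homMod M N) ≫
        (homModAdjL M).counit.app N)
  refine Eq.trans ?_ (Category.assoc _ _ _).symm
  refine congrArg ((homModAdjL M').unit.app (homMod M N) ≫ ·) ?_
  exact ((homFunctor M').map_comp _ _).trans (congrArg (_ ≫ ·) ((homFunctor M').map_comp _ _))

/-- The transition maps of the chosen internal Homs are pre-composition. -/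
theorem sheafHomMap_comp_sheafHomIso' [ModSite.HasSheafHom (O := X.sheaf) M]
    [ModSite.HasSheafHom (O := X.sheaf) M'] :
    ExtSupp.sheafHomMap (O := X.sheaf) g ≫ (sheafHomIso' M').hom =
      (sheafHomIso' M).hom ≫ homComap g := by
  rw [homComap_eq_conjugateEquiv]
  simp only [sheafHomIso', Adjunction.rightAdjointUniq, conjugateIsoEquiv, Equiv.coe_fn_mk,
    Iso.refl_hom]
  refine (conjugateEquiv_comp _ _ _ _ _).trans ?_
  refine Eq.trans ?_ (conjugateEquiv_comp _ _ _ _ _).symm
  rw [Category.id_comp, Category.comp_id]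

end Compat

theorem nonempty_homology_iso_extSh (hπ' : E.d 1 0 ≫ π = 0) [Epi π]
    (hex0 : (ShortComplex.mk (E.d 1 0) π hπ').Exact) (hex : ∀ j : ℕ, E.ExactAt (j + 1))
    (hE : ∀ j : ℕ, FlatMod.IsFinLocFree (E.X j))
    [∀ j : ℕ, ModSite.HasSheafHom (O := X.sheaf) (E.X j)] [ModSite.HasSheafHom (O := X.sheaf) F]
    [HasInjectiveResolutions (ModSite.Mod X.sheaf)] (G : X.Modules)
    (C : CochainComplex X.Modules ℕ)
    (e : ∀ j : ℕ, C.X j ≅ (ModSite.sheafHom (O := X.sheaf) (E.X j)).obj G)
    (hC : ∀ j : ℕ, C.d j (j + 1) ≫ (e (j + 1)).hom =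
      (e j).hom ≫ (ExtSupp.sheafHomMap (O := X.sheaf) (E.d (j + 1) j)).app G)
    (i : ℕ) :
    Nonempty (C.homology i ≅ (ModSite.extSh (O := X.sheaf) F i).obj G) := by
  haveI : HasInjectiveResolutions X.Modules := ‹HasInjectiveResolutions (ModSite.Mod X.sheaf)›
  haveI := additive_homFunctor F
  haveI := preservesFiniteLimits_homFunctor F
  haveI := isIso_toH0 E π hπ' hex0
  let f : C ≅ homCx E G := HomologicalComplex.Hom.isoOfComponents
    (fun j => e j ≪≫ (sheafHomIso' (E.X j)).app G) (fun a b hab => by
      obtain rfl : a + 1 = b := hab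
      rw [homCx_d]
      simp only [Iso.trans_hom, Iso.app_hom]
      rw [reassoc_of% hC a]
      refine (Category.assoc _ _ _).trans (congrArg ((e a).hom ≫ ·) ?_)
      exact (congr_app (sheafHomMap_comp_sheafHomIso' (E.d (a + 1) a)) G).symm)
  obtain ⟨r⟩ := DimShift.nonempty_homology_iso_rightDerived (homFunctor F) (homCxFunctor E)
    (shortExact_homCxFunctor E hE) (asIso (toH0 E π hπ'))
    (fun I _ n => exactAt_homCx E hex I n) i G
  let T : X.Modules ⥤ X.Modules := ModSite.sheafHom (O := X.sheaf) F
  haveI : T.Additive := Functor.additive_of_iso (sheafHomIso' F).symm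
  let eT : T ≅ homFunctor F := sheafHomIso' F
  exact ⟨(HomologicalComplex.homologyFunctor _ _ i).mapIso f ≪≫ r ≪≫
    ({ hom := (NatTrans.rightDerived eT.inv i).app G
       inv := (NatTrans.rightDerived eT.hom i).app G
       hom_inv_id := by
        rw [← NatTrans.comp_app, ← NatTrans.rightDerived_comp, eT.inv_hom_id, NatTrans.rightDerived_id]
        rfl
       inv_hom_id := by
        rw [← NatTrans.comp_app, ← NatTrans.rightDerived_comp, eT.hom_inv_id, NatTrans.rightDerived_id]
        rfl } : ((homFunctor F).rightDerived i).obj G ≅ (T.rightDerived i).obj G)⟩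

end Groth.Agent.LC16.ExtResolution
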