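import Groth.Agent.SiteMod.FlatStalk
import Groth.Agent.QC70.Res
import Groth.Agent.DCK91.StalkFun
import Mathlib.Algebra.Homology.DerivedCategory.Ext.MapBijective
import Mathlib.Algebra.Category.ModuleCat.ChangeOfRings
import Mathlib.Algebra.Homology.DerivedCategory.Ext.Linear

/-!
The stalk at a point of the site of opens is the stalk at the point, and `Ext` along a ring
isomorphism.
-/

set_option autoImplicit false
set_option backward.isDefEq.respectTransparency.types false
set_option linter.style.haveILetI false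

noncomputable section

universe u

open CategoryTheory Limits AlgebraicGeometry TopologicalSpace Opposite
open Groth.Agent.QC70

namespace Groth.Agent.LC16.SitePointStalk

variable {X : Scheme.{u}} (x : X)

/-- The point of the site. -/
abbrev pt := Opens.pointGrothendieckTopology (X := X.toTopCat) x

/-- The comparison of the stalks of a presheaf. -/
def cmp {A : Type (u + 1)} [Category.{u} A] [HasColimitsOfSize.{u, u} A] (P : TopCat.Presheaf A X.toTopCat) :
    P.stalk x ⟶ (pt x).presheafFiber.obj P :=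
  colimit.desc _
    { pt := (pt x).presheafFiber.obj P
      ι :=
        { app := fun U => (pt x).toPresheafFiber U.unop.1 ⟨⟨U.unop.2⟩⟩ P
          naturality := fun U V i =>
            ((pt x).toPresheafFiber_w ((OpenNhds.inclusion x).map i.unop) ⟨⟨V.unop.2⟩⟩ P).trans
              (Category.comp_id _).symm } }

lemma germ_cmp {A : Type (u + 1)} [Category.{u} A] [HasColimitsOfSize.{u, u} A]
    (P : TopCat.Presheaf A X.toTopCat) (U : X.Opens) (hx : x ∈ U) :
    P.germ U x hx ≫ cmp x P = (pt x).toPresheafFiber U ⟨⟨hx⟩⟩ P :=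
  colimit.ι_desc _ (op (⟨U, hx⟩ : OpenNhds x))

/-- The comparison of the local rings. -/
def ringCmp : X.presheaf.stalk x →+* ModSite.stalkRing (pt x) X.sheaf :=
  (cmp x X.presheaf).hom

lemma ringCmp_germ (U : X.Opens) (hx : x ∈ U) (r : Γ(X, U)) :
    ringCmp x (X.presheaf.germ U x hx r) = ModSite.germRing (O := X.sheaf) (pt x) U ⟨⟨hx⟩⟩ r :=
  ConcreteCategory.congr_hom (germ_cmp x X.presheaf U hx) r

theorem bijective_ringCmp : Function.Bijective (ringCmp x) := by
  constructor
  · refine (injective_iff_map_eq_zero _).2 fun a ha => ?_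
    obtain ⟨U, hx, r, rfl⟩ := TopCat.Presheaf.exists_germ_eq X.presheaf a
    rw [ringCmp_germ, show (0 : ModSite.stalkRing (pt x) X.sheaf) =
      ModSite.germRing (O := X.sheaf) (pt x) U ⟨⟨hx⟩⟩ 0 from (map_zero _).symm] at ha
    obtain ⟨V, g, y, -, h⟩ := SiteMod.exists_rres_eq_of_germRing_eq (O := X.sheaf) (pt x) _ ha
    rw [← germ_resO g.le y.down.down r]
    rw [show resO X g.le r = 0 from h.trans (map_zero _), map_zero]
  · intro b
    obtain ⟨U, hx, r, rfl⟩ := SiteMod.exists_germRing (O := X.sheaf) (pt x) b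
    exact ⟨X.presheaf.germ U x hx.down.down r, ringCmp_germ x U _ r⟩

/-- The local ring as the stalk at the point of the site. -/
def ringIso : X.presheaf.stalk x ≃+* ModSite.stalkRing (pt x) X.sheaf :=
  RingEquiv.ofBijective _ (bijective_ringCmp x)

/-- The comparison of the stalks of a module. -/
def modCmp (M : X.Modules) : M.presheaf.stalk x →+ ModSite.stalkAb (O := X.sheaf) (pt x) M :=
  (cmp x M.presheaf).hom

lemma modCmp_germ (M : X.Modules) (U : X.Opens) (hx : x ∈ U) (s : Γ(M, U)) :
    modCmp x M (germM M U x hx s) = ModSite.germ (O := X.sheaf) (pt x) M U ⟨⟨hx⟩⟩ s :=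
  ConcreteCategory.congr_hom (germ_cmp x M.presheaf U hx) s

lemma modCmp_smul (M : X.Modules) (a : X.presheaf.stalk x) (m : M.presheaf.stalk x) :
    modCmp x M (a • m) = ringIso x a • modCmp x M m := by
  obtain ⟨U, hxU, r, rfl⟩ := TopCat.Presheaf.exists_germ_eq X.presheaf a
  obtain ⟨V, hxV, s, rfl⟩ := germM_exist m
  rw [← germ_resO (inf_le_left : U ⊓ V ≤ U) ⟨hxU, hxV⟩, ← germM_res (inf_le_right : U ⊓ V ≤ V)
    ⟨hxU, hxV⟩ s, ← germM_smul, modCmp_germ, modCmp_germ]
  change _ = ringCmp x _ • _
  rw [ringCmp_germ]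
  exact ModSite.germ_smul (O := X.sheaf) (pt x) M _ _ _ _

theorem bijective_modCmp (M : X.Modules) : Function.Bijective (modCmp x M) := by
  constructor
  · refine (injective_iff_map_eq_zero _).2 fun a ha => ?_
    obtain ⟨U, hx, s, rfl⟩ := germM_exist a
    rw [modCmp_germ] at ha
    have ha' : SiteMod.grm (O := X.sheaf) (pt x) M U ⟨⟨hx⟩⟩ s =
        SiteMod.grm (O := X.sheaf) (pt x) M U ⟨⟨hx⟩⟩ 0 :=
      ha.trans (SiteMod.grm_zero (O := X.sheaf) (pt x) M U ⟨⟨hx⟩⟩).symm
    obtain ⟨V, g, y, -, h⟩ := SiteMod.exists_res_eq_of_germ_eq (O := X.sheaf) (pt x) M _ ha'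
    rw [← germM_res g.le y.down.down s]
    rw [show res M g.le s = 0 from h.trans (map_zero _), germM_zero]
  · intro b
    obtain ⟨U, hx, s, rfl⟩ := SiteMod.exists_germ (O := X.sheaf) (pt x) M b
    exact ⟨germM M U x hx.down.down s, modCmp_germ x M U _ s⟩

/-- The stalk of a module as the stalk at the point of the site, over the local ring. -/
def modIso (M : X.Modules) : (DCK91.SP x).obj M ≅
    (ModuleCat.restrictScalars (ringIso x).toRingHom).obj (ModSite.stalkMod (O := X.sheaf) (pt x) M) :=
  letI : Module (X.presheaf.stalk x) (ModSite.stalkAb (O := X.sheaf) (pt x) M) :=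
    Module.compHom _ (ringIso x).toRingHom
  LinearEquiv.toModuleIso (X₁ := M.presheaf.stalk x) (X₂ := ModSite.stalkAb (O := X.sheaf) (pt x) M)
    { AddEquiv.ofBijective (modCmp x M) (bijective_modCmp x M) with
      map_smul' := fun a m => modCmp_smul x M a m }

end Groth.Agent.LC16.SitePointStalk

namespace Groth.Agent.LC16.ExtRingEquiv

open Abelian

variable {R S : Type u} [CommRing R] [CommRing S] (e : R ≃+* S)

theorem bijective_mapExt (A B : ModuleCat.{u} S) (n : ℕ) :
    haveI : (ModuleCat.restrictScalars.{u} e.toRingHom).PreservesHomology := inferInstance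
    haveI := Functor.preservesFiniteLimits_of_preservesHomology (ModuleCat.restrictScalars.{u} e.toRingHom)
    haveI := Functor.preservesFiniteColimits_of_preservesHomology (ModuleCat.restrictScalars.{u} e.toRingHom)
    Function.Bijective ((ModuleCat.restrictScalars.{u} e.toRingHom).mapExtAddHom A B n) := by
  haveI := ModuleCat.restrictScalars_isEquivalence_of_ringEquiv.{u} e
  haveI : (ModuleCat.restrictScalars.{u} e.toRingHom).PreservesInjectiveObjects :=
    Functor.preservesInjectiveObjects_of_adjunction_of_preservesMonomorphisms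
      (ModuleCat.restrictScalars.{u} e.toRingHom).asEquivalence.symm.toAdjunction
  exact Functor.mapExt_bijective_of_preservesInjectiveObjects _ A B n

/-- `Ext` over isomorphic rings. -/
theorem nonempty_ext_addEquiv (A B : ModuleCat.{u} S) (n : ℕ) :
    ∃ φ : Ext A B n ≃+ Ext ((ModuleCat.restrictScalars.{u} e.toRingHom).obj A)
        ((ModuleCat.restrictScalars.{u} e.toRingHom).obj B) n,
      ∀ (r : R) (α : Ext A B n), φ (e r • α) = r • φ α := by
  haveI : (ModuleCat.restrictScalars.{u} e.toRingHom).PreservesHomology := inferInstance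
  haveI := Functor.preservesFiniteLimits_of_preservesHomology (ModuleCat.restrictScalars.{u} e.toRingHom)
  haveI := Functor.preservesFiniteColimits_of_preservesHomology (ModuleCat.restrictScalars.{u} e.toRingHom)
  refine ⟨AddEquiv.ofBijective _ (bijective_mapExt e A B n), fun r α => ?_⟩
  change (e r • α).mapExactFunctor _ = r • α.mapExactFunctor _
  have h1 : e r • α = (Ext.mk₀ (e r • 𝟙 A)).comp α (zero_add n) := by
    rw [Ext.mk₀_smul, Ext.smul_comp, Ext.mk₀_id_comp]
  have h2 : (ModuleCat.restrictScalars.{u} e.toRingHom).map (e r • 𝟙 A) =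
      r • 𝟙 ((ModuleCat.restrictScalars.{u} e.toRingHom).obj A) :=
    ModuleCat.hom_ext (LinearMap.ext fun _ => rfl)
  rw [h1, Ext.mapExactFunctor_comp, Ext.mapExactFunctor_mk₀, h2, Ext.mk₀_smul, Ext.smul_comp,
    Ext.mk₀_id_comp]

/-- `Ext` of isomorphic objects. -/
def extCongr {A A' B B' : ModuleCat.{u} R} (a : A ≅ A') (b : B ≅ B') (n : ℕ) :
    Ext A B n ≃ₗ[R] Ext A' B' n where
  toFun α := (Ext.mk₀ a.inv).comp (α.comp (Ext.mk₀ b.hom) (add_zero n)) (zero_add n)
  invFun α := (Ext.mk₀ a.hom).comp (α.comp (Ext.mk₀ b.inv) (add_zero n)) (zero_add n)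
  map_add' α β := by rw [Ext.add_comp, Ext.comp_add]
  map_smul' r α := by rw [Ext.smul_comp, Ext.comp_smul, RingHom.id_apply]
  left_inv α := by
    simp [Ext.comp_assoc_of_third_deg_zero, Ext.mk₀_comp_mk₀]
  right_inv α := by
    simp [Ext.comp_assoc_of_third_deg_zero, Ext.mk₀_comp_mk₀]

end Groth.Agent.LC16.ExtRingEquiv
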