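import Groth.Agent.LC16.ExtTilde
import Groth.Agent.QC70.HomRestrict
import Groth.Agent.LC16.SitePointStalk

set_option autoImplicit false
set_option backward.isDefEq.respectTransparency.types false
set_option linter.style.haveILetI false

/-!
Sections of the `Ext` sheaves over an affine open of a locally Noetherian scheme.
-/

noncomputable section

universe u

open CategoryTheory Limits AlgebraicGeometry TopologicalSpace Opposite
open Groth.Agent.QC70

namespace Groth.Agent.LC16.ExtSections

variable {X : Scheme.{u}} {U : X.Opens}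

/-- Global sections on the spectrum are the sections over the affine open. -/
def topEquiv (M : X.Modules) (hU : IsAffineOpen U) :
    (moduleSpecΓFunctor (R := Γ(X, U))).obj (specRes M hU) ≃ₗ[Γ(X, U)] Γ(M, U) where
  toFun (x : Γ(specRes M hU, ⊤)) :=
    res M (fromSpec_image_top hU).ge ((M.restrictAppIso hU.fromSpec ⊤).hom x)
  invFun y := (M.restrictAppIso hU.fromSpec ⊤).inv (res M (fromSpec_image_top hU).le y)
  map_add' (x y : Γ(specRes M hU, ⊤)) :=
    (congrArg _ (map_add (M.restrictAppIso hU.fromSpec ⊤).hom.hom x y)).trans (res_add _ _ _)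
  map_smul' r (x : Γ(specRes M hU, ⊤)) := by
    refine (congrArg (res M (fromSpec_image_top hU).ge)
      (specRes_smul M hU ⊤ (fromSpec_image_top hU).le r x)).trans ?_
    rw [res_smul, resO_resO, resO_self]
    rfl
  left_inv (x : Γ(specRes M hU, ⊤)) := by
    change (M.restrictAppIso hU.fromSpec ⊤).inv
      (res M _ (res M _ ((M.restrictAppIso hU.fromSpec ⊤).hom x))) = x
    rw [res_res, res_self, Iso.hom_inv_id_apply]
  right_inv y := by
    change res M _ ((M.restrictAppIso hU.fromSpec ⊤).hom
      ((M.restrictAppIso hU.fromSpec ⊤).inv (res M _ y))) = y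
    rw [Iso.inv_hom_id_apply, res_res, res_self]

/-- Pre-composition with an isomorphism. -/
def homComapIso {F F' : X.Modules} (e : F ≅ F') : homFunctor F' ≅ homFunctor F where
  hom := homComap e.hom
  inv := homComap e.inv
  hom_inv_id := by
    refine NatTrans.ext (funext fun N => Scheme.Modules.hom_ext _ _ fun W => ?_)
    ext φ
    refine HomOn.ext' fun V hV s => ?_
    change (ofSec φ).app V hV (e.hom.app V (e.inv.app V s)) = (ofSec φ).app V hV s
    exact congrArg _ congr((Scheme.Modules.Hom.app $(e.inv_hom_id) V) s)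
  inv_hom_id := by
    refine NatTrans.ext (funext fun N => Scheme.Modules.hom_ext _ _ fun W => ?_)
    ext φ
    refine HomOn.ext' fun V hV s => ?_
    change (ofSec φ).app V hV (e.inv.app V (e.hom.app V s)) = (ofSec φ).app V hV s
    exact congrArg _ congr((Scheme.Modules.Hom.app $(e.hom_inv_id) V) s)

/-- The `Ext` sheaves are invariant under isomorphisms in the first variable. -/
theorem nonempty_extSh_congr {F F' : X.Modules} (e : F ≅ F')
    [ModSite.HasSheafHom (O := X.sheaf) F] [ModSite.HasSheafHom (O := X.sheaf) F']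
    [HasInjectiveResolutions (ModSite.Mod X.sheaf)] (G : X.Modules) (i : ℕ) :
    Nonempty ((ModSite.extSh (O := X.sheaf) F i).obj G ≅ (ModSite.extSh (O := X.sheaf) F' i).obj G) := by
  haveI : HasInjectiveResolutions X.Modules := ‹HasInjectiveResolutions (ModSite.Mod X.sheaf)›
  let T : X.Modules ⥤ X.Modules := ModSite.sheafHom (O := X.sheaf) F
  let T' : X.Modules ⥤ X.Modules := ModSite.sheafHom (O := X.sheaf) F'
  haveI := additive_homFunctor F
  haveI := additive_homFunctor F'
  haveI : T.Additive := Functor.additive_of_iso (sheafHomIso' F).symm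
  haveI : T'.Additive := Functor.additive_of_iso (sheafHomIso' F').symm
  let eT : T ≅ T' := sheafHomIso' F ≪≫ (homComapIso e).symm ≪≫ (sheafHomIso' F').symm
  let e' : (T.rightDerived i).obj G ≅ (T'.rightDerived i).obj G :=
         { hom := (NatTrans.rightDerived eT.hom i).app G
           inv := (NatTrans.rightDerived eT.inv i).app G
           hom_inv_id := by
            rw [← NatTrans.comp_app, ← NatTrans.rightDerived_comp, eT.hom_inv_id,
              NatTrans.rightDerived_id]
            rfl
           inv_hom_id := by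
            rw [← NatTrans.comp_app, ← NatTrans.rightDerived_comp, eT.inv_hom_id,
              NatTrans.rightDerived_id]
            rfl }
  exact ⟨e'⟩

/-- **Sections of `𝓔xt^i(F, G)` over an affine open are `Ext^i` of the sections.** -/
theorem nonempty_sections_extSh [IsLocallyNoetherian X] (hU : IsAffineOpen U) {F G : X.Modules}
    (hF : Coh.IsCoh F) (hG : G.IsQuasicoherent)
    [ModSite.HasSheafHom (O := X.sheaf) F] [HasInjectiveResolutions (ModSite.Mod X.sheaf)] (i : ℕ) :
    Nonempty (Γ((ModSite.extSh (O := X.sheaf) F i).obj G, U) ≃ₗ[Γ(X, U)]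
      Abelian.Ext (ModuleCat.of Γ(X, U) Γ(F, U)) (ModuleCat.of Γ(X, U) Γ(G, U)) i) := by
  haveI := hF.1
  haveI := hF.2
  haveI := hG
  haveI : IsNoetherianRing Γ(X, U) := IsLocallyNoetherian.component_noetherian ⟨U, hU⟩
  haveI := finite_sections_of_isFiniteType F hU
  let M0 : ModuleCat.{u} Γ(X, U) := (moduleSpecΓFunctor (R := Γ(X, U))).obj (specRes F hU)
  let N0 : ModuleCat.{u} Γ(X, U) := (moduleSpecΓFunctor (R := Γ(X, U))).obj (specRes G hU)
  haveI : Module.Finite Γ(X, U) M0 := Module.Finite.equiv (topEquiv F hU).symm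
  haveI : HasInjectiveResolutions (Spec Γ(X, U)).Modules := inferInstance
  haveI : HasInjectiveResolutions (ModSite.Mod (Spec Γ(X, U)).sheaf) :=
    ‹HasInjectiveResolutions (Spec Γ(X, U)).Modules›
  haveI := hasSheafHom_modSite (F.restrict hU.fromSpec)
  haveI := hasSheafHom_modSite (tilde M0)
  obtain ⟨e1⟩ := nonempty_extSh_restrict hU.fromSpec F G i
  obtain ⟨e2⟩ := nonempty_extSh_congr (tildeIsoSpecRes F hU).symm (G.restrict hU.fromSpec) i
  obtain ⟨e3⟩ := ExtTilde.nonempty_extSh_tilde M0 N0 i
  let e : specRes ((ModSite.extSh (O := X.sheaf) F i).obj G) hU ≅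
      tilde (ModuleCat.of Γ(X, U) (Abelian.Ext.{u} M0 N0 i)) :=
    e1 ≪≫ e2 ≪≫ ((ModSite.extSh (O := (Spec Γ(X, U)).sheaf) (tilde M0) i).mapIso
      (tildeIsoSpecRes G hU)).symm ≪≫ e3
  exact ⟨(topEquiv _ hU).symm ≪≫ₗ
    ((moduleSpecΓFunctor (R := Γ(X, U))).mapIso e).toLinearEquiv ≪≫ₗ
    (tilde.isoTop _).toLinearEquiv.symm ≪≫ₗ
    ExtRingEquiv.extCongr (R := Γ(X, U)) (topEquiv F hU).toModuleIso (topEquiv G hU).toModuleIso i⟩

end Groth.Agent.LC16.ExtSections
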