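import Groth.Agent.LC16.HomStalkGen
import Groth.Agent.LC16.ExtRes
import Groth.Agent.QC70.ExtCoh
import Groth.Agent.QC70.CompDerived
import Groth.Agent.DCK91.StalkFun

set_option autoImplicit false
set_option backward.isDefEq.respectTransparency.types false
set_option linter.style.haveILetI false

/-!
The stalk of the `Ext` sheaf out of a coherent module is `Ext` of the stalks.
-/

noncomputable section

universe u

open CategoryTheory Limits AlgebraicGeometry TopologicalSpace Opposite
open Groth.Agent.QC70

namespace Groth.Agent.LC16.ExtStalk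

variable {X : Scheme.{u}} (x : X)

/-- The evaluation map, natural in the second variable. -/
def evalNat (F : X.Modules) :
    homFunctor F ⋙ DCK91.SP x ⟶
      DCK91.SP x ⋙ (linearCoyoneda (X.presheaf.stalk x) (ModuleCat.{u} (X.presheaf.stalk x))).obj
        (op ((DCK91.SP x).obj F)) where
  app N := ModuleCat.ofHom
    ((ModuleCat.homLinearEquiv (S := X.presheaf.stalk x) (M := (DCK91.SP x).obj F)
      (N := (DCK91.SP x).obj N)).symm.toLinearMap ∘ₗ evalStalk F N x)
  naturality {N N'} g := by
    refine ModuleCat.hom_ext (LinearMap.ext fun θ => ?_)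
    obtain ⟨W, hxW, φ, rfl⟩ := germM_exist (M := homMod F N) θ
    change ModuleCat.ofHom (evalStalk F N' x ((DCK91.SP x).map (homMap F g) (germM _ W x hxW φ))) =
      ModuleCat.ofHom (evalStalk F N x (germM _ W x hxW φ)) ≫ (DCK91.SP x).map g
    rw [DCK91.SP_map_apply, stalkMapM_germ, evalStalk_germ, evalStalk_germ]
    refine ModuleCat.hom_ext (LinearMap.ext fun e => ?_)
    obtain ⟨V, hV, hxV, s, rfl⟩ := exists_germ_le (M := F) hxW e
    change _ = (DCK91.SP x).map g ((ofSec φ).stalkMap hxW (germM F V x hxV s))
    rw [DCK91.SP_map_apply]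
    change (ofSec ((homMap F g).app W φ)).stalkMap hxW (germM F V x hxV s) = _
    rw [HomOn.stalkMap_germ _ hxW hV, HomOn.stalkMap_germ _ hxW hV, stalkMapM_germ]
    rfl

/-- `𝓗om(F, -)_x ≅ Hom(F_x, (-)_x)` for coherent `F`. -/
theorem isIso_evalNat [IsLocallyNoetherian X] {F : X.Modules} (hF : Coh.IsCoh F) :
    IsIso (evalNat x F) := by
  have : F.IsQuasicoherent := hF.1
  have : F.IsFiniteType := hF.2
  obtain ⟨_, ⟨U, hU, rfl⟩, hxU, -⟩ :=
    X.isBasis_affineOpens.exists_subset_of_mem_open (Set.mem_univ x) isOpen_univ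
  have := IsLocallyNoetherian.component_noetherian (⟨U, hU⟩ : X.affineOpens)
  have := finite_sections_of_isFiniteType F hU
  have : Module.FinitePresentation Γ(X, U) Γ(F, U) := Module.finitePresentation_of_finite _ _
  have : ∀ N, IsIso ((evalNat x F).app N) := fun N => by
    refine (ConcreteCategory.isIso_iff_bijective _).2 ?_
    change Function.Bijective ((ModuleCat.homLinearEquiv (S := X.presheaf.stalk x)
      (M := (DCK91.SP x).obj F) (N := (DCK91.SP x).obj N)).symm ∘ evalStalk F N x)
    exact (LinearEquiv.bijective _).comp (HomStalkGen.bijective_evalStalk_gen hU hxU)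
  exact NatIso.isIso_of_isIso_app _

theorem injective_SP [IsLocallyNoetherian X] (I : X.Modules) [Injective I] :
    Injective ((DCK91.SP x).obj I) := by
  haveI : Module.Injective (X.presheaf.stalk x) (I.presheaf.stalk x) := QC70.injective_stalk I x
  exact Module.injective_object_of_injective_module (X.presheaf.stalk x) (I.presheaf.stalk x)

/-- **The stalk of the `Ext` sheaf**, for the derived functor of the concrete `𝓗om`. -/
theorem nonempty_stalk_rightDerived [IsLocallyNoetherian X] [HasInjectiveResolutions X.Modules]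
    {F : X.Modules} (hF : Coh.IsCoh F) (G : X.Modules) (i : ℕ) :
    haveI := additive_homFunctor F
    Nonempty ((DCK91.SP x).obj (((homFunctor F).rightDerived i).obj G) ≃ₗ[X.presheaf.stalk x]
      Abelian.Ext ((DCK91.SP x).obj F) ((DCK91.SP x).obj G) i) := by
  haveI := additive_homFunctor F
  haveI : (DCK91.SP x).Additive := inferInstance
  haveI : PreservesFiniteLimits (DCK91.SP x) :=
    Functor.preservesFiniteLimits_of_preservesHomology _
  let R := injectiveResolution G
  let S : InjectiveResolution ((DCK91.SP x).obj G) := mapRes (DCK91.SP x)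
    (fun I hI => @injective_SP X x _ I hI) R fun n => isZero_rightDerived_of_preservesHomology _ G n
  obtain ⟨e⟩ := ExtRes.nonempty_homology_linearEquiv_ext (R := X.presheaf.stalk x) S
    ((DCK91.SP x).obj F) i
  haveI := isIso_evalNat x hF
  let c := ComplexShape.up ℕ
  let K := ((homFunctor F).mapHomologicalComplex c).obj R.cocomplex
  let e1 : (DCK91.SP x).obj (((homFunctor F).rightDerived i).obj G) ≅
      (DCK91.SP x).obj (K.homology i) := (DCK91.SP x).mapIso (R.isoRightDerivedObj _ i)
  let e2 : (((DCK91.SP x).mapHomologicalComplex c).obj K).homology i ≅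
      (DCK91.SP x).obj (K.homology i) := (K.sc i).mapHomologyIso (DCK91.SP x)
  let e3 : ((DCK91.SP x).mapHomologicalComplex c).obj K ≅
      ExtRes.homCx (R := X.presheaf.stalk x) S ((DCK91.SP x).obj F) :=
    HomologicalComplex.Hom.isoOfComponents (fun n => (asIso (evalNat x F)).app (R.cocomplex.X n))
      fun p q _ => ((evalNat x F).naturality (R.cocomplex.d p q)).symm
  exact ⟨(e1 ≪≫ e2.symm ≪≫ (HomologicalComplex.homologyFunctor _ c i).mapIso e3).toLinearEquiv ≪≫ₗ e⟩

/-- **The stalk of `𝓔xt^i(F, G)` is `Ext^i(F_x, G_x)`** for coherent `F` on a locally Noetherian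
scheme. -/
theorem nonempty_stalk_extSh [IsLocallyNoetherian X] {F : X.Modules} (hF : Coh.IsCoh F)
    [ModSite.HasSheafHom (O := X.sheaf) F] [HasInjectiveResolutions (ModSite.Mod X.sheaf)]
    (G : X.Modules) (i : ℕ) :
    Nonempty ((DCK91.SP x).obj ((ModSite.extSh (O := X.sheaf) F i).obj G) ≃ₗ[X.presheaf.stalk x]
      Abelian.Ext ((DCK91.SP x).obj F) ((DCK91.SP x).obj G) i) := by
  haveI : HasInjectiveResolutions X.Modules := ‹HasInjectiveResolutions (ModSite.Mod X.sheaf)›
  haveI := additive_homFunctor F
  let T : X.Modules ⥤ X.Modules := ModSite.sheafHom (O := X.sheaf) F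
  haveI : T.Additive := Functor.additive_of_iso (sheafHomIso' F).symm
  let eT : T ≅ homFunctor F := sheafHomIso' F
  let e : (T.rightDerived i).obj G ≅ ((homFunctor F).rightDerived i).obj G :=
    { hom := (NatTrans.rightDerived eT.hom i).app G
      inv := (NatTrans.rightDerived eT.inv i).app G
      hom_inv_id := by
        rw [← NatTrans.comp_app, ← NatTrans.rightDerived_comp, eT.hom_inv_id,
          NatTrans.rightDerived_id]
        rfl
      inv_hom_id := by
        rw [← NatTrans.comp_app, ← NatTrans.rightDerived_comp, eT.inv_hom_id,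
          NatTrans.rightDerived_id]
        rfl }
  obtain ⟨l⟩ := nonempty_stalk_rightDerived x hF G i
  exact ⟨((DCK91.SP x).mapIso e).toLinearEquiv ≪≫ₗ l⟩

end Groth.Agent.LC16.ExtStalk
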