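import Groth.Agent.LC16.ExtRes
import Groth.Agent.QC70.ExtCoh
import Groth.Agent.QC70.CompDerived
import Groth.Agent.QC70.InjQcoh
import Groth.Agent.QC70.HomCoh
import Groth.Agent.S9498
import Groth.Agent.QCRes72.Basic
import Groth.Agent.Coh69.Grothendieck

set_option autoImplicit false
set_option backward.isDefEq.respectTransparency.types false
set_option linter.style.haveILetI false

/-!
The `Ext` sheaves of tilde modules on the spectrum of a Noetherian ring.
-/

noncomputable section

universe u

open CategoryTheory Limits AlgebraicGeometry TopologicalSpace Opposite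
open Groth.Agent.QC70

namespace Groth.Agent.LC16.ExtTilde

variable {R : CommRingCat.{u}} (M : ModuleCat.{u} R)

/-- The section of `𝓗om` attached to a linear map. -/
def homToSec (N : ModuleCat.{u} R) (φ : M ⟶ N) : Γ(homMod (tilde M) (tilde N), ⊤) :=
  (HomOn.ofHom (tilde.map φ) ⊤).toSec

lemma toOpen_map_apply {N P : ModuleCat.{u} R} (f : N ⟶ P) (U : (Spec R).Opens) (m : N) :
    (tilde.map f).app U (tilde.toOpen N U m) = tilde.toOpen P U (f m) :=
  congr($(tilde.toOpen_map_app f U).hom m)

lemma homSec_ext (N : ModuleCat.{u} R) {a b : Γ(homMod (tilde M) (tilde N), ⊤)}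
    (h : ∀ m : M, (ofSec a).app ⊤ le_rfl (tilde.toOpen M ⊤ m) =
      (ofSec b).app ⊤ le_rfl (tilde.toOpen M ⊤ m)) : a = b := by
  refine (homSecEquiv (isAffineOpen_top (Spec R))).injective (LinearMap.ext fun s => ?_)
  obtain ⟨m, rfl⟩ := (ConcreteCategory.bijective_of_isIso (tilde.toOpen M ⊤)).2 s
  exact h m

/-- `Hom(M, N) → Γ(𝓗om(M~, N~))`. -/
def homToΓ (N : ModuleCat.{u} R) :
    ((linearCoyoneda R (ModuleCat.{u} R)).obj (op M)).obj N →ₗ[R]
      (moduleSpecΓFunctor (R := R)).obj (homMod (tilde M) (tilde N)) where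
  toFun φ := homToSec M N φ
  map_add' φ ψ := homSec_ext M N fun m => by
    change (tilde.map (φ + ψ)).app ⊤ _ =
      (tilde.map φ).app ⊤ (tilde.toOpen M ⊤ m) + (tilde.map ψ).app ⊤ (tilde.toOpen M ⊤ m)
    refine (toOpen_map_apply _ ⊤ m).trans (Eq.trans ?_
      (congrArg₂ (· + ·) (toOpen_map_apply φ ⊤ m).symm (toOpen_map_apply ψ ⊤ m).symm))
    exact map_add (tilde.toOpen N ⊤).hom _ _
  map_smul' a φ := homSec_ext M N fun m => by
    change (tilde.map (a • φ)).app ⊤ _ =
      resO (Spec R) le_rfl (((Spec R).presheaf.map (Opens.leTop ⊤).op) ((Scheme.ΓSpecIso R).inv a)) •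
        (tilde.map φ).app ⊤ (tilde.toOpen M ⊤ m)
    refine (toOpen_map_apply _ ⊤ m).trans (Eq.trans ?_ (congrArg _ (toOpen_map_apply φ ⊤ m).symm))
    rw [resO_self]
    exact (map_smul (tilde.toOpen N ⊤).hom a _).trans rfl

theorem bijective_homToΓ (N : ModuleCat.{u} R) : Function.Bijective (homToΓ M N) := by
  constructor
  · intro φ ψ h
    refine ModuleCat.hom_ext (LinearMap.ext fun m => ?_)
    apply (ConcreteCategory.bijective_of_isIso (tilde.toOpen N ⊤)).1
    rw [← toOpen_map_apply, ← toOpen_map_apply]
    exact congrArg (fun s : Γ(homMod (tilde M) (tilde N), ⊤) =>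
      (ofSec s).app ⊤ le_rfl (tilde.toOpen M ⊤ m)) h
  · intro s
    obtain ⟨φ, hφ⟩ := (tilde.functor R).map_surjective (HomOn.toHom (ofSec s))
    refine ⟨φ, homSec_ext M N fun m => ?_⟩
    exact congrArg (fun f : tilde M ⟶ tilde N => f.app ⊤ (tilde.toOpen M ⊤ m)) hφ

/-- `Hom(M, -)~ → 𝓗om(M~, (-)~)`. -/
def homTilde :
    (linearCoyoneda R (ModuleCat.{u} R)).obj (op M) ⋙ tilde.functor R ⟶
      tilde.functor R ⋙ homFunctor (tilde M) :=
  { app := fun N => (tilde.functor R).map (ModuleCat.ofHom (homToΓ M N)) ≫
      Scheme.Modules.fromTildeΓNatTrans.app (homMod (tilde M) (tilde N))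
    naturality := fun {N P} g => by
      have h : ((linearCoyoneda R (ModuleCat.{u} R)).obj (op M)).map g ≫ ModuleCat.ofHom (homToΓ M P) =
          ModuleCat.ofHom (homToΓ M N) ≫
            (moduleSpecΓFunctor (R := R)).map ((homFunctor (tilde M)).map ((tilde.functor R).map g)) := by
        refine ModuleCat.hom_ext (LinearMap.ext fun φ => homSec_ext M P fun m => ?_)
        change (tilde.map (φ ≫ g)).app ⊤ _ =
          (tilde.map g).app ⊤ ((tilde.map φ).app ⊤ (tilde.toOpen M ⊤ m))
        exact (toOpen_map_apply _ ⊤ m).trans (((congrArg _ (toOpen_map_apply φ ⊤ m)).trans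
          (toOpen_map_apply g ⊤ _)).symm)
      have h2 := (((tilde.functor R).map_comp _ _).symm.trans
        (congrArg (fun f => (tilde.functor R).map f) h)).trans ((tilde.functor R).map_comp _ _)
      exact (Category.assoc _ _ _).symm.trans ((congrArg (· ≫ _) h2).trans
        ((Category.assoc _ _ _).trans ((congrArg ((tilde.functor R).map (ModuleCat.ofHom (homToΓ M N)) ≫ ·)
          (Scheme.Modules.fromTildeΓNatTrans.naturality
            ((homFunctor (tilde M)).map ((tilde.functor R).map g)))).trans (Category.assoc _ _ _).symm))) }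

theorem isIso_homTilde [IsNoetherianRing R] [Module.Finite R M] : IsIso (homTilde M) := by
  haveI : (tilde M).IsFiniteType := (QCRes72.isFiniteType_tilde_iff M).2 inferInstance
  have : ∀ N, IsIso ((homTilde M).app N) := fun N => by
    haveI hq : (homMod (tilde M) (tilde N)).IsQuasicoherent :=
      isQuasicoherent_of_forall_isLocAt _ fun U hU => by
        haveI := finite_sections_of_isFiniteType (tilde M) hU
        haveI : IsLocallyNoetherian (Spec R) := inferInstance
        haveI := IsLocallyNoetherian.component_noetherian (⟨U, hU⟩ : (Spec R).affineOpens)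
        haveI : Module.FinitePresentation Γ(Spec R, U) Γ(tilde M, U) :=
          Module.finitePresentation_of_finite _ _
        exact isLocAt_homMod (isLocAt_of_isQuasicoherent _ hU) hU
    have h1 : IsIso (ModuleCat.ofHom (homToΓ M N)) :=
      (ConcreteCategory.isIso_iff_bijective _).2 (bijective_homToΓ M N)
    have h2 : IsIso (Scheme.Modules.fromTildeΓNatTrans.app (homMod (tilde M) (tilde N))) :=
      (isQuasicoherent_iff_isIso_fromTildeΓ (homMod (tilde M) (tilde N))).1 hq
    exact @IsIso.comp_isIso _ _ _ _ _ _ _ (haveI := h1; Functor.map_isIso (tilde.functor R) (ModuleCat.ofHom (homToΓ M N))) h2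
  exact NatIso.isIso_of_isIso_app _

/-- **`𝓔xt^i(M~, N~) ≅ Ext^i(M, N)~`.** -/
theorem nonempty_extSh_tilde [IsNoetherianRing R] [Module.Finite R M] (N : ModuleCat.{u} R)
    [ModSite.HasSheafHom (O := (Spec R).sheaf) (tilde M)]
    [HasInjectiveResolutions (ModSite.Mod (Spec R).sheaf)] (i : ℕ) :
    Nonempty ((ModSite.extSh (O := (Spec R).sheaf) (tilde M) i).obj (tilde N) ≅
      tilde (ModuleCat.of R (Abelian.Ext.{u} M N i))) := by
  haveI : HasInjectiveResolutions (Spec R).Modules :=
    ‹HasInjectiveResolutions (ModSite.Mod (Spec R).sheaf)›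
  haveI := additive_homFunctor (tilde M)
  haveI : (homFunctor (X := Spec (CommRingCat.of R)) (tilde M)).Additive := additive_homFunctor (tilde M)
  haveI hE : PreservesFiniteLimits (tilde.functor R) := (S9498.tilde_exact R).1
  haveI : PreservesFiniteColimits (tilde.functor R) := (S9498.tilde_exact R).2
  let P := injectiveResolution N
  let S : InjectiveResolution ((tilde.functor R).obj N) := mapRes (tilde.functor R)
    (fun I hI => QC70.injective_tilde I (Module.injective_module_of_injective_object R I)) P
    fun n => isZero_rightDerived_of_preservesHomology _ N n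
  let c := ComplexShape.up ℕ
  haveI := isIso_homTilde M
  let L := ExtRes.homCx (R := R) P M
  let e3 : ((tilde.functor R).mapHomologicalComplex c).obj L ≅
      ((homFunctor (tilde M)).mapHomologicalComplex c).obj S.cocomplex :=
    HomologicalComplex.Hom.isoOfComponents (fun n => (asIso (homTilde M)).app (P.cocomplex.X n))
      fun p q _ => ((homTilde M).naturality (P.cocomplex.d p q)).symm
  obtain ⟨l⟩ := ExtRes.nonempty_homology_linearEquiv_ext (R := R) P M i
  let T : (Spec R).Modules ⥤ (Spec R).Modules := ModSite.sheafHom (O := (Spec R).sheaf) (tilde M)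
  haveI : T.Additive := Functor.additive_of_iso (sheafHomIso' (tilde M)).symm
  let eT : T ≅ homFunctor (tilde M) := sheafHomIso' (tilde M)
  let e : (T.rightDerived i).obj (tilde N) ≅ ((homFunctor (tilde M)).rightDerived i).obj (tilde N) :=
    { hom := (NatTrans.rightDerived eT.hom i).app _
      inv := (NatTrans.rightDerived eT.inv i).app _
      hom_inv_id := by
        rw [← NatTrans.comp_app, ← NatTrans.rightDerived_comp, eT.hom_inv_id,
          NatTrans.rightDerived_id]
        rfl
      inv_hom_id := by
        rw [← NatTrans.comp_app, ← NatTrans.rightDerived_comp, eT.inv_hom_id,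
          NatTrans.rightDerived_id]
        rfl }
  exact ⟨e ≪≫ @InjectiveResolution.isoRightDerivedObj _ _ _ _ _ _ _ _ S (homFunctor (tilde M))
    (additive_homFunctor (tilde M)) i ≪≫
    ((HomologicalComplex.homologyFunctor _ c i).mapIso e3).symm ≪≫
    (L.sc i).mapHomologyIso (tilde.functor R) ≪≫
    (tilde.functor R).mapIso l.toModuleIso⟩

end Groth.Agent.LC16.ExtTilde
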