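import Groth.Agent.LC16.ExtZStalk
import Groth.Agent.LC16.CanonLocal
import Groth.Agent.LC16.ExtCodim
import Groth.Agent.LC15.ExtDepth
import Groth.Agent.CAlg1.Serre
import Groth.Agent.EGA4H10.CompleteUC
import Groth.Agent.QC70.ExtCoh

/-!
Coherence and vanishing of the local `Ext` sheaves with supports.
-/

set_option autoImplicit false
set_option backward.isDefEq.respectTransparency.types false
set_option linter.style.haveILetI false
set_option synthInstance.maxHeartbeats 200000
set_option maxHeartbeats 1000000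

noncomputable section

universe u

open CategoryTheory Limits AlgebraicGeometry TopologicalSpace Opposite
open Groth.Agent.QC70 Groth.Agent.LC16.ExtZStalk

namespace Groth.Agent.LC16.ExtZCoh

variable {X : Scheme.{u}} [IsLocallyNoetherian X] (U : X.Opens) (F : X.Modules)
  [ModSite.HasSheafHom (O := X.sheaf) F] [HasInjectiveResolutions (ModSite.Mod X.sheaf)]

omit [IsLocallyNoetherian X] in
theorem nonempty_extZSh_iso (i : ℕ) (G : X.Modules) :
    haveI : HasInjectiveResolutions X.Modules := ‹HasInjectiveResolutions (ModSite.Mod X.sheaf)›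
    Nonempty (((supHom U F).rightDerived i).obj G ≅
      (ModSite.extZSh (O := X.sheaf) U F i).obj G) := by
  haveI : HasInjectiveResolutions X.Modules := ‹HasInjectiveResolutions (ModSite.Mod X.sheaf)›
  haveI := additive_homFunctor F
  let T : X.Modules ⥤ X.Modules := ModSite.sheafHom (O := X.sheaf) F
  haveI : T.Additive := Functor.additive_of_iso (sheafHomIso' F).symm
  let e : T ⋙ RB70.supp U ≅ supHom U F := Functor.isoWhiskerRight (sheafHomIso' F) (RB70.supp U)
  refine ⟨?_⟩
  refine (?_ : ((supHom U F).rightDerived i).obj G ≅ ((T ⋙ RB70.supp U).rightDerived i).obj G)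
  exact
    { hom := (NatTrans.rightDerived e.inv i).app G
      inv := (NatTrans.rightDerived e.hom i).app G
      hom_inv_id := by
        rw [← NatTrans.comp_app, ← NatTrans.rightDerived_comp, e.inv_hom_id, NatTrans.rightDerived_id]
        rfl
      inv_hom_id := by
        rw [← NatTrans.comp_app, ← NatTrans.rightDerived_comp, e.hom_inv_id, NatTrans.rightDerived_id]
        rfl }

omit [IsLocallyNoetherian X] in
theorem nonempty_extSh_iso (i : ℕ) (G : X.Modules) :
    haveI : HasInjectiveResolutions X.Modules := ‹HasInjectiveResolutions (ModSite.Mod X.sheaf)›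
    haveI := additive_homFunctor F
    Nonempty (((homFunctor F).rightDerived i).obj G ≅
      (ModSite.extSh (O := X.sheaf) F i).obj G) := by
  haveI : HasInjectiveResolutions X.Modules := ‹HasInjectiveResolutions (ModSite.Mod X.sheaf)›
  haveI := additive_homFunctor F
  let T : X.Modules ⥤ X.Modules := ModSite.sheafHom (O := X.sheaf) F
  haveI : T.Additive := Functor.additive_of_iso (sheafHomIso' F).symm
  let e : T ≅ homFunctor F := sheafHomIso' F
  refine ⟨?_⟩
  refine (?_ : ((homFunctor F).rightDerived i).obj G ≅ (T.rightDerived i).obj G)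
  exact
    { hom := (NatTrans.rightDerived e.inv i).app G
      inv := (NatTrans.rightDerived e.hom i).app G
      hom_inv_id := by
        rw [← NatTrans.comp_app, ← NatTrans.rightDerived_comp, e.inv_hom_id, NatTrans.rightDerived_id]
        rfl
      inv_hom_id := by
        rw [← NatTrans.comp_app, ← NatTrans.rightDerived_comp, e.hom_inv_id, NatTrans.rightDerived_id]
        rfl }

variable {F}

omit [ModSite.HasSheafHom (O := X.sheaf) F] [HasInjectiveResolutions (ModSite.Mod X.sheaf)] in
theorem isCoh_supp (hF : Coh.IsCoh F) : Coh.IsCoh ((RB70.supp U).obj F) := by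
  haveI := hF.1
  haveI : Mono ((RB70.suppι U).app F) := Mod48.mono_sectOnι (O := X.sheaf) U _
  exact isCoh_of_mono ((RB70.suppι U).app F) (RB70.isQuasicoherent_supp U F) hF

omit [ModSite.HasSheafHom (O := X.sheaf) F] [HasInjectiveResolutions (ModSite.Mod X.sheaf)] in
theorem support_supp (hF : Coh.IsCoh F) {x : X} (hx : x ∈ CohB1.support ((RB70.supp U).obj F)) :
    x ∉ (U : Set X) ∧ x ∈ CohB1.support F := by
  haveI := hF.1
  haveI : Mono ((RB70.suppι U).app F) := Mod48.mono_sectOnι (O := X.sheaf) U _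
  have hinj := injective_stalkMapM_of_mono ((RB70.suppι U).app F) x
  refine ⟨fun hU => hx ?_, fun h => hx ?_⟩
  · refine subsingleton_of_forall_eq 0 fun a => ?_
    refine hinj ?_
    obtain ⟨c, hc, h0⟩ := (range_suppι U F x _).1 ⟨a, rfl⟩ (IsLocalRing.closedPoint _)
      (by rw [Scheme.fromSpecStalk_closedPoint]; exact hU)
    have hu : IsUnit c := IsLocalRing.notMem_maximalIdeal.1 hc
    exact ((hu.smul_eq_zero).1 h0).trans (map_zero (stalkLinear _ x)).symm
  · exact @Function.Injective.subsingleton _ _ _ hinj h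

/-- `𝓔xt^i_Z(F, G)` is coherent when `Ext^i` kills the boundary modules. -/
theorem isCoh_extZSh_of_extVan (hF : Coh.IsCoh F) {G : X.Modules} (hG : Coh.IsCoh G) (i : ℕ)
    (h : ExtVan U (closure (CohB1.support F ∩ (U : Set X))) G i) :
    Coh.IsCoh ((ModSite.extZSh (O := X.sheaf) U F i).obj G) := by
  haveI : HasInjectiveResolutions X.Modules := ‹HasInjectiveResolutions (ModSite.Mod X.sheaf)›
  haveI := additive_homFunctor F
  haveI := hasSheafHom_modSite ((RB70.supp U).obj F)
  haveI := additive_homFunctor ((RB70.supp U).obj F)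
  obtain ⟨e⟩ := nonempty_extZSh_iso U F i G
  obtain ⟨e'⟩ := nonempty_extSh_iso ((RB70.supp U).obj F) i G
  have := mono_rightDerived_toTor U hF i G hG.1 h
  exact isCoh_of_iso e (isCoh_of_mono ((NatTrans.rightDerived (toTor U F) i).app G)
    (RB70.isQuasicoherent_rightDerived_supp_hom U hF i G hG.1)
    (isCoh_of_iso e'.symm (isCoh_extSh _ G (isCoh_supp U hF) hG i)))

/-- `𝓔xt^i_Z(F, G)` vanishes when, besides, `Ext^i` kills the sections with supports. -/
theorem isZero_extZSh_of_extVan (hF : Coh.IsCoh F) {G : X.Modules} (hG : Coh.IsCoh G) (i : ℕ)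
    (h : ExtVan U (closure (CohB1.support F ∩ (U : Set X))) G i)
    (h' : ∀ x ∈ CohB1.support ((RB70.supp U).obj F), Subsingleton (Abelian.Ext
      ((DCK91.SP x).obj ((RB70.supp U).obj F)) ((DCK91.SP x).obj G) i)) :
    IsZero ((ModSite.extZSh (O := X.sheaf) U F i).obj G) := by
  haveI : HasInjectiveResolutions X.Modules := ‹HasInjectiveResolutions (ModSite.Mod X.sheaf)›
  haveI := additive_homFunctor F
  haveI := hasSheafHom_modSite ((RB70.supp U).obj F)
  haveI := additive_homFunctor ((RB70.supp U).obj F)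
  obtain ⟨e⟩ := nonempty_extZSh_iso U F i G
  obtain ⟨e'⟩ := nonempty_extSh_iso ((RB70.supp U).obj F) i G
  have hm := mono_rightDerived_toTor U hF i G hG.1 h
  refine IsZero.of_iso ?_ e.symm
  refine @IsZero.of_mono _ _ _ _ _ ((NatTrans.rightDerived (toTor U F) i).app G) hm
    (IsZero.of_iso ?_ e')
  refine DCK91.isZero_of_stalks fun x => ?_
  obtain ⟨l⟩ := ExtStalk.nonempty_stalk_extSh x (isCoh_supp U hF) G i
  haveI : Subsingleton (Abelian.Ext ((DCK91.SP x).obj ((RB70.supp U).obj F))
      ((DCK91.SP x).obj G) i) := by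
    by_cases hx : x ∈ CohB1.support ((RB70.supp U).obj F)
    · exact h' x hx
    · have hs : Subsingleton (((RB70.supp U).obj F).presheaf.stalk x) := not_not.1 hx
      have hz : IsZero ((DCK91.SP x).obj ((RB70.supp U).obj F)) :=
        @ModuleCat.isZero_of_subsingleton _ _ _ hs
      refine subsingleton_of_forall_eq 0 fun y => ?_
      rw [← Abelian.Ext.mk₀_id_comp y, hz.eq_zero_of_src (𝟙 _), Abelian.Ext.mk₀_zero,
        Abelian.Ext.zero_comp]
  haveI := l.toEquiv.subsingleton
  exact ModuleCat.isZero_of_subsingleton _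

omit [IsLocallyNoetherian X] in
theorem subsingleton_ext_of_isEmpty_support {x : X} (Q G : ModuleCat.{u} (X.presheaf.stalk x))
    (i : ℕ) (h : Module.support (X.presheaf.stalk x) Q = ∅) :
    Subsingleton (Abelian.Ext Q G i) := by
  have : Subsingleton Q := Module.support_eq_empty_iff.1 h
  refine subsingleton_of_forall_eq 0 fun y => ?_
  rw [← Abelian.Ext.mk₀_id_comp y, (ModuleCat.isZero_of_subsingleton Q).eq_zero_of_src (𝟙 Q),
    Abelian.Ext.mk₀_zero, Abelian.Ext.zero_comp]

omit [IsLocallyNoetherian X] in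
theorem fromSpecStalk_closedPoint_mem {x : X} (Q : ModuleCat.{u} (X.presheaf.stalk x))
    [Nontrivial Q] (S : Set X)
    (h : ∀ q ∈ Module.support (X.presheaf.stalk x) Q, X.fromSpecStalk x q ∈ S) : x ∈ S := by
  obtain ⟨q, hq⟩ : (Module.support (X.presheaf.stalk x) Q).Nonempty :=
    Module.nonempty_support_iff.2 ‹_›
  have hc : IsLocalRing.closedPoint _ ∈ Module.support (X.presheaf.stalk x) Q :=
    Module.mem_support_mono (IsLocalRing.le_maximalIdeal q.2.ne_top) hq
  have := h _ hc
  rwa [Scheme.fromSpecStalk_closedPoint] at this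

omit [ModSite.HasSheafHom (O := X.sheaf) F] [HasInjectiveResolutions (ModSite.Mod X.sheaf)] in
/-- Depth along the boundary gives vanishing below it. -/
theorem extVan_of_depth {G : X.Modules} (hG : Coh.IsCoh G) (P : Set X) (n : ℕ)
    (hd : ∀ x ∈ P, x ∉ (U : Set X) →
      (n : ℕ∞) ≤ LocCoh.depth (X.presheaf.stalk x) (G.presheaf.stalk x))
    (i : ℕ) (hi : i < n) : ExtVan U P G i := fun x Q hQ hq => by
  haveI := hG.1
  haveI := hG.2
  haveI : Module.Finite (X.presheaf.stalk x) (G.presheaf.stalk x) := QC70.finite_stalk G x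
  let I := Module.annihilator (X.presheaf.stalk x) Q
  have hdI : (n : ℕ∞) ≤ LocCoh.idealDepth I (G.presheaf.stalk x) := by
    refine LC17.natCast_le_idealDepth_of_forall I n _ fun q hqI => ?_
    have hqs : q ∈ Module.support (X.presheaf.stalk x) Q := Module.mem_support_iff_of_finite.2 hqI
    let z := X.fromSpecStalk x q
    have hz : z ⤳ x := Cyc90.fromSpecStalk_specializes q
    have hgen : Cyc90.genPrime hz = q := Cyc90.genPrime_fromSpecStalk q
    obtain ⟨h1, -⟩ := StalkMod.localization_invariants G hG hz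
    have key : ∀ q₁ : PrimeSpectrum (X.presheaf.stalk x), q₁ = q →
        (n : ℕ∞) ≤ LocCoh.depth (Localization.AtPrime q₁.asIdeal)
          (LocalizedModule q₁.asIdeal.primeCompl (G.presheaf.stalk x)) →
        (n : ℕ∞) ≤ LocCoh.depth (Localization.AtPrime q.asIdeal)
          (LocalizedModule q.asIdeal.primeCompl (G.presheaf.stalk x)) := by
      rintro _ rfl hh; exact hh
    refine key _ hgen ?_
    rw [h1]
    exact hd z (hq q hqs).2 (hq q hqs).1
  exact LC15.subsingleton_ext_of_H (I := I) (F := Q)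
    (LC15.isPowerTorsion_of_support_subset Module.support_eq_zeroLocus.subset) n _
    ((LC17.natCast_le_idealDepth_iff I _ n).1 hdI) i hi

omit [IsLocallyNoetherian X] [ModSite.HasSheafHom (O := X.sheaf) F]
  [HasInjectiveResolutions (ModSite.Mod X.sheaf)] in
/-- Regularity gives vanishing above the dimension. -/
theorem subsingleton_ext_of_dim_lt {x : X} [IsRegularLocalRing (X.presheaf.stalk x)] (i : ℕ)
    (hi : ringKrullDim (X.presheaf.stalk x) < (i : WithBot ℕ∞))
    (M N : ModuleCat.{u} (X.presheaf.stalk x)) : Subsingleton (Abelian.Ext M N i) := by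
  obtain ⟨d, hd⟩ : ∃ d : ℕ, ringKrullDim (X.presheaf.stalk x) = d :=
    ⟨_, IsRegularLocalRing.spanFinrank_maximalIdeal.symm⟩
  rw [hd] at hi
  have : d < i := by exact_mod_cast hi
  haveI := CAlg1.hasPD_of_regular (X.presheaf.stalk x) hd M
  exact HasProjectiveDimensionLT.subsingleton M (d + 1) i (by omega) _

omit [ModSite.HasSheafHom (O := X.sheaf) F] [HasInjectiveResolutions (ModSite.Mod X.sheaf)] in
theorem extVan_of_dim_lt (hreg : ∀ x : X, IsRegularLocalRing (X.presheaf.stalk x)) (P : Set X)
    (G : X.Modules) (i : ℕ)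
    (hi : ∀ x ∈ P, x ∉ (U : Set X) → ringKrullDim (X.presheaf.stalk x) < (i : WithBot ℕ∞)) :
    ExtVan U P G i := fun x Q hQ hq => by
  haveI := hreg x
  rcases subsingleton_or_nontrivial Q with h | h
  · exact subsingleton_ext_of_isEmpty_support Q _ i (Module.support_eq_empty_iff.2 h)
  · obtain ⟨hxU, hxP⟩ := fromSpecStalk_closedPoint_mem Q {z | z ∉ (U : Set X) ∧ z ∈ P} hq
    exact subsingleton_ext_of_dim_lt i (hi x hxP hxU) Q _

/-- In a regular local ring a prime of height at most `n` lies under one of height `n`. -/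
theorem exists_le_height_eq {A : Type u} [CommRing A] [IsRegularLocalRing A] {d n : ℕ}
    (hd : ringKrullDim A = d) (hn : n ≤ d) (q : PrimeSpectrum A)
    (hq : Order.height q ≤ (n : ℕ∞)) : ∃ p, q ≤ p ∧ Order.height p = (n : ℕ∞) := by
  haveI := EGA4H10.isCohenMacaulayLocalRing_of_regular A
  obtain ⟨h, hh⟩ := WithTop.ne_top_iff_exists.1 (ne_top_of_le_ne_top (ENat.natCast_ne_top n) hq)
  have hh' : ringKrullDim (Localization.AtPrime q.asIdeal) = (h : WithBot ℕ∞) := by
    rw [IsLocalization.AtPrime.ringKrullDim_eq_height q.asIdeal, PrimeSpectrum.height_eq_orderHeight]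
    rw [← hh]; rfl
  have hhn : h ≤ n := by
    rw [← hh] at hq
    exact Nat.cast_le.1 (show ((h : ℕ) : ℕ∞) ≤ n from hq)
  obtain ⟨a, ha⟩ : ∃ a : ℕ, ringKrullDim (A ⧸ q.asIdeal) = a := by
    have h1 := ringKrullDim_quotient_le (R := A) q.asIdeal
    rw [hd] at h1
    haveI : Nontrivial (A ⧸ q.asIdeal) := Ideal.Quotient.nontrivial_iff.2 q.2.ne_top
    rcases hr : ringKrullDim (A ⧸ q.asIdeal) with _ | _ | a
    · exact absurd hr ringKrullDim_ne_bot
    · rw [hr] at h1; exact absurd h1 (by exact not_le.2 (WithBot.coe_lt_coe.2 (ENat.natCast_lt_top d)))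
    · exact ⟨a, rfl⟩
  have hsum := CanonLocal.height_add_dim_quotient q.asIdeal hd hh' ha
  obtain ⟨l, hl⟩ := Order.le_krullDim_iff.1 (ha.ge : (a : WithBot ℕ∞) ≤ _)
  let f : PrimeSpectrum (A ⧸ q.asIdeal) → PrimeSpectrum A :=
    PrimeSpectrum.comap (Ideal.Quotient.mk q.asIdeal)
  have hf : StrictMono f := fun s t hst => by
    refine lt_of_le_of_ne (Ideal.comap_mono hst.le) fun e => hst.ne ?_
    exact PrimeSpectrum.comap_injective_of_surjective _ Ideal.Quotient.mk_surjective e
  let L := l.map f hf
  have hlen : L.length = a := hl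
  have hge : ∀ i, q ≤ L i := fun i c hc => by
    change Ideal.Quotient.mk q.asIdeal c ∈ (l i).asIdeal
    rw [Ideal.Quotient.eq_zero_iff_mem.2 hc]
    exact zero_mem _
  have hlow : ∀ (i : ℕ) (hi : i < L.length + 1), ((h + i : ℕ) : ℕ∞) ≤ Order.height (L ⟨i, hi⟩) := by
    intro i
    induction i with
    | zero =>
      intro hi
      exact le_trans (le_of_eq hh) (Order.height_mono (hge _))
    | succ i ih =>
      intro hi
      refine le_trans ?_ (Order.height_add_one_le (L.strictMono
        (show (⟨i, by omega⟩ : Fin (L.length + 1)) < ⟨i + 1, hi⟩ by simp)))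
      push_cast
      rw [← add_assoc]
      exact add_le_add_left (ih (by omega)) 1
  have hupp : ∀ (j : ℕ) (hj : j ≤ L.length),
      Order.height (L ⟨L.length - j, by omega⟩) + j ≤ (d : ℕ∞) := by
    intro j
    induction j with
    | zero =>
      intro _
      have := Order.height_le_krullDim (L ⟨L.length - 0, by omega⟩)
      rw [show Order.krullDim (PrimeSpectrum A) = d from hd] at this
      simpa using (WithBot.coe_le_coe.1 this : _ ≤ (d : ℕ∞))
    | succ j ih =>
      intro hj
      refine le_trans ?_ (ih (by omega))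
      push_cast
      rw [← add_assoc, add_right_comm]
      refine add_le_add_left (Order.height_add_one_le (L.strictMono ?_)) _
      exact Fin.mk_lt_mk.2 (by omega)
  refine ⟨L ⟨n - h, by omega⟩, hge _, le_antisymm ?_ ?_⟩
  · have := hupp (L.length - (n - h)) (by omega)
    have e : (⟨L.length - (L.length - (n - h)), by omega⟩ : Fin (L.length + 1)) =
        ⟨n - h, by omega⟩ := Fin.ext (by show L.length - (L.length - (n - h)) = n - h; omega)
    rw [e, show L.length - (n - h) = d - n by omega] at this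
    have e2 : ((n : ℕ∞)) + ((d - n : ℕ) : ℕ∞) = (d : ℕ∞) := by
      rw [← Nat.cast_add]; congr 1; omega
    rw [← e2] at this
    exact (ENat.add_le_add_iff_right (ENat.natCast_ne_top _)).1 this
  · have := hlow (n - h) (by omega)
    rwa [show h + (n - h) = n by omega] at this

omit [ModSite.HasSheafHom (O := X.sheaf) F] [HasInjectiveResolutions (ModSite.Mod X.sheaf)] in
/-- On a regular scheme `Ext^n` into the structure sheaf vanishes off dimension `n`. -/
theorem extVan_structureModule (hreg : ∀ x : X, IsRegularLocalRing (X.presheaf.stalk x))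
    (P : Set X) (n : ℕ)
    (hn : ∀ x ∈ P, x ∉ (U : Set X) → ringKrullDim (X.presheaf.stalk x) ≠ (n : WithBot ℕ∞)) :
    ExtVan U P (Coh.structureModule X) n := fun x Q hQ hq => by
  haveI := hreg x
  obtain ⟨d, hd⟩ : ∃ d : ℕ, ringKrullDim (X.presheaf.stalk x) = d :=
    ⟨_, IsRegularLocalRing.spanFinrank_maximalIdeal.symm⟩
  rcases lt_or_ge d n with hlt | hge
  · exact subsingleton_ext_of_dim_lt n (by rw [hd]; exact_mod_cast hlt) Q _
  have hO := ExtCodim.isCoh_structureModule X
  let S : Set X := {z | z ∉ (U : Set X) ∧ z ∈ P ∧ ∃ q ∈ Module.support (X.presheaf.stalk x) Q,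
    X.fromSpecStalk x q = z}
  have hvan := extVan_of_depth U hO S (n + 1) (fun z hz hzU => ?_) n (Nat.lt_succ_self n)
  · exact hvan x Q hQ fun q hqs => ⟨(hq q hqs).1, (hq q hqs).1, (hq q hqs).2, q, hqs, rfl⟩
  obtain ⟨-, -, q, hqs, rfl⟩ := hz
  haveI := hreg (X.fromSpecStalk x q)
  have hdim : ∀ p : PrimeSpectrum (X.presheaf.stalk x),
      ringKrullDim (X.presheaf.stalk (X.fromSpecStalk x p)) =
        ((Order.height p : ℕ∞) : WithBot ℕ∞) := fun p => by
    have hz := Cyc90.fromSpecStalk_specializes p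
    letI := (X.presheaf.stalkSpecializes hz).hom.toAlgebra
    haveI := Cyc90.isLocalization_genPrime hz
    rw [IsLocalization.AtPrime.ringKrullDim_eq_height (Cyc90.genPrime hz).asIdeal,
      PrimeSpectrum.height_eq_orderHeight]
    rw [Cyc90.genPrime_fromSpecStalk]
  obtain ⟨e, he⟩ : ∃ e : ℕ, ringKrullDim (X.presheaf.stalk (X.fromSpecStalk x q)) = e :=
    ⟨_, IsRegularLocalRing.spanFinrank_maximalIdeal.symm⟩
  rw [EGA4Alg4.depth_eq_of_equiv (QC70.unitStalkEquiv _).symm, CAlg1.depth_regular _ he]
  by_contra hcon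
  have hen : e ≤ n := by
    have h1 : ¬ n + 1 ≤ e := fun h' => hcon (by exact_mod_cast h')
    omega
  have hqh : Order.height q ≤ (n : ℕ∞) := by
    have := he.symm.trans (hdim q)
    rw [← WithBot.coe_le_coe, ← this]
    exact_mod_cast hen
  obtain ⟨p, hqp, hp⟩ := exists_le_height_eq hd hge q hqh
  obtain ⟨hpU, hpP⟩ := hq p (Module.mem_support_mono hqp hqs)
  refine hn _ hpP hpU ?_
  rw [hdim p, hp]
  rfl

end Groth.Agent.LC16.ExtZCoh
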