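import Groth.Agent.LC16.RelExt

/-!
Relative `Ext` sheaves from an acyclic resolution of the first variable.
-/

set_option autoImplicit false
set_option backward.isDefEq.respectTransparency.types false
set_option linter.style.haveILetI false

noncomputable section

universe v u v' u'

open CategoryTheory CategoryTheory.Limits AlgebraicGeometry TopologicalSpace Opposite
open Groth.Agent.QC70 Groth.Agent.LC16.RelExt

namespace Groth.Agent.LC16.RelResolution

section Generic

variable {C : Type u} [Category.{v} C] [Abelian C] [HasInjectiveResolutions C]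
  {D : Type u'} [Category.{v'} D] [Abelian D]

omit [Abelian D] in
theorem comp_aux {T T' Z Z' R R' H H' : D} (z : T ⟶ Z) (π : Z ⟶ H) (e : R ≅ H) (h : H ⟶ H')
    (e' : R' ≅ H') (cm : Z ⟶ Z') (π' : Z' ⟶ H') (w : π ≫ h = cm ≫ π') (α : T ⟶ T')
    (z' : T' ⟶ Z') (e1 : z ≫ cm = α ≫ z') :
    (z ≫ π ≫ e.inv) ≫ (e.hom ≫ h ≫ e'.inv) = α ≫ z' ≫ π' ≫ e'.inv := by
  simp only [Category.assoc, Iso.inv_hom_id_assoc]
  rw [reassoc_of% w, reassoc_of% e1]

/-- `F ⟶ R^0 F` is natural in `F`. -/
theorem toRightDerivedZero_naturality {F G : C ⥤ D} [F.Additive] [G.Additive] (α : F ⟶ G) (X : C) :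
    F.toRightDerivedZero.app X ≫ (NatTrans.rightDerived α 0).app X =
      α.app X ≫ G.toRightDerivedZero.app X := by
  let P := injectiveResolution X
  have e : P.toRightDerivedZero' F ≫
      HomologicalComplex.cyclesMap ((NatTrans.mapHomologicalComplex α _).app P.cocomplex) 0 =
      α.app X ≫ P.toRightDerivedZero' G := by
    rw [← cancel_mono (HomologicalComplex.iCycles _ 0), Category.assoc,
      HomologicalComplex.cyclesMap_i, InjectiveResolution.toRightDerivedZero'_comp_iCycles_assoc,
      Category.assoc, InjectiveResolution.toRightDerivedZero'_comp_iCycles]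
    exact α.naturality (P.ι.f 0)
  rw [P.toRightDerivedZero_eq, P.toRightDerivedZero_eq, P.rightDerived_app_eq]
  exact comp_aux _ _ (P.isoRightDerivedObj F 0) _ (P.isoRightDerivedObj G 0) _ _
    (HomologicalComplex.homologyπ_naturality
      ((NatTrans.mapHomologicalComplex α _).app P.cocomplex) 0) _ _ e

end Generic

variable {X Y : Scheme.{u}} (f : X ⟶ Y) (G : X.Modules)

/-- The complex `f_* 𝓗om(L_•, G)`. -/
def relCx (L : ChainComplex X.Modules ℕ) (hs : ∀ j, ModSite.HasSheafHom (O := X.sheaf) (L.X j)) :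
    CochainComplex Y.Modules ℕ :=
  CochainComplex.of (fun j => (relHom f (L.X j)).obj G)
    (fun j => (relMap f (L.d (j + 1) j)).app G)
    fun j => @relMap_comp_eq_zero X
      (ShortComplex.mk (L.d (j + 1 + 1) (j + 1)) (L.d (j + 1) j) (L.d_comp_d _ _ _)) Y f
      (hs (j + 1 + 1)) (hs (j + 1)) (hs j) G

lemma relCx_d (L : ChainComplex X.Modules ℕ)
    [hs : ∀ j, ModSite.HasSheafHom (O := X.sheaf) (L.X j)] (j : ℕ) :
    (relCx f G L hs).d j (j + 1) = (relMap f (L.d (j + 1) j)).app G :=
  CochainComplex.of_d (fun j => (relHom f (L.X j)).obj G)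
    (fun j => (relMap f (L.d (j + 1) j)).app G) j

/-- The truncated complex `L_{• + 1}`. -/
def shiftCx (L : ChainComplex X.Modules ℕ) : ChainComplex X.Modules ℕ :=
  ChainComplex.of (fun j => L.X (j + 1)) (fun j => L.d (j + 1 + 1) (j + 1))
    fun _ => L.d_comp_d _ _ _

lemma shiftCx_d (L : ChainComplex X.Modules ℕ) (j : ℕ) :
    (shiftCx L).d (j + 1) j = L.d (j + 1 + 1) (j + 1) :=
  ChainComplex.of_d (fun j => L.X (j + 1)) (fun j => L.d (j + 1 + 1) (j + 1)) j

theorem relMap_comp {M M' M'' : X.Modules} [ModSite.HasSheafHom (O := X.sheaf) M]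
    [ModSite.HasSheafHom (O := X.sheaf) M'] [ModSite.HasSheafHom (O := X.sheaf) M'']
    (h : M'' ⟶ M') (g : M' ⟶ M) :
    (relMap f (h ≫ g)).app G = (relMap f g).app G ≫ (relMap f h).app G := by
  refine Eq.trans ?_ ((Scheme.Modules.pushforward f).map_comp _ _)
  exact congrArg (Scheme.Modules.pushforward f).map (congr_app (sheafHomMap_comp h g) G)

theorem preservesFiniteLimits_relHom (M : X.Modules) [ModSite.HasSheafHom (O := X.sheaf) M] :
    PreservesFiniteLimits (relHom f M) := by
  haveI := preservesFiniteLimits_homFunctor M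
  let T : X.Modules ⥤ X.Modules := ModSite.sheafHom (O := X.sheaf) M
  haveI : PreservesFiniteLimits T := preservesFiniteLimits_of_natIso (sheafHomIso' M).symm
  haveI : PreservesFiniteLimits (Scheme.Modules.pushforward f) := by
    haveI hlim : PreservesLimitsOfSize.{u, u} (Scheme.Modules.pushforward f) :=
      (Scheme.Modules.pullbackPushforwardAdjunction f).rightAdjoint_preservesLimits
    haveI : PreservesLimitsOfSize.{0, 0} (Scheme.Modules.pushforward f) :=
      preservesLimitsOfSize_shrink _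
    exact Limits.PreservesLimitsOfSize0.preservesFiniteLimits _
  exact comp_preservesFiniteLimits T _

variable [HasInjectiveResolutions X.Modules]

/-- `R^p(f_* 𝓗om(M, -))(G)`. -/
abbrev relExtObj (M : X.Modules) (hM : ModSite.HasSheafHom (O := X.sheaf) M) (p : ℕ) : Y.Modules :=
  haveI := additive_relHom f M
  ((relHom f M).rightDerived p).obj G

theorem nonempty_homology_zero (F : X.Modules) [hF : ModSite.HasSheafHom (O := X.sheaf) F]
    (L : ChainComplex X.Modules ℕ) [hs : ∀ j, ModSite.HasSheafHom (O := X.sheaf) (L.X j)]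
    (π : L.X 0 ⟶ F) (hπ : L.d 1 0 ≫ π = 0) [Epi π]
    (hex0 : (ShortComplex.mk (L.d 1 0) π hπ).Exact) :
    Nonempty ((relCx f G L hs).homology 0 ≅ relExtObj f G F hF 0) := by
  haveI := additive_relHom f F
  haveI := preservesFiniteLimits_relHom f F
  let K := relCx f G L hs
  let S := ShortComplex.mk (L.d 1 0) π hπ
  haveI : Epi S.g := inferInstanceAs (Epi π)
  obtain ⟨hm, hx⟩ := mono_exact_relMap (S := S) f hex0 G
  have w : (relMap f π).app G ≫ K.d 0 1 = 0 :=
    (congrArg (_ ≫ ·) (relCx_d f G L 0)).trans (relMap_comp_eq_zero (S := S) f G)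
  let S' := ShortComplex.mk ((relMap f π).app G) (K.d 0 1) w
  have hx' : S'.Exact := ShortComplex.exact_of_iso
    (ShortComplex.isoMk (Iso.refl _) (Iso.refl _) (Iso.refl _)
      ((Category.id_comp _).trans (Category.comp_id _).symm)
      ((Category.id_comp _).trans ((relCx_d f G L 0).trans (Category.comp_id _).symm))) hx
  haveI : Mono S'.f := hm
  exact ⟨(CochainComplex.isoHomologyπ₀ K).symm ≪≫
    ((hx'.fIsKernel.conePointUniqueUpToIso (K.cyclesIsKernel 0 1 (by simp))).symm) ≪≫
    ((relHom f F).rightDerivedZeroIsoSelf.app G).symm⟩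

omit [HasInjectiveResolutions X.Modules] in
theorem nonempty_homology_one (L : ChainComplex X.Modules ℕ)
    [hs : ∀ j, ModSite.HasSheafHom (O := X.sheaf) (L.X j)]
    (K₀ : X.Modules) [ModSite.HasSheafHom (O := X.sheaf) K₀] (p : L.X 1 ⟶ K₀) (ι₀ : K₀ ⟶ L.X 0)
    (hpi : p ≫ ι₀ = L.d 1 0) (hpd : L.d 2 1 ≫ p = 0) [Epi p]
    (hex : (ShortComplex.mk (L.d 2 1) p hpd).Exact) :
    Nonempty ((relCx f G L hs).homology 1 ≅ cokernel ((relMap f ι₀).app G)) := by
  let K := relCx f G L hs
  let S := ShortComplex.mk (L.d 2 1) p hpd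
  haveI : Epi S.g := inferInstanceAs (Epi p)
  obtain ⟨hm, hx⟩ := mono_exact_relMap (S := S) f hex G
  have w : (relMap f p).app G ≫ K.d 1 2 = 0 :=
    (congrArg (_ ≫ ·) (relCx_d f G L 1)).trans (relMap_comp_eq_zero (S := S) f G)
  let S' := ShortComplex.mk ((relMap f p).app G) (K.d 1 2) w
  have hx' : S'.Exact := ShortComplex.exact_of_iso
    (ShortComplex.isoMk (Iso.refl _) (Iso.refl _) (Iso.refl _)
      ((Category.id_comp _).trans (Category.comp_id _).symm)
      ((Category.id_comp _).trans ((relCx_d f G L 1).trans (Category.comp_id _).symm))) hx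
  haveI : Mono S'.f := hm
  let ec : (relHom f K₀).obj G ≅ K.cycles 1 :=
    hx'.fIsKernel.conePointUniqueUpToIso (K.cyclesIsKernel 1 2 (by simp))
  have hec : ec.hom ≫ K.iCycles 1 = (relMap f p).app G :=
    IsLimit.conePointUniqueUpToIso_hom_comp hx'.fIsKernel (K.cyclesIsKernel 1 2 (by simp))
      WalkingParallelPair.zero
  have hsq : K.toCycles 0 1 = (relMap f ι₀).app G ≫ ec.hom := by
    rw [← cancel_mono (K.iCycles 1), HomologicalComplex.toCycles_i]
    refine Eq.trans ?_ (Category.assoc _ _ _).symm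
    refine Eq.trans ?_ (congrArg (_ ≫ ·) hec).symm
    refine (relCx_d f G L 0).trans ?_
    refine Eq.trans ?_ (relMap_comp f G p ι₀)
    exact congrArg (fun g => (relMap f g).app G) hpi.symm
  exact ⟨((K.homologyIsCokernel 0 1 (by simp)).coconePointUniqueUpToIso
      (cokernelIsCokernel _)) ≪≫
    cokernel.mapIso (K.toCycles 0 1) ((relMap f ι₀).app G) (Iso.refl _) ec.symm
      (by rw [Iso.symm_hom, Iso.comp_inv_eq, Iso.refl_hom]
          exact hsq.trans (congrArg (· ≫ ec.hom) (Category.id_comp _)).symm)⟩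

omit [HasInjectiveResolutions X.Modules] in
theorem nonempty_homology_shift (L : ChainComplex X.Modules ℕ)
    [hs : ∀ j, ModSite.HasSheafHom (O := X.sheaf) (L.X j)]
    (hs' : ∀ j, ModSite.HasSheafHom (O := X.sheaf) ((shiftCx L).X j)) (m : ℕ) :
    Nonempty ((relCx f G L hs).homology (m + 2) ≅
      (relCx f G (shiftCx L) hs').homology (m + 1)) := by
  let K := relCx f G L hs
  let K' := relCx f G (shiftCx L) hs'
  have hd' : ∀ j, K'.d j (j + 1) = K.d (j + 1) (j + 1 + 1) := fun j =>
    (relCx_d f G (shiftCx L) j).trans ((congrArg (fun g => (relMap f g).app G) (shiftCx_d L j)).trans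
      (relCx_d f G L (j + 1)).symm)
  exact ⟨K.homologyIsoSc' (m + 1) (m + 2) (m + 3) (by simp) (by simp) ≪≫
    ShortComplex.homologyMapIso (show K.sc' (m + 1) (m + 2) (m + 3) ≅ K'.sc' m (m + 1) (m + 2) from
      ShortComplex.isoMk (Iso.refl _) (Iso.refl _) (Iso.refl _)
      ((Category.id_comp _).trans ((hd' m).trans (Category.comp_id _).symm))
      ((Category.id_comp _).trans ((hd' (m + 1)).trans (Category.comp_id _).symm))) ≪≫
    (K'.homologyIsoSc' m (m + 1) (m + 2) (by simp) (by simp)).symm⟩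

/-- Acyclic resolutions compute the relative `Ext` sheaves. -/
theorem nonempty_homology_iso (i : ℕ) : ∀ (F : X.Modules) (hF : ModSite.HasSheafHom (O := X.sheaf) F)
    (L : ChainComplex X.Modules ℕ) (hs : ∀ j, ModSite.HasSheafHom (O := X.sheaf) (L.X j))
    (π : L.X 0 ⟶ F) (hπ : L.d 1 0 ≫ π = 0), Epi π → (ShortComplex.mk (L.d 1 0) π hπ).Exact →
    (∀ j : ℕ, L.ExactAt (j + 1)) → (∀ j p : ℕ, 1 ≤ p → IsZero (relExtObj f G (L.X j) (hs j) p)) →
    Nonempty ((relCx f G L hs).homology i ≅ relExtObj f G F hF i) := by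
  induction i with
  | zero =>
    intro F hF L hs π hπ hepi hex0 _ _
    exact @nonempty_homology_zero X Y f G _ F hF L hs π hπ hepi hex0
  | succ i ih =>
    intro F hF L hs π hπ hepi hex0 hex hL
    let K₀ := kernel π
    haveI hK : ModSite.HasSheafHom (O := X.sheaf) K₀ := hasSheafHom_modSite K₀
    let S : ShortComplex X.Modules := ShortComplex.mk (kernel.ι π) π (kernel.condition π)
    have hS : S.ShortExact := { exact := ShortComplex.exact_kernel π }
    haveI : ModSite.HasSheafHom (O := X.sheaf) S.X₁ := hK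
    haveI : ModSite.HasSheafHom (O := X.sheaf) S.X₂ := hs 0
    haveI : ModSite.HasSheafHom (O := X.sheaf) S.X₃ := hF
    haveI := additive_relHom f S.X₁
    haveI := additive_relHom f S.X₂
    haveI := additive_relHom f S.X₃
    haveI : HasInjectiveResolutions (ModSite.Mod X.sheaf) := ‹HasInjectiveResolutions X.Modules›
    obtain ⟨-, -, δ, hδ⟩ := les_first f hS G
    obtain ⟨⟨w1, h1⟩, ⟨w2, h2⟩⟩ := hδ i
    haveI : Epi (δ i) := h2.epi_f ((hL 0 (i + 1) (by omega)).eq_of_tgt _ _)
    have eT : cokernel ((NatTrans.rightDerived (relMap f S.f) i).app G) ≅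
        relExtObj f G F hF (i + 1) :=
      (cokernelIsCokernel _).coconePointUniqueUpToIso h1.gIsCokernel
    let K := relCx f G L hs
    have hp : L.d (0 + 1) 0 ≫ π = 0 := hπ
    let p : L.X 1 ⟶ K₀ := kernel.lift π (L.d 1 0) hπ
    have hpi : p ≫ kernel.ι π = L.d 1 0 := kernel.lift_ι _ _ _
    haveI : Epi p := (ShortComplex.exact_iff_epi_kernel_lift _).1 hex0
    have hπ' : (shiftCx L).d 1 0 ≫ p = 0 := by
      rw [shiftCx_d, ← cancel_mono (kernel.ι π), zero_comp, Category.assoc]
      exact (congrArg (_ ≫ ·) hpi).trans (L.d_comp_d _ _ _)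
    have hex0' : (ShortComplex.mk ((shiftCx L).d 1 0) p hπ').Exact := by
      have h := (HomologicalComplex.exactAt_iff' L 2 1 0 (by simp) (by simp)).1 (hex 0)
      let φ : ShortComplex.mk ((shiftCx L).d 1 0) p hπ' ⟶ L.sc' 2 1 0 :=
        { τ₁ := 𝟙 _, τ₂ := 𝟙 _, τ₃ := kernel.ι π
          comm₁₂ := (Category.id_comp _).trans ((shiftCx_d L 0).symm.trans (Category.comp_id _).symm)
          comm₂₃ := (Category.id_comp _).trans hpi.symm }
      haveI : Epi φ.τ₁ := inferInstanceAs (Epi (𝟙 _))
      haveI : IsIso φ.τ₂ := inferInstanceAs (IsIso (𝟙 _))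
      haveI : Mono φ.τ₃ := inferInstanceAs (Mono (kernel.ι π))
      exact (ShortComplex.exact_iff_of_epi_of_isIso_of_mono φ).2 h
    cases i with
    | zero =>
      haveI : ModSite.HasSheafHom (O := X.sheaf) (L.X 1) := hs 1
      haveI : ModSite.HasSheafHom (O := X.sheaf) (L.X 2) := hs 2
      have hpd : L.d 2 1 ≫ p = 0 := by rw [← shiftCx_d L 0]; exact hπ'
      have hex1 : (ShortComplex.mk (L.d 2 1) p hpd).Exact := ShortComplex.exact_of_iso
        (ShortComplex.isoMk (Iso.refl _) (Iso.refl _) (Iso.refl _)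
          ((Category.id_comp _).trans ((shiftCx_d L 0).symm.trans (Category.comp_id _).symm))
          ((Category.id_comp _).trans (Category.comp_id _).symm)) hex0'
      obtain ⟨q⟩ := nonempty_homology_one f G L K₀ p (kernel.ι π) hpi hpd hex1
      haveI := preservesFiniteLimits_relHom f S.X₁
      haveI := preservesFiniteLimits_relHom f S.X₂
      let z₂ : (relHom f S.X₂).obj G ≅ ((relHom f S.X₂).rightDerived 0).obj G :=
        asIso ((relHom f S.X₂).toRightDerivedZero.app G)
      let z₁ : (relHom f S.X₁).obj G ≅ ((relHom f S.X₁).rightDerived 0).obj G :=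
        asIso ((relHom f S.X₁).toRightDerivedZero.app G)
      let e₀ : cokernel ((relMap f S.f).app G) ≅
          cokernel ((NatTrans.rightDerived (relMap f S.f) 0).app G) :=
        cokernel.mapIso _ _ z₂ z₁ (toRightDerivedZero_naturality (relMap f S.f) G).symm
      exact ⟨q ≪≫ e₀ ≪≫ eT⟩
    | succ m =>
      let hs' : ∀ j, ModSite.HasSheafHom (O := X.sheaf) ((shiftCx L).X j) := fun j => hs (j + 1)
      have hex' : ∀ j : ℕ, (shiftCx L).ExactAt (j + 1) := fun j => by
        have h := (HomologicalComplex.exactAt_iff' L (j + 3) (j + 2) (j + 1) (by simp) (by simp)).1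
          (hex (j + 1))
        rw [HomologicalComplex.exactAt_iff' _ (j + 2) (j + 1) j (by simp) (by simp)]
        exact ShortComplex.exact_of_iso
          (show L.sc' (j + 3) (j + 2) (j + 1) ≅ (shiftCx L).sc' (j + 2) (j + 1) j from
            ShortComplex.isoMk (Iso.refl _) (Iso.refl _) (Iso.refl _)
              ((Category.id_comp _).trans ((shiftCx_d L (j + 1)).trans (Category.comp_id _).symm))
              ((Category.id_comp _).trans ((shiftCx_d L j).trans (Category.comp_id _).symm))) h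
      obtain ⟨q⟩ := ih K₀ hK (shiftCx L) hs' p hπ' ‹Epi p› hex0' hex'
        (fun j n hn => hL (j + 1) n hn)
      obtain ⟨eK⟩ := nonempty_homology_shift f G L hs' m
      have hz : IsZero (((relHom f S.X₂).rightDerived (m + 1)).obj G) :=
        hL 0 (m + 1) (by omega)
      exact ⟨eK ≪≫ q ≪≫ cokernelZeroIsoTarget.symm ≪≫ cokernelIsoOfEq (hz.eq_of_src 0 _) ≪≫ eT⟩

end Groth.Agent.LC16.RelResolution
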