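import Groth.Agent.LC16.ExtStalk
import Groth.Agent.LC16.StalkMod
import Groth.Agent.RB70.ExtZQCoh
import Groth.Agent.RD97.LES
import Groth.Agent.LC16.RelResolution

/-!
Local `Ext` sheaves with supports against the `Ext` sheaves out of the sections with supports:
a pointwise criterion for injectivity.
-/

set_option autoImplicit false
set_option backward.isDefEq.respectTransparency.types false
set_option linter.style.haveILetI false
set_option synthInstance.maxHeartbeats 200000
set_option maxHeartbeats 1000000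

noncomputable section

universe u

open CategoryTheory Limits AlgebraicGeometry TopologicalSpace Opposite
open Groth.Agent.QC70

namespace Groth.Agent.LC16.ExtZStalk

variable {X : Scheme.{u}} [IsLocallyNoetherian X] (U : X.Opens)

/-- An element of a module over a local ring dies at the generizations lying in `U`. -/
def IsTor (x : X) {M : Type*} [AddCommGroup M] [Module (X.presheaf.stalk x) M] (v : M) : Prop :=
  ∀ q : PrimeSpectrum (X.presheaf.stalk x), X.fromSpecStalk x q ∈ U → ∃ c ∉ q.asIdeal, c • v = 0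

omit [IsLocallyNoetherian X] in
theorem IsTor.map {x : X} {M N : Type*} [AddCommGroup M] [Module (X.presheaf.stalk x) M]
    [AddCommGroup N] [Module (X.presheaf.stalk x) N] (f : M →ₗ[X.presheaf.stalk x] N) {v : M}
    (hv : IsTor U x v) : IsTor U x (f v) := fun q hq => by
  obtain ⟨c, hc, h⟩ := hv q hq
  exact ⟨c, hc, by rw [← map_smul, h, map_zero]⟩

omit [IsLocallyNoetherian X] in
theorem IsTor.sub {x : X} {M : Type*} [AddCommGroup M] [Module (X.presheaf.stalk x) M] {v w : M}
    (hv : IsTor U x v) (hw : IsTor U x w) : IsTor U x (v - w) := fun q hq => by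
  obtain ⟨c, hc, h⟩ := hv q hq
  obtain ⟨d, hd, h'⟩ := hw q hq
  refine ⟨c * d, fun hcd => (q.2.mem_or_mem hcd).elim hc hd, ?_⟩
  rw [smul_sub, mul_comm c d, mul_smul, h, smul_zero, mul_comm d c, mul_smul, h', smul_zero, sub_zero]

theorem mem_range_supp_iff (H : X.Modules) [H.IsQuasicoherent] (x : X) (t : H.presheaf.stalk x) :
    (∃ a, stalkMapM ((RB70.supp U).map (𝟙 H) ≫ (RB70.suppι U).app H) x a = t) ↔ IsTor U x t := by
  rw [CategoryTheory.Functor.map_id, Category.id_comp]
  constructor
  · rintro ⟨a, rfl⟩ q hq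
    obtain ⟨W, hxW, s, rfl⟩ := germM_exist a
    rw [stalkMapM_germ]
    have hz : X.fromSpecStalk x q ⤳ x := Cyc90.fromSpecStalk_specializes q
    have hzW : X.fromSpecStalk x q ∈ W := hz.mem_open W.2 hxW
    letI := Cyc90.CohMult.specModule H hz
    haveI := Cyc90.CohMult.isLocalizedModule_specLin H ‹_› hz
    have h0 := (RB70.supp_image_iff U H W _).1 ⟨s, rfl⟩ (W ⊓ U) inf_le_left inf_le_right
    have h1 : Cyc90.CohMult.specLin H hz (germM H W x hxW (((RB70.suppι U).app H).app W s)) = 0 := by
      refine (TopCat.Presheaf.germ_stalkSpecializes_apply H.presheaf hxW hz _).trans ?_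
      change germM H W _ hzW _ = 0
      rw [← germM_res (inf_le_left : W ⊓ U ≤ W) ⟨hzW, hq⟩, h0, germM_zero]
    obtain ⟨c, hc⟩ := (IsLocalizedModule.eq_iff_exists (Cyc90.genPrime hz).asIdeal.primeCompl
      (Cyc90.CohMult.specLin H hz)).1 (h1.trans (map_zero _).symm)
    refine ⟨c.1, ?_, ?_⟩
    · exact fun h => c.2 ((congrArg (fun P : PrimeSpectrum (X.presheaf.stalk x) => c.1 ∈ P.asIdeal)
        (Cyc90.genPrime_fromSpecStalk q)).mpr h)
    · exact hc.trans (smul_zero _)
  · intro ht
    obtain ⟨W, hxW, s, rfl⟩ := germM_exist t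
    obtain ⟨W', hW', hxW', hW'W⟩ := exists_isAffineOpen_mem_and_subset (X := X) (x := x) (U := W) hxW
    rw [← germM_res hW'W hxW'] at ht ⊢
    generalize res H hW'W s = s at ht ⊢
    haveI := IsLocallyNoetherian.component_noetherian (⟨W', hW'⟩ : X.affineOpens)
    have hns := noetherianSpace_of_isAffineOpen W' hW'
    have hcomp : IsCompact ((W' ⊓ U : X.Opens) : Set X) := by
      have h := (@NoetherianSpace.isCompact _ _ hns
        ((fun p : W' => p.1) ⁻¹' (U : Set X))).image continuous_subtype_val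
      exact (congrArg IsCompact (Subtype.image_preimage_coe (W' : Set X) (U : Set X))).mp h
    have hbas : ∀ p : ↥((W' ⊓ U : X.Opens) : Set X), ∃ g : Γ(X, W'), p.1 ∈ X.basicOpen g ∧
        X.basicOpen g ≤ U := fun p => by
      obtain ⟨g, hg, hp⟩ := hW'.exists_basicOpen_le (⟨p.1, p.2.2⟩ : U) p.2.1
      exact ⟨g, hp, hg⟩
    choose g hg hgU using hbas
    obtain ⟨S, hS⟩ := hcomp.elim_finite_subcover (fun p => (X.basicOpen (g p) : Set X))
      (fun p => (X.basicOpen (g p)).2) fun p hp => Set.mem_iUnion.2 ⟨⟨p, hp⟩, hg _⟩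
    have hvan : ∀ p, ∃ (k : ℕ) (V : X.Opens) (hV : V ≤ W'), x ∈ V ∧
        res H hV (g p ^ k • s) = 0 := fun p => by
      obtain ⟨k, hk⟩ : X.presheaf.germ W' x hxW' (g p) ∈
          (Module.annihilator (X.presheaf.stalk x)
            (Submodule.span (X.presheaf.stalk x) {germM H W' x hxW' s})).radical := by
        rw [Ideal.radical_eq_sInf, Ideal.mem_sInf]
        rintro P ⟨hP, hPp⟩
        by_contra hgP
        let q : PrimeSpectrum (X.presheaf.stalk x) := ⟨P, hPp⟩
        have hz : X.fromSpecStalk x q ⤳ x := Cyc90.fromSpecStalk_specializes q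
        have hzW : X.fromSpecStalk x q ∈ W' := hz.mem_open W'.2 hxW'
        have hq : X.fromSpecStalk x q ∈ U := hgU p (by
          rw [Scheme.mem_basicOpen _ _ _ hzW]
          have h := Cyc90.genPrime_fromSpecStalk q
          have h' : X.presheaf.germ W' x hxW' (g p) ∉ (Cyc90.genPrime hz).asIdeal := by
            rw [h]; exact hgP
          have h'' : IsUnit (X.presheaf.stalkSpecializes hz (X.presheaf.germ W' x hxW' (g p))) :=
            not_not.1 ((not_congr mem_nonunits_iff).1 h')
          rwa [TopCat.Presheaf.germ_stalkSpecializes_apply] at h'')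
        obtain ⟨c, hc, hc0⟩ := ht q hq
        refine hc (hP ((Submodule.mem_annihilator_span_singleton _ _).2 hc0))
      have hk' : X.presheaf.germ W' x hxW' (g p) ^ k • germM H W' x hxW' s = 0 :=
        (Submodule.mem_annihilator_span_singleton _ _).1 hk
      rw [← map_pow, ← germM_smul] at hk'
      obtain ⟨V, hV, hxV, h⟩ := germM_eq_zero hk'
      exact ⟨k, V, hV, hxV, h⟩
    choose k V hV hxV hk using hvan
    let V₀ : X.Opens := W' ⊓ S.inf V
    have hxV₀ : x ∈ V₀ := by
      refine ⟨hxW', ?_⟩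
      have : ∀ T : Finset _, x ∈ T.inf V := fun T => by
        induction T using Finset.cons_induction with
        | empty => exact trivial
        | cons a T _ ih => rw [Finset.inf_cons]; exact ⟨hxV a, ih⟩
      exact this S
    have key : ∀ (T : X.Opens) (h : T ≤ W'), T ≤ U → T ≤ V₀ → res H h s = 0 := fun T h hTU hTV => by
      refine section_ext H _ _ fun z hz => ?_
      obtain ⟨p, hpS, hzp⟩ : ∃ p ∈ S, z ∈ X.basicOpen (g p) := by
        have := hS (show z ∈ ((W' ⊓ U : X.Opens) : Set X) from ⟨h hz, hTU hz⟩)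
        simpa using this
      have hzV : z ∈ V p := (Finset.inf_le hpS : S.inf V ≤ V p) (hTV hz).2
      refine ⟨T ⊓ X.basicOpen (g p) ⊓ V p, inf_le_left.trans inf_le_left, ⟨⟨hz, hzp⟩, hzV⟩, ?_⟩
      rw [res_zero, res_res]
      have h1 : resO X ((inf_le_left.trans inf_le_left).trans h : T ⊓ X.basicOpen (g p) ⊓ V p ≤ W')
          (g p) ^ k p • res H ((inf_le_left.trans inf_le_left).trans h :
            T ⊓ X.basicOpen (g p) ⊓ V p ≤ W') s = 0 := by
        rw [← resO_pow, ← res_smul,
          ← res_res (hV p) (inf_le_right : T ⊓ X.basicOpen (g p) ⊓ V p ≤ V p), hk p, res_zero]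
      have hu : IsUnit (resO X ((inf_le_left.trans inf_le_left).trans h :
          T ⊓ X.basicOpen (g p) ⊓ V p ≤ W') (g p)) :=
        RingedSpace.isUnit_of_isUnit_germ _ _ _ fun y hy => by
          have := (Scheme.mem_basicOpen _ (g p) y (h hy.1.1)).1 hy.1.2
          rwa [← germ_resO ((inf_le_left.trans inf_le_left).trans h) hy] at this
      exact ((hu.pow _).smul_eq_zero).1 h1
    obtain ⟨a, ha⟩ := (RB70.supp_image_iff U H V₀ (res H inf_le_left s)).2 fun T h hTU => by
      rw [res_res]; exact key T (h.trans inf_le_left) hTU h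
    exact ⟨germM ((RB70.supp U).obj H) V₀ x hxV₀ a, (stalkMapM_germ _ hxV₀ a).trans
      ((congrArg (germM H V₀ x hxV₀) ha).trans (germM_res inf_le_left hxV₀ s))⟩

theorem range_suppι (H : X.Modules) [H.IsQuasicoherent] (x : X) (t : H.presheaf.stalk x) :
    (∃ a, stalkMapM ((RB70.suppι U).app H) x a = t) ↔ IsTor U x t := by
  have := mem_range_supp_iff U H x t
  rwa [CategoryTheory.Functor.map_id, Category.id_comp] at this

variable (F : X.Modules)

/-- `Γ_Z ∘ 𝓗om(F, -)`. -/
abbrev supHom : X.Modules ⥤ X.Modules := homFunctor F ⋙ RB70.supp U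

/-- Restriction of a homomorphism killed on `U` to the sections with supports. -/
abbrev toTor : supHom U F ⟶ homFunctor ((RB70.supp U).obj F) :=
  Functor.whiskerLeft (homFunctor F) (RB70.suppι U) ≫ (homFunctor F).rightUnitor.hom ≫
    homComap ((RB70.suppι U).app F)

instance additive_supHom : (supHom U F).Additive := by
  haveI := additive_homFunctor F
  infer_instance

omit [IsLocallyNoetherian X] in
theorem evalStalk_homMap (N N' : X.Modules) (g : N ⟶ N') (x : X)
    (θ : (homMod F N).presheaf.stalk x) :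
    evalStalk F N' x (stalkMapM ((homFunctor F).map g) x θ) =
      (stalkLinear g x).comp (evalStalk F N x θ) := by
  obtain ⟨W, hxW, φ, rfl⟩ := germM_exist θ
  erw [stalkMapM_germ, evalStalk_germ, evalStalk_germ]
  refine LinearMap.ext fun e => ?_
  obtain ⟨V, hV, hxV, s, rfl⟩ := exists_germ_le (M := F) hxW e
  change _ = stalkMapM g x ((ofSec φ).stalkMap hxW (germM F V x hxV s))
  rw [HomOn.stalkMap_germ _ hxW hV, HomOn.stalkMap_germ _ hxW hV, stalkMapM_germ]
  rfl

omit [IsLocallyNoetherian X] in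
theorem evalStalk_homComap {M M' : X.Modules} (β : M ⟶ M') (N : X.Modules) (x : X)
    (θ : (homMod M' N).presheaf.stalk x) :
    evalStalk M N x (stalkMapM ((homComap β).app N) x θ) =
      (evalStalk M' N x θ).comp (stalkLinear β x) := by
  obtain ⟨W, hxW, φ, rfl⟩ := germM_exist θ
  erw [stalkMapM_germ, evalStalk_germ, evalStalk_germ]
  refine LinearMap.ext fun e => ?_
  obtain ⟨V, hV, hxV, s, rfl⟩ := exists_germ_le (M := M) hxW e
  change _ = (ofSec φ).stalkMap hxW (stalkMapM β x (germM M V x hxV s))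
  rw [stalkMapM_germ, HomOn.stalkMap_germ _ hxW hV, HomOn.stalkMap_germ _ hxW hV]
  rfl

variable {F}

theorem bijective_evalStalk' (hF : Coh.IsCoh F) (N : X.Modules) (x : X) :
    Function.Bijective (evalStalk F N x) := by
  have : F.IsQuasicoherent := hF.1
  have : F.IsFiniteType := hF.2
  obtain ⟨W, hW, hxW, -⟩ := exists_isAffineOpen_mem_and_subset (X := X) (x := x) (U := ⊤) trivial
  have := IsLocallyNoetherian.component_noetherian (⟨W, hW⟩ : X.affineOpens)
  have := finite_sections_of_isFiniteType F hW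
  have : Module.FinitePresentation Γ(X, W) Γ(F, W) := Module.finitePresentation_of_finite _ _
  exact HomStalkGen.bijective_evalStalk_gen hW hxW

/-- The homomorphism of stalks of a germ of `Γ_Z 𝓗om(F, N)`. -/
def evalSup (N : X.Modules) (x : X) (a : ((supHom U F).obj N).presheaf.stalk x) :
    F.presheaf.stalk x →ₗ[X.presheaf.stalk x] N.presheaf.stalk x :=
  evalStalk F N x (stalkMapM ((RB70.suppι U).app (homMod F N)) x a)

theorem injective_evalSup (hF : Coh.IsCoh F) (N : X.Modules) (x : X) :
    Function.Injective (evalSup U (F := F) N x) := by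
  haveI : Mono ((RB70.suppι U).app (homMod F N)) := Mod48.mono_sectOnι (O := X.sheaf) U _
  exact (bijective_evalStalk' hF N x).1.comp (injective_stalkMapM_of_mono _ x)

omit [IsLocallyNoetherian X] in
theorem evalSup_map {N N' : X.Modules} (g : N ⟶ N') (x : X)
    (a : ((supHom U F).obj N).presheaf.stalk x) :
    evalSup U N' x (stalkMapM ((supHom U F).map g) x a) =
      (stalkLinear g x).comp (evalSup U N x a) := by
  rw [evalSup, evalSup, ← evalStalk_homMap]
  refine congrArg _ ?_
  refine (stalkMapM_comp _ _ x a).symm.trans (Eq.trans ?_ (stalkMapM_comp _ _ x a))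
  exact congrArg (stalkMapM · x a) ((RB70.suppι U).naturality ((homFunctor F).map g))

omit [IsLocallyNoetherian X] in
theorem evalStalk_toTor (N : X.Modules) (x : X) (a : ((supHom U F).obj N).presheaf.stalk x) :
    evalStalk ((RB70.supp U).obj F) N x (stalkMapM ((toTor U F).app N) x a) =
      (evalSup U N x a).comp (stalkLinear ((RB70.suppι U).app F) x) := by
  rw [evalSup, ← evalStalk_homComap]
  refine congrArg _ ?_
  refine Eq.trans ?_ (stalkMapM_comp _ _ x a)
  refine congrArg (stalkMapM · x a) ?_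
  exact congrArg ((RB70.suppι U).app (homMod F N) ≫ ·) (Category.id_comp _)

theorem exists_evalSup_iff (hF : Coh.IsCoh F) (N : X.Modules) [N.IsQuasicoherent] (x : X)
    (φ : F.presheaf.stalk x →ₗ[X.presheaf.stalk x] N.presheaf.stalk x) :
    (∃ a, evalSup U N x a = φ) ↔ IsTor U x φ := by
  haveI : (homMod F N).IsQuasicoherent := RB70.isQuasicoherent_homMod hF
  obtain ⟨θ, rfl⟩ := (bijective_evalStalk' hF N x).2 φ
  constructor
  · rintro ⟨a, ha⟩
    rw [← ha]
    exact ((range_suppι U (homMod F N) x _).1 ⟨a, rfl⟩).map U (evalStalk F N x)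
  · intro h
    obtain ⟨a, ha⟩ := (range_suppι U (homMod F N) x θ).2 fun q hq => by
      obtain ⟨c, hc, h0⟩ := h q hq
      exact ⟨c, hc, (bijective_evalStalk' hF N x).1 (by rw [map_smul, h0, map_zero])⟩
    exact ⟨a, by rw [evalSup, ha]⟩

/-- Vanishing of `Ext` against the finite modules supported outside `U` and inside `P`. -/
def ExtVan (P : Set X) (G : X.Modules) (i : ℕ) : Prop :=
  ∀ (x : X) (Q : ModuleCat.{u} (X.presheaf.stalk x)), Module.Finite (X.presheaf.stalk x) Q →
    (∀ q ∈ Module.support (X.presheaf.stalk x) Q,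
      X.fromSpecStalk x q ∉ (U : Set X) ∧ X.fromSpecStalk x q ∈ P) →
    Subsingleton (Abelian.Ext Q ((DCK91.SP x).obj G) i)

omit [IsLocallyNoetherian X] in
theorem notMem_support_range {x : X} {M N : Type u} [AddCommGroup M]
    [Module (X.presheaf.stalk x) M] [Module.Finite (X.presheaf.stalk x) M] [AddCommGroup N]
    [Module (X.presheaf.stalk x) N] (φ : M →ₗ[X.presheaf.stalk x] N) (hφ : IsTor U x φ)
    (q : PrimeSpectrum (X.presheaf.stalk x))
    (hq : q ∈ Module.support (X.presheaf.stalk x) (LinearMap.range φ)) :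
    X.fromSpecStalk x q ∉ (U : Set X) := fun hU => by
  obtain ⟨c, hc, h0⟩ := hφ q hU
  rw [Module.mem_support_iff_of_finite] at hq
  refine hc (hq (Module.mem_annihilator.2 ?_))
  rintro ⟨_, m, rfl⟩
  exact Subtype.ext (LinearMap.congr_fun h0 m)

/-- The support of the part of a stalk without sections supported outside `U`. -/
theorem mem_closure_of_support_range (hF : Coh.IsCoh F) (x : X) {N : Type u} [AddCommGroup N]
    [Module (X.presheaf.stalk x) N] (φ : F.presheaf.stalk x →ₗ[X.presheaf.stalk x] N)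
    (hφ : φ.comp (stalkLinear ((RB70.suppι U).app F) x) = 0)
    (q : PrimeSpectrum (X.presheaf.stalk x))
    (hq : q ∈ Module.support (X.presheaf.stalk x) (LinearMap.range φ)) :
    X.fromSpecStalk x q ∈ closure (CohB1.support F ∩ (U : Set X)) := by
  haveI := hF.1
  haveI := hF.2
  haveI : Module.Finite (X.presheaf.stalk x) (F.presheaf.stalk x) := QC70.finite_stalk F x
  have htor : ∀ m, IsTor U x m → φ m = 0 := fun m hm => by
    obtain ⟨a, rfl⟩ := (range_suppι U F x m).2 hm
    exact LinearMap.congr_fun hφ a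
  let A := X.presheaf.stalk x
  let T : Submodule A (F.presheaf.stalk x) :=
    LinearMap.range (stalkLinear ((RB70.suppι U).app F) x)
  let π : (F.presheaf.stalk x ⧸ T) →ₗ[A] LinearMap.range φ :=
    Submodule.liftQ T φ.rangeRestrict (by
      rintro _ ⟨a, rfl⟩
      exact LinearMap.mem_ker.2 (Subtype.ext (LinearMap.congr_fun hφ a)))
  have hπ : Function.Surjective π := by
    rintro ⟨_, m, rfl⟩
    exact ⟨Submodule.Quotient.mk m, rfl⟩
  have hq' := Module.support_subset_of_surjective π hπ hq
  obtain ⟨p, hp, hpann, hpq⟩ : ∃ p ∈ associatedPrimes A (F.presheaf.stalk x ⧸ T),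
      Module.annihilator A (F.presheaf.stalk x ⧸ T) ≤ p ∧ p ≤ q.asIdeal := by
    have hann := Module.mem_support_iff_of_finite.1 hq'
    obtain ⟨p, hp, hpq⟩ := Ideal.exists_minimalPrimes_le hann
    exact ⟨p, Module.associatedPrimes.minimalPrimes_annihilator_subset_associatedPrimes _ _ hp,
      hp.1.2, hpq⟩
  haveI := hp.isPrime
  let P : PrimeSpectrum A := ⟨p, inferInstance⟩
  have hzq : X.fromSpecStalk x P ⤳ X.fromSpecStalk x q :=
    ((PrimeSpectrum.le_iff_specializes P q).1 hpq).map (X.fromSpecStalk x).base.hom.continuous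
  have hpU : X.fromSpecStalk x P ∈ U := by
    by_contra hnU
    obtain ⟨e, he⟩ := hp.isPrime, id hp
    obtain ⟨-, v, hv⟩ := hp
    obtain ⟨m, rfl⟩ := Submodule.Quotient.mk_surjective T v
    have hv0 : (Submodule.Quotient.mk m : F.presheaf.stalk x ⧸ T) ≠ 0 := by
      intro h0
      refine Ideal.IsPrime.ne_top ‹p.IsPrime› ((Ideal.eq_top_iff_one p).2 ?_)
      rw [hv]
      refine Ideal.le_radical (Submodule.mem_colon_singleton.2 ?_)
      rw [h0, smul_zero]
      exact zero_mem _
    refine hv0 ((Submodule.Quotient.mk_eq_zero T).2 ?_)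
    refine (range_suppι U F x m).2 fun q' hq' => ?_
    obtain ⟨a, hap, haq⟩ : ∃ a ∈ p, a ∉ q'.asIdeal := by
      refine SetLike.not_le_iff_exists.1 fun hle => hnU ?_
      exact (((PrimeSpectrum.le_iff_specializes P q').1 hle).map
        (X.fromSpecStalk x).base.hom.continuous).mem_open U.2 hq'
    rw [hv] at hap
    obtain ⟨j, hj⟩ := hap
    have ham : a ^ j • m ∈ T := by
      rw [← Submodule.Quotient.mk_eq_zero, Submodule.Quotient.mk_smul]
      simpa using hj
    obtain ⟨c, hc, h0⟩ := (range_suppι U F x _).1 ham q' hq'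
    exact ⟨c * a ^ j, fun h => (q'.2.mem_or_mem h).elim hc
      fun h' => haq (q'.2.mem_of_pow_mem _ h'), by rw [mul_smul]; exact h0⟩
  have hPsupp : P ∈ Module.support A (F.presheaf.stalk x) :=
    Module.support_subset_of_surjective (Submodule.mkQ T) (Submodule.mkQ_surjective T)
      (Module.mem_support_iff_of_finite.2 hpann)
  refine hzq.mem_closed isClosed_closure (subset_closure ⟨?_, hpU⟩)
  refine (StalkMod.mem_support_genPrime_iff F hF (Cyc90.fromSpecStalk_specializes P)).1 ?_
  rw [Cyc90.genPrime_fromSpecStalk]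
  exact hPsupp

/-- Extending a homomorphism out of the sections with supports. -/
theorem exists_extend (hF : Coh.IsCoh F) (x : X) (H : X.Modules) [Injective H]
    (ψ : ((RB70.supp U).obj F).presheaf.stalk x →ₗ[X.presheaf.stalk x] H.presheaf.stalk x) :
    ∃ χ : F.presheaf.stalk x →ₗ[X.presheaf.stalk x] H.presheaf.stalk x,
      IsTor U x χ ∧ χ.comp (stalkLinear ((RB70.suppι U).app F) x) = ψ := by
  haveI := hF.1
  haveI := hF.2
  haveI : Module.Finite (X.presheaf.stalk x) (F.presheaf.stalk x) := QC70.finite_stalk F x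
  haveI : Mono ((RB70.suppι U).app F) := Mod48.mono_sectOnι (O := X.sheaf) U _
  let A := X.presheaf.stalk x
  let ι := stalkLinear ((RB70.suppι U).app F) x
  have hι : Function.Injective ι := injective_stalkMapM_of_mono _ x
  let S : Set (PrimeSpectrum A) := {q | X.fromSpecStalk x q ∉ (U : Set X)}
  have hS : IsClosed S := U.2.isClosed_compl.preimage (X.fromSpecStalk x).base.hom.continuous
  let I := PrimeSpectrum.vanishingIdeal S
  have hIS : PrimeSpectrum.zeroLocus (I : Set A) = S := by
    rw [PrimeSpectrum.zeroLocus_vanishingIdeal_eq_closure, hS.closure_eq]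
  let T : Submodule A (F.presheaf.stalk x) := LinearMap.range ι
  obtain ⟨n, hn⟩ : ∃ n, ∀ a ∈ I ^ n, ∀ m ∈ T, a • m = 0 := by
    have hrad : I ≤ (Module.annihilator A T).radical := by
      intro a ha
      rw [Ideal.radical_eq_sInf, Ideal.mem_sInf]
      rintro P ⟨hP, hPp⟩
      let q : PrimeSpectrum A := ⟨P, hPp⟩
      have hq : q ∈ S := fun hU => by
        have hsupp : q ∈ Module.support A T := Module.mem_support_iff_of_finite.2 hP
        obtain ⟨m, hm⟩ := Module.mem_support_iff_exists_annihilator.1 hsupp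
        obtain ⟨c, hc, h0⟩ := (range_suppι U F x m.1).1 m.2 q hU
        exact hc (hm ((Submodule.mem_annihilator_span_singleton _ _).2 (Subtype.ext h0)))
      exact (PrimeSpectrum.mem_vanishingIdeal S a).1 ha q hq
    obtain ⟨n, hn⟩ := Ideal.exists_pow_le_of_le_radical_of_fg hrad (IsNoetherian.noetherian I)
    exact ⟨n, fun a ha m hm => congrArg Subtype.val (Module.mem_annihilator.1 (hn ha) ⟨m, hm⟩)⟩
  obtain ⟨k, hk⟩ := Ideal.exists_pow_inf_eq_pow_smul I T
  let K : Submodule A (F.presheaf.stalk x) := I ^ (k + n) • ⊤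
  have hK : Disjoint K T := by
    rw [disjoint_iff]
    change I ^ (k + n) • (⊤ : Submodule A _) ⊓ T = ⊥
    rw [hk (k + n) (Nat.le_add_right k n), Nat.add_sub_cancel_left, eq_bot_iff, Submodule.smul_le]
    intro a ha m hm
    exact hn a ha m hm.2
  let j : ((RB70.supp U).obj F).presheaf.stalk x →ₗ[A] F.presheaf.stalk x ⧸ K := K.mkQ.comp ι
  have hj : Function.Injective j := by
    rw [← LinearMap.ker_eq_bot, eq_bot_iff]
    intro a ha
    refine hι ?_
    have h1 : ι a ∈ K := (Submodule.Quotient.mk_eq_zero K).1 ha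
    rw [map_zero]
    exact Submodule.disjoint_def.1 hK _ h1 ⟨a, rfl⟩
  haveI : Module.Injective A (H.presheaf.stalk x) := QC70.injective_stalk H x
  obtain ⟨h, hh⟩ := Module.Injective.out j hj ψ
  refine ⟨h.comp K.mkQ, fun q hq => ?_, LinearMap.ext hh⟩
  obtain ⟨c, hc, hcq⟩ : ∃ c ∈ I, c ∉ q.asIdeal := by
    refine SetLike.not_le_iff_exists.1 fun hle => ?_
    have : q ∈ S := hIS ▸ hle
    exact this hq
  refine ⟨c ^ (k + n), fun h' => hcq (q.2.mem_of_pow_mem _ h'), LinearMap.ext fun m => ?_⟩
  rw [LinearMap.smul_apply, LinearMap.comp_apply, ← map_smul, LinearMap.zero_apply]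
  rw [show c ^ (k + n) • K.mkQ m = 0 from ?_, map_zero]
  rw [← map_smul, Submodule.mkQ_apply, Submodule.Quotient.mk_eq_zero]
  exact Submodule.smul_mem_smul (Ideal.pow_mem_pow hc _) Submodule.mem_top

/-- The first step of the induction: two homomorphisms with the same restriction. -/
theorem evalSup_eq_zero (hF : Coh.IsCoh F) (G : X.Modules) [G.IsQuasicoherent]
    (h : ExtVan U (closure (CohB1.support F ∩ (U : Set X))) G 0) (x : X)
    (a : ((supHom U F).obj G).presheaf.stalk x) (ha : stalkMapM ((toTor U F).app G) x a = 0) :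
    a = 0 := by
  haveI := hF.1
  haveI := hF.2
  haveI : Module.Finite (X.presheaf.stalk x) (F.presheaf.stalk x) := QC70.finite_stalk F x
  have hker : (evalSup U G x a).comp (stalkLinear ((RB70.suppι U).app F) x) = 0 := by
    rw [← evalStalk_toTor, ha]
    exact map_zero (evalStalk ((RB70.supp U).obj F) G x)
  have htor : IsTor U x (evalSup U G x a) := (exists_evalSup_iff U hF G x _).1 ⟨a, rfl⟩
  let φ := evalSup U G x a
  have := h x (ModuleCat.of (X.presheaf.stalk x) (LinearMap.range φ)) inferInstance fun q hq =>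
    ⟨notMem_support_range U φ htor q hq, mem_closure_of_support_range U hF x φ hker q hq⟩
  have h0 := (Abelian.Ext.mk₀_bijective (ModuleCat.of (X.presheaf.stalk x) (LinearMap.range φ))
    ((DCK91.SP x).obj G)).1 (this.elim (Abelian.Ext.mk₀ (ModuleCat.ofHom (LinearMap.range φ).subtype))
      (Abelian.Ext.mk₀ 0))
  refine injective_evalSup U hF G x (LinearMap.ext fun m => ?_)
  have h1 : φ m = 0 := LinearMap.congr_fun (congrArg ModuleCat.Hom.hom h0) ⟨φ m, m, rfl⟩
  refine h1.trans (Eq.symm ?_)
  exact LinearMap.congr_fun (map_zero ((evalStalk F G x).comp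
    (stalkLinear ((RB70.suppι U).app (homMod F G)) x))) m

/-- Lifting along an epimorphism, with prescribed restriction. -/
theorem exists_lift_of_extVan (hF : Coh.IsCoh F) (S : ShortComplex X.Modules) (hS : S.ShortExact)
    [S.X₂.IsQuasicoherent] [Injective S.X₂] [S.X₃.IsQuasicoherent]
    (h : ExtVan U (closure (CohB1.support F ∩ (U : Set X))) S.X₁ 1) (x : X)
    (a : ((supHom U F).obj S.X₃).presheaf.stalk x)
    (b : ((homFunctor ((RB70.supp U).obj F)).obj S.X₂).presheaf.stalk x)
    (hab : stalkMapM ((toTor U F).app S.X₃) x a =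
      stalkMapM ((homFunctor ((RB70.supp U).obj F)).map S.g) x b) :
    ∃ c, stalkMapM ((supHom U F).map S.g) x c = a := by
  haveI := hF.1
  haveI := hF.2
  haveI : Module.Finite (X.presheaf.stalk x) (F.presheaf.stalk x) := QC70.finite_stalk F x
  let g := stalkLinear S.g x
  let φ := evalSup U S.X₃ x a
  obtain ⟨χ, hχ, hχψ⟩ := exists_extend U hF x S.X₂
    (evalStalk ((RB70.supp U).obj F) S.X₂ x b)
  have hφ : IsTor U x φ := (exists_evalSup_iff U hF S.X₃ x _).1 ⟨a, rfl⟩
  let δ := φ - g.comp χ
  have hδ : IsTor U x δ := hφ.sub U (hχ.map U (LinearMap.llcomp _ _ _ _ g))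
  have hδ0 : δ.comp (stalkLinear ((RB70.suppι U).app F) x) = 0 := by
    rw [LinearMap.sub_comp, LinearMap.comp_assoc, hχψ, sub_eq_zero, ← evalStalk_toTor, hab]
    exact evalStalk_homMap ((RB70.supp U).obj F) S.X₂ S.X₃ S.g x b
  let Q := ModuleCat.of (X.presheaf.stalk x) (LinearMap.range δ)
  haveI := h x Q inferInstance fun q hq =>
    ⟨notMem_support_range U δ hδ q hq, mem_closure_of_support_range U hF x δ hδ0 q hq⟩
  haveI : PreservesFiniteLimits (DCK91.SP x) :=
    Functor.preservesFiniteLimits_of_preservesHomology _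
  haveI : PreservesFiniteColimits (DCK91.SP x) :=
    Functor.preservesFiniteColimits_of_preservesHomology _
  have hSx : (S.map (DCK91.SP x)).ShortExact := hS.map_of_exact (DCK91.SP x)
  obtain ⟨w, hw⟩ := Abelian.Ext.covariant_sequence_exact₃ Q hSx
    (Abelian.Ext.mk₀ (ModuleCat.ofHom (LinearMap.range δ).subtype :
      Q ⟶ (S.map (DCK91.SP x)).X₃)) (zero_add 1)
    (Subsingleton.elim (α := Abelian.Ext Q ((DCK91.SP x).obj S.X₁) 1) _ _)
  obtain ⟨l, rfl⟩ := (Abelian.Ext.mk₀_bijective _ _).2 w
  rw [Abelian.Ext.mk₀_comp_mk₀] at hw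
  have hl := (Abelian.Ext.mk₀_bijective _ _).1 hw
  let L : F.presheaf.stalk x →ₗ[X.presheaf.stalk x] S.X₂.presheaf.stalk x :=
    l.hom.comp δ.rangeRestrict
  have hL : g.comp L = δ := LinearMap.ext fun m =>
    LinearMap.congr_fun (congrArg ModuleCat.Hom.hom hl) (δ.rangeRestrict m)
  have hLt : IsTor U x L := fun q hq => by
    obtain ⟨c, hc, h0⟩ := hδ q hq
    refine ⟨c, hc, LinearMap.ext fun m => ?_⟩
    have e : c • δ.rangeRestrict m = 0 := Subtype.ext (LinearMap.congr_fun h0 m)
    change c • l.hom (δ.rangeRestrict m) = 0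
    rw [← map_smul, e]
    exact map_zero l.hom
  obtain ⟨c, hc⟩ := (exists_evalSup_iff U hF S.X₂ x (χ + L)).2 fun q hq => by
    obtain ⟨c, hc, h0⟩ := hχ q hq
    obtain ⟨d, hd, h1⟩ := hLt q hq
    refine ⟨c * d, fun hcd => (q.2.mem_or_mem hcd).elim hc hd, ?_⟩
    rw [smul_add, mul_comm c d, mul_smul, h0, smul_zero, mul_comm d c, mul_smul, h1, smul_zero,
      add_zero]
  refine ⟨c, injective_evalSup U hF S.X₃ x ?_⟩
  rw [evalSup_map, hc, LinearMap.comp_add, hL]
  exact add_sub_cancel _ _

/-- Shifting the vanishing along a short exact sequence with injective middle term. -/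
theorem extVan_shift (P : Set X) (S : ShortComplex X.Modules) (hS : S.ShortExact) [Injective S.X₂]
    (i : ℕ) (h : ExtVan U P S.X₁ (i + 2)) : ExtVan U P S.X₃ (i + 1) := fun x Q hQ hq => by
  haveI : PreservesFiniteLimits (DCK91.SP x) :=
    Functor.preservesFiniteLimits_of_preservesHomology _
  haveI : PreservesFiniteColimits (DCK91.SP x) :=
    Functor.preservesFiniteColimits_of_preservesHomology _
  have hSx : (S.map (DCK91.SP x)).ShortExact := hS.map_of_exact (DCK91.SP x)
  haveI := h x Q hQ hq
  haveI : Injective (S.map (DCK91.SP x)).X₂ := ExtStalk.injective_SP x S.X₂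
  refine ⟨fun v w => sub_eq_zero.1 ?_⟩
  obtain ⟨x₂, hx₂⟩ := Abelian.Ext.covariant_sequence_exact₃ Q hSx (v - w) (rfl : i + 1 + 1 = i + 2)
    (Subsingleton.elim (α := Abelian.Ext Q ((DCK91.SP x).obj S.X₁) (i + 2)) _ _)
  rw [← hx₂, Abelian.Ext.eq_zero_of_injective x₂, Abelian.Ext.zero_comp]
  rfl

/-- The connecting maps commute with natural transformations. -/
theorem delta_natTrans {C : Type*} [Category C] [Abelian C] [HasInjectiveResolutions C]
    {A : Type*} [Category A] [Abelian A] {F F' : C ⥤ A} [F.Additive] [F'.Additive] (α : F ⟶ F')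
    {S : ShortComplex C} (T : RDer.SESRes S) (n₀ n₁ : ℕ) (h : n₀ + 1 = n₁) :
    T.delta F n₀ n₁ h ≫ (NatTrans.rightDerived α n₁).app S.X₁ =
      (NatTrans.rightDerived α n₀).app S.X₃ ≫ T.delta F' n₀ n₁ h := by
  let c := ComplexShape.up ℕ
  have hnat := HomologicalComplex.HomologySequence.δ_naturality
    (T.cx.mapNatTrans (NatTrans.mapHomologicalComplex α c)) (T.map_shortExact F)
    (T.map_shortExact F') n₀ n₁ h
  rw [InjectiveResolution.rightDerived_app_eq α T.I₁ n₁,
    InjectiveResolution.rightDerived_app_eq α T.I₃ n₀]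
  show ((T.I₃.isoRightDerivedObj F n₀).hom ≫ (T.map_shortExact F).δ n₀ n₁ h ≫
      (T.I₁.isoRightDerivedObj F n₁).inv) ≫ _ ≫ _ ≫ _ =
    (_ ≫ _ ≫ _) ≫ (T.I₃.isoRightDerivedObj F' n₀).hom ≫ (T.map_shortExact F').δ n₀ n₁ h ≫
      (T.I₁.isoRightDerivedObj F' n₁).inv
  simp only [Category.assoc, Iso.inv_hom_id_assoc]
  congr 1
  exact (congrArg (_ ≫ ·) (Iso.inv_hom_id_assoc _ _)).trans ((Category.assoc _ _ _).symm.trans
    ((congrArg (· ≫ _) hnat).trans (Category.assoc _ _ _)))

/-- **The injectivity criterion**: `𝓔xt^i_Z(F, G) → 𝓔xt^i(Γ_Z F, G)` is injective as soon as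
`Ext^i` into the stalks of `G` kills the finite modules supported on the points of `Z` in the
closure of the support of `F` on `U`. -/
theorem mono_rightDerived_toTor [HasInjectiveResolutions X.Modules] (hF : Coh.IsCoh F) (i : ℕ) :
    ∀ (G : X.Modules), G.IsQuasicoherent →
      ExtVan U (closure (CohB1.support F ∩ (U : Set X))) G i →
      haveI := additive_homFunctor ((RB70.supp U).obj F)
      Mono ((NatTrans.rightDerived (toTor U F) i).app G) := by
  haveI := additive_homFunctor ((RB70.supp U).obj F)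
  haveI := preservesFiniteLimits_homFunctor F
  haveI := preservesFiniteLimits_homFunctor ((RB70.supp U).obj F)
  let D := supHom U F
  let D' := homFunctor ((RB70.supp U).obj F)
  haveI : PreservesFiniteLimits D := comp_preservesFiniteLimits _ _
  have h0nat : ∀ N : X.Modules, (NatTrans.rightDerived (toTor U F) 0).app N =
      D.rightDerivedZeroIsoSelf.hom.app N ≫ (toTor U F).app N ≫
        D'.rightDerivedZeroIsoSelf.inv.app N := fun N => by
    refine Eq.trans ?_ (congrArg (D.rightDerivedZeroIsoSelf.hom.app N ≫ ·)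
      (RelResolution.toRightDerivedZero_naturality (toTor U F) N))
    rw [← Category.assoc, Functor.rightDerivedZeroIsoSelf_hom_inv_id_app, Category.id_comp]
  induction i with
  | zero =>
    intro G hG h
    haveI : Mono ((toTor U F).app G) := mono_of_injective_stalkMapM _ fun x => by
      refine (injective_iff_map_eq_zero (stalkLinear ((toTor U F).app G) x)).2 fun a ha => ?_
      exact evalSup_eq_zero U hF G h x a ha
    rw [h0nat]
    infer_instance
  | succ n ih =>
    intro G hG h
    haveI := hG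
    obtain ⟨H, e, he, hH, hHinj⟩ := exists_qcoh_injective_hull G
    haveI := he
    haveI := hHinj
    let S : ShortComplex X.Modules := ShortComplex.mk e (cokernel.π e) (cokernel.condition e)
    have hS : S.ShortExact :=
      { exact := ShortComplex.exact_of_g_is_cokernel _ (cokernelIsCokernel e) }
    haveI : S.X₂.IsQuasicoherent := hH
    haveI : Injective S.X₂ := hHinj
    haveI : S.X₃.IsQuasicoherent := isQuasicoherent_cokernel e
    obtain ⟨Δ⟩ := RD97.nonempty_derivedLES D
    obtain ⟨Δ'⟩ := RD97.nonempty_derivedLES D'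
    let T := RD97.res S hS
    have hcomm : Δ.δ S hS n (n + 1) rfl ≫ (NatTrans.rightDerived (toTor U F) (n + 1)).app S.X₁ =
        (NatTrans.rightDerived (toTor U F) n).app S.X₃ ≫ Δ'.δ S hS n (n + 1) rfl := by
      rw [Δ.δ_eq S hS T, Δ'.δ_eq S hS T]
      exact delta_natTrans (toTor U F) T n (n + 1) rfl
    haveI : Epi (Δ.δ S hS n (n + 1) rfl) := (Δ.exact₁ S hS n (n + 1) rfl).epi_f
      ((D.isZero_rightDerived_obj_injective_succ n S.X₂).eq_of_tgt _ _)
    refine mono_of_injective_stalkMapM _ fun x => ?_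
    refine (injective_iff_map_eq_zero
      (stalkLinear ((NatTrans.rightDerived (toTor U F) (n + 1)).app G) x)).2 fun u hu => ?_
    obtain ⟨a, rfl⟩ := surjective_stalkMapM_of_epi (Δ.δ S hS n (n + 1) rfl) x u
    change stalkMapM ((NatTrans.rightDerived (toTor U F) (n + 1)).app S.X₁) x _ = 0 at hu
    rw [← stalkMapM_comp, hcomm, stalkMapM_comp] at hu
    have hexact := (Δ'.exact₃ S hS n (n + 1) rfl).map (DCK91.SP x)
    rw [ShortComplex.moduleCat_exact_iff] at hexact
    obtain ⟨b, hb⟩ := hexact _ hu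
    suffices ∃ c, stalkMapM ((D.rightDerived n).map S.g) x c = a by
      obtain ⟨c, rfl⟩ := this
      show stalkMapM (Δ.δ S hS n (n + 1) rfl) x _ = 0
      rw [← stalkMapM_comp, Δ.comp_δ S hS n (n + 1) rfl, stalkMapM_zero]
    cases n with
    | zero =>
      let z := D.rightDerivedZeroIsoSelf
      let z' := D'.rightDerivedZeroIsoSelf
      have h1 : stalkMapM ((toTor U F).app S.X₃) x (stalkMapM (z.hom.app S.X₃) x a) =
          stalkMapM (D'.map S.g) x (stalkMapM (z'.hom.app S.X₂) x b) := by
        have e0 : (NatTrans.rightDerived (toTor U F) 0).app S.X₃ ≫ z'.hom.app S.X₃ =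
            z.hom.app S.X₃ ≫ (toTor U F).app S.X₃ := by
          rw [h0nat]
          simp only [Category.assoc]
          rw [show D'.rightDerivedZeroIsoSelf.inv.app S.X₃ ≫ z'.hom.app S.X₃ = 𝟙 _ from
            z'.inv_hom_id_app _, Category.comp_id]
        have hb' : stalkMapM (z'.hom.app S.X₃) x (stalkMapM ((D'.rightDerived 0).map S.g) x b) =
            stalkMapM (z'.hom.app S.X₃) x
              (stalkMapM ((NatTrans.rightDerived (toTor U F) 0).app S.X₃) x a) :=
          congrArg _ hb
        rw [← stalkMapM_comp, ← stalkMapM_comp, ← z'.hom.naturality S.g, ← e0, stalkMapM_comp,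
          stalkMapM_comp]
        exact hb'.symm
      obtain ⟨c, hc⟩ := exists_lift_of_extVan U hF S hS h x _ _ h1
      refine ⟨stalkMapM (z.inv.app S.X₂) x c, ?_⟩
      have e : (z.inv.app S.X₂ ≫ (D.rightDerived 0).map S.g) = D.map S.g ≫ z.inv.app S.X₃ :=
        (z.inv.naturality S.g).symm
      rw [← stalkMapM_comp, e, stalkMapM_comp, hc, ← stalkMapM_comp, Iso.hom_inv_id_app, stalkMapM_id]
    | succ m =>
      refine ⟨0, ?_⟩
      haveI := ih S.X₃ inferInstance (extVan_shift U _ S hS m h)
      refine injective_stalkMapM_of_mono ((NatTrans.rightDerived (toTor U F) (m + 1)).app S.X₃) x ?_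
      have hz : IsZero ((D'.rightDerived (m + 1)).obj S.X₂) :=
        D'.isZero_rightDerived_obj_injective_succ m S.X₂
      haveI := ModuleCat.subsingleton_of_isZero ((DCK91.SP x).map_isZero hz)
      have hb0 : b = 0 := @Subsingleton.elim ((DCK91.SP x).obj _) this b 0
      have e0 : stalkMapM ((D.rightDerived (m + 1)).map S.g) x 0 = 0 := map_zero (stalkLinear _ x)
      rw [e0, show stalkMapM _ x (0 : ((D.rightDerived (m + 1)).obj S.X₃).presheaf.stalk x) = 0 from
        map_zero (stalkLinear _ x)]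
      rw [← show stalkMapM ((D'.rightDerived (m + 1)).map S.g) x b = _ from hb, hb0]
      exact (map_zero (stalkLinear _ x)).symm

end Groth.Agent.LC16.ExtZStalk
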