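import Groth.Agent.LC15.Equidim
import Groth.Agent.Sk62.StalkSk
import Groth.Agent.E4O.EquidimLocal
import Groth.Agent.Cyc90.FieldSetup
import Groth.Agent.AffNorm62.OpenTarget

/-! Fibres satisfying `(S_2)` at a point are equidimensional there. -/

set_option autoImplicit false

universe u

open CategoryTheory Limits AlgebraicGeometry IsLocalRing TopologicalSpace Topology

namespace Groth.Agent.LC16.FibreEquidim

variable {X Y : Scheme.{u}}

/-- The local rings of a scheme of finite type over a field are catenary. -/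
theorem isCatenary_stalk_of_field {K : Type u} [Field K] (g : X ⟶ Spec (CommRingCat.of K))
    [LocallyOfFiniteType g] (x : X) : CAlg.IsCatenary (X.presheaf.stalk x) := by
  obtain ⟨_, ⟨V, hV, rfl⟩, hxV, -⟩ :=
    X.isBasis_affineOpens.exists_subset_of_mem_open (Set.mem_univ x) isOpen_univ
  replace hV : IsAffineOpen V := hV
  replace hxV : x ∈ V := hxV
  have hle : V ≤ g ⁻¹ᵁ ⊤ := le_top
  let φ := g.appLE ⊤ V hle
  let ψ : K →+* Γ(X, V) := ((Scheme.ΓSpecIso (CommRingCat.of K)).inv ≫ φ).hom
  have hft : ψ.FiniteType :=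
    RingHom.FiniteType.comp (g.finiteType_appLE (isAffineOpen_top (Spec (CommRingCat.of K))) hV hle)
      (RingHom.FiniteType.of_surjective _
        ((Scheme.ΓSpecIso (CommRingCat.of K)).symm.commRingCatIsoToRingEquiv.surjective))
  let _ : Algebra K Γ(X, V) := ψ.toAlgebra
  have hcat := (Cyc90.isUniversallyCatenary_field K).2 Γ(X, V) hft
  let _ := TopCat.Presheaf.algebra_section_stalk X.presheaf ⟨x, hxV⟩
  have := hV.isLocalization_stalk ⟨x, hxV⟩
  exact CAlg1.isCatenary_of_isLocalization (hV.primeIdealOf ⟨x, hxV⟩).asIdeal.primeCompl hcat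

theorem fdeg_fiberToSpecResidueField (f : X ⟶ Y) [LocallyOfFiniteType f] (t : Y)
    (w : ↥(f.fiber t)) [LocallyOfFiniteType (f.fiberToSpecResidueField t)] :
    E4O.fdeg (f.fiberToSpecResidueField t) w = E4O.fdeg f (f.fiberι t w) := by
  let g := f.fiberToSpecResidueField t
  have h1 := E4O.dim_fibreClosure (f := g) w
  have h2 : g ⁻¹' {g w} = Set.univ := Set.eq_univ_of_forall fun a =>
    Subsingleton.elim (α := PrimeSpectrum (Y.residueField t)) _ _
  rw [h2, Set.inter_univ, E4O.dim_closure_fiber f t w] at h1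
  exact_mod_cast h1.symm

/-- All components of a fibre through a point where the fibre is `(S_2)` have the same dimension. -/
theorem fdeg_eq_fibreDimAt (f : X ⟶ Y) [LocallyOfFiniteType f] (y : X) (k : ℕ) (hk : 2 ≤ k)
    (hS : LocCoh.HasSk k ((f.fiber (f y)).presheaf.stalk (f.asFiber y))
      ((f.fiber (f y)).presheaf.stalk (f.asFiber y)))
    {z : X} (hz : z ⤳ y) (hfz : f z = f y) (hzmax : E4O.IsFibreMax f z) :
    ((E4O.fdeg f z : ℕ) : WithBot ℕ∞) = FlatMor.fibreDimAt f y := by
  obtain ⟨z₀, hz₀, hfz₀, hz₀max, hd, -⟩ := E4O.exists_isFibreMax_specializes f y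
  rw [hd]
  let t := f y
  let g := f.fiberToSpecResidueField t
  have hlft : LocallyOfFiniteType g :=
    MorphismProperty.of_isPullback (P := @LocallyOfFiniteType)
      (IsPullback.of_hasPullback f (Y.fromSpecResidueField t)) inferInstance
  have : IsLocallyNoetherian (f.fiber t) := LocallyOfFiniteType.isLocallyNoetherian g
  let F := f.fiber t
  let R := F.presheaf.stalk (f.asFiber y)
  have : IsNoetherianRing R := inferInstanceAs (IsNoetherianRing (F.presheaf.stalk (f.asFiber y)))
  have heq : EGA4.IsEquidim R := by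
    intro p hp
    refine LC15.Equidim.ringKrullDim_quotient_eq (@isCatenary_stalk_of_field (f.fiber t) (Y.residueField t) _ g hlft _) (fun P hP => ?_) p hp
    refine le_trans (le_min ?_ hP) ((CAlg1.hasSk_self_iff k).1 hS P.asIdeal)
    exact_mod_cast hk
  obtain ⟨C, ⟨q, hq⟩, hC⟩ := E4O.exists_chart g (f.asFiber y)
  have : IsLocallyNoetherian (Spec (Y.residueField t)) := inferInstance
  have := hC this
  have key : ∀ z : X, z ⤳ y → f z = f y → E4O.IsFibreMax f z →
      ∃ n : ℕ, q.asIdeal.height = (n : ℕ∞) ∧ E4O.fdeg f z = n + E4O.fdeg g (C.pt q) := by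
    intro z hz hfz hzmax
    obtain ⟨w, rfl⟩ := E4O.exists_fiberι_eq f hfz
    have hwy : w ⤳ f.asFiber y :=
      (E4O.specializes_fiberι_iff f t w (f.asFiber y)).1 (by rw [f.fiberι_asFiber]; exact hz)
    have hwmax : ∀ a, a ⤳ w → a = w := (E4O.isFibreMax_fiberι_iff f t w).1 hzmax
    rw [← fdeg_fiberToSpecResidueField f t w]
    rw [← hq] at hwy
    obtain ⟨m, rfl⟩ := hwy.mem_open C.isOpenEmbedding_pt.isOpen_range ⟨q, rfl⟩
    have hmq : m ≤ q := (C.specializes_iff _ _).1 hwy
    have hmin : IsMin m := (C.isMin_iff m).2 hwmax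
    have hrel : E4O.relHeight m q = q.asIdeal.height := (C.isEquidim_stalk_iff q).1 (hq.symm ▸ heq) m hmin hmq
    have hsub : PrimeSpectrum.comap (algebraMap C.A C.B) m = PrimeSpectrum.comap (algebraMap C.A C.B) q :=
      C.isOpenEmbedding_ptY.injective (Subsingleton.elim (α := PrimeSpectrum (Y.residueField t)) _ _)
    have h1 := C.relHeight_add_fdeg_le m q hmq
    have h2 := C.fdeg_le_relHeight_add m q hmq hsub
    have h0 : E4O.relHeight (PrimeSpectrum.comap (algebraMap C.A C.B) m)
        (PrimeSpectrum.comap (algebraMap C.A C.B) q) = 0 := by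
      rw [hsub, E4O.relHeight_eq le_rfl]
      exact Order.height_eq_zero.2 fun a _ => a.2
    have : IsNoetherianRing C.B := Algebra.FiniteType.isNoetherianRing C.A _
    obtain ⟨n, hn⟩ := E4O.height_lt_top q
    rw [hrel, hn, h0, zero_add] at h1
    rw [hrel, hn] at h2
    refine ⟨n, hn, ?_⟩
    norm_cast at h1 h2
    show E4O.fdeg g (C.pt m) = n + E4O.fdeg g (C.pt q)
    omega
  obtain ⟨n, hn, e1⟩ := key z hz hfz hzmax
  obtain ⟨n', hn', e2⟩ := key z₀ hz₀ hfz₀ hz₀max
  have : n = n' := by exact_mod_cast hn.symm.trans hn'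
  rw [e1, e2, this]

end Groth.Agent.LC16.FibreEquidim
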