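import Groth.Agent.LC16.DvrFibre
import Groth.Agent.EGA73.DvrPoints
import Groth.Agent.Grpd80.Components
import Groth.Agent.FlatMor68.FibreGeneric

/-! For a flat morphism, the components of the source through a point at which the fibre is `(S_1)`
and equidimensional have at least that dimension over the base. -/

set_option autoImplicit false

universe u

open CategoryTheory Limits AlgebraicGeometry IsLocalRing TopologicalSpace Topology TensorProduct

namespace Groth.Agent.LC16.FibreGeneric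

theorem fdeg_eq_of_isPullback {P X Y S : Scheme.{u}} {p : P ⟶ X} {s : P ⟶ Y} {f : X ⟶ S} {g : Y ⟶ S}
    [LocallyOfFiniteType f] (hsq : IsPullback p s f g) (a : P) (hmax : E4O.IsFibreMax s a) :
    E4O.fdeg s a = E4O.fdeg f (p a) := by
  have hp : hsq.isoPullback.hom ≫ pullback.fst f g = p := hsq.isoPullback_hom_fst
  have hs : hsq.isoPullback.hom ≫ pullback.snd f g = s := hsq.isoPullback_hom_snd
  have h := Cyc90.fdeg_snd_eq (f := f) (g := g) (hsq.isoPullback.hom a) (fun w _ h2 hsp => by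
    obtain ⟨w', rfl⟩ := (hsq.isoPullback.hom.homeomorph).surjective w
    have hsp' : w' ⤳ a := hsq.isoPullback.hom.homeomorph.isInducing.specializes_iff.1 hsp
    have : w' = a := hmax w' hsp' (by
      rw [← hs, Scheme.Hom.comp_apply, Scheme.Hom.comp_apply]
      exact h2)
    subst this
    rfl)
  rw [← E4O.fdeg_comp_openImmersion hsq.isoPullback.hom (pullback.snd f g) a,
    ← Scheme.Hom.comp_apply, hp, hs] at h
  exact h

/-- The affine case. -/
theorem le_fdeg_affine {A B : Type u} [CommRing A] [CommRing B] [IsNoetherianRing A] [Algebra A B]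
    [Module.Flat A B] [Algebra.FiniteType A B] (e k : ℕ) (hk : 1 ≤ k)
    (f : Spec (CommRingCat.of B) ⟶ Spec (CommRingCat.of A)) [LocallyOfFiniteType f]
    (hf : f = Spec.map (CommRingCat.ofHom (algebraMap A B)))
    (q : PrimeSpectrum B) (hS : q ∈ Sk62.locA (fun R _ _ => LocCoh.HasSk k R R) A B)
    (H1 : ∀ r : ↥(Spec (CommRingCat.of B)), r ⤳ (show ↥(Spec (CommRingCat.of B)) from q) → f r = f q →
      E4O.IsFibreMax f r → e ≤ E4O.fdeg f r)
    (m : ↥(Spec (CommRingCat.of B))) (hm : ∀ a, a ⤳ m → a = m)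
    (hmq : m ⤳ (show ↥(Spec (CommRingCat.of B)) from q)) : e ≤ E4O.fdeg f m := by
  by_cases hfm : f m = f q
  · exact H1 m hmq hfm fun a ha _ => hm a ha
  let X := Spec (CommRingCat.of B)
  let qX : X := q
  have : IsNoetherianRing B := Algebra.FiniteType.isNoetherianRing A B
  have : IsLocallyNoetherian X := inferInstance
  have hne : m ≠ qX := fun h => hfm (congrArg f h)
  obtain ⟨V, hV, h, hc, hg, -⟩ := E4O.exists_dvr_hom (Y := X) hmq hne (X.residueField m)
    ⟨∅, Subsingleton.elim _ _⟩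
  let g : Spec (CommRingCat.of V) ⟶ Spec (CommRingCat.of A) := h ≫ f
  let φ := Spec.preimage g
  let _ : Algebra A V := φ.hom.toAlgebra
  have hgφ : g = Spec.map (CommRingCat.ofHom (algebraMap A V)) := (Spec.map_preimage g).symm
  let B' := V ⊗[A] B
  let s : Spec (CommRingCat.of B') ⟶ Spec (CommRingCat.of V) :=
    Spec.map (CommRingCat.ofHom (algebraMap V B'))
  let p : Spec (CommRingCat.of B') ⟶ X :=
    Spec.map (CommRingCat.ofHom (Algebra.TensorProduct.includeRight (R := A) (A := V) (B := B)).toRingHom)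
  have hsq : IsPullback p s f g := by
    rw [hf, hgφ]
    exact (isPullback_SpecMap_of_isPushout _ _ _ _ (CommRingCat.isPushout_tensorProduct A V B)).flip
  let σ := hsq.lift h (𝟙 _) (by rw [Category.id_comp])
  have hσp : σ ≫ p = h := hsq.lift_fst _ _ _
  have hσs : σ ≫ s = 𝟙 _ := hsq.lift_snd _ _ _
  let c : Spec (CommRingCat.of V) := closedPoint V
  let η : Spec (CommRingCat.of V) := genericPoint (Spec (CommRingCat.of V))
  have hpσ : ∀ a, p (σ a) = h a := fun a => by rw [← Scheme.Hom.comp_apply, hσp]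
  have hsσ : ∀ a, s (σ a) = a := fun a => by rw [← Scheme.Hom.comp_apply, hσs]; rfl
  have : LocallyOfFiniteType s :=
    MorphismProperty.of_isPullback (P := @LocallyOfFiniteType) hsq inferInstance
  obtain ⟨w, hw, hsw, hwmax, -, -⟩ := E4O.exists_isFibreMax_specializes s (σ η)
  have hpw : p w = m := hm _ (by
    have := hw.map p.continuous
    rw [hpσ, hg] at this
    exact this)
  have hswη : s w = η := hsw.trans (hsσ η)
  have hηmin : ∀ a : Spec (CommRingCat.of V), a ⤳ η → a = η := fun a ha =>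
    ((genericPoint_specializes a).antisymm ha).eq.symm
  have hwmin : ∀ a, a ⤳ w → a = w := fun a ha => hwmax a ha (by
    have h1 := ha.map s.continuous
    rw [hswη] at h1 ⊢
    exact hηmin _ h1)
  have hwc : w ⤳ σ c := hw.trans ((genericPoint_specializes c).map σ.continuous)
  have hpc : p (σ c) = qX := (hpσ c).trans hc
  rw [← hpw, ← fdeg_eq_of_isPullback hsq w hwmax]
  refine DvrFibre.le_fdeg_of_dvr e s rfl (σ c) w
    (fun a ha => by
      obtain rfl : a = w := hwmin a ((PrimeSpectrum.le_iff_specializes a w).1 ha)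
      exact ha)
    ((PrimeSpectrum.le_iff_specializes _ _).2 hwc) (hsσ c) (fun r hr hsr hrmax => ?_) (fun v hv hsv => ?_)
  · rw [fdeg_eq_of_isPullback hsq r hrmax]
    have hfp : f (p r) = f qX := by
      have h1 : f (p r) = g (s r) := by rw [← Scheme.Hom.comp_apply, hsq.w]; rfl
      rw [h1]
      show g (s r) = _
      rw [show s r = s (σ c) from hsr, hsσ c]
      show (h ≫ f) c = _
      rw [Scheme.Hom.comp_apply, hc]
    refine H1 (p r) ((hr.map p.continuous).trans (specializes_of_eq hpc)) hfp ?_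
    obtain ⟨μ, hμ, -, -, hμp⟩ := E4O.exists_fibre_map_flat hsq (s r)
    obtain ⟨a, ha⟩ := E4O.exists_fiberι_eq s (rfl : s r = s r)
    have hpa : f.fiberι (g (s r)) (μ a) = p r := by rw [hμp, ha]
    rw [← hpa, E4O.isFibreMax_fiberι_iff]
    intro b hb
    obtain ⟨a', ha', rfl⟩ := Flat.generalizingMap μ hb
    have hamax : ∀ z, z ⤳ a → z = a := (E4O.isFibreMax_fiberι_iff s (s r) a).1 (ha.symm ▸ hrmax)
    rw [hamax a' ha']
  · let yc : PrimeSpectrum B' := σ c
    have hy : yc ∈ Sk62.locA (fun R _ _ => LocCoh.HasSk k R R) V B' := by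
      refine (Sk62.mem_locA_baseChange (Sk62.goodProp_hasSk k) yc).2 ?_
      have e : PrimeSpectrum.comap (Algebra.TensorProduct.includeRight (R := A) (A := V) (B := B)).toRingHom
          yc = q := hpc
      rw [e]; exact hS
    have hy' := (Sk62.mem_locus_chart (Sk62.goodProp_hasSk k) s (A := V) (B := B') (𝟙 _) (𝟙 _)
      (by simp [s]) (σ c)).1 hy
    refine le_trans ?_ ((Sk62.hasSk_fibre_iff s k _).1 hy' v hv hsv)
    exact min_le_min (by exact_mod_cast hk) le_rfl

/-- A maximal point of the source generizing a point where the fibre is `(S_1)` and equidimensional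
of dimension `e` has residue degree at least `e`. -/
theorem le_fdeg_of_isMax {Y T : Scheme.{u}} [IsLocallyNoetherian T] (f : Y ⟶ T) [Flat f]
    [LocallyOfFiniteType f] (e k : ℕ) (hk : 1 ≤ k) (y : Y)
    (hS : LocCoh.HasSk k ((f.fiber (f y)).presheaf.stalk (f.asFiber y))
      ((f.fiber (f y)).presheaf.stalk (f.asFiber y)))
    (H1 : ∀ z, z ⤳ y → f z = f y → E4O.IsFibreMax f z → e ≤ E4O.fdeg f z)
    {w : Y} (hw : w ⤳ y) (hwmax : ∀ a, a ⤳ w → a = w) : e ≤ E4O.fdeg f w := by
  obtain ⟨C, ⟨q, rfl⟩, hC⟩ := E4O.exists_chart f y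
  have := hC ‹_›
  obtain ⟨m, rfl⟩ := hw.mem_open C.isOpenEmbedding_pt.isOpen_range ⟨q, rfl⟩
  let h := Spec.map (CommRingCat.ofHom (algebraMap C.A C.B))
  have hpb : IsPullback (𝟙 _) h (C.e ≫ f) C.j :=
    IsPullback.of_horiz_isIso_mono ⟨by rw [Category.id_comp]; exact C.comm⟩
  have : Flat h := MorphismProperty.of_isPullback (P := @Flat) hpb inferInstance
  have hfl : Flat h := this
  have : LocallyOfFiniteType h := (HasRingHomProperty.Spec_iff (P := @LocallyOfFiniteType)).2
    (RingHom.finiteType_algebraMap.2 inferInstance)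
  have : Module.Flat C.A C.B :=
    RingHom.flat_algebraMap_iff.1 ((HasRingHomProperty.Spec_iff (P := @Flat)).1 hfl)
  have hdeg : ∀ a : PrimeSpectrum C.B, E4O.fdeg h a = E4O.fdeg f (C.pt a) := fun a =>
    calc E4O.fdeg h a = E4O.fdeg (h ≫ C.j) a := (AffNorm62.fdeg_comp_right_openImmersion h C.j a).symm
      _ = E4O.fdeg (C.e ≫ f) a := by rw [C.comm]
      _ = E4O.fdeg f (C.pt a) := E4O.fdeg_comp_openImmersion C.e f a
  rw [← hdeg]
  refine le_fdeg_affine e k hk h rfl q
    ((Sk62.mem_locus_chart (Sk62.goodProp_hasSk k) f C.e C.j C.comm.symm q).2 hS) (fun r hr hhr hrmax => ?_)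
    m ?_ (C.e.isOpenEmbedding.isInducing.specializes_iff.1 hw)
  · rw [hdeg]
    refine H1 _ (hr.map C.e.continuous) ?_ ((C.isFibreMax_iff r).2 fun r' hle hu => ?_)
    · rw [C.apply, C.apply]
      exact congrArg C.ptY hhr
    · exact hrmax r' ((PrimeSpectrum.le_iff_specializes _ _).1 hle) hu
  · intro a ha
    exact C.isOpenEmbedding_pt.injective (hwmax _ (ha.map C.e.continuous))

/-- The part of small fibre dimension does not accumulate at a point where the fibre is `(S_1)` and
equidimensional. -/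
theorem not_mem_closure_piece {Y T : Scheme.{u}} [IsLocallyNoetherian T] (f : Y ⟶ T) [Flat f]
    [LocallyOfFiniteType f] [LocallyOfFinitePresentation f] (e k : ℕ) (hk : 1 ≤ k) (y : Y)
    (hS : LocCoh.HasSk k ((f.fiber (f y)).presheaf.stalk (f.asFiber y))
      ((f.fiber (f y)).presheaf.stalk (f.asFiber y)))
    (H1 : ∀ z, z ⤳ y → f z = f y → E4O.IsFibreMax f z → e ≤ E4O.fdeg f z) :
    y ∉ closure (⋃ d < e, (FlatMor68.FibreGeneric.piece f d : Set Y)) := by
  intro hmem
  obtain ⟨C, ⟨q, rfl⟩, hC⟩ := E4O.exists_chart f y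
  have := hC ‹_›
  have : IsNoetherianRing C.B := Algebra.FiniteType.isNoetherianRing C.A _
  set O : Set Y := ⋃ d < e, (FlatMor68.FibreGeneric.piece f d : Set Y) with hOdef
  have hO : IsOpen O := isOpen_biUnion fun d _ => (FlatMor68.FibreGeneric.piece f d).2
  let M : Set (PrimeSpectrum C.B) := {m | IsMin m ∧ C.pt m ∈ O}
  have hM : M.Finite :=
    ((minimalPrimes.finite_of_isNoetherianRing C.B).preimage
      (fun a _ b _ h => PrimeSpectrum.ext h)).subset fun m hm => PrimeSpectrum.isMin_iff.1 hm.1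
  have hsub : C.pt ⁻¹' O ⊆ ⋃ m ∈ M, closure {m} := by
    intro a ha
    obtain ⟨m, hm, hma⟩ := Ideal.exists_minimalPrimes_le (I := ⊥) (J := a.asIdeal) bot_le
    let m' : PrimeSpectrum C.B := ⟨m, Ideal.minimalPrimes_isPrime hm⟩
    have hsp : m' ⤳ a := (PrimeSpectrum.le_iff_specializes m' a).1 hma
    exact Set.mem_iUnion₂.2 ⟨m', ⟨PrimeSpectrum.isMin_iff.2 hm,
      (hsp.map C.isOpenEmbedding_pt.continuous).mem_open hO ha⟩, specializes_iff_mem_closure.1 hsp⟩
  have hq : q ∈ closure (C.pt ⁻¹' O) := by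
    rw [← C.isOpenEmbedding_pt.isOpenMap.preimage_closure_eq_closure_preimage
      C.isOpenEmbedding_pt.continuous]
    exact hmem
  obtain ⟨m, ⟨hmin, hmO⟩, hmq⟩ := Set.mem_iUnion₂.1
    (closure_minimal hsub (hM.isClosed_biUnion fun _ _ => isClosed_closure) hq)
  have hmax := (C.isMin_iff m).1 hmin
  have hge := le_fdeg_of_isMax f e k hk _ hS H1
    ((specializes_iff_mem_closure.2 hmq).map C.isOpenEmbedding_pt.continuous) hmax
  obtain ⟨d, hd, hdm⟩ := Set.mem_iUnion₂.1 hmO
  have hfd := FlatMor68.FibreGeneric.fibreDimAt_of_mem_piece f hdm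
  rw [E4O.fibreDimAt_eq_fdeg (fun z hz _ => hmax z hz)] at hfd
  have : E4O.fdeg f (C.pt m) = d := by exact_mod_cast hfd
  omega

end Groth.Agent.LC16.FibreGeneric
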