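import Groth.Agent.Sk62.CMModScheme
import Groth.Agent.LC16.StalkMod
import Groth.Agent.LC16.FibreEquidim
import Groth.Agent.ConsProp93.Approx
import Groth.Agent.QCPull72.Support

/-! A flat module on the fibres: depth, dimension of the support, and their semicontinuity. -/

set_option autoImplicit false
set_option backward.isDefEq.respectTransparency.types false
set_option synthInstance.maxHeartbeats 200000
set_option maxHeartbeats 1000000

universe u

open CategoryTheory CategoryTheory.Limits AlgebraicGeometry TopologicalSpace Topology IsLocalRing TensorProduct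

namespace Groth.Agent.LC16.FibreMod

variable {X Y : Scheme.{u}}

/-- The depth at a point of the fibre of the module restricted to the fibre. -/
noncomputable def fd (f : X ⟶ Y) (F : X.Modules) (x : X) : ℕ∞ :=
  LocCoh.depth ((f.fiber (f x)).presheaf.stalk (f.asFiber x))
    (((Scheme.Modules.pullback (f.fiberι (f x))).obj F).presheaf.stalk (f.asFiber x))

/-- The dimension of the support at a point of the fibre of the module restricted to the fibre. -/
noncomputable def fsd (f : X ⟶ Y) (F : X.Modules) (x : X) : WithBot ℕ∞ :=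
  Module.supportDim ((f.fiber (f x)).presheaf.stalk (f.asFiber x))
    (((Scheme.Modules.pullback (f.fiberι (f x))).obj F).presheaf.stalk (f.asFiber x))

theorem isLocallyNoetherian_fiber (f : X ⟶ Y) [LocallyOfFiniteType f] (t : Y) :
    IsLocallyNoetherian (f.fiber t) := by
  have : LocallyOfFiniteType (f.fiberToSpecResidueField t) :=
    MorphismProperty.of_isPullback (P := @LocallyOfFiniteType)
      (IsPullback.of_hasPullback f (Y.fromSpecResidueField t)) inferInstance
  exact LocallyOfFiniteType.isLocallyNoetherian (f.fiberToSpecResidueField t)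

theorem isCoh_pullback_fiberι (f : X ⟶ Y) [LocallyOfFiniteType f] (F : X.Modules) [CohB1.IsFP F] (t : Y) :
    Coh.IsCoh ((Scheme.Modules.pullback (f.fiberι t)).obj F) := by
  have := isLocallyNoetherian_fiber f t
  exact ConsProp93.isCoh_pullback_fp (f.fiberι t) F

theorem mem_support_fibre_iff (f : X ⟶ Y) (F : X.Modules) [CohB1.IsFP F] (t : Y) (w : ↥(f.fiber t)) :
    w ∈ CohB1.support ((Scheme.Modules.pullback (f.fiberι t)).obj F) ↔ f.fiberι t w ∈ CohB1.support F := by
  rw [QCPull72.support_pullback]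
  rfl

/-- The invariants at a point of a fibre only depend on the point of the source. -/
theorem fibre_invariants (f : X ⟶ Y) (F : X.Modules) (t : Y) (w : ↥(f.fiber t)) :
    LocCoh.depth ((f.fiber t).presheaf.stalk w)
        (((Scheme.Modules.pullback (f.fiberι t)).obj F).presheaf.stalk w) = fd f F (f.fiberι t w) ∧
      Module.supportDim ((f.fiber t).presheaf.stalk w)
        (((Scheme.Modules.pullback (f.fiberι t)).obj F).presheaf.stalk w) = fsd f F (f.fiberι t w) := by
  have key : ∀ (t : Y) (x : X) (hy : f x = t) (w : ↥(f.fiber t)) (hw : f.fiberι t w = x),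
      LocCoh.depth ((f.fiber t).presheaf.stalk w)
          (((Scheme.Modules.pullback (f.fiberι t)).obj F).presheaf.stalk w) = fd f F x ∧
        Module.supportDim ((f.fiber t).presheaf.stalk w)
          (((Scheme.Modules.pullback (f.fiberι t)).obj F).presheaf.stalk w) = fsd f F x := by
    intro t x hy w hw
    subst hy
    have : w = f.asFiber x :=
      (E4O.isEmbedding_fiberι f (f x)).injective (hw.trans (f.fiberι_asFiber x).symm)
    rw [this]
    exact ⟨rfl, rfl⟩
  exact key t _ (E4O.apply_fiberι f t w) w rfl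

theorem subsingleton_of_notMem (f : X ⟶ Y) (F : X.Modules) [CohB1.IsFP F] {x : X} (hx : x ∉ CohB1.support F) :
    Subsingleton (((Scheme.Modules.pullback (f.fiberι (f x))).obj F).presheaf.stalk (f.asFiber x)) := by
  by_contra h
  have h1 := (mem_support_fibre_iff f F (f x) (f.asFiber x)).1 h
  rw [f.fiberι_asFiber] at h1
  exact hx h1

theorem fd_of_notMem (f : X ⟶ Y) [LocallyOfFiniteType f] (F : X.Modules) [CohB1.IsFP F] {x : X}
    (hx : x ∉ CohB1.support F) : fd f F x = ⊤ := by
  have := subsingleton_of_notMem f F hx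
  have := isLocallyNoetherian_fiber f (f x)
  exact EGA4Alg4.depth_of_subsingleton

theorem fsd_of_notMem (f : X ⟶ Y) (F : X.Modules) [CohB1.IsFP F] {x : X}
    (hx : x ∉ CohB1.support F) : fsd f F x = ⊥ := by
  have := subsingleton_of_notMem f F hx
  exact Module.supportDim_eq_bot_of_subsingleton _ _

/-- Dimension of the generizations inside a closed subset of a fibre. -/
theorem exists_dim_generizations (f : X ⟶ Y) [LocallyOfFiniteType f] (t : Y) {K : Set ↥(f.fiber t)}
    (hK : IsClosed K) {w : ↥(f.fiber t)} (hw : w ∈ K) :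
    ∃ k : ℕ, topologicalKrullDim ↥{a : ↥(f.fiber t) | a ∈ K ∧ a ⤳ w} = (k : ℕ) ∧
      (∀ a ∈ K, a ⤳ w → E4O.fdeg f (f.fiberι t a) ≤ k + E4O.fdeg f (f.fiberι t w)) ∧
      ∃ a ∈ K, a ⤳ w ∧ E4O.fdeg f (f.fiberι t a) = k + E4O.fdeg f (f.fiberι t w) := by
  let g := f.fiberToSpecResidueField t
  have : LocallyOfFiniteType g :=
    MorphismProperty.of_isPullback (P := @LocallyOfFiniteType)
      (IsPullback.of_hasPullback f (Y.fromSpecResidueField t)) inferInstance
  have := isLocallyNoetherian_fiber f t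
  let I := Scheme.IdealSheafData.vanishingIdeal ⟨K, hK⟩
  let i := I.subschemeι
  have hr : Set.range i = K := by
    rw [Scheme.IdealSheafData.range_subschemeι, Scheme.IdealSheafData.coe_support_vanishingIdeal]
    exact rfl
  let h := i ≫ g
  have hdeg : ∀ v, E4O.fdeg h v = E4O.fdeg f (f.fiberι t (i v)) := fun v =>
    (AffNorm62.fdeg_comp_eq_of_quasiFiniteAt i g v (i.quasiFiniteAt v)).trans
      (FibreEquidim.fdeg_fiberToSpecResidueField f t (i v))
  obtain ⟨v, rfl⟩ := hr.ge hw
  obtain ⟨k, hk, hD⟩ := CM62.exists_fibre_dim h v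
  obtain ⟨z, hz, hfz, hzd, hzmax, -⟩ := E4O.exists_fibreDimAt_eq h v
  rw [hzd] at hD
  have hD' : E4O.fdeg h z = k + E4O.fdeg h v := by exact_mod_cast hD
  have hsing : ∀ a b : ↥(Spec (Y.residueField t)), a = b := fun a b =>
    Subsingleton.elim (α := PrimeSpectrum (Y.residueField t)) a b
  refine ⟨k, ?_, fun a ha hav => ?_, i z, hr.le ⟨z, rfl⟩, hz.map i.continuous, ?_⟩
  · rw [← hk, ← E4O.topologicalKrullDim_generizations]
    have he : IsEmbedding (fun a => i (h.fiberι (h v) a)) :=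
      i.isEmbedding.comp (E4O.isEmbedding_fiberι h (h v))
    have himg : (fun a => i (h.fiberι (h v) a)) '' {a | a ⤳ h.asFiber v} =
        {a : ↥(f.fiber t) | a ∈ K ∧ a ⤳ i v} := by
      ext b
      constructor
      · rintro ⟨a, ha, rfl⟩
        refine ⟨hr.le ⟨_, rfl⟩, ?_⟩
        have h1 := ((E4O.specializes_fiberι_iff h (h v) a (h.asFiber v)).2 ha).map i.continuous
        rwa [h.fiberι_asFiber] at h1
      · rintro ⟨hb, hbv⟩
        obtain ⟨b', rfl⟩ := hr.ge hb
        obtain ⟨a, rfl⟩ := E4O.exists_fiberι_eq h (hsing (h b') (h v))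
        refine ⟨a, (E4O.specializes_fiberι_iff h (h v) a (h.asFiber v)).1 ?_, rfl⟩
        rw [h.fiberι_asFiber]
        exact i.isEmbedding.isInducing.specializes_iff.1 hbv
    rw [← himg]
    exact (IsHomeomorph.topologicalKrullDim_eq _ (he.homeomorphImage _).isHomeomorph).symm
  · obtain ⟨a', rfl⟩ := hr.ge ha
    rw [← hdeg, ← hdeg, ← hD']
    exact hzmax a' (i.isEmbedding.isInducing.specializes_iff.1 hav) (hsing _ _)
  · rw [← hdeg, ← hdeg, hD']

/-- The dimension of the support on a fibre, in terms of the degrees of the generizations. -/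
theorem exists_fsd_eq (f : X ⟶ Y) [LocallyOfFiniteType f] (F : X.Modules) [CohB1.IsFP F] {x : X}
    (hx : x ∈ CohB1.support F) :
    ∃ k : ℕ, fsd f F x = (k : ℕ) ∧
      (∀ z, z ⤳ x → f z = f x → z ∈ CohB1.support F → E4O.fdeg f z ≤ k + E4O.fdeg f x) ∧
      ∃ z, z ⤳ x ∧ f z = f x ∧ z ∈ CohB1.support F ∧ E4O.fdeg f z = k + E4O.fdeg f x := by
  let G := (Scheme.Modules.pullback (f.fiberι (f x))).obj F
  have := isLocallyNoetherian_fiber f (f x)
  have hG := isCoh_pullback_fiberι f F (f x)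
  have := hG.2
  have hwx : f.fiberι (f x) (f.asFiber x) = x := f.fiberι_asFiber x
  obtain ⟨k, hk, hle, a, ha, hax, hak⟩ := exists_dim_generizations f (f x) (QC70.isClosed_support G)
    (w := f.asFiber x) ((mem_support_fibre_iff f F _ _).2 (by rw [hwx]; exact hx))
  rw [hwx] at hle hak
  refine ⟨k, ?_, fun z hz hfz hzs => ?_, f.fiberι (f x) a, ?_, E4O.apply_fiberι f _ a,
    (mem_support_fibre_iff f F _ a).1 ha, hak⟩
  · rw [fsd, E4O.supportDim_stalk_eq_dim_generizations G hG, ← hk]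
    rfl
  · obtain ⟨b, rfl⟩ := E4O.exists_fiberι_eq f hfz
    refine hle b ((mem_support_fibre_iff f F _ b).2 hzs) ?_
    rw [← E4O.specializes_fiberι_iff f (f x), hwx]
    exact hz
  · have := (E4O.specializes_fiberι_iff f (f x) a (f.asFiber x)).2 hax
    rwa [hwx] at this

/-- The fibre module in a chart. -/
theorem exists_sections_equiv (f : X ⟶ Y) [LocallyOfFiniteType f] (F : X.Modules) [CohB1.IsFP F]
    {V : Y.Opens} (hV : IsAffineOpen V) {W : X.Opens} (hW : IsAffineOpen W) (hle : W ≤ f ⁻¹ᵁ V)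
    (y : Y) (z : ↥(f.fiber y)) (hz : f.fiberι y z ∈ W) :
    (letI := (f.appLE V W hle).hom.toAlgebra
     LocCoh.depth (RelPd52.fibreRing Γ(Y, V) (hW.primeIdealOf ⟨f.fiberι y z, hz⟩))
        (Sk62.fibreMod Γ(Y, V) Γ(F, W) (hW.primeIdealOf ⟨f.fiberι y z, hz⟩)) =
      LocCoh.depth ((f.fiber y).presheaf.stalk z)
        (((Scheme.Modules.pullback (f.fiberι y)).obj F).presheaf.stalk z)) := by
  let x := f.fiberι y z
  let q := hW.primeIdealOf ⟨x, hz⟩
  let p := hV.primeIdealOf ⟨f x, hle hz⟩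
  letI : Algebra Γ(Y, V) Γ(X, W) := (f.appLE V W hle).hom.toAlgebra
  have hqp : q.asIdeal.under Γ(Y, V) = p.asIdeal :=
    congrArg PrimeSpectrum.asIdeal (IsAffineOpen.comap_primeIdealOf_appLE V hV W hW hle hz)
  let O := X.presheaf.stalk x
  let C' := (f.fiber y).presheaf.stalk z
  letI : Algebra O C' := ((f.fiberι y).stalkMap z).hom.toAlgebra
  letI : Algebra Γ(X, W) O := (X.presheaf.germ W x hz).hom.toAlgebra
  letI : Algebra Γ(X, W) C' := ((algebraMap O C').comp (algebraMap Γ(X, W) O)).toAlgebra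
  haveI : IsScalarTower Γ(X, W) O C' := IsScalarTower.of_algebraMap_eq fun _ => rfl
  haveI : IsLocalization.AtPrime O q.asIdeal := hW.isLocalization_stalk ⟨x, hz⟩
  letI : Algebra Γ(Y, V) (Y.presheaf.stalk (f x)) := (Y.presheaf.germ V (f x) (hle hz)).hom.toAlgebra
  haveI : IsLocalization.AtPrime (Y.presheaf.stalk (f x)) p.asIdeal := hV.isLocalization_stalk ⟨f x, hle hz⟩
  let L := Localization.AtPrime q.asIdeal
  let ψ : L ≃ₐ[Γ(X, W)] O := IsLocalization.algEquiv q.asIdeal.primeCompl L O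
  let φ : L →ₐ[Γ(X, W)] C' := (IsScalarTower.toAlgHom Γ(X, W) O C').comp ψ.toAlgHom
  have hφ : Function.Surjective φ :=
    (FlatMor68.FibreStalk.fiberι_stalkMap_surjective f y z).comp ψ.surjective
  have hker : RingHom.ker φ = (q.asIdeal.under Γ(Y, V)).map (algebraMap Γ(Y, V) L) := by
    have h1 : RingHom.ker φ = ((maximalIdeal (Y.presheaf.stalk (f x))).map (f.stalkMap x).hom).comap
        ψ.toRingEquiv.toRingHom := by
      rw [← FlatMor68.FibreStalk.ker_fiberι_stalkMap f y z]
      rfl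
    rw [h1, hqp, ← IsLocalization.AtPrime.map_eq_maximalIdeal p.asIdeal (Y.presheaf.stalk (f x))]
    refine Eq.trans (congrArg (Ideal.comap ψ.toRingEquiv.toRingHom) (?_ : _ =
      (p.asIdeal.map (algebraMap Γ(Y, V) L)).map ψ.toRingEquiv.toRingHom))
      (Ideal.comap_map_of_bijective _ ψ.bijective)
    rw [Ideal.map_map, Ideal.map_map]
    congr 1
    refine RingHom.ext fun a => ?_
    show (f.stalkMap x).hom (Y.presheaf.germ V (f x) (hle hz) a) = ψ (algebraMap Γ(Y, V) L a)
    rw [IsScalarTower.algebraMap_apply Γ(Y, V) Γ(X, W) L, ψ.commutes,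
      FlatMor68.FlatSections.stalkMap_germ_appLE f hle hz a]
    rfl
  let C := RelPd52.fibreRing Γ(Y, V) q
  let e : C ≃ₐ[Γ(X, W)] C' := (Ideal.quotientEquivAlgOfEq Γ(X, W) hker.symm).trans
    (Ideal.quotientKerAlgEquivOfSurjective hφ)
  let M := Γ(F, W)
  letI := QC70.stalkModule F hz
  haveI : IsScalarTower Γ(X, W) O (F.presheaf.stalk x) := IsScalarTower.of_algebraMap_smul fun _ _ => rfl
  haveI := QC70.isLocalizedModule_germ (QC70.isLocAt_of_isQuasicoherent F hW) hW hz
  let E₁ : O ⊗[Γ(X, W)] M ≃ₗ[O] F.presheaf.stalk x := (IsLocalizedModule.isBaseChange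
    q.asIdeal.primeCompl O (QC70.germLinear F hz)).equiv
  obtain ⟨E₀⟩ := FlatMor68.PullbackStalk.nonempty_stalkPullbackEquiv (f.fiberι y) F z
  let E₂ : ((Scheme.Modules.pullback (f.fiberι y)).obj F).presheaf.stalk z ≃ₗ[C'] C' ⊗[Γ(X, W)] M :=
    E₀ ≪≫ₗ LinearEquiv.baseChange O C' _ _ E₁.symm ≪≫ₗ
      AlgebraTensorModule.cancelBaseChange Γ(X, W) O C' C' M
  let E₃ : Sk62.fibreMod Γ(Y, V) M q ≃ₗ[Γ(X, W)] C' ⊗[Γ(X, W)] M :=
    TensorProduct.congr e.toLinearEquiv (LinearEquiv.refl _ _)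
  let E : Sk62.fibreMod Γ(Y, V) M q ≃+ ((Scheme.Modules.pullback (f.fiberι y)).obj F).presheaf.stalk z :=
    E₃.toAddEquiv.trans E₂.symm.toAddEquiv
  have hE : ∀ (r : C) (m : Sk62.fibreMod Γ(Y, V) M q), E (r • m) = e r • E m := fun r m => by
    show E₂.symm (E₃ (r • m)) = e r • E₂.symm (E₃ m)
    rw [← E₂.symm.map_smul]
    congr 1
    induction m using TensorProduct.induction_on with
    | zero => simp
    | add a b ha hb => simp only [smul_add, map_add, ha, hb]
    | tmul c m => simp [E₃, TensorProduct.smul_tmul']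
  haveI := isLocallyNoetherian_fiber f y
  haveI : IsNoetherianRing C := isNoetherianRing_of_ringEquiv C' e.toRingEquiv.symm
  haveI : Module.FinitePresentation Γ(X, W) M := Props58.LocFree.finitePresentation_sections F hW
  exact (StalkMod.invariants_of_semilinear e.toRingEquiv _ _ E hE).1

/-- In a chart, depth plus degree is `N` minus the projective dimension. -/
theorem exists_depth_add_fdeg {A B : Type u} [CommRing A] [CommRing B] [Algebra A B] {N : ℕ}
    [Algebra (MvPolynomial (ULift.{u} (Fin N)) A) B]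
    [IsScalarTower A (MvPolynomial (ULift.{u} (Fin N)) A) B]
    (hs : Function.Surjective (algebraMap (MvPolynomial (ULift.{u} (Fin N)) A) B))
    (M : Type u) [AddCommGroup M] [Module B M] [Module (MvPolynomial (ULift.{u} (Fin N)) A) M]
    [IsScalarTower (MvPolynomial (ULift.{u} (Fin N)) A) B M] [Module.Finite B M] [Algebra.FiniteType A B]
    (q : PrimeSpectrum B) (hq : q ∈ Module.support B M) :
    ∃ n e : ℕ, LocCoh.depth (RelPd52.fibreRing A q) (Sk62.fibreMod A M q) = (n : ℕ∞) ∧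
      RelPd52.fibrePd A M (PrimeSpectrum.comap (algebraMap (MvPolynomial (ULift.{u} (Fin N)) A) B) q) =
        (e : WithBot ℕ∞) ∧
      n + E4O.fdeg (Spec.map (CommRingCat.ofHom (algebraMap A B))) q + e = N := by
  let Q := PrimeSpectrum.comap (algebraMap (MvPolynomial (ULift.{u} (Fin N)) A) B) q
  let R := RelPd52.fibreRing A Q
  let C := RelPd52.fibreRing A q
  obtain ⟨hreg, d', hd', hsum⟩ := Sk62.polynomial_data A N Q
  obtain ⟨φ, hφ, ⟨E⟩⟩ := Sk62.exists_fibreMod_equiv (A := A) hs M q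
  let _ : Algebra R C := φ.toAlgebra
  let _ : Module R (Sk62.fibreMod A M q) := Module.compHom _ φ
  have : Module.Finite R C := Module.Finite.of_surjective (Algebra.linearMap R C) hφ
  have : IsLocalHom (algebraMap R C) := IsLocalHom.of_surjective _ hφ
  have : IsNoetherianRing C := isNoetherianRing_of_surjective R C φ hφ
  have : IsScalarTower R C (Sk62.fibreMod A M q) := IsScalarTower.of_algebraMap_smul fun r z => rfl
  have : Module.Finite R (Sk62.fibreMod A M q) := Module.Finite.trans C _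
  have hne : Nontrivial (Sk62.fibreMod A M q) := by
    rw [← not_subsingleton_iff_nontrivial, Sk62.subsingleton_fibreMod_iff, not_not]
    exact hq
  obtain ⟨d, e, n, hd, hn, he, hne'⟩ := E4O.depth_add_pd_eq_dim R (Sk62.fibreMod A M q)
  have hdd : d = d' := by exact_mod_cast hd.symm.trans hd'
  let π := 𝔸(ULift.{u} (Fin N); Spec (CommRingCat.of A)) ↘ Spec (CommRingCat.of A)
  let h := Spec.map (CommRingCat.ofHom (algebraMap A B))
  let i : Spec (CommRingCat.of B) ⟶ 𝔸(ULift.{u} (Fin N); Spec (CommRingCat.of A)) :=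
    Spec.map (CommRingCat.ofHom (algebraMap (MvPolynomial (ULift.{u} (Fin N)) A) B)) ≫
      (AffineSpace.SpecIso (ULift.{u} (Fin N)) (CommRingCat.of A)).inv
  have : IsClosedImmersion
      (Spec.map (CommRingCat.ofHom (algebraMap (MvPolynomial (ULift.{u} (Fin N)) A) B))) :=
    IsClosedImmersion.spec_of_surjective _ hs
  have : IsClosedImmersion i := inferInstance
  have hih : i ≫ π = h := by
    simp only [i, π, h, Category.assoc, AffineSpace.SpecIso_inv_over, ← Spec.map_comp]
    congr 1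
    ext a
    exact (IsScalarTower.algebraMap_apply A (MvPolynomial (ULift.{u} (Fin N)) A) B a).symm
  have hdeg : E4O.fdeg h q = E4O.fdeg π (i q) := by
    rw [← hih]
    exact AffNorm62.fdeg_comp_eq_of_quasiFiniteAt i π q (i.quasiFiniteAt q)
  have hsum' : d' + E4O.fdeg π (i q) = N := hsum
  refine ⟨n, e, (EGA4Alg4.depth_eq_of_finite (A := R) (B := C) (Sk62.fibreMod A M q)).symm.trans hn, ?_, ?_⟩
  · rw [← he]
    exact projectiveDimension_eq_of_iso E.toModuleIso
  · show n + E4O.fdeg h q + e = N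
    omega

/-- Depth plus degree on the fibres of a flat module is lower semicontinuous. -/
theorem isOpen_le_fd_add_fdeg (f : X ⟶ Y) [LocallyOfFinitePresentation f] (F : X.Modules)
    (hF : CohB1.IsFP F) (hflat : FlatMod.IsFlatOver f F) (d : ℕ) :
    IsOpen {x : X | (d : ℕ∞) ≤ fd f F x + (E4O.fdeg f x : ℕ∞)} := by
  haveI := hF
  rw [isOpen_iff_forall_mem_open]
  intro x hx
  by_cases hxs : x ∈ CohB1.support F
  swap
  · exact ⟨(CohB1.support F)ᶜ, fun a ha => by
      show (d : ℕ∞) ≤ fd f F a + _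
      rw [fd_of_notMem f F ha, top_add]; exact le_top, (QC70.isClosed_support F).isOpen_compl, hxs⟩
  obtain ⟨V, hV, hyV, -⟩ := exists_isAffineOpen_mem_and_subset (X := Y) (x := f x) (U := ⊤) trivial
  obtain ⟨W, hW, hxW, hWV⟩ := exists_isAffineOpen_mem_and_subset (X := X) (x := x) (U := f ⁻¹ᵁ V) hyV
  have hle : W ≤ f ⁻¹ᵁ V := fun a ha => hWV ha
  let φ := f.appLE V W hle
  algebraize [φ.hom]
  have hfp : Algebra.FinitePresentation Γ(Y, V) Γ(X, W) :=
    LocallyOfFinitePresentation.finitePresentation_appLE f hV hW hle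
  let M := Γ(F, W)
  haveI : Module.FinitePresentation Γ(X, W) M := Props58.LocFree.finitePresentation_sections F hW
  letI : Module Γ(Y, V) M := Module.compHom _ φ.hom
  haveI : IsScalarTower Γ(Y, V) Γ(X, W) M := IsScalarTower.of_algebraMap_smul fun _ _ => rfl
  haveI : Module.Flat Γ(Y, V) M := FlatMor68.FlatSections.flat_sections f hle hW hV
    (QC70.isLocAt_of_isQuasicoherent F hW) fun a _ => hflat a
  obtain ⟨(ι : Type u), _, π, hπ, hker⟩ := (Algebra.FinitePresentation.iff_quotient_mvPolynomial'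
    (R := Γ(Y, V)) (A := Γ(X, W))).1 hfp
  let N := Fintype.card ι
  let σ : ULift.{u} (Fin N) ≃ ι := Equiv.ulift.trans (Fintype.equivFin ι).symm
  let π' : MvPolynomial (ULift.{u} (Fin N)) Γ(Y, V) →ₐ[Γ(Y, V)] Γ(X, W) :=
    π.comp (MvPolynomial.renameEquiv Γ(Y, V) σ).toAlgHom
  let _ := π'.toRingHom.toAlgebra
  have : IsScalarTower Γ(Y, V) (MvPolynomial (ULift.{u} (Fin N)) Γ(Y, V)) Γ(X, W) :=
    IsScalarTower.of_algebraMap_eq fun a => (π'.commutes a).symm
  have hs : Function.Surjective (algebraMap (MvPolynomial (ULift.{u} (Fin N)) Γ(Y, V)) Γ(X, W)) :=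
    hπ.comp (MvPolynomial.renameEquiv Γ(Y, V) σ).surjective
  have : Module.FinitePresentation (MvPolynomial (ULift.{u} (Fin N)) Γ(Y, V)) Γ(X, W) := by
    refine Module.finitePresentation_of_surjective
      (Algebra.linearMap (MvPolynomial (ULift.{u} (Fin N)) Γ(Y, V)) Γ(X, W)) hs ?_
    exact Algebra.FinitePresentation.ker_fG_of_surjective π' hs
  letI : Module (MvPolynomial (ULift.{u} (Fin N)) Γ(Y, V)) M := Module.compHom _ π'.toRingHom
  haveI : IsScalarTower (MvPolynomial (ULift.{u} (Fin N)) Γ(Y, V)) Γ(X, W) M :=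
    IsScalarTower.of_algebraMap_smul fun _ _ => rfl
  haveI : IsScalarTower Γ(Y, V) (MvPolynomial (ULift.{u} (Fin N)) Γ(Y, V)) M :=
    IsScalarTower.of_algebraMap_smul fun a m => by
      show π' (algebraMap Γ(Y, V) _ a) • m = φ.hom a • m
      rw [π'.commutes]
      rfl
  haveI : Module.FinitePresentation (MvPolynomial (ULift.{u} (Fin N)) Γ(Y, V)) M :=
    Module.FinitePresentation.trans (MvPolynomial (ULift.{u} (Fin N)) Γ(Y, V)) M Γ(X, W)
  have := hV.isOpenImmersion_fromSpec
  have := hW.isOpenImmersion_fromSpec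
  have : LocallyOfFiniteType (Spec.map (CommRingCat.ofHom (algebraMap Γ(Y, V) Γ(X, W)))) :=
    (HasRingHomProperty.Spec_iff (P := @LocallyOfFiniteType)).2 (RingHom.finiteType_algebraMap.2 inferInstance)
  have key : ∀ (a : X) (ha : a ∈ W), a ∈ CohB1.support F → ∃ n e : ℕ,
      fd f F a = (n : ℕ∞) ∧
      RelPd52.fibrePd Γ(Y, V) M (PrimeSpectrum.comap
        (algebraMap (MvPolynomial (ULift.{u} (Fin N)) Γ(Y, V)) Γ(X, W)) (hW.primeIdealOf ⟨a, ha⟩)) =
          (e : WithBot ℕ∞) ∧
      n + E4O.fdeg f a + e = N := by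
    intro a ha has
    have hdep := exists_sections_equiv f F hV hW hle (f a) (f.asFiber a) (by rw [f.fiberι_asFiber]; exact ha)
    obtain ⟨n, e, hn, he, hsum⟩ := exists_depth_add_fdeg (A := Γ(Y, V)) hs M (hW.primeIdealOf ⟨a, ha⟩)
      ((QCSupp72.mem_support_iff F hW ha).2 has)
    have hprime : hW.primeIdealOf ⟨f.fiberι (f a) (f.asFiber a), by rw [f.fiberι_asFiber]; exact ha⟩ =
        hW.primeIdealOf ⟨a, ha⟩ := congrArg hW.primeIdealOf (Subtype.ext (f.fiberι_asFiber a))
    rw [hprime] at hdep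
    refine ⟨n, e, hdep.symm.trans hn, he, ?_⟩
    have hdeg : E4O.fdeg (Spec.map (CommRingCat.ofHom (algebraMap Γ(Y, V) Γ(X, W)))) (hW.primeIdealOf ⟨a, ha⟩) =
        E4O.fdeg f a := by
      let h := Spec.map (CommRingCat.ofHom (algebraMap Γ(Y, V) Γ(X, W)))
      have hcomm : h ≫ hV.fromSpec = hW.fromSpec ≫ f :=
        IsAffineOpen.SpecMap_appLE_fromSpec f hV hW hle
      calc E4O.fdeg h (hW.primeIdealOf ⟨a, ha⟩)
          = E4O.fdeg (h ≫ hV.fromSpec) (hW.primeIdealOf ⟨a, ha⟩) :=
            (AffNorm62.fdeg_comp_right_openImmersion h hV.fromSpec _).symm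
        _ = E4O.fdeg (hW.fromSpec ≫ f) (hW.primeIdealOf ⟨a, ha⟩) := by rw [hcomm]
        _ = E4O.fdeg f (hW.fromSpec (hW.primeIdealOf ⟨a, ha⟩)) :=
            E4O.fdeg_comp_openImmersion hW.fromSpec f _
        _ = E4O.fdeg f a := by rw [hW.fromSpec_primeIdealOf]
    rw [hdeg] at hsum
    exact hsum
  obtain ⟨n, e, hn, he, hsum⟩ := key x hxW hxs
  let c := PrimeSpectrum.comap (algebraMap (MvPolynomial (ULift.{u} (Fin N)) Γ(Y, V)) Γ(X, W))
  let S : Set ↥(W : Scheme.{u}) := hW.isoSpec.hom ⁻¹'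
    (c ⁻¹' {Q | RelPd52.fibrePd Γ(Y, V) M Q < ((e + 1 : ℕ) : WithBot ℕ∞)})
  refine ⟨W.ι '' S, ?_, W.ι.isOpenEmbedding.isOpenMap _
    (((RelPd52.isOpen_fibrePd_lt (e + 1) M).preimage (PrimeSpectrum.continuous_comap _)).preimage
      hW.isoSpec.hom.continuous), ⟨x, hxW⟩, ?_, rfl⟩
  · rintro _ ⟨⟨a, ha⟩, haS, rfl⟩
    show (d : ℕ∞) ≤ fd f F a + (E4O.fdeg f a : ℕ∞)
    by_cases has : a ∈ CohB1.support F
    swap
    · rw [fd_of_notMem f F has, top_add]; exact le_top
    obtain ⟨n', e', hn', he', hsum'⟩ := key a ha has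
    have h1 : RelPd52.fibrePd Γ(Y, V) M (c (hW.primeIdealOf ⟨a, ha⟩)) < ((e + 1 : ℕ) : WithBot ℕ∞) := haS
    rw [he'] at h1
    have h2 : e' < e + 1 := by exact_mod_cast h1
    have h3 : d ≤ n + E4O.fdeg f x := by
      have h4 : (d : ℕ∞) ≤ fd f F x + (E4O.fdeg f x : ℕ∞) := hx
      rw [hn] at h4
      exact_mod_cast h4
    rw [hn']
    norm_cast
    omega
  · show RelPd52.fibrePd Γ(Y, V) M (c (hW.primeIdealOf ⟨x, hxW⟩)) < _
    rw [he]
    exact_mod_cast Nat.lt_succ_self e

end Groth.Agent.LC16.FibreMod
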