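import Groth.Agent.LC16.FibreMod
import Groth.Agent.E4O.OpenMapDims
import Groth.Agent.Sk62.Open
import Groth.Agent.FBase64.AssSheaf

/-! Openness of fibrewise conditions on a flat module: coprofondeur, `(S_k)`, associated points,
embedded points, equidimensionality (EGA IV 12.1, 12.2). -/

set_option autoImplicit false
set_option backward.isDefEq.respectTransparency.types false

universe u

open CategoryTheory AlgebraicGeometry TopologicalSpace Topology IsLocalRing

namespace Groth.Agent.LC16.FibreModOpen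

open FibreMod

variable {X Y : Scheme.{u}} (f : X ⟶ Y) (F : X.Modules)

theorem exists_fd_eq [LocallyOfFiniteType f] [CohB1.IsFP F] {x : X} (hx : x ∈ CohB1.support F) :
    ∃ n k : ℕ, fd f F x = (n : ℕ∞) ∧ fsd f F x = (k : ℕ) ∧ n ≤ k ∧
      (∀ z, z ⤳ x → f z = f x → z ∈ CohB1.support F → E4O.fdeg f z ≤ k + E4O.fdeg f x) ∧
      ∃ z, z ⤳ x ∧ f z = f x ∧ z ∈ CohB1.support F ∧ E4O.fdeg f z = k + E4O.fdeg f x := by
  obtain ⟨k, hk, hle, hex⟩ := exists_fsd_eq f F hx
  have := isLocallyNoetherian_fiber f (f x)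
  have hG := isCoh_pullback_fiberι f F (f x)
  have := hG.1
  have := hG.2
  have hne : Nontrivial (((Scheme.Modules.pullback (f.fiberι (f x))).obj F).presheaf.stalk (f.asFiber x)) := by
    rw [← not_subsingleton_iff_nontrivial]
    refine (mem_support_fibre_iff f F (f x) (f.asFiber x)).2 ?_
    rw [f.fiberι_asFiber]; exact hx
  have := QC70.finite_stalk ((Scheme.Modules.pullback (f.fiberι (f x))).obj F) (f.asFiber x)
  obtain ⟨n, hn⟩ := EGA4Alg4.exists_depth_eq (A := (f.fiber (f x)).presheaf.stalk (f.asFiber x))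
    (M := ((Scheme.Modules.pullback (f.fiberι (f x))).obj F).presheaf.stalk (f.asFiber x))
  have h1 := EGA4Alg4.depth_le_supportDim (A := (f.fiber (f x)).presheaf.stalk (f.asFiber x))
    (M := ((Scheme.Modules.pullback (f.fiberι (f x))).obj F).presheaf.stalk (f.asFiber x))
  refine ⟨n, k, hn, hk, ?_, hle, hex⟩
  rw [hn, show Module.supportDim _ _ = fsd f F x from rfl, hk] at h1
  exact_mod_cast h1

theorem mem_support_of_fd_ne_top [LocallyOfFiniteType f] [CohB1.IsFP F] {x : X} (h : fd f F x ≠ ⊤) :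
    x ∈ CohB1.support F :=
  by_contra fun hx => h (fd_of_notMem f F hx)

/-- Associated points of a fibre are the points of depth zero. -/
theorem mem_ass_fibre_iff [LocallyOfFiniteType f] [CohB1.IsFP F] (t : Y) (w : ↥(f.fiber t)) :
    w ∈ AssSch.Ass ((Scheme.Modules.pullback (f.fiberι t)).obj F) ↔ fd f F (f.fiberι t w) = 0 := by
  have := isLocallyNoetherian_fiber f t
  have hG := isCoh_pullback_fiberι f F t
  have := hG.1
  have := hG.2
  have := QC70.finite_stalk ((Scheme.Modules.pullback (f.fiberι t)).obj F) w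
  rw [← (fibre_invariants f F t w).1, EGA4Alg4.depth_eq_zero_iff]
  exact Iff.rfl

/-- Above every point of the support in its fibre lies an associated point of the fibre. -/
theorem exists_fd_eq_zero [LocallyOfFiniteType f] [CohB1.IsFP F] {x : X} (hx : x ∈ CohB1.support F) :
    ∃ z, z ⤳ x ∧ f z = f x ∧ fd f F z = 0 := by
  have hG := isCoh_pullback_fiberι f F (f x)
  have := isLocallyNoetherian_fiber f (f x)
  obtain ⟨a, ha, hax⟩ := FBase64.AssSheaf.exists_ass_specializes _ hG.1 (f.asFiber x)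
    (not_subsingleton_iff_nontrivial.1 ((mem_support_fibre_iff f F (f x) (f.asFiber x)).2
      (by rw [f.fiberι_asFiber]; exact hx)))
  refine ⟨f.fiberι (f x) a, ?_, E4O.apply_fiberι f _ a, (mem_ass_fibre_iff f F _ a).1 ha⟩
  have := (E4O.specializes_fiberι_iff f (f x) a (f.asFiber x)).2 hax
  rwa [f.fiberι_asFiber] at this

/-- The points below a piece of the support of dimension at least `n` in the fibre. -/
def Big (n : ℕ) : Set X :=
  {x : X | ∃ z ∈ CohB1.support F, z ⤳ x ∧ f z = f x ∧ n ≤ E4O.fdeg f z}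

theorem isClosed_Big [LocallyOfFiniteType f] [CohB1.IsFP F] (n : ℕ) : IsClosed (Big f F n) :=
  Sk62.isClosed_exists_le_fdeg f (QC70.isClosed_support F) n

theorem fsd_add_fdeg_le [LocallyOfFiniteType f] [CohB1.IsFP F] {x : X} {k D : ℕ}
    (hx : x ∈ CohB1.support F) (hk : fsd f F x = (k : ℕ)) (hD : x ∉ Big f F (D + 1)) :
    k + E4O.fdeg f x ≤ D := by
  obtain ⟨k', hk', -, z, hz, hfz, hzs, hzd⟩ := exists_fsd_eq f F hx
  have : k = k' := by exact_mod_cast hk.symm.trans hk'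
  subst this
  by_contra h
  exact hD ⟨z, hzs, hz, hfz, by omega⟩

variable [LocallyOfFinitePresentation f] [CohB1.IsFP F] (hflat : FlatMod.IsFlatOver f F)

include hflat

theorem isClosed_low (n : ℕ) :
    IsClosed {x : X | fd f F x + (E4O.fdeg f x : ℕ∞) ≤ (n : ℕ∞)} := by
  refine isOpen_compl_iff.1 ?_
  convert isOpen_le_fd_add_fdeg f F ‹_› hflat (n + 1) using 1
  ext x
  show ¬ (fd f F x + (E4O.fdeg f x : ℕ∞) ≤ (n : ℕ∞)) ↔
    ((n + 1 : ℕ) : ℕ∞) ≤ fd f F x + (E4O.fdeg f x : ℕ∞)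
  rw [not_le, Nat.cast_add, Nat.cast_one, Order.add_one_le_iff_of_not_isMax (by simp [isMax_iff_eq_top])]

/-- The locus of points below an associated point of the fibre lying in a closed set, of given
dimension. -/
theorem isClosed_assAt {K : Set X} (hK : IsClosed K) (n : ℕ) :
    IsClosed {x : X | ∃ z, z ⤳ x ∧ f z = f x ∧ z ∈ K ∧ fd f F z = 0 ∧ E4O.fdeg f z = n} := by
  convert Sk62.isClosed_exists_le_fdeg f ((isClosed_low f F hflat n).inter hK) n using 1
  ext x
  constructor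
  · rintro ⟨z, hz, hfz, hzK, h0, hn⟩
    exact ⟨z, ⟨show fd f F z + _ ≤ _ by rw [h0, zero_add, hn], hzK⟩, hz, hfz, hn.ge⟩
  · rintro ⟨z, ⟨hz1, hzK⟩, hz, hfz, hn⟩
    have hz1' : fd f F z + (E4O.fdeg f z : ℕ∞) ≤ (n : ℕ∞) := hz1
    obtain ⟨m, hm⟩ := ENat.ne_top_iff_exists.1
      (show fd f F z ≠ ⊤ from fun h => by rw [h, top_add] at hz1'; exact ENat.natCast_ne_top n (top_le_iff.1 hz1'))
    rw [← hm] at hz1'
    norm_cast at hz1'
    refine ⟨z, hz, hfz, hzK, ?_, by omega⟩
    rw [← hm]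
    exact_mod_cast (show m = 0 by omega)

/-- The associated points of the fibres through a point have dimensions in a given set: open. -/
theorem isOpen_assDims (Φ : Set ℕ) :
    IsOpen {x : X | ∀ z, z ⤳ x → f z = f x → fd f F z = 0 → E4O.fdeg f z ∈ Φ} := by
  rw [isOpen_iff_forall_mem_open]
  intro x hx
  obtain ⟨z₀, -, -, hD, -, -⟩ := E4O.exists_fibreDimAt_eq f x
  let D := E4O.fdeg f z₀
  let B : ℕ → Set X := fun n => {a : X | n ∉ Φ ∧
    ∃ z, z ⤳ a ∧ f z = f a ∧ z ∈ (Set.univ : Set X) ∧ fd f F z = 0 ∧ E4O.fdeg f z = n}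
  have hB : ∀ n, IsClosed (B n) := fun n => by
    by_cases hn : n ∈ Φ
    · convert isClosed_empty using 1
      exact Set.eq_empty_iff_forall_notMem.2 fun a ha => ha.1 hn
    · convert isClosed_assAt f F hflat isClosed_univ n using 1
      exact Set.ext fun a => ⟨fun h => h.2, fun h => ⟨hn, h⟩⟩
  refine ⟨{a : X | FlatMor.fibreDimAt f a ≤ (D : ℕ)} \ ⋃ n ∈ Finset.range (D + 1), B n, ?_,
    (E4O.isOpen_fibreDimAt_le f _).sdiff
      ((Finset.range (D + 1)).finite_toSet.isClosed_biUnion fun n _ => hB n), hD.le, ?_⟩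
  · rintro a ⟨ha, hnot⟩ z hz hfz h0
    by_contra hn
    have : E4O.fdeg f z ≤ D := by exact_mod_cast (E4O.fdeg_le_fibreDimAt hz hfz).trans ha
    exact hnot (Set.mem_biUnion (Finset.mem_range.2 (Nat.lt_succ_of_le this))
      ⟨hn, z, hz, hfz, trivial, h0, rfl⟩)
  · intro hmem
    obtain ⟨n, -, hn, z, hz, hfz, -, h0, hzn⟩ := Set.mem_iUnion₂.1 hmem
    exact hn (hzn ▸ hx z hz hfz h0)

/-- No embedded associated point of the fibre through a point: open. -/
theorem isOpen_noEmbedded :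
    IsOpen {x : X | ∀ z, z ⤳ x → f z = f x → fd f F z = 0 → z ∉ Big f F (E4O.fdeg f z + 1)} := by
  rw [isOpen_iff_forall_mem_open]
  intro x hx
  obtain ⟨z₀, -, -, hD, -, -⟩ := E4O.exists_fibreDimAt_eq f x
  let D := E4O.fdeg f z₀
  refine ⟨{a : X | FlatMor.fibreDimAt f a ≤ (D : ℕ)} \ ⋃ n ∈ Finset.range (D + 1),
      {a : X | ∃ z, z ⤳ a ∧ f z = f a ∧ z ∈ Big f F (n + 1) ∧ fd f F z = 0 ∧ E4O.fdeg f z = n}, ?_,
    (E4O.isOpen_fibreDimAt_le f _).sdiff ((Finset.range (D + 1)).finite_toSet.isClosed_biUnion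
      fun n _ => isClosed_assAt f F hflat (isClosed_Big f F _) n), hD.le, ?_⟩
  · rintro a ⟨ha, hnot⟩ z hz hfz h0 hbig
    have : E4O.fdeg f z ≤ D := by exact_mod_cast (E4O.fdeg_le_fibreDimAt hz hfz).trans ha
    exact hnot (Set.mem_biUnion (Finset.mem_range.2 (Nat.lt_succ_of_le this))
      ⟨z, hz, hfz, hbig, h0, rfl⟩)
  · intro hmem
    obtain ⟨n, -, z, hz, hfz, hbig, h0, hzn⟩ := Set.mem_iUnion₂.1 hmem
    exact hx z hz hfz h0 (hzn.symm ▸ hbig)

/-- The coprofondeur of the fibres is upper semicontinuous. -/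
theorem isOpen_coprof (k : ℕ) :
    IsOpen {x : X | fsd f F x ≤ ((fd f F x : ℕ∞) : WithBot ℕ∞) + k} := by
  rw [isOpen_iff_forall_mem_open]
  intro x hx
  by_cases hxs : x ∈ CohB1.support F
  swap
  · exact ⟨(CohB1.support F)ᶜ, fun a ha => by
      show fsd f F a ≤ _; rw [fsd_of_notMem f F ha]; exact bot_le,
      (QC70.isClosed_support F).isOpen_compl, hxs⟩
  obtain ⟨n, s, hn, hs, -, hle, -⟩ := exists_fd_eq f F hxs
  have hns : s ≤ n + k := by
    have h : fsd f F x ≤ ((fd f F x : ℕ∞) : WithBot ℕ∞) + k := hx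
    rw [hn, hs] at h
    exact_mod_cast h
  refine ⟨(Big f F (s + E4O.fdeg f x + 1))ᶜ ∩
      {a : X | ((n + E4O.fdeg f x : ℕ) : ℕ∞) ≤ fd f F a + (E4O.fdeg f a : ℕ∞)}, ?_,
    (isClosed_Big f F _).isOpen_compl.inter (isOpen_le_fd_add_fdeg f F ‹_› hflat _), ?_, ?_⟩
  · rintro a ⟨hbig, hlow⟩
    show fsd f F a ≤ _
    by_cases has : a ∈ CohB1.support F
    swap
    · rw [fsd_of_notMem f F has]; exact bot_le
    obtain ⟨m, t, hm, ht, -, -, -⟩ := exists_fd_eq f F has
    have h1 := fsd_add_fdeg_le f F has ht hbig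
    have h2 : ((n + E4O.fdeg f x : ℕ) : ℕ∞) ≤ fd f F a + (E4O.fdeg f a : ℕ∞) := hlow
    rw [hm] at h2
    norm_cast at h2
    rw [hm, ht]
    norm_cast
    omega
  · rintro ⟨z, hzs, hz, hfz, hn'⟩
    have := hle z hz hfz hzs
    omega
  · show _ ≤ fd f F x + _
    rw [hn]
    push_cast
    exact le_rfl

/-- `(S_k)` on the fibres is open. -/
theorem isOpen_minLe (k : ℕ) :
    IsOpen {x : X | ∀ z, z ⤳ x → f z = f x →
      min (k : WithBot ℕ∞) (fsd f F z) ≤ ((fd f F z : ℕ∞) : WithBot ℕ∞)} := by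
  have hNC : IsClosed {z : X | ¬ fsd f F z ≤ ((fd f F z : ℕ∞) : WithBot ℕ∞) + (0 : ℕ)} :=
    (isOpen_coprof f F hflat 0).isClosed_compl
  have hB : ∀ d : ℕ, IsClosed {a : X | ∃ z ∈ {z : X | ¬ fsd f F z ≤ ((fd f F z : ℕ∞) : WithBot ℕ∞) + (0 : ℕ)} ∩
      {z : X | (d : ℕ∞) ≤ fd f F z + (E4O.fdeg f z : ℕ∞)}ᶜ,
      z ⤳ a ∧ f z = f a ∧ d - k ≤ E4O.fdeg f z} := fun d =>
    Sk62.isClosed_exists_le_fdeg f
      (hNC.inter (isOpen_le_fd_add_fdeg f F ‹_› hflat d).isClosed_compl) _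
  rw [isOpen_iff_forall_mem_open]
  intro x hx
  obtain ⟨z₀, -, -, hD, -, -⟩ := E4O.exists_fibreDimAt_eq f x
  let D := E4O.fdeg f z₀
  refine ⟨{a : X | FlatMor.fibreDimAt f a ≤ (D : ℕ)} \ ⋃ d ∈ Finset.range (D + k + 1), {a : X | ∃ z ∈
      {z : X | ¬ fsd f F z ≤ ((fd f F z : ℕ∞) : WithBot ℕ∞) + (0 : ℕ)} ∩
      {z : X | (d : ℕ∞) ≤ fd f F z + (E4O.fdeg f z : ℕ∞)}ᶜ,
      z ⤳ a ∧ f z = f a ∧ d - k ≤ E4O.fdeg f z}, ?_,
    (E4O.isOpen_fibreDimAt_le f _).sdiff
      ((Finset.range (D + k + 1)).finite_toSet.isClosed_biUnion fun d _ => hB d), hD.le, ?_⟩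
  · rintro a ⟨ha, hnot⟩ z hza hfz
    by_contra h
    rw [min_le_iff, not_or, ← WithBot.coe_natCast, WithBot.coe_le_coe] at h
    obtain ⟨hk, hcm⟩ := h
    obtain ⟨m, hm⟩ := ENat.ne_top_iff_exists.1 (lt_top_iff_ne_top.1
      (lt_of_lt_of_le (not_le.1 hk) le_top))
    rw [← hm, Nat.cast_le] at hk
    have hdeg : E4O.fdeg f z ≤ D := by
      exact_mod_cast (E4O.fdeg_le_fibreDimAt hza hfz).trans ha
    refine hnot (Set.mem_biUnion (x := E4O.fdeg f z + k) (Finset.mem_range.2 (by omega))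
      ⟨z, ⟨?_, ?_⟩, hza, hfz, by omega⟩)
    · show ¬ _
      intro h0
      exact hcm (by simpa using h0)
    · show ¬ ((E4O.fdeg f z + k : ℕ) : ℕ∞) ≤ fd f F z + (E4O.fdeg f z : ℕ∞)
      rw [← hm, ← Nat.cast_add, Nat.cast_le]
      omega
  · rintro hmem
    obtain ⟨d, -, z, ⟨hcm, hd⟩, hzx, hfz, hdk⟩ := Set.mem_iUnion₂.1 hmem
    have h := hx z hzx hfz
    rw [min_le_iff, ← WithBot.coe_natCast, WithBot.coe_le_coe] at h
    rcases h with h | h
    · refine hd (le_trans ?_ (add_le_add_left h _))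
      rw [← Nat.cast_add, Nat.cast_le]
      omega
    · exact hcm (by simpa using h)

omit [LocallyOfFinitePresentation f] hflat in
theorem hasSk_iff_minLe [LocallyOfFiniteType f] (k : ℕ) (x : X) :
    LocCoh.HasSk k ((f.fiber (f x)).presheaf.stalk (f.asFiber x))
        (((Scheme.Modules.pullback (f.fiberι (f x))).obj F).presheaf.stalk (f.asFiber x)) ↔
      ∀ z, z ⤳ x → f z = f x → min (k : WithBot ℕ∞) (fsd f F z) ≤ ((fd f F z : ℕ∞) : WithBot ℕ∞) := by
  have := isLocallyNoetherian_fiber f (f x)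
  rw [StalkMod.hasSk_stalk_iff _ (isCoh_pullback_fiberι f F (f x)) k (f.asFiber x)]
  constructor
  · intro h z hz hfz
    obtain ⟨b, rfl⟩ := E4O.exists_fiberι_eq f hfz
    have hb : b ⤳ f.asFiber x := by
      rw [← E4O.specializes_fiberι_iff f (f x), f.fiberι_asFiber]; exact hz
    rw [← (fibre_invariants f F (f x) b).1, ← (fibre_invariants f F (f x) b).2]
    exact h b hb
  · intro h b hb
    rw [(fibre_invariants f F (f x) b).1, (fibre_invariants f F (f x) b).2]
    have := (E4O.specializes_fiberι_iff f (f x) b (f.asFiber x)).2 hb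
    rw [f.fiberι_asFiber] at this
    exact h _ this (E4O.apply_fiberι f _ b)

omit [LocallyOfFinitePresentation f] hflat in
/-- Equidimensionality of a fibre module at a point, via degrees of maximal points of the support. -/
theorem isEquidim_iff [LocallyOfFiniteType f] {x : X} (hx : x ∈ CohB1.support F) {s : ℕ}
    (hs : fsd f F x = (s : ℕ)) :
    EGA4.IsEquidimModule ((f.fiber (f x)).presheaf.stalk (f.asFiber x))
        (((Scheme.Modules.pullback (f.fiberι (f x))).obj F).presheaf.stalk (f.asFiber x)) ↔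
      ∀ z, z ⤳ x → f z = f x → z ∈ CohB1.support F → z ∉ Big f F (E4O.fdeg f z + 1) →
        E4O.fdeg f z = s + E4O.fdeg f x := by
  have := isLocallyNoetherian_fiber f (f x)
  rw [StalkMod.isEquidimModule_stalk_iff _ (isCoh_pullback_fiberι f F (f x)) (f.asFiber x)]
  have hS : Module.supportDim ((f.fiber (f x)).presheaf.stalk (f.asFiber x))
      (((Scheme.Modules.pullback (f.fiberι (f x))).obj F).presheaf.stalk (f.asFiber x)) = (s : ℕ) := hs
  rw [hS]
  have key : ∀ b : ↥(f.fiber (f x)), b ⤳ f.asFiber x → ∀ k : ℕ,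
      topologicalKrullDim ↥{t : ↥(f.fiber (f x)) | t ∈ closure ({b} : Set _) ∧ t ⤳ f.asFiber x} = (k : ℕ) →
      k + E4O.fdeg f x = E4O.fdeg f (f.fiberι (f x) b) := by
    intro b hb k hk
    obtain ⟨k', hk', hle, a, ha, hax, hak⟩ := exists_dim_generizations f (f x) isClosed_closure
      (w := f.asFiber x) (specializes_iff_mem_closure.1 hb)
    rw [f.fiberι_asFiber] at hle hak
    have : k = k' := by exact_mod_cast hk.symm.trans hk'
    subst this
    have h1 := hle b (subset_closure rfl) hb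
    have h2 : E4O.fdeg f (f.fiberι (f x) a) ≤ E4O.fdeg f (f.fiberι (f x) b) :=
      E4O.fdeg_le ((E4O.specializes_fiberι_iff f (f x) b a).2 (specializes_iff_mem_closure.2 ha))
        (by rw [E4O.apply_fiberι, E4O.apply_fiberι])
    omega
  constructor
  · intro h z hz hfz hzs hbig
    obtain ⟨b, rfl⟩ := E4O.exists_fiberι_eq f hfz
    have hb : b ⤳ f.asFiber x := by
      rw [← E4O.specializes_fiberι_iff f (f x), f.fiberι_asFiber]; exact hz
    refine (key b hb s (h b hb ((mem_support_fibre_iff f F _ b).2 hzs) fun t ht hts => ?_)).symm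
    by_contra hne
    refine hbig ⟨f.fiberι (f x) t, (mem_support_fibre_iff f F _ t).1 hts,
      (E4O.specializes_fiberι_iff f (f x) t b).2 ht, by rw [E4O.apply_fiberι, E4O.apply_fiberι], ?_⟩
    exact E4O.fdeg_lt ((E4O.specializes_fiberι_iff f (f x) t b).2 ht)
      (by rw [E4O.apply_fiberι, E4O.apply_fiberι])
      (fun h => hne ((E4O.isEmbedding_fiberι f (f x)).injective h))
  · intro h b hb hbs hmax
    obtain ⟨k, hk, -, -⟩ := exists_dim_generizations f (f x) isClosed_closure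
      (w := f.asFiber x) (specializes_iff_mem_closure.1 hb)
    have h1 := key b hb k hk
    have hbx : f.fiberι (f x) b ⤳ x := by
      have := (E4O.specializes_fiberι_iff f (f x) b (f.asFiber x)).2 hb
      rwa [f.fiberι_asFiber] at this
    have h2 := h _ hbx (E4O.apply_fiberι f _ b) ((mem_support_fibre_iff f F _ b).1 hbs) (by
      rintro ⟨z', hz's, hz', hfz', hdeg⟩
      obtain ⟨t, rfl⟩ := E4O.exists_fiberι_eq f (hfz'.trans (E4O.apply_fiberι f _ b))
      have := hmax t ((E4O.specializes_fiberι_iff f (f x) t b).1 hz') ((mem_support_fibre_iff f F _ t).2 hz's)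
      subst this
      omega)
    rw [hk]
    exact_mod_cast (show k = s by omega)

/-- Equidimensional with `(S_k)`, `k ≥ 1`: open. -/
theorem isOpen_equidim_hasSk (k : ℕ) (hk : 1 ≤ k) :
    IsOpen {x : X | EGA4.IsEquidimModule ((f.fiber (f x)).presheaf.stalk (f.asFiber x))
        (((Scheme.Modules.pullback (f.fiberι (f x))).obj F).presheaf.stalk (f.asFiber x)) ∧
      LocCoh.HasSk k ((f.fiber (f x)).presheaf.stalk (f.asFiber x))
        (((Scheme.Modules.pullback (f.fiberι (f x))).obj F).presheaf.stalk (f.asFiber x))} := by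
  rw [isOpen_iff_forall_mem_open]
  intro x ⟨heq, hsk⟩
  have hsk' := (hasSk_iff_minLe f F k x).1 hsk
  by_cases hxs : x ∈ CohB1.support F
  swap
  · refine ⟨(CohB1.support F)ᶜ, fun a ha => ⟨?_, (hasSk_iff_minLe f F k a).2 fun z hz hfz => ?_⟩,
      (QC70.isClosed_support F).isOpen_compl, hxs⟩
    · have := subsingleton_of_notMem f F ha
      intro p hp
      exact absurd (top_le_iff.1 ((Module.annihilator_eq_top_iff (R := (f.fiber (f a)).presheaf.stalk (f.asFiber a))).2 this ▸ hp.1.2))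
        hp.1.1.ne_top
    · have : z ∉ CohB1.support F := fun h => ha (hz.mem_closed (QC70.isClosed_support F) h)
      rw [fsd_of_notMem f F this]
      exact min_le_of_right_le bot_le
  obtain ⟨-, s, -, hs, -, hsle, -⟩ := exists_fd_eq f F hxs
  let e := s + E4O.fdeg f x
  have heq' := (isEquidim_iff f F hxs hs).1 heq
  refine ⟨(Big f F (e + 1))ᶜ ∩ {a : X | ∀ z, z ⤳ a → f z = f a →
      min (k : WithBot ℕ∞) (fsd f F z) ≤ ((fd f F z : ℕ∞) : WithBot ℕ∞)} ∩
      {a : X | ∀ z, z ⤳ a → f z = f a → fd f F z = 0 → E4O.fdeg f z ∈ ({e} : Set ℕ)}, ?_,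
    ((isClosed_Big f F _).isOpen_compl.inter (isOpen_minLe f F hflat k)).inter
      (isOpen_assDims f F hflat {e}), ⟨⟨?_, hsk'⟩, fun z hz hfz h0 => ?_⟩⟩
  · rintro a ⟨⟨hbig, hska⟩, hass⟩
    refine ⟨?_, (hasSk_iff_minLe f F k a).2 hska⟩
    by_cases has : a ∈ CohB1.support F
    swap
    · have := subsingleton_of_notMem f F has
      intro p hp
      exact absurd (top_le_iff.1 ((Module.annihilator_eq_top_iff (R := (f.fiber (f a)).presheaf.stalk (f.asFiber a))).2 this ▸ hp.1.2))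
        hp.1.1.ne_top
    obtain ⟨-, t, -, ht, -, -, w, hw, hfw, hws, hwd⟩ := exists_fd_eq f F has
    refine (isEquidim_iff f F has ht).2 fun z hz hfz hzs hzmax => ?_
    have hmin : ∀ z, z ⤳ a → f z = f a → z ∈ CohB1.support F → z ∉ Big f F (E4O.fdeg f z + 1) →
        E4O.fdeg f z = e := by
      intro z hz hfz hzs hzmax
      obtain ⟨n', k', hn', hk', hle', -, v, hv, hfv, hvs, hvd⟩ := exists_fd_eq f F hzs
      have hk0 : k' = 0 := by
        by_contra hne
        exact hzmax ⟨v, hvs, hv, hfv, by omega⟩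
      exact hass z hz hfz (by rw [hn', show n' = 0 by omega]; rfl)
    have hwe : E4O.fdeg f w = e := hmin w hw hfw hws fun ⟨v, hvs, hv, hfv, hvd⟩ => by
      obtain ⟨t', -, ht', -, -, htle, -⟩ := exists_fd_eq f F has
      obtain ⟨-, t'', -, ht'', -, htle', -⟩ := exists_fd_eq f F has
      have : t = t'' := by exact_mod_cast ht.symm.trans ht''
      have := htle' v (hv.trans hw) (hfv.trans hfw) hvs
      omega
    rw [hmin z hz hfz hzs hzmax, ← hwd, hwe]
  · rintro ⟨z, hzs, hz, hfz, hdeg⟩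
    have := hsle z hz hfz hzs
    omega
  · show E4O.fdeg f z = e
    have hzs : z ∈ CohB1.support F := mem_support_of_fd_ne_top f F (by rw [h0]; exact ENat.zero_ne_top)
    refine heq' z hz hfz hzs fun ⟨v, hvs, hv, hfv, hvd⟩ => ?_
    obtain ⟨n', k', hn', hk', -, hle', -⟩ := exists_fd_eq f F hzs
    have hk1 : 1 ≤ k' := by
      have := hle' v hv hfv hvs
      omega
    have h := hsk' z hz hfz
    rw [h0, hk', min_le_iff] at h
    rcases h with h | h
    · have : k ≤ 0 := by exact_mod_cast h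
      omega
    · have : k' ≤ 0 := by exact_mod_cast h
      omega

end Groth.Agent.LC16.FibreModOpen
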