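import Groth.Agent.LC16.FibreModOpen
import Groth.Agent.FBase64.AssTensor.PullBase
import Groth.Agent.FBase64.AssFibre.DimCons
import Groth.Agent.Cons62.Unramified
import Groth.Agent.QCSupp72.Support

/-! Images of the support of a flat module are open; consequences for the fibres of a proper morphism. -/

set_option autoImplicit false
set_option backward.isDefEq.respectTransparency.types false

universe u

open CategoryTheory AlgebraicGeometry TopologicalSpace Topology IsLocalRing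

namespace Groth.Agent.LC16.FibreModProper

open FibreMod FibreModOpen

variable {X Y : Scheme.{u}} (f : X ⟶ Y) (F : X.Modules)

/-- The image of an open subset of the support of a flat finitely presented module is open. -/
theorem isOpen_image_inter_support [LocallyOfFinitePresentation f] [CohB1.IsFP F]
    (hflat : FlatMod.IsFlatOver f F) {W : Set X} (hW : IsOpen W) :
    IsOpen (f '' (W ∩ CohB1.support F)) := by
  rw [isOpen_iff_forall_mem_open]
  rintro _ ⟨x, ⟨hxW, hxs⟩, rfl⟩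
  obtain ⟨V, hV, hyV, -⟩ := exists_isAffineOpen_mem_and_subset (X := Y) (x := f x) (U := ⊤) trivial
  obtain ⟨U, hU, hxU, hUW⟩ := exists_isAffineOpen_mem_and_subset (X := X) (x := x)
    (U := (f ⁻¹ᵁ V) ⊓ ⟨W, hW⟩) ⟨hyV, hxW⟩
  have hle : U ≤ f ⁻¹ᵁ V := fun a ha => (hUW ha).1
  let φ := f.appLE V U hle
  have hfp : φ.hom.FinitePresentation :=
    LocallyOfFinitePresentation.finitePresentation_appLE f hV hU hle
  haveI : Module.FinitePresentation Γ(X, U) Γ(F, U) := Props58.LocFree.finitePresentation_sections F hU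
  let T : Set (PrimeSpectrum Γ(Y, V)) :=
    PrimeSpectrum.comap φ.hom '' Module.support Γ(X, U) Γ(F, U)
  have himg : f '' ((U : Set X) ∩ CohB1.support F) = hV.fromSpec '' T := by
    ext b
    constructor
    · rintro ⟨a, ⟨ha, has⟩, rfl⟩
      refine ⟨hV.primeIdealOf ⟨f a, hle ha⟩, ⟨hU.primeIdealOf ⟨a, ha⟩,
        (QCSupp72.mem_support_iff F hU ha).2 has, ?_⟩, hV.fromSpec_primeIdealOf _⟩
      exact IsAffineOpen.comap_primeIdealOf_appLE V hV U hU hle ha
    · rintro ⟨_, ⟨q, hq, rfl⟩, rfl⟩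
      refine ⟨hU.fromSpec q, ⟨QCSupp72.fromSpec_mem hU q,
        (QCSupp72.mem_support_sections_iff hU F q).1 hq⟩, ?_⟩
      rw [← Scheme.Hom.comp_apply, ← IsAffineOpen.SpecMap_appLE_fromSpec f hV hU hle,
        Scheme.Hom.comp_apply]
      rfl
  refine ⟨f '' ((U : Set X) ∩ CohB1.support F), Set.image_mono fun a ha => ⟨(hUW ha.1).2, ha.2⟩, ?_,
    x, ⟨hxU, hxs⟩, rfl⟩
  have hgen : StableUnderGeneralization (f '' ((U : Set X) ∩ CohB1.support F)) := by
    rintro b b' hb' ⟨a, ⟨ha, has⟩, rfl⟩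
    obtain ⟨w, hw, hwa, hfw⟩ := FBase64.AssTensor.exists_support_specializes f F
      ⟨inferInstance, inferInstance⟩ hflat has hb'
    exact ⟨w, ⟨hwa.mem_open U.isOpen ha, hw⟩, hfw⟩
  have hTo : IsOpen T := by
    refine PrimeSpectrum.isOpen_of_stableUnderGeneralization_of_isConstructible ?_
      (PrimeSpectrum.isConstructible_comap_image hfp Cons62.isConstructible_support)
    intro p p' hp' hp
    have h1 : hV.fromSpec p' ∈ f '' ((U : Set X) ∩ CohB1.support F) :=
      hgen (hp'.map hV.fromSpec.continuous) (himg ▸ ⟨p, hp, rfl⟩)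
    rw [himg] at h1
    obtain ⟨p'', hp'', heq⟩ := h1
    exact hV.fromSpec.isOpenEmbedding.injective heq ▸ hp''
  rw [himg]
  exact hV.fromSpec.isOpenEmbedding.isOpenMap _ hTo

/-- A pointwise open condition along all points of the fibre is open on the base, for a closed map. -/
theorem isOpen_forall_fiber [IsProper f] {s : Set X} (hs : IsOpen s) :
    IsOpen {y : Y | ∀ w : ↥(f.fiber y), f.fiberι y w ∈ s} := by
  have : {y : Y | ∀ w : ↥(f.fiber y), f.fiberι y w ∈ s} = (f '' sᶜ)ᶜ := by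
    ext y
    constructor
    · rintro h ⟨x, hx, rfl⟩
      obtain ⟨w, hw⟩ := E4O.exists_fiberι_eq f (rfl : f x = f x)
      exact hx (hw ▸ h w)
    · intro h w
      by_contra hw
      exact h ⟨_, hw, E4O.apply_fiberι f y w⟩
  rw [this]
  exact (f.isClosedMap _ hs.isClosed_compl).isOpen_compl

/-- The maximal points of the support of a fibre, as associated points. -/
theorem mem_maxAss_iff [LocallyOfFiniteType f] [CohB1.IsFP F] (y : Y) (w : ↥(f.fiber y)) :
    w ∈ FBase64.AssFibre.maxAss ((Scheme.Modules.pullback (f.fiberι y)).obj F) ↔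
      fd f F (f.fiberι y w) = 0 ∧ f.fiberι y w ∉ Big f F (E4O.fdeg f (f.fiberι y w) + 1) := by
  constructor
  · rintro ⟨hw, hmax⟩
    refine ⟨(mem_ass_fibre_iff f F y w).1 hw, ?_⟩
    rintro ⟨v, hvs, hv, hfv, hd⟩
    obtain ⟨z, hz, hfz, hz0⟩ := exists_fd_eq_zero f F hvs
    obtain ⟨b, rfl⟩ := E4O.exists_fiberι_eq f ((hfz.trans hfv).trans (E4O.apply_fiberι f y w))
    have := hmax b ((mem_ass_fibre_iff f F y b).2 hz0)
      ((E4O.specializes_fiberι_iff f y b w).1 (hz.trans hv))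
    subst this
    have h1 := E4O.fdeg_le (f := f) hv hfv
    have h2 := E4O.fdeg_le (f := f) hz hfz
    omega
  · rintro ⟨hw, hmax⟩
    refine ⟨(mem_ass_fibre_iff f F y w).2 hw, fun b hb hbw => ?_⟩
    by_contra hne
    have hb0 := (mem_ass_fibre_iff f F y b).1 hb
    have hsp := (E4O.specializes_fiberι_iff f y b w).2 hbw
    have hfe : f (f.fiberι y b) = f (f.fiberι y w) := by rw [E4O.apply_fiberι, E4O.apply_fiberι]
    exact hmax ⟨_, mem_support_of_fd_ne_top f F (by rw [hb0]; exact ENat.zero_ne_top), hsp, hfe,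
      E4O.fdeg_lt hsp hfe fun e => hne ((E4O.isEmbedding_fiberι f y).injective e)⟩

/-- The fibres with a component of the support of dimension `n` form an open set. -/
theorem isOpen_exists_component [LocallyOfFinitePresentation f] [CohB1.IsFP F]
    (hflat : FlatMod.IsFlatOver f F) (n : ℕ) :
    IsOpen {y : Y | ∃ z, f z = y ∧ fd f F z = 0 ∧ E4O.fdeg f z = n ∧ z ∉ Big f F (n + 1)} := by
  rw [isOpen_iff_forall_mem_open]
  rintro _ ⟨x, rfl, h0, hn, hbig⟩
  refine ⟨f '' (((Big f F (n + 1))ᶜ ∩ {a : X | (n : ℕ∞) ≤ fd f F a + (E4O.fdeg f a : ℕ∞)}) ∩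
      CohB1.support F), ?_, isOpen_image_inter_support f F hflat
    ((isClosed_Big f F _).isOpen_compl.inter (isOpen_le_fd_add_fdeg f F ‹_› hflat n)),
    x, ⟨⟨hbig, ?_⟩, mem_support_of_fd_ne_top f F (by rw [h0]; exact ENat.zero_ne_top)⟩, rfl⟩
  · rintro _ ⟨a, ⟨⟨habig, halow⟩, has⟩, rfl⟩
    obtain ⟨m, k, hm, hk, hmk, hle, z, hz, hfz, hzs, hzd⟩ := exists_fd_eq f F has
    have h1 := fsd_add_fdeg_le f F has hk habig
    have h2 : (n : ℕ∞) ≤ fd f F a + (E4O.fdeg f a : ℕ∞) := halow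
    rw [hm] at h2
    norm_cast at h2
    have hzn : E4O.fdeg f z = n := by omega
    obtain ⟨m', k', hm', hk', hmk', hle', v, hv, hfv, hvs, hvd⟩ := exists_fd_eq f F hzs
    have := hle v (hv.trans hz) (hfv.trans hfz) hvs
    refine ⟨z, hfz, ?_, hzn, fun ⟨w, hws, hw, hfw, hwd⟩ => habig ⟨w, hws, hw.trans hz, hfw.trans hfz, hwd⟩⟩
    rw [hm', show m' = 0 by omega]
    rfl
  · show (n : ℕ∞) ≤ fd f F x + _
    rw [h0, hn, zero_add]

/-- The component dimensions of the support of a fibre. -/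
theorem exists_component_iff [LocallyOfFiniteType f] [CohB1.IsFP F] (y : Y) (d : WithBot ℕ∞) :
    (∃ Z ∈ irreducibleComponents ↥{z : ↥(f.fiber y) |
        Nontrivial (((Scheme.Modules.pullback (f.fiberι y)).obj F).presheaf.stalk z)},
      topologicalKrullDim ↥Z = d) ↔
      ∃ n : ℕ, d = (n : ℕ) ∧
        ∃ z, f z = y ∧ fd f F z = 0 ∧ E4O.fdeg f z = n ∧ z ∉ Big f F (n + 1) := by
  have := isLocallyNoetherian_fiber f y
  have hG := isCoh_pullback_fiberι f F y
  have := hG.2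
  have hset : {z : ↥(f.fiber y) | Nontrivial (((Scheme.Modules.pullback (f.fiberι y)).obj F).presheaf.stalk z)} =
      CohB1.support ((Scheme.Modules.pullback (f.fiberι y)).obj F) :=
    Set.ext fun z => not_subsingleton_iff_nontrivial.symm
  rw [hset]
  have h := FBase64.AssFibre.supportDims_eq _ hG.1 (QC70.isClosed_support ((Scheme.Modules.pullback (f.fiberι y)).obj F))
  refine Iff.trans (show _ ↔ d ∈ FBase64.AssFibre.maxAssDims ((Scheme.Modules.pullback (f.fiberι y)).obj F) from ?_) ?_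
  · rw [← h]; exact Iff.rfl
  constructor
  · rintro ⟨w, hw, rfl⟩
    obtain ⟨h0, hb⟩ := (mem_maxAss_iff f F y w).1 hw
    exact ⟨_, E4O.dim_closure_fiber f y w, _, E4O.apply_fiberι f y w, h0, rfl, hb⟩
  · rintro ⟨n, rfl, z, hfz, h0, hn, hb⟩
    obtain ⟨w, rfl⟩ := E4O.exists_fiberι_eq f hfz
    refine ⟨w, (mem_maxAss_iff f F y w).2 ⟨h0, hn.symm ▸ hb⟩, ?_⟩
    rw [← hn]
    exact E4O.dim_closure_fiber f y w

/-- The dimension of the support of a fibre is at most `n` iff no point of the fibre lies below a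
piece of dimension `n + 1`. -/
theorem dim_support_le_iff [LocallyOfFiniteType f] [CohB1.IsFP F] (y : Y) (c : WithBot ℕ∞) :
    topologicalKrullDim ↥{z : ↥(f.fiber y) |
        Nontrivial (((Scheme.Modules.pullback (f.fiberι y)).obj F).presheaf.stalk z)} ≤ c ↔
      ∀ n : ℕ, (∃ z, f z = y ∧ fd f F z = 0 ∧ E4O.fdeg f z = n ∧ z ∉ Big f F (n + 1)) →
        ((n : ℕ) : WithBot ℕ∞) ≤ c := by
  rw [TopDim50.dim_eq_iSup_irreducibleComponents, iSup₂_le_iff]
  constructor
  · intro h n hn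
    obtain ⟨Z, hZ, hd⟩ := (exists_component_iff f F y _).2 ⟨n, rfl, hn⟩
    exact hd ▸ h Z hZ
  · intro h Z hZ
    obtain ⟨n, hd, hn⟩ := (exists_component_iff f F y _).1 ⟨Z, hZ, rfl⟩
    rw [hd]
    exact h n hn

/-- For a proper morphism the dimension of the support of the fibres of a flat module is locally
constant. -/
theorem isLocallyConstant_dim [IsProper f] [LocallyOfFinitePresentation f] [CohB1.IsFP F]
    (hflat : FlatMod.IsFlatOver f F) :
    IsLocallyConstant (fun y : Y => topologicalKrullDim ↥{z : ↥(f.fiber y) |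
      Nontrivial (((Scheme.Modules.pullback (f.fiberι y)).obj F).presheaf.stalk z)}) := by
  classical
  rw [IsLocallyConstant.iff_exists_open]
  intro y
  let C : ℕ → Set Y := fun n =>
    {y | ∃ z, f z = y ∧ fd f F z = 0 ∧ E4O.fdeg f z = n ∧ z ∉ Big f F (n + 1)}
  have hempty : ∀ y' : Y, (∀ x ∈ CohB1.support F, f x ≠ y') → ∀ n, y' ∉ C n := fun y' h n ⟨z, hz, h0, _⟩ =>
    h z (mem_support_of_fd_ne_top f F (by rw [h0]; exact ENat.zero_ne_top)) hz
  by_cases hsupp : ∃ x ∈ CohB1.support F, f x = y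
  swap
  · refine ⟨(f '' CohB1.support F)ᶜ, (f.isClosedMap _ (QC70.isClosed_support F)).isOpen_compl,
      fun ⟨x, hx, h⟩ => hsupp ⟨x, hx, h⟩, fun y' hy' => ?_⟩
    have h1 : ∀ x ∈ CohB1.support F, f x ≠ y' := fun x hx h => hy' ⟨x, hx, h⟩
    refine le_antisymm ((dim_support_le_iff f F y' _).2 fun n hn => absurd hn (hempty y' h1 n))
      ((dim_support_le_iff f F y _).2 fun n hn => absurd hn (hempty y (fun x hx h => hsupp ⟨x, hx, h⟩) n))
  obtain ⟨x₀, hx₀, hfx₀⟩ := hsupp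
  obtain ⟨z, hz, hfz, hz0⟩ := exists_fd_eq_zero f F hx₀
  obtain ⟨B, hB⟩ : ∃ B : ℕ, ∀ x, f x = y → E4O.fdeg f x ≤ B := by
    let U : ℕ → Set X := fun d => {x | FlatMor.fibreDimAt f x ≤ (d : ℕ)}
    obtain ⟨t, ht⟩ := (f.isCompact_preimage_singleton y).elim_finite_subcover U
      (fun d => E4O.isOpen_fibreDimAt_le f _) (fun x _ => by
        obtain ⟨w, -, -, hw, -, -⟩ := E4O.exists_fibreDimAt_eq f x
        exact Set.mem_iUnion.2 ⟨_, hw.le⟩)
    refine ⟨t.sup id, fun x hx => ?_⟩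
    obtain ⟨d, hd, hxd⟩ := Set.mem_iUnion₂.1 (ht (show x ∈ f ⁻¹' {y} from hx))
    have h2 : FlatMor.fibreDimAt f x ≤ (d : ℕ) := hxd
    have h3 := (E4O.fdeg_le_fibreDimAt (f := f) (x := x) specializes_rfl rfl).trans h2
    exact le_trans (by exact_mod_cast h3) (Finset.le_sup (f := id) hd)
  have hne : ∃ n, n ≤ B ∧ y ∈ C n := by
    obtain ⟨z', hz', hfz', hz's, hz'd⟩ : ∃ z', z' ⤳ z ∧ f z' = f z ∧ z' ∈ CohB1.support F ∧
        z' ∉ Big f F (E4O.fdeg f z' + 1) := by
      obtain ⟨-, k, -, -, -, hle, v, hv, hfv, hvs, hvd⟩ := exists_fd_eq f F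
        (mem_support_of_fd_ne_top f F (by rw [hz0]; exact ENat.zero_ne_top) : z ∈ CohB1.support F)
      refine ⟨v, hv, hfv, hvs, fun ⟨w, hws, hw, hfw, hwd⟩ => ?_⟩
      have := hle w (hw.trans hv) (hfw.trans hfv) hws
      omega
    obtain ⟨m, k, hm, hk, hmk, -, v, hv, hfv, hvs, hvd⟩ := exists_fd_eq f F hz's
    have hk0 : k = 0 := by
      by_contra h
      exact hz'd ⟨v, hvs, hv, hfv, by omega⟩
    have hfy : f z' = y := (hfz'.trans hfz).trans hfx₀
    exact ⟨E4O.fdeg f z', hB _ hfy, z', hfy, by rw [hm, show m = 0 by omega]; rfl, rfl, hz'd⟩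
  obtain ⟨n₀, hn₀B, hn₀⟩ := hne
  let N := Nat.findGreatest (fun n => y ∈ C n) B
  have hN : y ∈ C N := Nat.findGreatest_spec (P := fun n => y ∈ C n) hn₀B hn₀
  have hNmax : ∀ n, y ∈ C n → n ≤ N := fun n hn => by
    have hn' := hn
    obtain ⟨w, hw, -, hwn, -⟩ := hn'
    exact Nat.le_findGreatest (hwn ▸ hB w hw) hn
  have hdimy : ∀ y', y' ∈ C N → (∀ n, y' ∈ C n → n ≤ N) →
      topologicalKrullDim ↥{z : ↥(f.fiber y') |
        Nontrivial (((Scheme.Modules.pullback (f.fiberι y')).obj F).presheaf.stalk z)} = (N : ℕ) := by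
    intro y' h1 h2
    refine le_antisymm ((dim_support_le_iff f F y' _).2 fun n hn => by exact_mod_cast h2 n hn) ?_
    exact ((dim_support_le_iff f F y' _).1 le_rfl) N h1
  refine ⟨(f '' Big f F (N + 1))ᶜ ∩ C N,
    (f.isClosedMap _ (isClosed_Big f F _)).isOpen_compl.inter (isOpen_exists_component f F hflat N),
    ⟨?_, hN⟩, fun y' ⟨h1, h2⟩ => ?_⟩
  · rintro ⟨a, ⟨w, hws, hwa, hfw, hwd⟩, hfa⟩
    obtain ⟨-, k, -, -, -, hle, v, hv, hfv, hvs, hvd⟩ := exists_fd_eq f F hws
    have hmax : v ∉ Big f F (E4O.fdeg f v + 1) := fun ⟨u, hus, hu, hfu, hud⟩ => by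
      have := hle u (hu.trans hv) (hfu.trans hfv) hus
      omega
    obtain ⟨m', k', hm', hk', hmk', -, u, hu, hfu, hus, hud⟩ := exists_fd_eq f F hvs
    have hk0 : k' = 0 := by
      by_contra h
      exact hmax ⟨u, hus, hu, hfu, by omega⟩
    have := hNmax _ ⟨v, (hfv.trans hfw).trans hfa, by rw [hm', show m' = 0 by omega]; rfl, rfl, hmax⟩
    omega
  · rw [hdimy y' h2 fun n hn => ?_, hdimy y hN hNmax]
    obtain ⟨w, hw, hw0, hwn, -⟩ := hn
    by_contra hlt
    exact h1 ⟨w, ⟨w, mem_support_of_fd_ne_top f F (by rw [hw0]; exact ENat.zero_ne_top),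
      specializes_rfl, rfl, by omega⟩, hw⟩

end Groth.Agent.LC16.FibreModProper
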