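import Groth.Agent.RelPd52.Basic
import Groth.Agent.CAlg9.FibreDepthBC
import Groth.Agent.CAlg9.FibreDepthModel
import Groth.Agent.EGA4H10.ProjDim
import Groth.Agent.Cons62.Basic
import Groth.Agent.GenFree62.Generic

/-! Projective dimension on the fibres: invariance under base change, constructible level sets. -/

set_option autoImplicit false
set_option linter.style.haveILetI false
set_option backward.isDefEq.respectTransparency.types false
set_option synthInstance.maxHeartbeats 200000
set_option maxHeartbeats 1000000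

universe u

open TensorProduct Topology TopologicalSpace IsLocalRing

namespace Groth.Agent.LC16.FibrePd

open Groth.Agent.Fib62

attribute [local instance] Algebra.TensorProduct.rightAlgebra

/-- The two models of the local ring of the fibre agree. -/
theorem exists_algEquiv_fibreLocal {A B : Type u} [CommRing A] [CommRing B] [Algebra A B]
    (P : PrimeSpectrum B) : Nonempty (RelPd52.fibreRing A P ≃ₐ[B] FibreLocal A P) := by
  obtain ⟨τ, hτ, hker⟩ := exists_surjective_fibreLocal (A := A) P
  exact ⟨(Ideal.quotientEquivAlgOfEq B hker.symm).trans (Ideal.quotientKerAlgEquivOfSurjective hτ)⟩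

theorem fibreRing_noetherian {A B : Type u} [CommRing A] [CommRing B] [Algebra A B] [Algebra.FiniteType A B]
    (P : PrimeSpectrum B) : IsNoetherianRing (RelPd52.fibreRing A P) := by
  obtain ⟨e⟩ := exists_algEquiv_fibreLocal (A := A) P
  have := CAlg9.FibreDepth.fibreLocal_noetherian (A := A) P
  exact isNoetherianRing_of_ringEquiv _ e.symm.toRingEquiv

theorem fibreRing_local {A B : Type u} [CommRing A] [CommRing B] [Algebra A B] (P : PrimeSpectrum B) :
    IsLocalRing (RelPd52.fibreRing A P) := by
  obtain ⟨e⟩ := exists_algEquiv_fibreLocal (A := A) P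
  exact e.symm.toRingEquiv.isLocalRing

section BaseChange

variable {A A' B B' : Type u} [CommRing A] [CommRing A'] [CommRing B] [CommRing B'] [Algebra A B] [Algebra A' B']
  [Algebra A A'] [Algebra B B'] [Algebra A B'] [IsScalarTower A B B'] [IsScalarTower A A' B']
  [Algebra.IsPushout A B A' B']

attribute [local instance] Algebra.TensorProduct.rightAlgebra

/-- The projective dimension on the fibres is invariant under base change. -/
theorem fibrePd_baseChange [Algebra.FiniteType A B] [Algebra.FiniteType A' B'] (M : Type u) [AddCommGroup M]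
    [Module B M] [Module.Finite B M] (M' : Type u) [AddCommGroup M'] [Module B' M']
    (eM : B' ⊗[B] M ≃ₗ[B'] M') (P' : PrimeSpectrum B') :
    RelPd52.fibrePd A' M' P' = RelPd52.fibrePd A M (PrimeSpectrum.comap (algebraMap B B') P') := by
  obtain ⟨algψ, hl, hf, hψ⟩ := CAlg9.FibreDepth.exists_flat_fibreLocalHom (A := A) (A' := A') (B := B) (B' := B') P'
  let P := PrimeSpectrum.comap (algebraMap B B') P'
  let R := RelPd52.fibreRing A P
  let R' := RelPd52.fibreRing A' P'
  obtain ⟨e⟩ := exists_algEquiv_fibreLocal (A := A) P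
  obtain ⟨e'⟩ := exists_algEquiv_fibreLocal (A := A') P'
  haveI : IsLocalRing R := fibreRing_local P
  haveI : IsLocalRing R' := fibreRing_local P'
  haveI : IsNoetherianRing R := fibreRing_noetherian (A := A) P
  letI algψ' : Algebra (FibreLocal A P) (FibreLocal A' P') := algψ
  let ψ := algebraMap (FibreLocal A P) (FibreLocal A' P')
  have hψf := (RingHom.flat_algebraMap_iff (R := FibreLocal A P) (S := FibreLocal A' P')).2 hf
  let φ : R →+* R' := (e'.symm.toRingEquiv.toRingHom.comp ψ).comp e.toRingEquiv.toRingHom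
  have hflat : φ.Flat :=
    RingHom.Flat.comp (RingHom.Flat.of_bijective e.bijective)
      (RingHom.Flat.comp hψf (RingHom.Flat.of_bijective e'.symm.bijective))
  have hloc : IsLocalHom φ := by
    haveI := hl
    haveI : IsLocalHom e.toRingEquiv.toRingHom := ⟨fun a ha => (isUnit_map_iff e.toRingEquiv a).mp ha⟩
    haveI : IsLocalHom e'.symm.toRingEquiv.toRingHom := ⟨fun a ha => (isUnit_map_iff e'.symm.toRingEquiv a).mp ha⟩
    haveI : IsLocalHom ψ := hl
    exact RingHom.isLocalHom_comp _ _
  have hφ : ∀ b : B, φ (algebraMap B R b) = algebraMap B' R' (algebraMap B B' b) := fun b => by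
    show e'.symm (ψ (e (algebraMap B R b))) = _
    rw [e.commutes]
    exact (congrArg e'.symm (hψ b)).trans (e'.symm.commutes _)
  letI : Algebra R R' := φ.toAlgebra
  haveI : Module.Flat R R' := hflat
  haveI : IsLocalHom (algebraMap R R') := hloc
  haveI : Module.FaithfullyFlat R R' := @Module.FaithfullyFlat.of_flat_of_isLocalHom R R' _ _ _ _ _ _ _
  haveI : IsScalarTower B R R' := IsScalarTower.of_algebraMap_eq fun b => by
    rw [show algebraMap R R' (algebraMap B R b) = φ (algebraMap B R b) from rfl, hφ,
      ← IsScalarTower.algebraMap_apply B B' R']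
  have h1 := EGA4H10.pd_baseChange_eq R R' (R ⊗[B] M)
  let E : R' ⊗[R] (R ⊗[B] M) ≃ₗ[R'] R' ⊗[B'] M' :=
    AlgebraTensorModule.cancelBaseChange B R R' R' M ≪≫ₗ (AlgebraTensorModule.cancelBaseChange B B' R' R' M).symm ≪≫ₗ
      AlgebraTensorModule.congr (LinearEquiv.refl R' R') eM
  rw [ModuleCat.projectiveDimension_eq_of_linearEquiv (M := ModuleCat.of R' (R' ⊗[R] (R ⊗[B] M)))
    (N := ModuleCat.of R' (R' ⊗[B'] M')) E] at h1
  exact h1

end BaseChange

/-- The points at which the projective dimension on the fibre is less than `c`. -/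
def pdSet (A : Type u) [CommRing A] {B : Type u} [CommRing B] [Algebra A B] (M : Type u) [AddCommGroup M]
    [Module B M] (c : ℕ) : Set (PrimeSpectrum B) :=
  {P | RelPd52.fibrePd A M P < (c : WithBot ℕ∞)}

attribute [local instance] Algebra.TensorProduct.rightAlgebra

variable {A B : Type u} [CommRing A] [CommRing B] [Algebra A B] (M : Type u) [AddCommGroup M] [Module B M]

theorem isConstructible_pdSet_inter [IsNoetherianRing A] [Algebra.FiniteType A B] [Module.Finite B M] (c : ℕ)
    (I : Ideal A) :
    IsConstructible (pdSet A M c ∩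
      PrimeSpectrum.comap (algebraMap A B) ⁻¹' PrimeSpectrum.zeroLocus (I : Set A)) := by
  have : IsNoetherianRing B := Algebra.FiniteType.isNoetherianRing A B
  letI : Module A M := Module.compHom M (algebraMap A B)
  haveI : IsScalarTower A B M := IsScalarTower.of_algebraMap_smul fun _ _ => rfl
  induction I using WellFoundedGT.induction with
  | _ I ih =>
    by_cases htop : I = ⊤
    · simp [htop]
    have hlt : ∀ a : A, a ∉ I → I < I ⊔ Ideal.span {a} := fun a ha =>
      lt_of_le_of_ne le_sup_left fun h => ha (h ▸ Ideal.mem_sup_right (Ideal.mem_span_singleton_self a))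
    by_cases hprime : I.IsPrime
    swap
    · obtain h | ⟨a, ha, b, hb, hab⟩ := Ideal.not_isPrime_iff.mp hprime
      · exact absurd h htop
      convert (ih _ (hlt a ha)).union (ih _ (hlt b hb)) using 1
      ext P
      simp only [Set.mem_inter_iff, Set.mem_preimage, Set.mem_union, PrimeSpectrum.mem_zeroLocus,
        SetLike.coe_subset_coe, sup_le_iff, Ideal.span_singleton_le_iff_mem]
      constructor
      · rintro ⟨hP, hI⟩
        exact ((PrimeSpectrum.comap (algebraMap A B) P).2.mem_or_mem (hI hab)).imp
          (fun h => ⟨hP, hI, h⟩) fun h => ⟨hP, hI, h⟩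
      · rintro (⟨hP, hI, -⟩ | ⟨hP, hI, -⟩) <;> exact ⟨hP, hI⟩
    have : IsDomain (A ⧸ I) := Ideal.Quotient.isDomain I
    let B₁ := (A ⧸ I) ⊗[A] B
    haveI : Algebra.IsPushout A (A ⧸ I) B B₁ := TensorProduct.isPushout
    haveI : Module.Finite B₁ (B₁ ⊗[B] M) := Module.Finite.base_change B B₁ M
    obtain ⟨b₁, h₁, hfreeM⟩ := GenFree62.exists_freeAway (A := A ⧸ I) (B := B₁) (M := B₁ ⊗[B] M)
    obtain ⟨b₂, h₂, hfreeB⟩ := GenFree62.exists_freeAway (A := A ⧸ I) (B := B₁) (M := B₁)
    obtain ⟨h, hh0⟩ := Ideal.Quotient.mk_surjective (b₁ * b₂)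
    have hh : h ∉ I := fun hh => mul_ne_zero h₁ h₂ (hh0 ▸ Ideal.Quotient.eq_zero_iff_mem.2 hh)
    let A' := Localization.Away (Ideal.Quotient.mk I h)
    have hunit : IsUnit (algebraMap (A ⧸ I) A' (b₁ * b₂)) := hh0 ▸ IsLocalization.Away.algebraMap_isUnit _
    rw [map_mul, IsUnit.mul_iff] at hunit
    have := hfreeB A' hunit.2
    have := hfreeM A' hunit.1
    let B' := A' ⊗[A] B
    haveI : Algebra.IsPushout A A' B B' := TensorProduct.isPushout
    haveI : Algebra.IsPushout A B A' B' := Algebra.IsPushout.symm inferInstance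
    have : Module.Flat A' B' :=
      Module.Flat.of_linearEquiv (AlgebraTensorModule.cancelBaseChange A (A ⧸ I) A' A' B).symm
    let M' := B' ⊗[B] M
    haveI : Module.Flat A' M' := Module.Flat.of_linearEquiv
      (Algebra.IsPushout.cancelBaseChange A A' B B' M ≪≫ₗ
        (AlgebraTensorModule.cancelBaseChange A (A ⧸ I) A' A' M).symm ≪≫ₗ
        AlgebraTensorModule.congr (LinearEquiv.refl A' A')
          (Algebra.IsPushout.cancelBaseChange A (A ⧸ I) B B₁ M).symm)
    have : Algebra.FiniteType A A' :=
      have : Algebra.FiniteType (A ⧸ I) A' := inferInstance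
      Algebra.FiniteType.trans (R := A) (S := A ⧸ I) (A := A') inferInstance this
    have : IsNoetherianRing A' := Algebra.FiniteType.isNoetherianRing A A'
    have : Algebra.FiniteType A' B' := inferInstance
    have : Algebra.FinitePresentation A' B' := Algebra.FinitePresentation.of_finiteType.1 inferInstance
    have : IsNoetherianRing B' := Algebra.FiniteType.isNoetherianRing A' _
    haveI : Module.Finite B' M' := Module.Finite.base_change B B' M
    haveI : Module.FinitePresentation B' M' := Module.finitePresentation_of_finite B' M'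
    let ρ : B →+* B' := algebraMap B B'
    have hρ : ρ.FinitePresentation := by
      refine RingHom.FinitePresentation.of_finiteType.1 (RingHom.FiniteType.of_comp_finiteType
        (f := algebraMap A B) ?_)
      rw [show ρ.comp (algebraMap A B) = algebraMap A B' from (IsScalarTower.algebraMap_eq A B B').symm]
      exact RingHom.finiteType_algebraMap.2
        (Algebra.FiniteType.trans (R := A) (S := A') (A := B') inferInstance inferInstance)
    have hbc : ∀ P' : PrimeSpectrum B', P' ∈ pdSet A' M' c ↔ PrimeSpectrum.comap ρ P' ∈ pdSet A M c := fun P' =>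
      iff_of_eq (congrArg (· < (c : WithBot ℕ∞)) (fibrePd_baseChange (A := A) M M' (LinearEquiv.refl B' _) P'))
    have himg := PrimeSpectrum.isConstructible_comap_image hρ
      (IsRetrocompact.isConstructible (RelPd52.isOpen_fibrePd_lt (A := A') (B := B') c M')
        fun U _ _ => NoetherianSpace.isCompact _)
    have hih := ih (I ⊔ Ideal.span {h}) (hlt h hh)
    convert hih.union himg using 1
    ext P
    simp only [Set.mem_inter_iff, Set.mem_preimage, Set.mem_union, PrimeSpectrum.mem_zeroLocus,
      SetLike.coe_subset_coe, sup_le_iff, Ideal.span_singleton_le_iff_mem, Set.mem_image]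
    constructor
    · rintro ⟨hP, hI⟩
      by_cases hPh : h ∈ (PrimeSpectrum.comap (algebraMap A B) P).asIdeal
      · exact Or.inl ⟨hP, hI, hPh⟩
      let K := P.asIdeal.ResidueField
      let g : A ⧸ I →+* K := Ideal.Quotient.lift I (algebraMap A K) fun a ha => by
        rw [IsScalarTower.algebraMap_apply A B K, Ideal.algebraMap_residueField_eq_zero]
        exact hI ha
      have hgu : IsUnit (g (Ideal.Quotient.mk I h)) := by
        rw [Ideal.Quotient.lift_mk, IsScalarTower.algebraMap_apply A B K, isUnit_iff_ne_zero, ne_eq,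
          Ideal.algebraMap_residueField_eq_zero]
        exact hPh
      let φ : A' →ₐ[A] K := ⟨IsLocalization.Away.lift (Ideal.Quotient.mk I h) hgu, fun a => by
        show IsLocalization.Away.lift _ hgu (algebraMap A A' a) = _
        rw [IsScalarTower.algebraMap_apply A (A ⧸ I) A', IsLocalization.Away.lift_eq]
        rfl⟩
      let Φ : B' →ₐ[A] K :=
        Algebra.TensorProduct.lift φ (IsScalarTower.toAlgHom A B K) fun _ _ => .all _ _
      let P' : PrimeSpectrum B' := ⟨RingHom.ker Φ.toRingHom, RingHom.ker_isPrime _⟩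
      have hP' : PrimeSpectrum.comap ρ P' = P := by
        ext b
        show Φ ((1 : A') ⊗ₜ[A] b) = 0 ↔ _
        rw [Algebra.TensorProduct.lift_tmul, map_one, one_mul]
        exact Ideal.algebraMap_residueField_eq_zero
      exact Or.inr ⟨P', (hbc P').2 (hP'.symm ▸ hP), hP'⟩
    · rintro (⟨hP, hI, -⟩ | ⟨P', hP', rfl⟩)
      · exact ⟨hP, hI⟩
      refine ⟨(hbc P').1 hP', fun a ha => ?_⟩
      show ρ (algebraMap A B a) ∈ P'.asIdeal
      rw [← IsScalarTower.algebraMap_apply A B B', IsScalarTower.algebraMap_apply A A' B',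
        IsScalarTower.algebraMap_apply A (A ⧸ I) A',
        show algebraMap A (A ⧸ I) a = 0 from Ideal.Quotient.eq_zero_iff_mem.2 ha, map_zero, map_zero]
      exact zero_mem _

open Stage62 in
/-- A finitely presented module over a finitely presented algebra comes from a Noetherian base. -/
theorem exists_model [Algebra.FinitePresentation A B] [Module.FinitePresentation B M] :
    ∃ (A₀ B₀ : Type u) (_ : CommRing A₀) (_ : IsNoetherianRing A₀) (_ : CommRing B₀) (_ : Algebra A₀ B₀)
      (_ : Algebra.FiniteType A₀ B₀) (_ : Algebra A₀ A) (_ : Algebra B₀ B) (_ : Algebra A₀ B)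
      (_ : IsScalarTower A₀ B₀ B) (_ : IsScalarTower A₀ A B) (_ : Algebra.IsPushout A₀ B₀ A B)
      (M₀ : Type u) (_ : AddCommGroup M₀) (_ : Module B₀ M₀) (_ : Module.Finite B₀ M₀),
      Nonempty (B ⊗[B₀] M₀ ≃ₗ[B] M) := by
  classical
  obtain ⟨m, π, hπ⟩ := Module.Finite.exists_fin' B M
  obtain ⟨w, hw⟩ := (Module.FinitePresentation.fg_ker π hπ : (LinearMap.ker π).FG)
  obtain ⟨A₀, B₀, _, _, e, hN, hB₀, hsub⟩ :=
    Cons62.exists_model (A := A) (B := B) (t := ⋃ v ∈ (w : Set (Fin m → B)), Set.range v)
      (w.finite_toSet.biUnion fun v _ => Set.finite_range v)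
  choose l hl using fun (v : ↥(w : Set (Fin m → B))) (i : Fin m) => hsub (Set.mem_biUnion v.2 ⟨i, rfl⟩)
  have hspan : Submodule.span B (Set.range fun v => coord e (l v)) = LinearMap.ker π := by
    rw [← hw]
    congr 1
    have : (fun v => coord e (l v)) = fun v => v.1 := funext fun v => funext (hl v)
    rw [this, Subtype.range_coe]
  letI : Algebra B₀ B := (e.toAlgHom.toRingHom.comp (Algebra.TensorProduct.includeRight :
    B₀ →ₐ[A₀] A ⊗[A₀] B₀).toRingHom).toAlgebra
  have he : ∀ b, e (1 ⊗ₜ b) = algebraMap B₀ B b := fun _ => rfl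
  haveI : IsScalarTower A₀ B₀ B := IsScalarTower.of_algebraMap_eq fun a => by
    rw [← he, Algebra.algebraMap_eq_smul_one (R := A₀) (A := B₀), ← smul_tmul, ← Algebra.algebraMap_eq_smul_one,
      IsScalarTower.algebraMap_apply A₀ A B]
    exact (e.commutes _).symm
  haveI hpB : Algebra.IsPushout A₀ A B₀ B := CAlg9.FibreDepth.isPushout_of_model e he
  let M₀ := (Fin m → B₀) ⧸ Submodule.span B₀ (Set.range l)
  letI : Module A M := Module.compHom M (algebraMap A B)
  haveI : IsScalarTower A B M := IsScalarTower.of_algebraMap_smul fun _ _ => rfl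
  letI : Module B₀ M := Module.compHom M (algebraMap B₀ B)
  haveI : IsScalarTower B₀ B M := IsScalarTower.of_algebraMap_smul fun _ _ => rfl
  let cl : (Fin m → B₀) →ₗ[B₀] M :=
    (π.restrictScalars B₀).comp ((Algebra.linearMap B₀ B).compLeft (Fin m))
  have hcl : ∀ v, cl v = π (coord e v) := fun _ => rfl
  let g : M₀ →ₗ[B₀] M := Submodule.liftQ _ cl (Submodule.span_le.2 (by
    rintro _ ⟨k, rfl⟩
    rw [SetLike.mem_coe, LinearMap.mem_ker, hcl, ← LinearMap.mem_ker, ← hspan]
    exact Submodule.subset_span ⟨k, rfl⟩))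
  let Φ : B ⊗[B₀] M₀ →ₗ[B] M := g.liftBaseChange B
  let E : A ⊗[A₀] M₀ ≃ₗ[A] M := quotEquiv e l ≪≫ₗ (Submodule.quotEquivOfEq _ _ hspan).restrictScalars A ≪≫ₗ
      (π.quotKerEquivOfSurjective hπ).restrictScalars A
  have key : ∀ t, Φ ((Algebra.IsPushout.cancelBaseChange A₀ A B₀ B M₀).symm t) = E t := by
    intro t
    induction t using TensorProduct.induction_on with
    | zero => simp only [map_zero]
    | add x y hx hy => simp only [map_add, hx, hy]
    | tmul a x =>
      obtain ⟨v, rfl⟩ := Submodule.Quotient.mk_surjective _ x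
      rw [Algebra.IsPushout.cancelBaseChange_symm_tmul]
      show algebraMap A B a • π (coord e v) =
        ((π.quotKerEquivOfSurjective hπ).restrictScalars A)
          (((Submodule.quotEquivOfEq _ _ hspan).restrictScalars A) (quotEquiv e l (a ⊗ₜ Submodule.Quotient.mk v)))
      rw [CAlg9.FibreDepth.quotEquiv_tmul, map_smul, map_smul, algebraMap_smul]
      rfl
  have hΦ : Function.Bijective Φ := by
    have : Φ = fun x => E (Algebra.IsPushout.cancelBaseChange A₀ A B₀ B M₀ x) := funext fun x => by
      rw [← key, LinearEquiv.symm_apply_apply]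
    show Function.Bijective ⇑Φ
    rw [this]
    exact E.bijective.comp (Algebra.IsPushout.cancelBaseChange A₀ A B₀ B M₀).bijective
  haveI : Algebra.IsPushout A₀ B₀ A B := Algebra.IsPushout.symm hpB
  haveI := hN
  exact ⟨A₀, B₀, inferInstance, inferInstance, inferInstance, inferInstance, inferInstance, inferInstance,
    inferInstance, inferInstance, inferInstance, inferInstance, inferInstance, M₀, inferInstance, inferInstance,
    inferInstance, ⟨LinearEquiv.ofBijective Φ hΦ⟩⟩

/-- The level sets of the projective dimension on the fibres are constructible, flat or not. -/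
theorem isConstructible_pdSet [Algebra.FinitePresentation A B] [Module.FinitePresentation B M] (c : ℕ) :
    IsConstructible (pdSet (B := B) A M c) := by
  obtain ⟨A₀, B₀, _, _, _, _, _, _, _, _, _, _, _, M₀, _, _, _, ⟨eM⟩⟩ := exists_model (A := A) (B := B) M
  have h := isConstructible_pdSet_inter (A := A₀) (B := B₀) M₀ c (⊥ : Ideal A₀)
  simp only [Submodule.bot_coe, PrimeSpectrum.zeroLocus_singleton_zero, Set.preimage_univ,
    Set.inter_univ] at h
  obtain ⟨D, hD⟩ := PrimeSpectrum.exists_constructibleSetData_iff.2 h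
  refine PrimeSpectrum.exists_constructibleSetData_iff.1 ⟨D.map (algebraMap B₀ B), ?_⟩
  rw [PrimeSpectrum.ConstructibleSetData.toSet_map, hD]
  ext P
  show RelPd52.fibrePd A₀ M₀ _ < _ ↔ _
  rw [← fibrePd_baseChange (A := A₀) (A' := A) M₀ M eM P]
  rfl

end Groth.Agent.LC16.FibrePd
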