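import Groth.Agent.LC16.FibreMod
import Groth.Agent.LC16.FibrePd

/-! The rectified depth of a module on the fibres has locally constructible level sets, flat or not. -/

set_option autoImplicit false
set_option linter.style.haveILetI false
set_option backward.isDefEq.respectTransparency.types false
set_option synthInstance.maxHeartbeats 200000
set_option maxHeartbeats 1000000

universe u

open CategoryTheory CategoryTheory.Limits AlgebraicGeometry TopologicalSpace Topology IsLocalRing TensorProduct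

namespace Groth.Agent.LC16.FibreMod

variable {X Y : Scheme.{u}}

theorem fibrePd_eq_bot {A B : Type u} [CommRing A] [CommRing B] [Algebra A B] {N : ℕ}
    [Algebra (MvPolynomial (ULift.{u} (Fin N)) A) B]
    [IsScalarTower A (MvPolynomial (ULift.{u} (Fin N)) A) B]
    (hs : Function.Surjective (algebraMap (MvPolynomial (ULift.{u} (Fin N)) A) B))
    (M : Type u) [AddCommGroup M] [Module B M] [Module (MvPolynomial (ULift.{u} (Fin N)) A) M]
    [IsScalarTower (MvPolynomial (ULift.{u} (Fin N)) A) B M] [Module.Finite B M]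
    (q : PrimeSpectrum B) (hq : q ∉ Module.support B M) :
    RelPd52.fibrePd A M (PrimeSpectrum.comap (algebraMap (MvPolynomial (ULift.{u} (Fin N)) A) B) q) = ⊥ := by
  obtain ⟨φ, hφ, ⟨E⟩⟩ := Sk62.exists_fibreMod_equiv (A := A) hs M q
  have h0 : Subsingleton (Sk62.fibreMod A M q) := (Sk62.subsingleton_fibreMod_iff M q).2 hq
  rw [RelPd52.fibrePd, projectiveDimension_eq_bot_iff, ModuleCat.isZero_iff_subsingleton]
  exact E.toEquiv.subsingleton_congr.2 h0

/-- The rectified depth of a finitely presented module on the fibres has locally constructible level sets. -/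
theorem isLocallyConstructible_fd_add_fdeg (f : X ⟶ Y) [LocallyOfFinitePresentation f] (F : X.Modules)
    (hF : CohB1.IsFP F) (n : ℕ∞) :
    IsLocallyConstructible {x : X | fd f F x + (E4O.fdeg f x : ℕ∞) = n} := by
  haveI := hF
  intro x
  obtain ⟨V, hV, hyV, -⟩ := exists_isAffineOpen_mem_and_subset (X := Y) (x := f x) (U := ⊤) trivial
  obtain ⟨W, hW, hxW, hWV⟩ := exists_isAffineOpen_mem_and_subset (X := X) (x := x) (U := f ⁻¹ᵁ V) hyV
  have hle : W ≤ f ⁻¹ᵁ V := fun a ha => hWV ha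
  let φ := f.appLE V W hle
  algebraize [φ.hom]
  have hfp : Algebra.FinitePresentation Γ(Y, V) Γ(X, W) :=
    LocallyOfFinitePresentation.finitePresentation_appLE f hV hW hle
  let M := Γ(F, W)
  haveI : Module.FinitePresentation Γ(X, W) M := Props58.LocFree.finitePresentation_sections F hW
  obtain ⟨(ι : Type u), _, π, hπ, hker⟩ := (Algebra.FinitePresentation.iff_quotient_mvPolynomial'
    (R := Γ(Y, V)) (A := Γ(X, W))).1 hfp
  let N := Fintype.card ι
  let σ : ULift.{u} (Fin N) ≃ ι := Equiv.ulift.trans (Fintype.equivFin ι).symm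
  let π' : MvPolynomial (ULift.{u} (Fin N)) Γ(Y, V) →ₐ[Γ(Y, V)] Γ(X, W) :=
    π.comp (MvPolynomial.renameEquiv Γ(Y, V) σ).toAlgHom
  let _ := π'.toRingHom.toAlgebra
  have : IsScalarTower Γ(Y, V) (MvPolynomial (ULift.{u} (Fin N)) Γ(Y, V)) Γ(X, W) :=
    IsScalarTower.of_algebraMap_eq fun a => (π'.commutes a).symm
  have hs : Function.Surjective (algebraMap (MvPolynomial (ULift.{u} (Fin N)) Γ(Y, V)) Γ(X, W)) :=
    hπ.comp (MvPolynomial.renameEquiv Γ(Y, V) σ).surjective
  have : Module.FinitePresentation (MvPolynomial (ULift.{u} (Fin N)) Γ(Y, V)) Γ(X, W) := by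
    refine Module.finitePresentation_of_surjective
      (Algebra.linearMap (MvPolynomial (ULift.{u} (Fin N)) Γ(Y, V)) Γ(X, W)) hs ?_
    exact Algebra.FinitePresentation.ker_fG_of_surjective π' hs
  letI : Module (MvPolynomial (ULift.{u} (Fin N)) Γ(Y, V)) M := Module.compHom _ π'.toRingHom
  haveI : IsScalarTower (MvPolynomial (ULift.{u} (Fin N)) Γ(Y, V)) Γ(X, W) M :=
    IsScalarTower.of_algebraMap_smul fun _ _ => rfl
  haveI : Module.FinitePresentation (MvPolynomial (ULift.{u} (Fin N)) Γ(Y, V)) M :=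
    Module.FinitePresentation.trans (MvPolynomial (ULift.{u} (Fin N)) Γ(Y, V)) M Γ(X, W)
  have := hV.isOpenImmersion_fromSpec
  have := hW.isOpenImmersion_fromSpec
  let c : PrimeSpectrum Γ(X, W) → PrimeSpectrum (MvPolynomial (ULift.{u} (Fin N)) Γ(Y, V)) :=
    PrimeSpectrum.comap (algebraMap (MvPolynomial (ULift.{u} (Fin N)) Γ(Y, V)) Γ(X, W))
  have key : ∀ (a : X) (ha : a ∈ W), a ∈ CohB1.support F → ∃ m e : ℕ,
      fd f F a = (m : ℕ∞) ∧
      RelPd52.fibrePd Γ(Y, V) M (c (hW.primeIdealOf ⟨a, ha⟩)) = (e : WithBot ℕ∞) ∧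
      m + E4O.fdeg f a + e = N := by
    intro a ha has
    have hdep := exists_sections_equiv f F hV hW hle (f a) (f.asFiber a) (by rw [f.fiberι_asFiber]; exact ha)
    obtain ⟨m, e, hm, he, hsum⟩ := exists_depth_add_fdeg (A := Γ(Y, V)) hs M (hW.primeIdealOf ⟨a, ha⟩)
      ((QCSupp72.mem_support_iff F hW ha).2 has)
    have hprime : hW.primeIdealOf ⟨f.fiberι (f a) (f.asFiber a), by rw [f.fiberι_asFiber]; exact ha⟩ =
        hW.primeIdealOf ⟨a, ha⟩ := congrArg hW.primeIdealOf (Subtype.ext (f.fiberι_asFiber a))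
    rw [hprime] at hdep
    refine ⟨m, e, hdep.symm.trans hm, he, ?_⟩
    have hdeg : E4O.fdeg (Spec.map (CommRingCat.ofHom (algebraMap Γ(Y, V) Γ(X, W)))) (hW.primeIdealOf ⟨a, ha⟩) =
        E4O.fdeg f a := by
      let h := Spec.map (CommRingCat.ofHom (algebraMap Γ(Y, V) Γ(X, W)))
      have : LocallyOfFiniteType h :=
        (HasRingHomProperty.Spec_iff (P := @LocallyOfFiniteType)).2 (RingHom.finiteType_algebraMap.2 inferInstance)
      have hcomm : h ≫ hV.fromSpec = hW.fromSpec ≫ f :=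
        IsAffineOpen.SpecMap_appLE_fromSpec f hV hW hle
      calc E4O.fdeg h (hW.primeIdealOf ⟨a, ha⟩)
          = E4O.fdeg (h ≫ hV.fromSpec) (hW.primeIdealOf ⟨a, ha⟩) :=
            (AffNorm62.fdeg_comp_right_openImmersion h hV.fromSpec _).symm
        _ = E4O.fdeg (hW.fromSpec ≫ f) (hW.primeIdealOf ⟨a, ha⟩) := by rw [hcomm]
        _ = E4O.fdeg f (hW.fromSpec (hW.primeIdealOf ⟨a, ha⟩)) :=
            E4O.fdeg_comp_openImmersion hW.fromSpec f _
        _ = E4O.fdeg f a := by rw [hW.fromSpec_primeIdealOf]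
    rw [hdeg] at hsum
    exact hsum
  -- the level set in the chart is cut out by the projective dimensions
  let T : Set (PrimeSpectrum Γ(X, W)) := hW.fromSpec ⁻¹' {a : X | fd f F a + (E4O.fdeg f a : ℕ∞) = n}
  let P := fun (k : ℕ) => c ⁻¹' FibrePd.pdSet (B := MvPolynomial (ULift.{u} (Fin N)) Γ(Y, V)) Γ(Y, V) M k
  have hP : ∀ k, IsConstructible (P k) := fun k => by
    obtain ⟨D, hD⟩ := PrimeSpectrum.exists_constructibleSetData_iff.2
      (FibrePd.isConstructible_pdSet (A := Γ(Y, V)) (B := MvPolynomial (ULift.{u} (Fin N)) Γ(Y, V)) M k)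
    refine PrimeSpectrum.exists_constructibleSetData_iff.1
      ⟨D.map (algebraMap (MvPolynomial (ULift.{u} (Fin N)) Γ(Y, V)) Γ(X, W)), ?_⟩
    rw [PrimeSpectrum.ConstructibleSetData.toSet_map, hD]
  have hpoint : ∀ q : PrimeSpectrum Γ(X, W), ∃ (a : X) (ha : a ∈ W),
      hW.fromSpec q = a ∧ hW.primeIdealOf ⟨a, ha⟩ = q := fun q => by
    have hq : hW.fromSpec q ∈ W := by
      have : hW.fromSpec q ∈ Set.range hW.fromSpec := ⟨q, rfl⟩
      rwa [hW.range_fromSpec] at this
    exact ⟨_, hq, rfl, hW.fromSpec.isOpenEmbedding.injective (hW.fromSpec_primeIdealOf ⟨_, hq⟩)⟩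
  have hcases : ∀ q : PrimeSpectrum Γ(X, W),
      (q ∈ P 0 ∧ fd f F (hW.fromSpec q) = ⊤) ∨ ∃ m e : ℕ,
        fd f F (hW.fromSpec q) + (E4O.fdeg f (hW.fromSpec q) : ℕ∞) = (m : ℕ∞) ∧ m + e = N ∧
        ∀ k, q ∈ P k ↔ e < k := by
    intro q
    obtain ⟨a, ha, hqa, haq⟩ := hpoint q
    rw [hqa]
    by_cases has : a ∈ CohB1.support F
    · obtain ⟨m, e, hm, he, hsum⟩ := key a ha has
      refine Or.inr ⟨m + E4O.fdeg f a, e, by rw [hm, Nat.cast_add], hsum, fun k => ?_⟩
      show RelPd52.fibrePd Γ(Y, V) M (c q) < (k : WithBot ℕ∞) ↔ e < k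
      rw [← haq, he]
      exact Nat.cast_lt
    · refine Or.inl ⟨?_, fd_of_notMem f F has⟩
      have hbot := fibrePd_eq_bot (A := Γ(Y, V)) hs M q (by
        rw [← haq]; exact fun h => has ((QCSupp72.mem_support_iff F hW ha).1 h))
      show RelPd52.fibrePd Γ(Y, V) M (c q) < ((0 : ℕ) : WithBot ℕ∞)
      rw [hbot]
      exact WithBot.bot_lt_coe _
  have hT : IsConstructible T := by
    induction n using ENat.recTopCoe with
    | top =>
      convert hP 0 using 1
      ext q
      show fd f F (hW.fromSpec q) + _ = ⊤ ↔ _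
      rcases hcases q with ⟨h, htop⟩ | ⟨m, e, hm, -, hiff⟩
      · simp [htop, h]
      · rw [hm, hiff]
        simp
    | coe k =>
      by_cases hk : k ≤ N
      · convert (hP (N - k + 1)).sdiff (hP (N - k)) using 1
        ext q
        show fd f F (hW.fromSpec q) + _ = _ ↔ _
        rcases hcases q with ⟨h, htop⟩ | ⟨m, e, hm, hN, hiff⟩
        · rw [htop, top_add, Set.mem_sdiff]
          refine iff_of_false (ENat.natCast_ne_top k).symm fun hd => hd.2 ?_
          exact lt_of_lt_of_le (show RelPd52.fibrePd Γ(Y, V) M (c q) < ((0 : ℕ) : WithBot ℕ∞) from h)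
            (Nat.cast_le.2 (Nat.zero_le _))
        · rw [hm, Set.mem_sdiff, hiff, hiff, Nat.cast_inj]
          omega
      · convert IsConstructible.empty using 1
        ext q
        show fd f F (hW.fromSpec q) + _ = _ ↔ _
        rcases hcases q with ⟨h, htop⟩ | ⟨m, e, hm, hN, -⟩
        · simp [htop]
        · rw [hm, Nat.cast_inj, Set.mem_empty_iff_false, iff_false]
          omega
  refine ⟨W, W.isOpen.mem_nhds hxW, W.isOpen, ?_⟩
  let ψ : (W : Set X) ≃ₜ Spec Γ(X, W) := hW.isoSpec.hom.homeomorph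
  have h2 := hT.preimage_of_isOpenEmbedding ψ.isOpenEmbedding
  convert h2 using 1
  ext w
  let v : ↥(W : Scheme.{u}) := w
  show v.1 ∈ {a : X | fd f F a + (E4O.fdeg f a : ℕ∞) = n} ↔
    hW.fromSpec (hW.isoSpec.hom v) ∈ {a : X | fd f F a + (E4O.fdeg f a : ℕ∞) = n}
  exact iff_of_eq (congrArg (fun z => z ∈ {a : X | fd f F a + (E4O.fdeg f a : ℕ∞) = n})
    (congrArg (fun g : (W : Scheme.{u}) ⟶ X => g v) hW.isoSpec_hom_fromSpec).symm)

end Groth.Agent.LC16.FibreMod
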