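import Groth.Agent.LC16.DTCore
import Mathlib.CategoryTheory.Limits.Types.Filtered

/-!
Torsion functor and ideal transform commute with directed colimits.
-/

namespace Groth.Agent.LC16.Filtered

universe u

set_option linter.unusedSectionVars false

open CategoryTheory CategoryTheory.Limits Opposite LocCoh

variable {R : Type u} [CommRing R] {Λ : Type u} [SmallCategory Λ] [IsFiltered Λ]
variable {F : Λ ⥤ ModuleCat.{u} R} {c : Cocone F} (hc : IsColimit c)

include hc in
lemma exists_rep (x : c.pt) : ∃ j y, (c.ι.app j).hom y = x :=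
  Types.jointly_surjective_of_isColimit (isColimitOfPreserves (forget (ModuleCat.{u} R)) hc) x

include hc in
lemma exists_map_eq {i j : Λ} {x : F.obj i} {y : F.obj j}
    (h : (c.ι.app i).hom x = (c.ι.app j).hom y) :
    ∃ k, ∃ f : i ⟶ k, ∃ g : j ⟶ k, (F.map f).hom x = (F.map g).hom y :=
  (Types.FilteredColimit.isColimit_eq_iff _ (isColimitOfPreserves (forget (ModuleCat.{u} R)) hc)).mp h

lemma app_map {i k : Λ} (f : i ⟶ k) (x : F.obj i) :
    (c.ι.app k).hom ((F.map f).hom x) = (c.ι.app i).hom x :=
  congr($(c.w f).hom x)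

lemma map_map {i j k : Λ} (f : i ⟶ j) (g : j ⟶ k) (x : F.obj i) :
    (F.map (f ≫ g)).hom x = (F.map g).hom ((F.map f).hom x) := by
  rw [F.map_comp]; rfl

include hc in
lemma exists_kills {j : Λ} {P : Submodule R (F.obj j)} (hfg : P.FG)
    (h : ∀ x ∈ P, (c.ι.app j).hom x = 0) : ∃ k, ∃ f : j ⟶ k, ∀ x ∈ P, (F.map f).hom x = 0 := by
  classical
  obtain ⟨s, rfl⟩ := hfg
  induction s using Finset.induction_on with
  | empty =>
    refine ⟨j, 𝟙 j, fun x hx => ?_⟩
    rw [Finset.coe_empty, Submodule.span_empty, Submodule.mem_bot] at hx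
    rw [hx, map_zero]
  | insert a s _ ih =>
    obtain ⟨k, f, hf⟩ := ih fun x hx => h x (Submodule.span_mono (Finset.coe_subset.mpr (Finset.subset_insert a s)) hx)
    have ha : (c.ι.app k).hom ((F.map f).hom a) = (c.ι.app k).hom 0 := by
      rw [app_map, map_zero]
      exact h a (Submodule.subset_span (Finset.mem_insert_self a s))
    obtain ⟨l, g, g', hg⟩ := exists_map_eq hc ha
    refine ⟨l, f ≫ g, fun x hx => ?_⟩
    rw [map_zero] at hg
    rw [map_map]
    rw [Finset.coe_insert, Submodule.span_insert, Submodule.mem_sup] at hx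
    obtain ⟨p, hp, q, hq, rfl⟩ := hx
    obtain ⟨r, rfl⟩ := Submodule.mem_span_singleton.mp hp
    rw [map_add, map_add, map_smul, map_smul, hg, hf q hq, smul_zero, map_zero, add_zero]

include hc in
lemma exists_lift_hom [IsNoetherianRing R] {N : Type u} [AddCommGroup N] [Module R N]
    [Module.Finite R N] (f : N →ₗ[R] c.pt) :
    ∃ j, ∃ g : N →ₗ[R] F.obj j, (c.ι.app j).hom ∘ₗ g = f := by
  classical
  obtain ⟨n, π, hπ⟩ := Module.Finite.exists_fin' R N
  have hrep : ∀ i : Fin n, ∃ j y, (c.ι.app j).hom y = f (π (Pi.single i 1)) := fun i => exists_rep hc _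
  choose J y hy using hrep
  obtain ⟨j, hj⟩ := IsFiltered.sup_objs_exists (Finset.univ.image J)
  have hj' : ∀ i, Nonempty (J i ⟶ j) := fun i => hj (Finset.mem_image_of_mem _ (Finset.mem_univ i))
  let φ : (Fin n → R) →ₗ[R] F.obj j :=
    Fintype.linearCombination R fun i => (F.map (hj' i).some).hom (y i)
  have hφ : (c.ι.app j).hom ∘ₗ φ = f ∘ₗ π := by
    refine LinearMap.pi_ext' fun i => LinearMap.ext_ring ?_
    simp only [LinearMap.comp_apply, LinearMap.single_apply, φ,
      Fintype.linearCombination_apply_single, one_smul]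
    rw [app_map, hy]
  obtain ⟨k, g, hg⟩ := exists_kills hc (Submodule.FG.map φ (IsNoetherian.noetherian (LinearMap.ker π)))
    (by
      rintro _ ⟨x, hx, rfl⟩
      rw [← LinearMap.comp_apply, hφ, LinearMap.comp_apply, LinearMap.mem_ker.mp hx, map_zero])
  have hle : LinearMap.ker π ≤ LinearMap.ker ((F.map g).hom ∘ₗ φ) := fun x hx =>
    hg _ ⟨x, hx, rfl⟩
  refine ⟨k, Submodule.liftQ _ _ hle ∘ₗ (π.quotKerEquivOfSurjective hπ).symm.toLinearMap, ?_⟩
  refine LinearMap.ext fun v => ?_
  obtain ⟨x, rfl⟩ := hπ v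
  have e : (π.quotKerEquivOfSurjective hπ).symm (π x) = Submodule.Quotient.mk x := by
    rw [LinearEquiv.symm_apply_eq, LinearMap.quotKerEquivOfSurjective_apply_mk]
  simp only [LinearMap.comp_apply, LinearEquiv.coe_toLinearMap, e, Submodule.liftQ_apply]
  rw [app_map]
  exact congr($hφ x)

variable (I : Ideal R)

theorem gammaI_preserves [IsNoetherianRing R] : PreservesColimitsOfShape Λ (DRing.gammaI I) where
  preservesColimit {F} := by
    refine preservesColimit_of_preserves_colimit_cocone (colimit.isColimit F)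
      (isColimitOfReflects (forget (ModuleCat.{u} R))
        (Types.FilteredColimit.isColimitOf _ _ ?_ ?_))
    · intro x
      obtain ⟨x, hx⟩ : ↥(DRing.torsionSub I (colimit.cocone F).pt) := x
      obtain ⟨n, hn⟩ := hx
      obtain ⟨j, y, rfl⟩ := exists_rep (colimit.isColimit F) x
      obtain ⟨k, g, hg⟩ := exists_kills (colimit.isColimit F)
        (Submodule.FG.map (LinearMap.toSpanSingleton R (F.obj j) y) (IsNoetherian.noetherian (I ^ n)))
        (by
          rintro _ ⟨a, ha, rfl⟩
          rw [LinearMap.toSpanSingleton_apply, map_smul]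
          exact hn a ha)
      refine ⟨k, ⟨(F.map g).hom y, n, fun a ha => ?_⟩, ?_⟩
      · rw [← map_smul]
        exact hg _ ⟨a, ha, rfl⟩
      · exact Subtype.ext (app_map g y).symm
    · intro i j xi xj h
      obtain ⟨k, f, g, hfg⟩ := exists_map_eq (colimit.isColimit F)
        (x := (xi : ↥(DRing.torsionSub I (F.obj i))).1) (y := (xj : ↥(DRing.torsionSub I (F.obj j))).1)
        (congrArg Subtype.val h)
      exact ⟨k, f, g, Subtype.ext hfg⟩

open Groth.Agent.LC16 in
theorem idealTransform_preserves [IsNoetherianRing R] :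
    PreservesColimitsOfShape Λ (LocCoh.idealTransform I) where
  preservesColimit {F} := by
    refine preservesColimit_of_preserves_colimit_cocone (colimit.isColimit F)
      (isColimitOfReflects (forget (ModuleCat.{u} R))
        (Types.FilteredColimit.isColimitOf _ _ ?_ ?_))
    · intro x
      obtain ⟨t, f, hf⟩ := DT.inc_surjective (I := I) (M := (colimit.cocone F).pt) x
      obtain ⟨j, g, hg⟩ := exists_lift_hom (colimit.isColimit F) f
      refine ⟨j, DT.inc I (F.obj j) t g, ?_⟩
      exact (hf.trans ((congrArg _ hg.symm).trans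
        (DT.map_inc ((colimit.cocone F).ι.app j).hom g).symm))
    · intro i j xi xj h
      obtain ⟨t, f, rfl⟩ := DT.inc_surjective (I := I) (M := F.obj i) xi
      obtain ⟨s, g, rfl⟩ := DT.inc_surjective (I := I) (M := F.obj j) xj
      obtain ⟨m, a, b, -⟩ := IsFilteredOrEmpty.cocone_objs i j
      set N := max t s
      set f' := (F.map a).hom ∘ₗ DT.res I (le_max_left t s : t ≤ N) f
      set g' := (F.map b).hom ∘ₗ DT.res I (le_max_right t s : s ≤ N) g
      have ha : DT.map (F.map a).hom (DT.inc I (F.obj i) t f) = DT.inc I (F.obj m) N f' := by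
        rw [← DT.inc_res (le_max_left t s : t ≤ N), DT.map_inc]
      have hb : DT.map (F.map b).hom (DT.inc I (F.obj j) s g) = DT.inc I (F.obj m) N g' := by
        rw [← DT.inc_res (le_max_right t s : s ≤ N), DT.map_inc]
      have hcomp : ∀ {i : Λ} (a : i ⟶ m) (x : DT I (F.obj i)),
          DT.map ((colimit.cocone F).ι.app m).hom (DT.map (F.map a).hom x) =
            DT.map ((colimit.cocone F).ι.app i).hom x := by
        intro i a x
        obtain ⟨t, f, rfl⟩ := DT.inc_surjective (I := I) (M := F.obj i) x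
        rw [DT.map_inc, DT.map_inc, DT.map_inc]
        exact congrArg _ (LinearMap.ext fun z => app_map a (f z))
      have hzero : DT.inc I ((colimit.cocone F).pt) N (((colimit.cocone F).ι.app m).hom ∘ₗ (f' - g')) = 0 := by
        rw [LinearMap.comp_sub, map_sub, sub_eq_zero, ← DT.map_inc _ f', ← DT.map_inc _ g', ← ha, ← hb,
          hcomp, hcomp]
        exact h
      obtain ⟨l, hl, hl'⟩ := (DT.inc_eq_zero_iff _).mp hzero
      obtain ⟨k, p, hp⟩ := exists_kills (colimit.isColimit F)
        (DT.range_fg _ (DT.res I hl (f' - g'))) (by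
          rintro _ ⟨z, rfl⟩
          exact congr($hl' z))
      refine ⟨k, a ≫ p, b ≫ p, ?_⟩
      have h1 : DT.inc I (F.obj k) l ((F.map p).hom ∘ₗ DT.res I hl (f' - g')) = 0 := by
        rw [show (F.map p).hom ∘ₗ DT.res I hl (f' - g') = 0 from
          LinearMap.ext fun z => hp _ (LinearMap.mem_range_self _ z), map_zero]
      rw [← DT.map_inc _ (DT.res I hl (f' - g')), DT.inc_res hl, map_sub, map_sub, sub_eq_zero,
        ← ha, ← hb] at h1
      have hk : ∀ {i : Λ} (a : i ⟶ m) (x : DT I (F.obj i)),
          DT.map (F.map (a ≫ p)).hom x = DT.map (F.map p).hom (DT.map (F.map a).hom x) := by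
        intro i a x
        obtain ⟨t, f, rfl⟩ := DT.inc_surjective (I := I) (M := F.obj i) x
        rw [DT.map_inc, DT.map_inc, DT.map_inc]
        exact congrArg _ (LinearMap.ext fun z => map_map a p (f z))
      exact (hk a _).trans (h1.trans (hk b _).symm)

end Groth.Agent.LC16.Filtered
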