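import Groth.Agent.LC16.GammaInj
import Groth.Agent.LC16.DualVanish
import Groth.Agent.LC16.DimBetween
import Groth.Agent.DR39.PC2
import Groth.Agent.DR40.CechRHom

/-!
An ideal with small zero locus killing `Hom(C, RΓ_W M⟦i⟧)`, `i ≤ s`, by dévissage of the dual of `M`.
-/

set_option autoImplicit false
set_option linter.style.haveILetI false
set_option linter.unusedSectionVars false
set_option maxHeartbeats 1000000

noncomputable section

universe u

open CategoryTheory CategoryTheory.Limits CategoryTheory.Pretriangulated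
attribute [local instance] HasDerivedCategory.standard

namespace Groth.Agent.LC16.GammaDual

open Groth.Agent.DR39 Groth.Agent.LC16.GammaModel Groth.Agent.LC16.GammaTorsion
  Groth.Agent.LC16.CechTri Groth.Agent.LC16.DualVanish PrimeSpectrum

variable {A : Type u} [CommRing A] (I W : Ideal A) (fs : List A)

/-- the primes allowed in the zero locus -/
def Uset : Set (PrimeSpectrum A) :=
  {p | ∀ q, p ≤ q → I ≤ q.asIdeal → W ≤ q.asIdeal} ∪ zeroLocus (I : Set A)

theorem uset_stable {p q : PrimeSpectrum A} (h : p ≤ q) (hp : p ∈ Uset I W) : q ∈ Uset I W :=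
  hp.imp (fun hp r hr => hp r (h.trans hr))
    fun (hp : (I : Set A) ⊆ p.asIdeal) => show (I : Set A) ⊆ q.asIdeal from hp.trans h

theorem zeroLocus_subset_uset {p : PrimeSpectrum A} (hp : p ∈ Uset I W) :
    zeroLocus (p.asIdeal : Set A) ⊆ Uset I W :=
  fun q hq => uset_stable I W (show p ≤ q from hq) hp

/-- an ideal with zero locus in `Uset` kills the Hom modules up to degree `s` -/
def P0 (s : ℤ) (Y : Dual.D A) : Prop :=
  ∀ K : DRing.Cx A, IsRep K → ((QA A).obj K ≅ Y) → ∃ K₀ : Ideal A, zeroLocus (K₀ : Set A) ⊆ Uset I W ∧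
    ∀ i ≤ s, ∀ a ∈ K₀, ∀ h : XC (ModuleCat.of A A) fs ⟶ (gX W K)⟦i⟧, a • h = 0

theorem smul_eq_zero_of_iso {C X Y : Dual.D A} {i : ℤ} {a : A} (e : X ≅ Y)
    (h : ∀ g : C ⟶ Y⟦i⟧, a • g = 0) (g : C ⟶ X⟦i⟧) : a • g = 0 := by
  rw [← cancel_mono ((shiftFunctor (Dual.D A) i).mapIso e).hom, zero_comp, Linear.smul_comp]
  exact h _

theorem p0_iso (s : ℤ) {X Y : Dual.D A} (e : X ≅ Y) (h : P0 I W fs s X) : P0 I W fs s Y :=
  fun K hK eK => h K hK (eK ≪≫ e.symm)

/-- scalars killing the object -/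
theorem smul_hom_eq_zero_of_smul {K : DRing.Cx A} (hK : IsRep K) (a : A) (h : a • 𝟙 ((QA A).obj K) = 0)
    (i : ℤ) {C : Dual.D A} (g : C ⟶ (gX W K)⟦i⟧) : a • g = 0 := by
  rw [← Category.comp_id g, ← Linear.comp_smul, ← CategoryTheory.Functor.map_id, ← Functor.map_smul,
    smul_gX_eq_zero W hK a h, Functor.map_zero, comp_zero]

theorem p0_of_smul (s : ℤ) {Y : Dual.D A} (L : Ideal A) (hL : zeroLocus (L : Set A) ⊆ Uset I W)
    (h : ∀ a ∈ L, a • 𝟙 Y = 0) : P0 I W fs s Y := fun K hK e => ⟨L, hL, fun i _ a ha g => by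
  refine smul_hom_eq_zero_of_smul W hK a ?_ i g
  rw [← cancel_mono e.hom, zero_comp, Linear.smul_comp, Category.id_comp, ← Category.comp_id e.hom,
    ← Linear.comp_smul, h a ha, comp_zero]⟩

theorem p0_zero (s : ℤ) {Y : Dual.D A} (hY : IsZero Y) : P0 I W fs s Y :=
  p0_of_smul I W fs s ⊤ (by simp) fun a _ => hY.eq_of_src _ _

theorem p0_ext (s : ℤ) (T : Triangle (Dual.D A)) (hT : T ∈ distTriang (Dual.D A))
    (h₁ : P0 I W fs s T.obj₁) (h₃ : P0 I W fs s T.obj₃) : P0 I W fs s T.obj₂ := by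
  intro K hK e
  obtain ⟨K₃, hK₃, ⟨e₃⟩⟩ := exists_isRep T.obj₃
  haveI := hK₃.kinj
  obtain ⟨g, hg⟩ := Q_map_surjective_to K K₃ (e.hom ≫ T.mor₂ ≫ e₃.inv)
  let G := CochainComplex.mappingCone g
  have hG : IsRep G := hK.cone hK₃ g
  let T₁ := DerivedCategory.Q.mapTriangle.obj (CochainComplex.mappingCone.triangle g)
  have hT₁ : T₁ ∈ distTriang (Dual.D A) :=
    (DerivedCategory.mem_distTriang_iff _).2 ⟨_, _, g, ⟨Iso.refl _⟩⟩
  let eG : (QA A).obj G ≅ T.obj₁⟦(1 : ℤ)⟧ := Triangle.π₃.mapIso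
    (isoTriangleOfIso₁₂ T₁ T.rotate hT₁ (rot_of_distTriang _ hT) e e₃ (by
      show (QA A).map g ≫ e₃.hom = e.hom ≫ T.mor₂
      rw [hg]; simp))
  let e₁ : (QA A).obj (G⟦(-1 : ℤ)⟧) ≅ T.obj₁ := ((QA A).commShiftIso (-1 : ℤ)).app G ≪≫
    (shiftFunctor (Dual.D A) (-1 : ℤ)).mapIso eG ≪≫
    (shiftFunctorCompIsoId (Dual.D A) (1 : ℤ) (-1) (by omega)).app T.obj₁
  obtain ⟨L₁, hL₁, hk₁⟩ := h₁ _ (hG.shift (-1)) e₁
  obtain ⟨L₃, hL₃, hk₃⟩ := h₃ K₃ hK₃ e₃
  obtain ⟨T', hT', a₁, a₂, a₃, -, -⟩ := GammaModel.exists_triangle W g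
  obtain ⟨c⟩ := nonempty_gX_shift W G (-1)
  refine ⟨L₁ * L₃, by rw [zeroLocus_mul]; exact Set.union_subset hL₁ hL₃, fun i hi a ha h => ?_⟩
  refine smul_eq_zero_of_iso a₁.symm (fun h' => ?_) h
  exact HomGood.smul_eq_zero (T := T'.invRotate) (inv_rot_of_distTriang _ hT')
    (fun b hb => smul_eq_zero_of_iso ((shiftFunctor (Dual.D A) (-1 : ℤ)).mapIso a₃ ≪≫ c.symm) (hk₁ i hi b hb))
    (fun b hb => smul_eq_zero_of_iso a₂ (hk₃ i hi b hb)) a ha h'

/-- vanishing from the torsion truncations -/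
theorem eq_zero_of_vanish {K : DRing.Cx A} (hK : IsRep K) {C : Dual.D A} {d : ℤ} [C.IsLE d] (m : ℤ)
    (h : ∀ (t : ℕ), ∀ l ≤ m, Subsingleton (Dual.inD A (A ⧸ W ^ t) ⟶ ((QA A).obj K)⟦l⟧))
    (i : ℤ) (hi : i + d ≤ m) (g : C ⟶ (gX W K)⟦i⟧) : g = 0 := by
  have hz : ∀ l ≤ m, IsZero ((HF A l).obj (gX W K)) := fun l hl => by
    have hx : ∀ x : Dual.inD A A ⟶ (gX W K)⟦l⟧, x = 0 := fun x => by
      obtain ⟨t, w, -, hw⟩ := exists_torsion W hK l x
      exact hw ((h t l hl).elim _ _)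
    refine IsZero.of_iso ?_ (((DerivedCategory.homologyFunctor (ModuleCat.{u} A) 0).shiftIso l 0 l
      (by omega)).app (gX W K)).symm
    refine ModuleCat.isZero_iff_subsingleton.2 (subsingleton_of_forall_eq 0 fun y => ?_)
    obtain ⟨x, hx'⟩ := (homToH0_bijective (ModuleCat.of A A) ((gX W K)⟦l⟧)).2
      (ModuleCat.ofHom (LinearMap.toSpanSingleton A _ y))
    rw [hx x] at hx'
    have h0 : homToH0 (ModuleCat.of A A) ((gX W K)⟦l⟧) 0 = 0 := by simp [homToH0]
    have := congrArg (fun φ => φ.hom (1 : A)) (h0.symm.trans hx')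
    simp only [ModuleCat.hom_zero, LinearMap.zero_apply] at this
    exact (this.trans (LinearMap.toSpanSingleton_apply_one A _ y)).symm
  haveI : (gX W K).IsGE (m + 1) := (DerivedCategory.isGE_iff _ _).2 fun l hl => hz l (by omega)
  haveI := DerivedCategory.TStructure.t.isGE_shift (gX W K) (m + 1) i (m + 1 - i) (by omega)
  exact DerivedCategory.TStructure.t.zero_of_isLE_of_isGE g d (m + 1 - i) (by omega) inferInstance inferInstance

variable [IsNoetherianRing A] [IsAdicComplete I A] [DRing.HasDerivedCompletion I]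
  {ε : XC (ModuleCat.of A A) fs ⟶ Dual.inD A A}
  (hε : ∀ E, DRing.IsDerivedComplete I E → Function.Bijective (fun g : Dual.inD A A ⟶ E => ε ≫ g))
  (hfs : Ideal.span {x : A | x ∈ fs} = I)

include hε hfs in
theorem p0_single (s : ℤ) (M : ModuleCat.{u} A) [Module.Finite A M] (n : ℤ) (hn : s ≤ n) :
    P0 I W fs s ((DerivedCategory.singleFunctor (ModuleCat.{u} A) n).obj M) := by
  intro K hK e
  let e₀ : (QA A).obj (K⟦n⟧) ≅ Dual.inD A M := ((QA A).commShiftIso n).app K ≪≫
    (shiftFunctor (Dual.D A) n).mapIso (e ≪≫ (DR39.singleShiftIso M n (-n) (by omega)).symm) ≪≫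
    (shiftFunctorCompIsoId (Dual.D A) (-n) n (by omega)).app _
  obtain ⟨c⟩ := nonempty_gX_shift W K n
  obtain ⟨K₀, hK₀, hk⟩ := GammaInj.exists_kill_zero I W fs hε hfs
    (T := {p | ∀ q, p ≤ q → I ≤ q.asIdeal → W ≤ q.asIdeal}) (fun p hp => hp) M (hK.shift n) e₀
  refine ⟨K₀, hK₀.trans Set.subset_union_left, fun i hi a ha h => ?_⟩
  have key : ∀ j : ℤ, j ≤ 0 → ∀ g : XC (ModuleCat.of A A) fs ⟶ (gX W (K⟦n⟧))⟦j⟧, a • g = 0 := fun j hj g => by
    rcases hj.lt_or_eq with h | rfl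
    · rw [GammaInj.eq_zero_neg I W fs hε hfs M (hK.shift n) e₀ h g, smul_zero]
    · exact hk a ha g
  let eX : (gX W K)⟦i⟧ ≅ (gX W (K⟦n⟧))⟦i - n⟧ :=
    (shiftFunctorAdd' (Dual.D A) n (i - n) i (by omega)).app _ ≪≫ (shiftFunctor (Dual.D A) (i - n)).mapIso c.symm
  rw [← cancel_mono eX.hom, zero_comp, Linear.smul_comp]
  exact key _ (by omega) _

include hε hfs in
theorem p0_bounded (s : ℤ) (Y : Dual.D A) (hfin : ∀ l, Module.Finite A (Dual.HD A Y l))
    (hlow : ∀ l < s, IsZero ((HF A l).obj Y)) (b : ℤ) (hb : Acyc b Y) : P0 I W fs s Y :=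
  induction_homology (P := P0 I W fs s) (fun e h => p0_iso I W fs s e h) (p0_ext I W fs s) s Y
    (fun Y' hY' hiso => p0_zero I W fs s (isZero_of_forall fun l => by
      rcases lt_or_ge l s with h | h
      · obtain ⟨e⟩ := hiso l h
        exact (hlow l h).of_iso e
      · exact hY' l h))
    (fun l hl => haveI : Module.Finite A ((HF A l).obj Y) := hfin l
      p0_single I W fs hε hfs s _ l hl) b hb

section Dual

variable (D : DualModel A)

theorem subsingleton_cochain (n : ℤ) (M : ModuleCat.{u} A) (l : ℤ) (h : l + n < D.a ∨ D.b < l + n) :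
    Subsingleton (CochainComplex.HomComplex.Cochain (Sn n M) D.I l) := by
  refine ⟨fun z z' => ?_⟩
  ext p q hpq : 1
  by_cases hp : p = n
  · exact (D.zero q (by omega)).eq_of_tgt _ _
  · exact (HomologicalComplex.isZero_single_obj_X _ _ _ _ hp).eq_of_src _ _

theorem isZero_HF_Dn (n : ℤ) (M : ModuleCat.{u} A) (l : ℤ) (h : l + n < D.a ∨ D.b < l + n) :
    IsZero ((HF A l).obj (Dn D n M)) := by
  haveI := subsingleton_cochain D n M l h
  have hX : IsZero ((DRing.homCx (Sn n M) D.I).X l) := ModuleCat.isZero_iff_subsingleton.2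
    (inferInstanceAs (Subsingleton (CochainComplex.HomComplex.Cochain (Sn n M) D.I l)))
  exact (isZero_HF_Q_iff _ l).2 ((HomologicalComplex.exactAt_iff_isZero_homology _ _).1
    (ShortComplex.exact_of_isZero_X₂ _ hX))

theorem finite_HF_Sn (n : ℤ) (M : Type u) [AddCommGroup M] [Module A M] [Module.Finite A M] (j : ℤ) :
    Module.Finite A (Dual.HD A ((QA A).obj (Sn n (ModuleCat.of A M))) j) := by
  haveI : Module.Finite A ((Sn n (ModuleCat.of A M)).homology j) := by
    by_cases hj : j = n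
    · subst hj
      exact Module.Finite.equiv
        (HomologicalComplex.singleObjHomologySelfIso (ComplexShape.up ℤ) j (ModuleCat.of A M)).symm.toLinearEquiv
    · haveI : Subsingleton ((Sn n (ModuleCat.of A M)).homology j) := ModuleCat.isZero_iff_subsingleton.1
        (HomologicalComplex.isZero_single_obj_homology _ _ _ _ hj)
      infer_instance
  exact Module.Finite.equiv (HQIso (Sn n (ModuleCat.of A M)) j).symm.toLinearEquiv

include hε hfs in
/-- duals of prime quotients -/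
theorem p0_prime (hD : Dual.IsDualizing A ((QA A).obj D.I)) {d : ℤ} [(XC (ModuleCat.of A A) fs).IsLE d]
    (s n : ℤ) (P : PrimeSpectrum A)
    (h : P ∉ Uset I W → s + n ≤ DualAnn.mu hD P ∨
      ∀ r : PrimeSpectrum A, P ≤ r → W ≤ r.asIdeal → d + s + n < DualAnn.mu hD r) :
    P0 I W fs s (Dn D n (ModuleCat.of A (A ⧸ P.asIdeal))) := by
  by_cases hP : P ∈ Uset I W
  · exact p0_of_smul I W fs s P.asIdeal (zeroLocus_subset_uset I W hP) fun a ha =>
      smul_Dn_eq_zero D n _ a fun x => by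
        obtain ⟨x, rfl⟩ := Ideal.Quotient.mk_surjective (show A ⧸ P.asIdeal from x)
        exact Ideal.Quotient.eq_zero_iff_mem.2 (Ideal.mul_mem_right x _ ha)
  rcases h hP with h | h
  · haveI := isGE_Dn_prime D hD n P (b := s) h
    exact p0_bounded I W fs hε hfs s _
      (finite_HF_homCx D _ (finite_HF_Sn n (A ⧸ P.asIdeal)))
      (fun l hl => (Dn D n (ModuleCat.of A (A ⧸ P.asIdeal))).isZero_of_isGE s l hl) (D.b - n + 1)
      (fun l hl => isZero_HF_Dn D n _ l (by omega))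
  · intro K hK e
    refine ⟨⊤, by simp, fun i hi a _ g => ?_⟩
    rw [eq_zero_of_vanish W hK (d := d) (d + s) (fun t l hl => ?_) i (by omega) g, smul_zero]
    refine (Iso.homToEquiv ((shiftFunctor (Dual.D A) l).mapIso e)).subsingleton_congr.2 ?_
    refine subsingleton_of_primes _ (A ⧸ W ^ t) fun q hq => subsingleton_prime D hD n q P l fun r h1 h2 => ?_
    rw [Module.mem_support_iff_of_finite, Ideal.annihilator_quotient] at hq
    have := h r h2 ((q.isPrime.le_of_pow_le hq).trans h1)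
    omega

include hε hfs in
/-- duals of finite modules -/
theorem p0_module (hD : Dual.IsDualizing A ((QA A).obj D.I)) {d : ℤ} [(XC (ModuleCat.of A A) fs).IsLE d]
    (s n : ℤ) (N : Type u) [AddCommGroup N] [Module A N] [Module.Finite A N] :
    (∀ P ∈ Module.support A N, P ∉ Uset I W → s + n ≤ DualAnn.mu hD P ∨
      ∀ r : PrimeSpectrum A, P ≤ r → W ≤ r.asIdeal → d + s + n < DualAnn.mu hD r) →
    P0 I W fs s (Dn D n (ModuleCat.of A N)) := by
  induction ‹Module.Finite A N› using IsNoetherianRing.induction_on_isQuotientEquivQuotientPrime A with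
  | subsingleton N =>
    intro _
    exact p0_of_smul I W fs s ⊤ (by simp) fun a _ =>
      smul_Dn_eq_zero D n _ a fun x => Subsingleton.elim (α := N) _ _
  | quotient N p e =>
    intro h
    haveI := D.isKInjective
    obtain ⟨i⟩ := homCx_iso_of_iso D.I ((QA A).mapIso
      ((HomologicalComplex.single (ModuleCat.{u} A) (ComplexShape.up ℤ) n).mapIso e.toModuleIso))
    exact p0_iso I W fs s i.symm (p0_prime I W fs hε hfs D hD (d := d) s n p
      (h p (by rw [e.support_eq, Module.mem_support_iff_of_finite, Ideal.annihilator_quotient])))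
  | exact N₁ N₂ N₃ f g hf hg hfg ih₁ ih₃ =>
    intro h
    rw [Module.support_of_exact hfg hf hg] at h
    obtain ⟨T, hT, a₁, a₂, a₃, -⟩ := exists_triangle_Dn D n (LC17.shortExact_of_exact f g hf hg hfg)
    exact p0_iso I W fs s a₂ (p0_ext I W fs s T hT
      (p0_iso I W fs s a₁.symm (ih₃ fun p hp => h p (Or.inr hp)))
      (p0_iso I W fs s a₃.symm (ih₁ fun p hp => h p (Or.inl hp))))

/-- the property of the complexes whose duals satisfy `P0` -/
def R (s : ℤ) (X : Dual.D A) : Prop :=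
  ∀ E : DRing.Cx A, ((QA A).obj E ≅ X) → P0 I W fs s ((QA A).obj (DRing.homCx E D.I))

theorem r_iso (s : ℤ) {X Y : Dual.D A} (e : X ≅ Y) (h : R I W fs D s X) : R I W fs D s Y :=
  fun E eE => h E (eE ≪≫ e.symm)

theorem r_ext (s : ℤ) (T : Triangle (Dual.D A)) (hT : T ∈ distTriang (Dual.D A))
    (h₁ : R I W fs D s T.obj₁) (h₃ : R I W fs D s T.obj₃) : R I W fs D s T.obj₂ := by
  intro E eE
  haveI := D.isKInjective
  obtain ⟨X, Y, φ, ⟨eT⟩⟩ := (DerivedCategory.mem_distTriang_iff _).1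
    (rot_of_distTriang _ (rot_of_distTriang _ hT))
  let eX : (QA A).obj X ≅ T.obj₃ := (Triangle.π₁.mapIso eT).symm
  let eY : (QA A).obj Y ≅ T.obj₁⟦(1 : ℤ)⟧ := (Triangle.π₂.mapIso eT).symm
  let eC : (QA A).obj (CochainComplex.mappingCone φ) ≅ T.obj₂⟦(1 : ℤ)⟧ := (Triangle.π₃.mapIso eT).symm
  let e₁ : (QA A).obj (Y⟦(-1 : ℤ)⟧) ≅ T.obj₁ := ((QA A).commShiftIso (-1 : ℤ)).app Y ≪≫
    (shiftFunctor (Dual.D A) (-1 : ℤ)).mapIso eY ≪≫
    (shiftFunctorCompIsoId (Dual.D A) (1 : ℤ) (-1) (by omega)).app T.obj₁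
  let e₂ : (QA A).obj (CochainComplex.mappingCocone φ) ≅ T.obj₂ :=
    ((QA A).commShiftIso (-1 : ℤ)).app (CochainComplex.mappingCone φ) ≪≫
    (shiftFunctor (Dual.D A) (-1 : ℤ)).mapIso eC ≪≫
    (shiftFunctorCompIsoId (Dual.D A) (1 : ℤ) (-1) (by omega)).app T.obj₂
  obtain ⟨i⟩ := homCx_iso_of_iso D.I (e₂ ≪≫ eE.symm)
  exact p0_iso I W fs s i (p0_ext I W fs s _
    (DerivedCategory.triangleOfSES_distinguished (DR40.coconeSeq_homCx D.I φ)) (h₃ X eX) (h₁ _ e₁))

theorem r_zero (s : ℤ) {X : Dual.D A} (hX : IsZero X) : R I W fs D s X := fun E e => by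
  haveI := D.isKInjective
  have h0 : IsZero ((QA A).obj (Sn 0 (ModuleCat.of A PUnit))) := Functor.map_isZero _
    (Functor.map_isZero _ (ModuleCat.isZero_of_subsingleton _))
  obtain ⟨i⟩ := homCx_iso_of_iso D.I ((h0.iso (hX.of_iso e)))
  exact p0_iso I W fs s i (p0_of_smul I W fs s ⊤ (by simp) fun a _ =>
    smul_Dn_eq_zero D 0 (ModuleCat.of A PUnit) a fun x => Subsingleton.elim (α := PUnit) _ _)

end Dual

include hε hfs in
/-- The main statement: depth conditions give a killing ideal with zero locus in `Uset`. -/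
theorem exists_kill {ω : Dual.D A} (hω : Dual.IsDualizing A ω) (M : Type u) [AddCommGroup M] [Module A M]
    [Module.Finite A M] (s d : ℕ) (hcd : LocCoh.CdLE A I d)
    (h4 : ∀ p : PrimeSpectrum A, p ∉ Uset I W → ∀ q : PrimeSpectrum A, p ≤ q → W ≤ q.asIdeal →
      (s : ℕ∞) ≤ LocCoh.depth (Localization.AtPrime p.asIdeal) (LocalizedModule p.asIdeal.primeCompl M) ∨
      (((d + s : ℕ) : ℕ∞) : WithBot ℕ∞) <
        ((LocCoh.depth (Localization.AtPrime p.asIdeal) (LocalizedModule p.asIdeal.primeCompl M) : ℕ∞) :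
          WithBot ℕ∞) + Formal2.dimBetween A p.asIdeal q.asIdeal)
    {K : DRing.Cx A} (hK : IsRep K) (e : (QA A).obj K ≅ Dual.inD A M) :
    ∃ K₀ : Ideal A, zeroLocus (K₀ : Set A) ⊆ Uset I W ∧
      ∀ i ≤ (s : ℤ), ∀ a ∈ K₀, ∀ h : XC (ModuleCat.of A A) fs ⟶ (gX W K)⟦i⟧, a • h = 0 := by
  obtain ⟨D, -⟩ := exists_dualModel hω
  haveI := D.isKInjective
  haveI : (XC (ModuleCat.of A A) fs).IsLE (d : ℤ) :=
    (DerivedCategory.isLE_iff _ _).2 (ComplKill.isZero_HF_cech_of_cd I fs hfs hcd)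
  have hR : R I W fs D (s : ℤ) (Dn D 0 (ModuleCat.of A M)) :=
    induction_homology (P := R I W fs D (s : ℤ)) (fun e h => r_iso I W fs D _ e h) (r_ext I W fs D _)
      D.a _ (fun Y hY hiso => r_zero I W fs D _ (isZero_of_forall fun l => by
        rcases lt_or_ge l D.a with h | h
        · obtain ⟨e⟩ := hiso l h
          exact (isZero_HF_Dn D 0 _ l (by omega)).of_iso e
        · exact hY l h))
      (fun n _ E eE => by
        let N := Dual.HD A (Dn D 0 (ModuleCat.of A M)) n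
        haveI : Module.Finite A N := finite_HF_homCx D _ (finite_HF_Sn 0 M) n
        obtain ⟨i⟩ := homCx_iso_of_iso D.I (eE ≪≫
          (DerivedCategory.singleFunctorIsoCompQ (ModuleCat.{u} A) n).app _)
        refine p0_iso I W fs _ i.symm (p0_module I W fs hε hfs D D.dualizing (d := (d : ℤ)) _ n N
          fun P hP hPU => ?_)
        obtain ⟨l⟩ := nonempty_HD_Dn D 0 M n
        rw [Module.mem_support_iff_of_finite] at hP
        have hgA : LC17.gAnn ((QA A).obj D.I) (ModuleCat.of A M) (n + 0) ≤ P.asIdeal :=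
          fun a ha => hP (Module.mem_annihilator.2 fun x => l.injective (by
            rw [map_smul, map_zero]
            exact (LC17.mem_gAnn _).1 ha (l x)))
        obtain ⟨k, hk, hk'⟩ := DualAnn.exists_depth_le D.dualizing M hgA
        by_cases hks : s ≤ k
        · left; omega
        refine Or.inr fun r hPr hWr => ?_
        rcases h4 P hPU r hPr hWr with h | h
        · rw [hk] at h
          exact absurd (by exact_mod_cast h) hks
        · rw [hk] at h
          have := DimBetween.lt_of_lt_add (DimBetween.dimBetween_le P r D.dualizing hPr) h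
          have := DualAnn.mu_mono D.dualizing hPr
          omega)
      (D.b + 1) (fun l hl => isZero_HF_Dn D 0 _ l (by omega))
  obtain ⟨i⟩ := bidual_iso D (Sn 0 (ModuleCat.of A M)) (finite_HF_Sn 0 M)
  exact hR (DRing.homCx (Sn 0 (ModuleCat.of A M)) D.I) (Iso.refl _) K hK
    (e ≪≫ eS (ModuleCat.of A M) ≪≫ i.symm)

end Groth.Agent.LC16.GammaDual
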