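import Groth.Agent.LC16.GammaTorsion
import Groth.Agent.LC16.CechBoot

/-!
`Hom(C, RΓ_W N⟦i⟧) → Hom(C, N⟦i⟧)` is injective for `i ≤ 0`.
-/

set_option autoImplicit false
set_option linter.style.haveILetI false
set_option linter.unusedSectionVars false
set_option maxHeartbeats 1000000

noncomputable section

universe u

open CategoryTheory CategoryTheory.Limits CategoryTheory.Pretriangulated
open scoped Pointwise
attribute [local instance] HasDerivedCategory.standard

namespace Groth.Agent.LC16.GammaInj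

open Groth.Agent.DR39 Groth.Agent.LC16.GammaModel Groth.Agent.LC16.CechRgamma Groth.Agent.LC16.GammaTorsion
  Groth.Agent.LC16.CechTri

variable {A : Type u} [CommRing A]

theorem subsingleton_inD_neg (M N : Type u) [AddCommGroup M] [Module A M] [AddCommGroup N] [Module A N]
    {i : ℤ} (hi : i < 0) : Subsingleton (Dual.inD A M ⟶ (Dual.inD A N)⟦i⟧) := by
  haveI : (Dual.inD A M).IsLE 0 := inferInstanceAs
    (((DerivedCategory.singleFunctor (ModuleCat.{u} A) 0).obj (ModuleCat.of A M)).IsLE 0)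
  haveI : (Dual.inD A N).IsGE 0 := inferInstanceAs
    (((DerivedCategory.singleFunctor (ModuleCat.{u} A) 0).obj (ModuleCat.of A N)).IsGE 0)
  haveI := DerivedCategory.TStructure.t.isGE_shift (Dual.inD A N) 0 i (-i) (by omega)
  exact ⟨fun a b => (DerivedCategory.TStructure.t.zero_of_isLE_of_isGE a 0 (-i) (by omega) inferInstance
      inferInstance).trans (DerivedCategory.TStructure.t.zero_of_isLE_of_isGE b 0 (-i) (by omega)
      inferInstance inferInstance).symm⟩

/-- restriction along a surjection is injective in degrees `≤ 0` -/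
theorem pre_injective {M M' N : Type u} [AddCommGroup M] [Module A M] [AddCommGroup M'] [Module A M']
    [AddCommGroup N] [Module A N] (π : ModuleCat.of A M ⟶ ModuleCat.of A M') [Epi π] {i : ℤ} (hi : i ≤ 0)
    (w : Dual.inD A M' ⟶ (Dual.inD A N)⟦i⟧)
    (hw : (DerivedCategory.singleFunctor (ModuleCat.{u} A) 0).map π ≫ w = 0) : w = 0 := by
  rcases hi.lt_or_eq with h | rfl
  · haveI := subsingleton_inD_neg (A := A) M' N h
    exact Subsingleton.elim _ _
  · let e := (shiftFunctorZero (Dual.D A) ℤ).app (Dual.inD A N)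
    obtain ⟨v, hv⟩ := (DerivedCategory.singleFunctor (ModuleCat.{u} A) 0).map_surjective (w ≫ e.hom)
    have : π ≫ v = 0 := (DerivedCategory.singleFunctor (ModuleCat.{u} A) 0).map_injective (by
      rw [Functor.map_comp, hv, ← Category.assoc, hw, zero_comp, Functor.map_zero])
    rw [← cancel_mono e.hom, zero_comp, ← hv, (cancel_epi π).1 (this.trans comp_zero.symm), Functor.map_zero]

/-- composition with an injection is injective in degrees `≤ 0` -/
theorem post_injective {M N N' : Type u} [AddCommGroup M] [Module A M] [AddCommGroup N] [Module A N]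
    [AddCommGroup N'] [Module A N'] (u' : ModuleCat.of A N ⟶ ModuleCat.of A N') [Mono u'] {i : ℤ} (hi : i ≤ 0)
    (w : Dual.inD A M ⟶ (Dual.inD A N)⟦i⟧)
    (hw : w ≫ ((DerivedCategory.singleFunctor (ModuleCat.{u} A) 0).map u')⟦i⟧' = 0) : w = 0 := by
  rcases hi.lt_or_eq with h | rfl
  · haveI := subsingleton_inD_neg (A := A) M N h
    exact Subsingleton.elim _ _
  · let e := (shiftFunctorZero (Dual.D A) ℤ)
    obtain ⟨v, hv⟩ := (DerivedCategory.singleFunctor (ModuleCat.{u} A) 0).map_surjective (w ≫ e.hom.app _)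
    have h1 := e.hom.naturality ((DerivedCategory.singleFunctor (ModuleCat.{u} A) 0).map u')
    have : v ≫ u' = 0 := (DerivedCategory.singleFunctor (ModuleCat.{u} A) 0).map_injective (by
      rw [Functor.map_comp, hv, Category.assoc, Functor.map_zero]
      exact (congrArg (w ≫ ·) h1.symm).trans ((Category.assoc _ _ _).symm.trans
        ((congrArg (· ≫ e.hom.app _) hw).trans zero_comp)))
    rw [← cancel_mono (e.hom.app (Dual.inD A N)), zero_comp, ← hv,
      (cancel_mono u').1 (this.trans zero_comp.symm), Functor.map_zero]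

variable (I W : Ideal A) (fs : List A) {ε : XC (ModuleCat.of A A) fs ⟶ Dual.inD A A}

/-- the injectivity statement for one representative -/
def Inj (K : DRing.Cx A) (i : ℤ) : Prop :=
  ∀ h : XC (ModuleCat.of A A) fs ⟶ (gX W K)⟦i⟧, h ≫ (γ W K)⟦i⟧' = 0 → h = 0

/-- divisible elements of the Hom modules vanish -/
theorem eq_zero_of_divisible [DRing.HasDerivedCompletion I] (hfs : Ideal.span {x : A | x ∈ fs} = I)
    {f : A} (hf : f ∈ I) (X : Dual.D A) (i : ℤ) (P : (XC (ModuleCat.of A A) fs ⟶ X⟦i⟧) → Prop)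
    (hP : ∀ h, P h → ∃ h', P h' ∧ h = f • h') (h : XC (ModuleCat.of A A) fs ⟶ X⟦i⟧) (hh : P h) : h = 0 := by
  obtain ⟨l⟩ := ComplKill.nonempty_HD_compl_equiv I fs hfs X i
  have hc : DCM.Comp f (XC (ModuleCat.of A A) fs ⟶ X⟦i⟧) := DCM.comp_equiv l
    ((isDerivedComplete_iff I _).1 ((DRing.derivedCompletion I).obj X).property f hf i)
  choose g hg using hP
  let x : ℕ → {h // P h} := fun n => Nat.rec ⟨h, hh⟩ (fun _ p => ⟨g p.1 p.2, (hg p.1 p.2).1⟩) n
  have := DCM.eq_zero_of_eq_smul hc (fun n => (x n).1) fun n => (hg (x n).1 (x n).2).2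
  exact congrFun this 0

variable [IsNoetherianRing A] [IsAdicComplete I A]
  (hε : ∀ E, DRing.IsDerivedComplete I E → Function.Bijective (fun g : Dual.inD A A ⟶ E => ε ≫ g))

theorem dc_module (N : Type u) [AddCommGroup N] [Module A N] [Module.Finite A N] :
    DRing.IsDerivedComplete I (Dual.inD A N) := by
  haveI := AdicC27.isAdicComplete_of_finite (I := I) N
  exact (isDerivedComplete_inD_iff I N).2 fun g hg => DCM.comp_of_isAdicComplete I hg

include hε in
/-- maps into a module killed by a power of `I` -/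
theorem inj_killed {t : ℕ} (N : Type u) [AddCommGroup N] [Module A N] [Module.Finite A N]
    (hN : ∀ a ∈ I ^ t, ∀ x : N, a • x = 0) {K : DRing.Cx A} (hK : IsRep K)
    (e : (QA A).obj K ≅ Dual.inD A N) {i : ℤ} (hi : i ≤ 0) : Inj W fs K i := by
  have hk : ∀ a ∈ I ^ t, a • 𝟙 ((QA A).obj K) = 0 := fun a ha => by
    have hz : a • 𝟙 (Dual.inD A N) = 0 := by
      have h : a • 𝟙 (ModuleCat.of A N) = 0 := ModuleCat.hom_ext (LinearMap.ext (hN a ha))
      rw [← CategoryTheory.Functor.map_id, ← Functor.map_smul, h, Functor.map_zero]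
    rw [← cancel_mono e.hom, zero_comp, Linear.smul_comp, Category.id_comp, ← Category.comp_id e.hom,
      ← Linear.comp_smul, hz, comp_zero]
  intro h hh
  obtain ⟨h', rfl⟩ := (hε _ (DR40.dc_shift
    (CechBoot.dc_of_killed I (N := t) fun a ha => smul_gX_eq_zero W hK a (hk a ha)) i)).2 h
  have h0 : h' ≫ (γ W K)⟦i⟧' = 0 := by
    refine (hε _ (DR40.dc_shift (CechBoot.dc_of_killed I (N := t) hk) i)).1 ?_
    show ε ≫ h' ≫ _ = ε ≫ 0
    rw [comp_zero, ← Category.assoc]
    exact hh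
  rw [show h' = 0 from eq_zero_of_comp_γ W hK i (fun s w hw => ?_) h' h0]
  · exact comp_zero
  · haveI : Epi (quotMap W s) := (ModuleCat.epi_iff_surjective _).2 (Submodule.mkQ_surjective _)
    rw [← cancel_mono (((shiftFunctor (Dual.D A) i).mapIso e).hom), zero_comp]
    refine pre_injective (quotMap W s) hi _ ?_
    exact (Category.assoc _ _ _).symm.trans ((congrArg (· ≫ _) hw).trans zero_comp)

omit [IsAdicComplete I A] in
/-- representatives of a short exact sequence -/
theorem exists_cone_rep {S : ShortComplex (ModuleCat.{u} A)} (hS : S.ShortExact) {K₁ K₂ : DRing.Cx A}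
    (g : K₁ ⟶ K₂) (e₁ : (QA A).obj K₁ ≅ (DerivedCategory.singleFunctor (ModuleCat.{u} A) 0).obj S.X₁)
    (e₂ : (QA A).obj K₂ ≅ (DerivedCategory.singleFunctor (ModuleCat.{u} A) 0).obj S.X₂)
    (h : (QA A).map g ≫ e₂.hom = e₁.hom ≫ (DerivedCategory.singleFunctor (ModuleCat.{u} A) 0).map S.f) :
    Nonempty ((QA A).obj (CochainComplex.mappingCone g) ≅
      (DerivedCategory.singleFunctor (ModuleCat.{u} A) 0).obj S.X₃) := by
  let T₁ := DerivedCategory.Q.mapTriangle.obj (CochainComplex.mappingCone.triangle g)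
  have hT₁ : T₁ ∈ distTriang (Dual.D A) :=
    (DerivedCategory.mem_distTriang_iff _).2 ⟨_, _, g, ⟨Iso.refl _⟩⟩
  exact ⟨Triangle.π₃.mapIso (isoTriangleOfIso₁₂ T₁ hS.singleTriangle hT₁ hS.singleTriangle_distinguished
    e₁ e₂ h)⟩

variable [DRing.HasDerivedCompletion I] (hfs : Ideal.span {x : A | x ∈ fs} = I)

include hε hfs in
theorem inj_aux : ∀ (rest : List A) (N : Type u) [AddCommGroup N] [Module A N] [Module.Finite A N],
    (∀ f ∈ fs, f ∈ rest ∨ ∃ n : ℕ, ∀ x : N, f ^ n • x = 0) → ∀ {K : DRing.Cx A}, IsRep K →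
      ((QA A).obj K ≅ Dual.inD A N) → ∀ {i : ℤ}, i ≤ 0 → Inj W fs K i
  | [], N, _, _, _, hN, K, hK, e, i, hi => by
    obtain ⟨t, ht⟩ : ∃ t : ℕ, I ^ t ≤ Module.annihilator A N :=
      Ideal.exists_pow_le_of_le_radical_of_fg (by
        rw [← hfs, Ideal.span_le]
        intro f hf
        rcases hN f hf with h | ⟨n, hn⟩
        · simp at h
        · exact ⟨n, Module.mem_annihilator.2 hn⟩) (IsNoetherian.noetherian _)
    exact inj_killed I W fs hε N (fun a ha x => Module.mem_annihilator.1 (ht ha) x) hK e hi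
  | f :: rest, N, _, _, _, hN, K, hK, e, i, hi => by
    by_cases hf : f ∈ fs
    swap
    · exact inj_aux rest N (fun g hg => (hN g hg).imp_left fun h =>
        (List.mem_cons.1 h).resolve_left (fun h' => hf (by rw [← h']; exact hg))) hK e hi
    have hfI : f ∈ I := hfs ▸ Ideal.subset_span hf
    let Γ : Submodule A N :=
      { carrier := {x | ∃ n : ℕ, f ^ n • x = 0}
        zero_mem' := ⟨0, smul_zero _⟩
        add_mem' := by
          rintro x y ⟨n, hn⟩ ⟨m, hm⟩
          exact ⟨n + m, by rw [smul_add, pow_add, mul_smul, mul_smul, hm, smul_zero, add_zero,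
            smul_comm, hn, smul_zero]⟩
        smul_mem' := by
          rintro c x ⟨n, hn⟩
          exact ⟨n, by rw [smul_comm, hn, smul_zero]⟩ }
    obtain ⟨m₀, hm₀⟩ := CechBoot.torsion_pow (Ideal.span {f}) Γ (fun x => by
      obtain ⟨n, hn⟩ := x.2
      refine ⟨n, fun a ha => ?_⟩
      rw [Ideal.span_singleton_pow, Ideal.mem_span_singleton'] at ha
      obtain ⟨c, rfl⟩ := ha
      exact Subtype.ext (show (c * f ^ n) • (x : N) = 0 by rw [mul_smul, hn, smul_zero]))
    have hΓ : ∀ g ∈ fs, g ∈ rest ∨ ∃ n : ℕ, ∀ x : Γ, g ^ n • x = 0 := fun g hg => by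
      rcases hN g hg with h | ⟨n, hn⟩
      · rcases List.mem_cons.1 h with rfl | h
        · exact Or.inr ⟨m₀, hm₀ _ (Ideal.pow_mem_pow (Ideal.mem_span_singleton_self g) m₀)⟩
        · exact Or.inl h
      · exact Or.inr ⟨n, fun x => Subtype.ext (hn x.1)⟩
    let N' := N ⧸ Γ
    have hreg : IsSMulRegular N' f := fun x y hxy => by
      refine sub_eq_zero.1 ?_
      obtain ⟨z, hz⟩ := Submodule.mkQ_surjective Γ (x - y)
      have h0 : Γ.mkQ (f • z) = 0 := by rw [map_smul, hz, smul_sub]; exact sub_eq_zero.2 hxy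
      obtain ⟨n, hn⟩ := (Submodule.Quotient.mk_eq_zero Γ).1 h0
      rw [← hz]
      exact (Submodule.Quotient.mk_eq_zero Γ).2 ⟨n + 1, by rw [pow_succ, mul_smul]; exact hn⟩
    -- the torsion-free quotient
    have hN' : ∀ {K' : DRing.Cx A}, IsRep K' → ((QA A).obj K' ≅ Dual.inD A N') → Inj W fs K' i := by
      intro K' hK' e'
      obtain ⟨hinj, hex⟩ := LC17.regular_ses hreg
      have hS := LC17.shortExact_of_exact _ _ hinj (Submodule.mkQ_surjective _) hex
      have hls : (ModuleCat.ofHom (LinearMap.lsmul A N' f) : ModuleCat.of A N' ⟶ ModuleCat.of A N') =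
          f • 𝟙 (ModuleCat.of A N') := rfl
      obtain ⟨e₃⟩ := exists_cone_rep hS (f • 𝟙 K') e' e' (by
        dsimp only
        rw [hls, Functor.map_smul, Functor.map_smul, CategoryTheory.Functor.map_id,
          CategoryTheory.Functor.map_id, Linear.comp_smul, Linear.smul_comp, Category.id_comp,
          Category.comp_id])
      have hQ : ∀ g ∈ fs, g ∈ rest ∨ ∃ n : ℕ, ∀ x : N' ⧸ f • (⊤ : Submodule A N'), g ^ n • x = 0 :=
        fun g hg => by
        rcases hN g hg with h | ⟨n, hn⟩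
        · rcases List.mem_cons.1 h with rfl | h
          · refine Or.inr ⟨1, fun x => ?_⟩
            obtain ⟨y, rfl⟩ := Submodule.mkQ_surjective _ x
            rw [pow_one, ← map_smul]
            exact (Submodule.Quotient.mk_eq_zero _).2 ⟨y, trivial, rfl⟩
          · exact Or.inl h
        · refine Or.inr ⟨n, fun x => ?_⟩
          obtain ⟨y, rfl⟩ := Submodule.mkQ_surjective _ x
          obtain ⟨z, rfl⟩ := Submodule.mkQ_surjective Γ y
          rw [← map_smul, ← map_smul, hn, map_zero, map_zero]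
      have hcone := inj_aux rest _ hQ (hK'.cone hK' (f • 𝟙 K')) e₃ hi
      obtain ⟨T, hT, a₁, a₂, a₃, hm₁, hm₂⟩ := GammaModel.exists_triangle W (f • 𝟙 K')
      intro h hh
      refine eq_zero_of_divisible I fs hfs hfI (gX W K') i (fun h => h ≫ (γ W K')⟦i⟧' = 0) (fun h hh => ?_) h hh
      let h₂ : XC (ModuleCat.of A A) fs ⟶ T.obj₂⟦i⟧ := h ≫ a₂.inv⟦i⟧'
      have h3 : h₂ ≫ T.mor₂⟦i⟧' = 0 := by
        rw [← cancel_mono (a₃.hom⟦i⟧'), zero_comp, Category.assoc, Category.assoc, ← Functor.map_comp,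
          ← Functor.map_comp, hm₂, Iso.inv_hom_id_assoc]
        refine hcone _ ?_
        rw [Category.assoc, ← Functor.map_comp, γ_natural, Functor.map_comp, ← Category.assoc, hh, zero_comp]
      obtain ⟨w, hw⟩ := HomGood.exact₂ hT h₂ h3
      have hh' : h = f • (w ≫ a₁.hom⟦i⟧') := by
        have h1 : (T.mor₁ ≫ a₂.hom)⟦i⟧' = f • a₁.hom⟦i⟧' := by
          rw [hm₁, RgammaVanish.gamma_mul, Functor.map_smul, CategoryTheory.Functor.map_id, Linear.comp_smul,
            Category.comp_id, Functor.map_smul]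
        rw [← Linear.comp_smul, ← h1, Functor.map_comp, ← Category.assoc, ← hw, Category.assoc,
          ← Functor.map_comp, Iso.inv_hom_id, CategoryTheory.Functor.map_id, Category.comp_id]
      refine ⟨_, ?_, hh'⟩
      obtain ⟨v, hv⟩ := (hε _ (DR40.dc_shift (CechBoot.dc_of_iso I e'.symm (dc_module I N')) i)).2
        ((w ≫ a₁.hom⟦i⟧') ≫ (γ W K')⟦i⟧')
      rw [← show ε ≫ v = _ from hv]
      suffices hv0 : v = 0 by rw [hv0, comp_zero]
      have hfv : f • v = 0 := by
        refine (hε _ (DR40.dc_shift (CechBoot.dc_of_iso I e'.symm (dc_module I N')) i)).1 ?_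
        show ε ≫ (f • v) = ε ≫ 0
        rw [comp_zero, Linear.comp_smul, show ε ≫ v = _ from hv, ← Linear.smul_comp, ← hh', hh]
      haveI : Mono (f • 𝟙 (ModuleCat.of A N')) := (ModuleCat.mono_iff_injective _).2 hreg
      rw [← cancel_mono (((shiftFunctor (Dual.D A) i).mapIso e').hom), zero_comp]
      refine post_injective (f • 𝟙 (ModuleCat.of A N')) hi _ ?_
      rw [Functor.map_smul, CategoryTheory.Functor.map_id, Functor.map_smul, CategoryTheory.Functor.map_id,
        Linear.comp_smul, Category.comp_id, ← Linear.smul_comp, hfv, zero_comp]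
    -- five lemma
    have hS := LC17.shortExact_of_exact Γ.subtype Γ.mkQ Γ.injective_subtype (Submodule.mkQ_surjective _)
      (LinearMap.exact_subtype_mkQ Γ)
    obtain ⟨K₁, hK₁, ⟨e₁⟩⟩ := exists_isRep (Dual.inD A Γ)
    haveI := hK.kinj
    obtain ⟨g, hg⟩ := Q_map_surjective_to K₁ K
      (e₁.hom ≫ (DerivedCategory.singleFunctor (ModuleCat.{u} A) 0).map (ModuleCat.ofHom Γ.subtype) ≫ e.inv)
    obtain ⟨e₃⟩ := exists_cone_rep hS g e₁ e (by rw [hg]; simp)
    obtain ⟨T, hT, a₁, a₂, a₃, hm₁, hm₂⟩ := GammaModel.exists_triangle W g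
    intro h hh
    let h₂ : XC (ModuleCat.of A A) fs ⟶ T.obj₂⟦i⟧ := h ≫ a₂.inv⟦i⟧'
    have h3 : h₂ ≫ T.mor₂⟦i⟧' = 0 := by
      rw [← cancel_mono (a₃.hom⟦i⟧'), zero_comp, Category.assoc, Category.assoc, ← Functor.map_comp,
        ← Functor.map_comp, hm₂, Iso.inv_hom_id_assoc]
      refine hN' (hK₁.cone hK g) e₃ _ ?_
      rw [Category.assoc, ← Functor.map_comp, γ_natural, Functor.map_comp, ← Category.assoc, hh, zero_comp]
    obtain ⟨w, hw⟩ := HomGood.exact₂ hT h₂ h3
    have hh' : h = (w ≫ a₁.hom⟦i⟧') ≫ ((QA A).map ((CechRgamma.gCx W).map g))⟦i⟧' := by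
      rw [Category.assoc, ← Functor.map_comp, ← hm₁, Functor.map_comp, ← Category.assoc, ← hw,
        Category.assoc, ← Functor.map_comp, Iso.inv_hom_id, CategoryTheory.Functor.map_id, Category.comp_id]
    have h1 : (w ≫ a₁.hom⟦i⟧') ≫ (γ W K₁)⟦i⟧' = 0 := by
      obtain ⟨v, hv⟩ := (hε _ (DR40.dc_shift (CechBoot.dc_of_iso I e₁.symm (dc_module I Γ)) i)).2
        ((w ≫ a₁.hom⟦i⟧') ≫ (γ W K₁)⟦i⟧')
      rw [← show ε ≫ v = _ from hv]
      suffices hv0 : v = 0 by rw [hv0, comp_zero]
      have hvg : v ≫ ((QA A).map g)⟦i⟧' = 0 := by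
        refine (hε _ (DR40.dc_shift (CechBoot.dc_of_iso I e.symm (dc_module I N)) i)).1 ?_
        show ε ≫ _ = ε ≫ 0
        rw [comp_zero, ← Category.assoc, show ε ≫ v = _ from hv, Category.assoc, ← Functor.map_comp,
          ← γ_natural, Functor.map_comp, ← Category.assoc, ← hh', hh]
      haveI : Mono (ModuleCat.ofHom Γ.subtype) := (ModuleCat.mono_iff_injective _).2 Γ.injective_subtype
      rw [← cancel_mono (((shiftFunctor (Dual.D A) i).mapIso e₁).hom), zero_comp]
      refine post_injective (ModuleCat.ofHom Γ.subtype) hi _ ?_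
      have h2 := congrArg (· ≫ e.hom⟦i⟧') hvg
      simp only [Category.assoc, zero_comp, ← Functor.map_comp, hg, Iso.inv_hom_id, Category.comp_id] at h2
      simpa only [Functor.mapIso_hom, Category.assoc, ← Functor.map_comp] using h2
    rw [hh', inj_aux rest Γ hΓ hK₁ e₁ hi _ h1, zero_comp]

include hε hfs in
/-- injectivity -/
theorem inj (N : Type u) [AddCommGroup N] [Module A N] [Module.Finite A N] {K : DRing.Cx A} (hK : IsRep K)
    (e : (QA A).obj K ≅ Dual.inD A N) {i : ℤ} (hi : i ≤ 0) : Inj W fs K i :=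
  inj_aux I W fs hε hfs fs N (fun _ hf => Or.inl hf) hK e hi

include hε hfs in
/-- negative degrees -/
theorem eq_zero_neg (N : Type u) [AddCommGroup N] [Module A N] [Module.Finite A N] {K : DRing.Cx A}
    (hK : IsRep K) (e : (QA A).obj K ≅ Dual.inD A N) {i : ℤ} (hi : i < 0)
    (h : XC (ModuleCat.of A A) fs ⟶ (gX W K)⟦i⟧) : h = 0 := by
  refine inj I W fs hε hfs N hK e hi.le h ?_
  obtain ⟨v, hv⟩ := (hε _ (DR40.dc_shift (CechBoot.dc_of_iso I e.symm (dc_module I N)) i)).2 (h ≫ (γ W K)⟦i⟧')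
  haveI := subsingleton_inD_neg (A := A) A N hi
  have hv0 : v = 0 := (cancel_mono ((shiftFunctor (Dual.D A) i).mapIso e).hom).1 (Subsingleton.elim _ _)
  rw [← show ε ≫ v = _ from hv, hv0, comp_zero]

/-- elements with torsion images in all `N/I^tN` -/
theorem mem_ker_of_torsion {N : Type u} [AddCommGroup N] [Module A N] [Module.Finite A N] (n : N)
    (hn : ∀ t : ℕ, ∃ m : ℕ, ∀ a ∈ W ^ m, a • n ∈ (I ^ t • ⊤ : Submodule A N))
    (r : PrimeSpectrum A) (hIr : I ≤ r.asIdeal) (hWr : ¬ W ≤ r.asIdeal) :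
    LocalizedModule.mkLinearMap r.asIdeal.primeCompl N n = 0 := by
  let φ := LocalizedModule.mkLinearMap r.asIdeal.primeCompl N
  let R := Localization.AtPrime r.asIdeal
  haveI : Module.Finite R (LocalizedModule r.asIdeal.primeCompl N) :=
    Module.Finite.of_isLocalizedModule r.asIdeal.primeCompl φ
  haveI : IsNoetherianRing R := IsLocalization.isNoetherianRing r.asIdeal.primeCompl _ inferInstance
  have hne : I.map (algebraMap A R) ≠ ⊤ := fun h => (IsLocalRing.maximalIdeal.isMaximal R).ne_top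
    (top_le_iff.1 (h ▸ (Ideal.map_mono hIr).trans
      (Localization.AtPrime.map_eq_maximalIdeal (I := r.asIdeal)).le))
  haveI := IsHausdorff.of_le_jacobson (I.map (algebraMap A R)) (LocalizedModule r.asIdeal.primeCompl N)
    (by rw [IsLocalRing.jacobson_eq_maximalIdeal _ bot_ne_top]; exact IsLocalRing.le_maximalIdeal hne)
  refine IsHausdorff.haus inferInstance (φ n) (fun t => ?_) (I := I.map (algebraMap A R))
  rw [SModEq.zero]
  obtain ⟨m, hm⟩ := hn t
  obtain ⟨c, hcW, hcr⟩ := SetLike.not_le_iff_exists.1 hWr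
  have h1 := hm _ (Ideal.pow_mem_pow hcW m)
  have hmem : ∀ x ∈ (I ^ t • ⊤ : Submodule A N),
      φ x ∈ ((I.map (algebraMap A R)) ^ t • ⊤ : Submodule R (LocalizedModule r.asIdeal.primeCompl N)) :=
    fun x hx => Submodule.smul_induction_on (p := fun x => φ x ∈ _) hx
      (fun b hb y _ => by
        rw [map_smul, ← IsScalarTower.algebraMap_smul R b (φ y), ← Ideal.map_pow]
        exact Submodule.smul_mem_smul (Ideal.mem_map_of_mem _ hb) trivial)
      (fun x y hx hy => by rw [map_add]; exact add_mem hx hy)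
  have hu : IsUnit (algebraMap A R (c ^ m)) :=
    IsLocalization.map_units R (⟨c ^ m, fun h => hcr (r.2.mem_of_pow_mem m h)⟩ : r.asIdeal.primeCompl)
  have h2 := hmem _ h1
  rw [map_smul, ← IsScalarTower.algebraMap_smul R (c ^ m) (φ n)] at h2
  obtain ⟨u, hu'⟩ := hu
  rw [← hu'] at h2
  simpa [Units.smul_def, smul_smul] using Submodule.smul_mem _ (↑u⁻¹ : R) h2

include hε hfs in
/-- degree zero is killed by an ideal with small zero locus -/
theorem exists_kill_zero {T : Set (PrimeSpectrum A)}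
    (hT : ∀ p : PrimeSpectrum A, (∀ q, p ≤ q → I ≤ q.asIdeal → W ≤ q.asIdeal) → p ∈ T)
    (N : Type u) [AddCommGroup N] [Module A N] [Module.Finite A N] {K : DRing.Cx A} (hK : IsRep K)
    (e : (QA A).obj K ≅ Dual.inD A N) :
    ∃ K₀ : Ideal A, PrimeSpectrum.zeroLocus (K₀ : Set A) ⊆ T ∧
      ∀ a ∈ K₀, ∀ h : XC (ModuleCat.of A A) fs ⟶ (gX W K)⟦(0 : ℤ)⟧, a • h = 0 := by
  let N₀ : Submodule A N := ⨅ (r : PrimeSpectrum A) (_ : I ≤ r.asIdeal) (_ : ¬ W ≤ r.asIdeal),
    LinearMap.ker (LocalizedModule.mkLinearMap r.asIdeal.primeCompl N)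
  refine ⟨Module.annihilator A N₀, fun p hp => hT p fun q hpq hIq => ?_, fun a ha h => ?_⟩
  · by_contra hWq
    have hq : q ∈ Module.support A N₀ := by
      rw [Module.support_eq_zeroLocus]
      exact fun b hb => hpq (hp hb)
    obtain ⟨x, hx⟩ := Module.mem_support_iff'.1 hq
    have h0 := x.2
    simp only [N₀, Submodule.mem_iInf, LinearMap.mem_ker] at h0
    obtain ⟨⟨c, hc⟩, hcx⟩ := (IsLocalizedModule.eq_zero_iff q.asIdeal.primeCompl (LocalizedModule.mkLinearMap q.asIdeal.primeCompl N)).1 (h0 q hIq hWq)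
    exact hx c hc (Subtype.ext hcx)
  let S := DerivedCategory.singleFunctor (ModuleCat.{u} A) 0
  refine inj I W fs hε hfs N hK e le_rfl _ ?_
  let z := (shiftFunctorZero (Dual.D A) ℤ)
  obtain ⟨v, hv⟩ := (hε _ (dc_module I N)).2 (h ≫ (γ W K)⟦(0 : ℤ)⟧' ≫ e.hom⟦(0 : ℤ)⟧' ≫ z.hom.app _)
  obtain ⟨v', rfl⟩ := S.map_surjective v
  have hn0 : v'.hom (1 : A) ∈ N₀ := by
    simp only [N₀, Submodule.mem_iInf, LinearMap.mem_ker]
    intro r hIr hWr
    refine mem_ker_of_torsion I W _ (fun t => ?_) r hIr hWr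
    let p : ModuleCat.of A N ⟶ ModuleCat.of A (N ⧸ (I ^ t • ⊤ : Submodule A N)) :=
      ModuleCat.ofHom (Submodule.mkQ _)
    obtain ⟨K'', hK'', ⟨e''⟩⟩ := exists_isRep (Dual.inD A (N ⧸ (I ^ t • ⊤ : Submodule A N)))
    haveI := hK''.kinj
    obtain ⟨g, hg⟩ := Q_map_surjective_to K K'' (e.hom ≫ S.map p ≫ e''.inv)
    have hk : ∀ b ∈ I ^ t, b • 𝟙 ((QA A).obj K'') = 0 := fun b hb => by
      have hz : b • 𝟙 (Dual.inD A (N ⧸ (I ^ t • ⊤ : Submodule A N))) = 0 := by
        have h : b • 𝟙 (ModuleCat.of A (N ⧸ (I ^ t • ⊤ : Submodule A N))) = 0 :=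
          ModuleCat.hom_ext (LinearMap.ext fun y => by
            obtain ⟨y, rfl⟩ := Submodule.mkQ_surjective _ y
            exact ((Submodule.mkQ _).map_smul b y).symm.trans
              ((Submodule.Quotient.mk_eq_zero _).2 (Submodule.smul_mem_smul hb trivial)))
        rw [← CategoryTheory.Functor.map_id, ← Functor.map_smul, h, Functor.map_zero]
      rw [← cancel_mono e''.hom, zero_comp, Linear.smul_comp, Category.id_comp, ← Category.comp_id e''.hom,
        ← Linear.comp_smul, hz, comp_zero]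
    obtain ⟨h'', hh''⟩ := (hε _ (DR40.dc_shift
      (CechBoot.dc_of_killed I (N := t) fun b hb => smul_gX_eq_zero W hK'' b (hk b hb)) 0)).2
      (h ≫ ((QA A).map ((CechRgamma.gCx W).map g))⟦(0 : ℤ)⟧')
    obtain ⟨m, w, hw, -⟩ := exists_torsion W hK'' 0 h''
    refine ⟨m, fun b hb => ?_⟩
    obtain ⟨w', hw'⟩ := S.map_surjective (w ≫ e''.hom⟦(0 : ℤ)⟧' ≫ z.hom.app _)
    have hvp : v' ≫ p = quotMap W m ≫ w' := by
      refine S.map_injective ?_
      rw [Functor.map_comp, Functor.map_comp, hw', ← Category.assoc, ← hw]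
      refine (hε _ (dc_module I (N ⧸ (I ^ t • ⊤ : Submodule A N)))).1 ?_
      show ε ≫ S.map v' ≫ S.map p = ε ≫ _
      rw [← Category.assoc, show ε ≫ S.map v' = _ from hv]
      have h1 : e.hom⟦(0 : ℤ)⟧' ≫ z.hom.app _ ≫ S.map p =
          ((QA A).map g)⟦(0 : ℤ)⟧' ≫ e''.hom⟦(0 : ℤ)⟧' ≫ z.hom.app _ := by
        rw [← Category.assoc (((QA A).map g)⟦(0 : ℤ)⟧'), ← Functor.map_comp, hg, Category.assoc,
          Category.assoc, Iso.inv_hom_id, Category.comp_id, Functor.map_comp, Category.assoc]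
        exact congrArg (_ ≫ ·) (z.hom.naturality (S.map p)).symm
      simp only [Category.assoc]
      rw [h1, ← Category.assoc ((γ W K)⟦(0 : ℤ)⟧'), ← Functor.map_comp, ← γ_natural, Functor.map_comp,
        Category.assoc, ← reassoc_of% hh'']
    have h2 := congrArg (fun φ => φ.hom b) hvp
    simp only [ModuleCat.hom_comp, LinearMap.coe_comp, Function.comp_apply] at h2
    rw [show (quotMap W m).hom b = 0 from (Submodule.Quotient.mk_eq_zero _).2 hb, map_zero] at h2
    have hb1 : v'.hom b = b • v'.hom (1 : A) :=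
      (congrArg v'.hom (mul_one b).symm).trans (v'.hom.map_smul b (1 : A))
    rw [← hb1]
    exact (Submodule.Quotient.mk_eq_zero _).1 h2
  have hav : a • v' = 0 := ModuleCat.hom_ext (LinearMap.ext_ring
    (congrArg Subtype.val (Module.mem_annihilator.1 ha ⟨_, hn0⟩)))
  rw [← cancel_mono (e.hom⟦(0 : ℤ)⟧' ≫ z.hom.app _), zero_comp, Linear.smul_comp, Linear.smul_comp,
    Category.assoc, ← show ε ≫ S.map v' = _ from hv, ← Linear.comp_smul, ← Functor.map_smul, hav,
    Functor.map_zero, comp_zero]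

end Groth.Agent.LC16.GammaInj
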