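import Groth.Agent.LC16.GammaModel

/-!
Maps from torsion modules into `RΓ_W`.
-/

set_option autoImplicit false
set_option linter.style.haveILetI false
set_option maxHeartbeats 1000000

noncomputable section

universe u

open CategoryTheory CategoryTheory.Limits CategoryTheory.Pretriangulated
attribute [local instance] HasDerivedCategory.standard

namespace Groth.Agent.LC16.GammaTorsion

open Groth.Agent.DR39 Groth.Agent.LC16.GammaModel Groth.Agent.LC16.CechRgamma

variable {A : Type u} [CommRing A] (W : Ideal A)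

/-- a module in degree zero -/
abbrev S0 (M : ModuleCat.{u} A) : DRing.Cx A :=
  (HomologicalComplex.single (ModuleCat.{u} A) (ComplexShape.up ℤ) 0).obj M

/-- the quotient by a power -/
abbrev quotMap (t : ℕ) : ModuleCat.of A A ⟶ ModuleCat.of A (A ⧸ W ^ t) :=
  ModuleCat.ofHom (Submodule.mkQ (W ^ t))

theorem mem_torsion_of_killed {P : DRing.Cx A} {t : ℕ} (hP : ∀ a ∈ W ^ t, ∀ p, ∀ x : P.X p, a • x = 0)
    {p : ℤ} {N : ModuleCat.{u} A} (g : P.X p ⟶ N) (x : P.X p) : g.hom x ∈ DRing.torsionSub W N :=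
  ⟨t, fun a ha => by rw [← map_smul, hP a ha p x, map_zero]⟩

/-- chain maps out of killed complexes lift to the torsion part -/
def liftHom {P : DRing.Cx A} {t : ℕ} (hP : ∀ a ∈ W ^ t, ∀ p, ∀ x : P.X p, a • x = 0) {K : DRing.Cx A}
    {i : ℤ} (ψ : P ⟶ K⟦i⟧) : P ⟶ ((gCx W).obj K)⟦i⟧ where
  f p := ModuleCat.ofHom (Y := DRing.torsionSub W (K.X (p + i)))
    ((ψ.f p).hom.codRestrict _ fun x => mem_torsion_of_killed W hP (ψ.f p) x)
  comm' p q hpq := by
    refine ModuleCat.hom_ext (LinearMap.ext fun x => Subtype.ext ?_)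
    exact congrArg (fun φ => φ.hom x) (ψ.comm p q)

theorem liftHom_ι {P : DRing.Cx A} {t : ℕ} (hP : ∀ a ∈ W ^ t, ∀ p, ∀ x : P.X p, a • x = 0)
    {K : DRing.Cx A} {i : ℤ} (ψ : P ⟶ K⟦i⟧) : liftHom W hP ψ ≫ (gι W K)⟦i⟧' = ψ := rfl

theorem gι_injective (K : DRing.Cx A) (i p : ℤ) :
    Function.Injective (((gι W K)⟦i⟧' : _ ⟶ K⟦i⟧).f p).hom := fun _ _ h => Subtype.ext h

theorem hom_ext_gι {P : DRing.Cx A} {K : DRing.Cx A} {i : ℤ} {φ φ' : P ⟶ ((gCx W).obj K)⟦i⟧}
    (h : φ ≫ (gι W K)⟦i⟧' = φ' ≫ (gι W K)⟦i⟧') : φ = φ' :=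
  HomologicalComplex.hom_ext _ _ fun p => ModuleCat.hom_ext (LinearMap.ext fun x =>
    gι_injective W K i p (congrArg (fun ψ : P ⟶ K⟦i⟧ => (ψ.f p).hom x) h))

/-- lifting one component -/
def liftX {P : DRing.Cx A} {t : ℕ} (hP : ∀ a ∈ W ^ t, ∀ p, ∀ x : P.X p, a • x = 0) {K : DRing.Cx A}
    {i p q : ℤ} (g : P.X p ⟶ (K⟦i⟧).X q) : P.X p ⟶ (((gCx W).obj K)⟦i⟧).X q :=
  ModuleCat.ofHom (Y := DRing.torsionSub W (K.X (q + i)))
    (LinearMap.codRestrict (DRing.torsionSub W (K.X (q + i)))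
      (g.hom : P.X p →ₗ[A] K.X (q + i)) fun x => mem_torsion_of_killed W hP g x)

theorem liftX_ι {P : DRing.Cx A} {t : ℕ} (hP : ∀ a ∈ W ^ t, ∀ p, ∀ x : P.X p, a • x = 0) {K : DRing.Cx A}
    {i p q : ℤ} (g : P.X p ⟶ (K⟦i⟧).X q) : liftX W hP g ≫ ((gι W K)⟦i⟧').f q = g := rfl

/-- homotopies out of killed complexes lift to the torsion part -/
def liftHomotopy {P : DRing.Cx A} {t : ℕ} (hP : ∀ a ∈ W ^ t, ∀ p, ∀ x : P.X p, a • x = 0)
    {K : DRing.Cx A} {i : ℤ} {φ : P ⟶ ((gCx W).obj K)⟦i⟧} (H : Homotopy (φ ≫ (gι W K)⟦i⟧') 0) :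
    Homotopy φ 0 where
  hom p q := liftX W hP (H.hom p q)
  zero p q hpq := ModuleCat.hom_ext (LinearMap.ext fun x => Subtype.ext
    (congrArg (fun g => g.hom x) (H.zero p q hpq)))
  comm p := by
    haveI : Mono (((gι W K)⟦i⟧' : _ ⟶ K⟦i⟧).f p) :=
      (ModuleCat.mono_iff_injective _).2 (gι_injective W K i p)
    rw [← cancel_mono (((gι W K)⟦i⟧').f p), dNext_eq _ (show (ComplexShape.up ℤ).Rel p (p + 1) by simp),
      prevD_eq _ (show (ComplexShape.up ℤ).Rel (p - 1) p by simp)]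
    have h := H.comm p
    rw [dNext_eq _ (show (ComplexShape.up ℤ).Rel p (p + 1) by simp),
      prevD_eq _ (show (ComplexShape.up ℤ).Rel (p - 1) p by simp), HomologicalComplex.comp_f] at h
    rw [h]
    simp only [Preadditive.add_comp, Category.assoc, liftX_ι, HomologicalComplex.zero_f, zero_comp]
    rw [← ((gι W K)⟦i⟧').comm (p - 1) p, ← Category.assoc, liftX_ι]

/-- the module in degree zero in the derived category -/
abbrev eS (M : ModuleCat.{u} A) :
    (DerivedCategory.singleFunctor (ModuleCat.{u} A) 0).obj M ≅ (QA A).obj (S0 M) :=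
  (DerivedCategory.singleFunctorIsoCompQ (ModuleCat.{u} A) 0).app M

theorem killed_S0 (t : ℕ) : ∀ a ∈ W ^ t, ∀ p, ∀ x : (S0 (ModuleCat.of A (A ⧸ W ^ t))).X p, a • x = 0 := by
  intro a ha p x
  by_cases h : p = 0
  · subst h
    let e := (HomologicalComplex.singleObjXSelf (ComplexShape.up ℤ) 0
      (ModuleCat.of A (A ⧸ W ^ t))).toLinearEquiv
    refine e.injective ((map_smul e a x).trans (Eq.trans ?_ (map_zero e).symm))
    obtain ⟨b, hb⟩ := Submodule.mkQ_surjective (W ^ t) (e x)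
    rw [← hb]
    refine ((map_smul (Submodule.mkQ (W ^ t)) a b).symm).trans ?_
    exact (Submodule.Quotient.mk_eq_zero _).2 (Ideal.mul_mem_right b _ ha)
  · haveI : Subsingleton ((S0 (ModuleCat.of A (A ⧸ W ^ t))).X p) :=
      ModuleCat.subsingleton_of_isZero (HomologicalComplex.isZero_single_obj_X _ _ _ _ h)
    exact Subsingleton.elim _ _

/-- maps from `A[0]` factor through a truncation -/
theorem exists_factor {K : DRing.Cx A} (i : ℤ)
    (φ : S0 (ModuleCat.of A A) ⟶ ((gCx W).obj K)⟦i⟧) :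
    ∃ (t : ℕ) (φ' : S0 (ModuleCat.of A (A ⧸ W ^ t)) ⟶ ((gCx W).obj K)⟦i⟧),
      φ = (HomologicalComplex.single _ (ComplexShape.up ℤ) 0).map (quotMap W t) ≫ φ' := by
  let sA := HomologicalComplex.singleObjXSelf (ComplexShape.up ℤ) 0 (ModuleCat.of A A)
  let z : DRing.torsionSub W (K.X (0 + i)) := (φ.f 0).hom (sA.inv.hom (1 : A))
  obtain ⟨t, ht⟩ := z.2
  let g : ModuleCat.of A (A ⧸ W ^ t) ⟶ (((gCx W).obj K)⟦i⟧).X 0 :=
    ModuleCat.ofHom (Y := DRing.torsionSub W (K.X (0 + i)))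
      ((W ^ t).liftQ (LinearMap.toSpanSingleton A _ z) fun a ha => by
        rw [LinearMap.mem_ker, LinearMap.toSpanSingleton_apply]
        exact Subtype.ext (ht a ha))
  have hg : quotMap W t ≫ g = sA.inv ≫ φ.f 0 := ModuleCat.hom_ext (LinearMap.ext_ring (one_smul A z))
  have hd : g ≫ (((gCx W).obj K)⟦i⟧).d 0 1 = 0 := by
    haveI : Epi (quotMap W t) := (ModuleCat.epi_iff_surjective _).2 (Submodule.mkQ_surjective _)
    rw [← cancel_epi (quotMap W t), comp_zero, ← Category.assoc, hg, Category.assoc, φ.comm 0 1,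
      HomologicalComplex.single_obj_d, zero_comp, comp_zero]
  refine ⟨t, HomologicalComplex.mkHomFromSingle g (fun k hk => ?_), ?_⟩
  · obtain rfl : k = 1 := by simpa using hk.symm
    exact hd
  · refine HomologicalComplex.from_single_hom_ext ?_
    rw [HomologicalComplex.comp_f, HomologicalComplex.single_map_f_self, HomologicalComplex.mkHomFromSingle_f]
    simp only [Category.assoc, Iso.inv_hom_id_assoc]
    rw [hg, Iso.hom_inv_id_assoc]

/-- classes of maps from `A[0]` into `RΓ_W` come from torsion modules -/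
theorem exists_torsion {K : DRing.Cx A} (hK : IsRep K) (i : ℤ) (h : Dual.inD A A ⟶ (gX W K)⟦i⟧) :
    ∃ (t : ℕ) (w : Dual.inD A (A ⧸ W ^ t) ⟶ ((QA A).obj K)⟦i⟧),
      h ≫ (γ W K)⟦i⟧' = (DerivedCategory.singleFunctor (ModuleCat.{u} A) 0).map (quotMap W t) ≫ w ∧
      (w = 0 → h = 0) := by
  haveI := hK.kinj
  haveI : CochainComplex.IsKProjective (S0 (ModuleCat.of A A)) := DR39.isKProjective_single _ 0
  obtain ⟨φ, hφ⟩ := DR39.Q_map_surjective (S0 (ModuleCat.of A A)) (((gCx W).obj K)⟦i⟧)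
    ((eS _).inv ≫ h ≫ ((QA A).commShiftIso i).inv.app _)
  obtain ⟨t, φ', rfl⟩ := exists_factor W i φ
  let ψ := φ' ≫ (gι W K)⟦i⟧'
  refine ⟨t, (eS _).hom ≫ (QA A).map ψ ≫ ((QA A).commShiftIso i).hom.app _, ?_, fun hw => ?_⟩
  · rw [Functor.map_comp, ← cancel_epi (eS _).hom, Iso.hom_inv_id_assoc,
      ← cancel_mono (((QA A).commShiftIso i).hom.app _)] at hφ
    simp only [Category.assoc, Iso.inv_hom_id_app] at hφ
    have h1 : h = (eS _).hom ≫ (QA A).map ((HomologicalComplex.single _ (ComplexShape.up ℤ) 0).map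
        (quotMap W t)) ≫ (QA A).map φ' ≫ ((QA A).commShiftIso i).hom.app _ :=
      (Category.comp_id h).symm.trans hφ.symm
    rw [h1]
    simp only [Category.assoc, ψ, Functor.map_comp]
    have h2 := ((QA A).commShiftIso i).hom.naturality (gι W K)
    have h3 := (DerivedCategory.singleFunctorIsoCompQ (ModuleCat.{u} A) 0).hom.naturality (quotMap W t)
    erw [← h2]
    erw [← reassoc_of% h3]
    rfl
  · have hψ : (QA A).map ψ = 0 := by
      rw [← cancel_epi (eS _).hom, comp_zero, ← cancel_mono (((QA A).commShiftIso i).hom.app _), zero_comp,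
        Category.assoc]
      exact hw
    obtain ⟨H⟩ := (Q_map_eq_iff_to ψ 0).1 (hψ.trans (Functor.map_zero _ _ _).symm)
    have h0 : (QA A).map φ' = 0 :=
      (DerivedCategory.Q_map_eq_of_homotopy (C := ModuleCat.{u} A)
        (liftHomotopy W (killed_S0 W t) H)).trans (Functor.map_zero _ _ _)
    rw [Functor.map_comp, h0, comp_zero, eq_comm, ← cancel_epi (eS _).hom, Iso.hom_inv_id_assoc,
      comp_zero, ← cancel_mono (((QA A).commShiftIso i).hom.app _), zero_comp, Category.assoc,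
      Iso.inv_hom_id_app] at hφ
    exact (Category.comp_id h).symm.trans hφ

/-- `H^i(RΓ_W X) → H^i(X)` is injective when maps from the torsion truncations are detected by `A` -/
theorem eq_zero_of_comp_γ {K : DRing.Cx A} (hK : IsRep K) (i : ℤ)
    (H : ∀ (t : ℕ) (w : Dual.inD A (A ⧸ W ^ t) ⟶ ((QA A).obj K)⟦i⟧),
      (DerivedCategory.singleFunctor (ModuleCat.{u} A) 0).map (quotMap W t) ≫ w = 0 → w = 0)
    (h : Dual.inD A A ⟶ (gX W K)⟦i⟧) (hh : h ≫ (γ W K)⟦i⟧' = 0) : h = 0 := by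
  obtain ⟨t, w, h1, h2⟩ := exists_torsion W hK i h
  exact h2 (H t w (h1.symm.trans hh))

end Groth.Agent.LC16.GammaTorsion
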