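import Groth.Agent.SuppQC64.Main
import Groth.Agent.GSS45.DerivedHom

/-!
Vanishing of the local cohomology sheaves of modules is local cohomology with supports vanishing
on small opens.
-/

set_option autoImplicit false
set_option backward.isDefEq.respectTransparency.types false
set_option linter.style.haveILetI false

universe u

open CategoryTheory CategoryTheory.Limits AlgebraicGeometry TopologicalSpace Opposite

attribute [local instance] HasDerivedCategory.standard

noncomputable section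

namespace Groth.Agent.LC16.GammaZLocal

open Groth.Agent QC70 SuppQC64

variable {X : Scheme.{u}} (U : X.Opens)

/-- Restricting to the whole space does nothing. -/
theorem isIso_unit_top (F : X.Modules) :
    IsIso ((Scheme.Modules.restrictAdjunction (⊤ : X.Opens).ι).unit.app F) := by
  rw [Scheme.Modules.Hom.isIso_iff_isIso_app]
  intro W
  rw [ConcreteCategory.isIso_iff_bijective, Scheme.Modules.restrictAdjunction_unit_app_app]
  have hle : W ≤ (⊤ : X.Opens).ι ''ᵁ ((⊤ : X.Opens).ι ⁻¹ᵁ W) :=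
    (le_inf le_top le_rfl).trans (le_im ⊤ W)
  refine ⟨fun a b e => ?_, fun c => ⟨res F hle c, ?_⟩⟩
  · have e' := congrArg (res F hle) e
    exact ((res_self _).symm.trans (res_res _ _ _).symm).trans (e'.trans ((res_res _ _ _).trans (res_self _)))
  · exact (res_res hle ((⊤ : X.Opens).ι.image_preimage_le _) c).trans (res_self c)

/-- Sections with supports as the functor `G` for the whole space. -/
def gammaZIsoG : DCoh.gammaZ U.ι ≅ G U (⊤ : X.Opens) :=
  (Functor.leftUnitor _).symm ≪≫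
    Functor.isoWhiskerRight
      (@asIso _ _ _ _ (Scheme.Modules.restrictAdjunction (⊤ : X.Opens).ι).unit
        (@NatIso.isIso_of_isIso_app _ _ _ _ _ _ _ isIso_unit_top))
      (DCoh.gammaZ U.ι)

/-- Cohomology with supports only depends on the two opens. -/
theorem subsingleton_HZ_of_eq {T : TopCat.{u}} {B : CohTop.Ab T} {i : ℕ} {W W' V V' : Opens T}
    (h : W ≤ V) (h' : W' ≤ V') (eW : W = W') (eV : V = V') (hs : Subsingleton (LocCohZ.HZ B i h)) :
    Subsingleton (LocCohZ.HZ B i h') := by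
  subst eW eV
  assumption

variable [HasInjectiveResolutions X.Modules]

/-- A local criterion for the vanishing of local cohomology sheaves. -/
theorem isZero_of_local (F : X.Modules) (i : ℕ)
    (h : ∀ (V : X.Opens) (p : X), p ∈ V → ∃ W : X.Opens, W ≤ V ∧ p ∈ W ∧
      Subsingleton (LocCohZ.HZ (X := X.toTopCat) (Coh.toAb F) i (inf_le_left : W ⊓ U ≤ W))) :
    IsZero (((DCoh.gammaZ U.ι).rightDerived i).obj F) := by
  refine IsZero.of_iso ?_ ((GSS45.rightDerivedIsoOfIso (gammaZIsoG U) i).app F)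
  let S := SuppFam.sectSuppLC (X := X.toTopCat) (le_top : U ≤ (⊤ : X.Opens))
  have hac : ∀ I : X.Modules, Injective I → RFPlus43.IsAc S ((toAbF X).obj I) := fun I hI => by
    haveI := isFlasque_toAb I
    refine Mod48.isAc_of_isZero S _ fun j hj => ?_
    obtain ⟨k, rfl⟩ := Nat.exists_eq_succ_of_ne_zero hj.ne'
    exact isZero_HZshLC _ _ k
  let P := injectiveResolution F
  let D := ((G U (⊤ : X.Opens)).rightDerived i).obj F
  let e1 : (toAbF X).obj D ≅ ((G U (⊤ : X.Opens) ⋙ toAbF X).rightDerived i).obj F :=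
    (toAbF X).mapIso (P.isoRightDerivedObj (G U ⊤) i) ≪≫
      (((((G U (⊤ : X.Opens)).mapHomologicalComplex _).obj P.cocomplex).sc i).mapHomologyIso (toAbF X)).symm ≪≫
      (P.isoRightDerivedObj (G U ⊤ ⋙ toAbF X) i).symm
  let e : (toAbF X).obj D ≅
      (SuppFam.HZshLC (X := X.toTopCat) (le_top : U ≤ (⊤ : X.Opens)) i).obj (Coh.toAb F) :=
    e1 ≪≫ (LocCohZ46.rightDerivedIso (sectIso (le_top : U ≤ (⊤ : X.Opens))) i).app F ≪≫
      (Mod48.rightDerivedCompIsoOfAc (toAbF X) S hac i).app F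
  have hz : IsZero ((SuppFam.HZshLC (X := X.toTopCat) (le_top : U ≤ (⊤ : X.Opens)) i).obj (Coh.toAb F)) := by
    refine IsZero.of_iso (TopCoh49.isZero_sheafify_of_locally_zero _ fun V s p hp => ?_)
      ((SuppInj95.HZshLCIso (le_top : U ≤ (⊤ : X.Opens)) i).app (Coh.toAb F))
    obtain ⟨W, hWV, hpW, hW⟩ := h V p hp
    have hs := subsingleton_HZ_of_eq (T := X.toTopCat) (B := (Coh.toAb F : CohTop.Ab X.toTopCat)) (i := i)
      (inf_le_left : W ⊓ U ≤ W) (inf_le_inf_right W le_top : U ⊓ W ≤ (⊤ : X.Opens) ⊓ W)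
      (inf_comm _ _) (top_inf_eq W).symm hW
    exact ⟨W, hWV, hpW, hs.elim _ _⟩
  have h0 : IsZero ((toAbF X).obj D) := hz.of_iso e
  haveI : (toAbF X).Faithful :=
    inferInstanceAs (SheafOfModules.toSheaf.{u} X.ringCatSheaf).Faithful
  rw [IsZero.iff_id_eq_zero]
  exact (toAbF X).map_injective (h0.eq_of_src _ _)

omit [HasInjectiveResolutions X.Modules] in
/-- An open cut out by basic opens stays so on a smaller open. -/
theorem inf_eq_iSup_basicOpen {V W : X.Opens} (hWV : W ≤ V) (fs : List Γ(X, V))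
    (h : X.zeroLocus (U := V) {a | a ∈ fs} ∩ (V : Set X) = (U : Set X)ᶜ ∩ (V : Set X)) :
    W ⊓ U = ⨆ i : ULift.{u} (Fin (fs.map (X.presheaf.map (homOfLE hWV).op)).length),
      X.basicOpen ((fs.map (X.presheaf.map (homOfLE hWV).op)).get i.down) := by
  ext z
  rw [SetLike.mem_coe, SetLike.mem_coe, Opens.mem_iSup]
  have key : ∀ g ∈ fs, (z ∈ X.basicOpen (X.presheaf.map (homOfLE hWV).op g) ↔ z ∈ W ∧ z ∈ X.basicOpen g) :=
    fun g _ => by rw [X.basicOpen_res]; exact Iff.rfl
  constructor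
  · intro hz
    have : ∃ g ∈ fs, z ∈ X.basicOpen g := by
      by_contra hc
      push Not at hc
      have : z ∈ (U : Set X)ᶜ ∩ (V : Set X) :=
        h ▸ ⟨(X.mem_zeroLocus_iff _ z).2 hc, hWV hz.1⟩
      exact this.1 hz.2
    obtain ⟨g, hg, hzg⟩ := this
    obtain ⟨k, hk⟩ := List.get_of_mem (List.mem_map_of_mem (f := X.presheaf.map (homOfLE hWV).op) hg)
    exact ⟨⟨k⟩, hk ▸ (key g hg).2 ⟨hz.1, hzg⟩⟩
  · rintro ⟨i, hi⟩
    obtain ⟨g, hg, hgi⟩ := List.mem_map.1 (List.get_mem (fs.map (X.presheaf.map (homOfLE hWV).op)) i.down)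
    rw [← hgi] at hi
    obtain ⟨hzW, hzg⟩ := (key g hg).1 hi
    refine ⟨hzW, by_contra fun hzU => ?_⟩
    have : z ∈ X.zeroLocus (U := V) {a | a ∈ fs} ∩ (V : Set X) := h.symm ▸ ⟨hzU, hWV hzW⟩
    exact (X.mem_zeroLocus_iff _ z).1 this.1 g hg hzg

end Groth.Agent.LC16.GammaZLocal
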