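import Groth.Agent.Coh69.RpushQCoh
import Groth.Agent.QC70.HomRestrict
import Groth.Agent.QC70.InjStalk
import Groth.Agent.QC70.Closure
import Groth.Agent.QC70.Colim
import Groth.Agent.Coh69.Grothendieck
import Groth.Prelude.Def_LocCohZ
import Mathlib.Algebra.Homology.HomologySequence
import Mathlib.Algebra.Homology.HomologicalComplexAbelian

/-!
Quasi-coherence of the local cohomology sheaves of a quasi-coherent module.
-/

set_option autoImplicit false
set_option backward.isDefEq.respectTransparency.types false
set_option linter.style.haveILetI false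

noncomputable section

universe u

open CategoryTheory Limits AlgebraicGeometry TopologicalSpace Opposite
open Groth.Agent.QC70

namespace Groth.Agent.LC16.GammaZQCoh

variable {U Y : Scheme.{u}} (j : U ⟶ Y) [IsOpenImmersion j]

theorem epi_unit (I : Y.Modules) [Injective I] :
    Epi ((Scheme.Modules.restrictAdjunction j).unit.app I) := by
  refine epi_of_locally_surjective _ fun V s p hp => ?_
  obtain ⟨t, ht⟩ := restriction_surjective_of_injective I (j.image_preimage_le V) s
  exact ⟨V, le_rfl, t, hp, by rw [res_self, Scheme.Modules.restrictAdjunction_unit_app_app]; exact ht⟩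

variable [HasInjectiveResolutions Y.Modules]

theorem isQuasicoherent_HZshM [QuasiCompact j] (M : Y.Modules) [M.IsQuasicoherent] (q : ℕ) :
    ((LocCohZ.HZshM j q).obj M).IsQuasicoherent := by
  haveI : HasInjectiveResolutions U.Modules := inferInstance
  let R := Scheme.Modules.restrictFunctor j
  let T : Y.Modules ⥤ Y.Modules := R ⋙ Scheme.Modules.pushforward j
  haveI : T.Additive := inferInstance
  let P := injectiveResolution M
  let c := ComplexShape.up ℕ
  let u : 𝟭 Y.Modules ⟶ T := (Scheme.Modules.restrictAdjunction j).unit
  let K1 := ((DCoh.gammaZ j).mapHomologicalComplex c).obj P.cocomplex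
  let K3 := (T.mapHomologicalComplex c).obj P.cocomplex
  let i : K1 ⟶ P.cocomplex :=
    { f := fun n => kernel.ι _
      comm' := fun a b _ => (kernel.lift_ι _ _ _).symm }
  let π : P.cocomplex ⟶ K3 :=
    { f := fun n => u.app (P.cocomplex.X n)
      comm' := fun a b _ => (u.naturality (P.cocomplex.d a b)).symm }
  have hiπ : i ≫ π = 0 := HomologicalComplex.hom_ext _ _ fun n => kernel.condition _
  let S : ShortComplex (HomologicalComplex Y.Modules c) := ShortComplex.mk i π hiπ
  have hS : S.ShortExact := HomologicalComplex.shortExact_of_degreewise_shortExact _ fun n => by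
    haveI := P.injective n
    haveI : Mono (kernel.ι (u.app (P.cocomplex.X n))) := inferInstance
    haveI : Epi (u.app (P.cocomplex.X n)) := epi_unit j (P.cocomplex.X n)
    exact ShortComplex.ShortExact.mk' (ShortComplex.exact_kernel (u.app (P.cocomplex.X n)))
      (inferInstanceAs (Mono (kernel.ι (u.app (P.cocomplex.X n)))))
      (inferInstanceAs (Epi (u.app (P.cocomplex.X n))))
  haveI : (R).PreservesHomology := inferInstance
  haveI : PreservesFiniteLimits R := Functor.preservesFiniteLimits_of_preservesHomology _
  haveI : (M.restrict j).IsQuasicoherent := inferInstance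
  have hT : ∀ n, (K3.homology n).IsQuasicoherent := fun n => by
    obtain ⟨e⟩ := nonempty_rightDerived_comp_iso R (Scheme.Modules.pushforward j)
      (fun I hI => @injective_restrict _ _ j _ I hI) M
      (fun k => isZero_rightDerived_of_preservesHomology R M k) n
    have := Coh69.isQuasicoherent_rpush (f := j) (M.restrict j) n
    exact isQuasicoherent_of_iso (e ≪≫ P.isoRightDerivedObj T n) this
  suffices (K1.homology q).IsQuasicoherent from
    isQuasicoherent_of_iso (P.isoRightDerivedObj (DCoh.gammaZ j) q).symm this
  let e0 : P.cocomplex.homology 0 ≅ M :=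
    (asIso (HomologicalComplex.homologyMap P.ι 0)).symm ≪≫
      HomologicalComplex.singleObjHomologySelfIso _ 0 M
  haveI h0 : (P.cocomplex.homology 0).IsQuasicoherent := isQuasicoherent_of_iso e0.symm ‹_›
  cases q with
  | zero =>
    haveI := hT 0
    haveI : Mono (HomologicalComplex.homologyMap i 0) := by
      haveI : Mono (i.f 0) := inferInstanceAs (Mono (kernel.ι _))
      haveI : Mono (HomologicalComplex.cyclesMap i 0) := by
        haveI : Mono (HomologicalComplex.cyclesMap i 0 ≫ P.cocomplex.iCycles 0) := by
          rw [HomologicalComplex.cyclesMap_i]; infer_instance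
        exact mono_of_mono _ (P.cocomplex.iCycles 0)
      haveI := K1.isIso_homologyπ ((ComplexShape.up ℕ).prev 0) 0 rfl (K1.shape _ _ (by simp [c]))
      haveI := P.cocomplex.isIso_homologyπ ((ComplexShape.up ℕ).prev 0) 0 rfl
        (P.cocomplex.shape _ _ (by simp [c]))
      have e : HomologicalComplex.homologyMap i 0 =
          inv (K1.homologyπ 0) ≫ HomologicalComplex.cyclesMap i 0 ≫ P.cocomplex.homologyπ 0 := by
        rw [← HomologicalComplex.homologyπ_naturality, IsIso.inv_hom_id_assoc]
      rw [e]
      infer_instance
    have hex := hS.homology_exact₂ 0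
    haveI : Mono (ShortComplex.mk (HomologicalComplex.homologyMap i 0)
      (HomologicalComplex.homologyMap π 0) (by rw [← HomologicalComplex.homologyMap_comp, hiπ,
        HomologicalComplex.homologyMap_zero])).f := ‹_›
    haveI := isQuasicoherent_kernel (HomologicalComplex.homologyMap π 0)
    exact isQuasicoherent_of_iso ((kernelIsKernel _).conePointUniqueUpToIso hex.fIsKernel) ‹_›
  | succ k =>
    have hex := hS.homology_exact₁ k (k + 1) rfl
    have hex3 := hS.homology_exact₃ k (k + 1) rfl
    haveI : Epi (hS.δ k (k + 1) rfl) := hex.epi_f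
      (((P.cocomplex_exactAt_succ k).isZero_homology).eq_of_tgt _ _)
    haveI := hT k
    haveI : (P.cocomplex.homology k).IsQuasicoherent := by
      cases k with
      | zero => exact h0
      | succ l => exact isQuasicoherent_of_isZero (P.cocomplex_exactAt_succ l).isZero_homology
    haveI := isQuasicoherent_cokernel (HomologicalComplex.homologyMap π k)
    exact isQuasicoherent_of_iso ((cokernelIsCokernel _).coconePointUniqueUpToIso hex3.gIsCokernel) ‹_›

end Groth.Agent.LC16.GammaZQCoh
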