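import Groth.Agent.LC16.SumHom
import Groth.Agent.EGA73.TildeQCoh
import Groth.Agent.LocCohZ41.Tilde
import Groth.Agent.Coh69.OpenSub

/-!
The Cech complexes of the twists `M(n)~` on the opens `D₊(f_i)` of `Proj` add up to the Cech complex
of `M~` on the opens `D(f_i)` of the cone.
-/

set_option autoImplicit false
set_option backward.isDefEq.respectTransparency.types false
set_option linter.style.haveILetI false
set_option maxHeartbeats 1000000

noncomputable section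

universe u

open CategoryTheory CategoryTheory.Limits AlgebraicGeometry TopologicalSpace Opposite DirectSum
open Groth.Agent.QC70

namespace Groth.Agent.LC16.GradedCech

variable {R A : Type u} [CommRing R] [CommRing A] [Algebra R A]
variable {M : Type u} [AddCommGroup M] [Module R M] [Module A M]

/-- `M~` on the cone. -/
abbrev coneTilde : (Spec (CommRingCat.of A)).Modules :=
  AlgebraicGeometry.tilde (R := CommRingCat.of A) (ModuleCat.of A M)

/-- Its sections as `A`-modules. -/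
abbrev coneSec : (Opens (Spec (CommRingCat.of A)))ᵒᵖ ⥤ ModuleCat.{u} A :=
  LocCohZ41.secR (coneTilde (A := A) (M := M)) (LocCohZ41.specρ A)

/-- The section of `M~` given by an element of `M`. -/
def tres (W : (Spec (CommRingCat.of A)).Opens) :
    M →ₗ[A] (coneSec (A := A) (M := M)).obj (op W) :=
  ((coneSec (A := A) (M := M)).map (homOfLE (le_top : W ≤ ⊤)).op).hom ∘ₗ
    (LocCohZ41.topIsoTilde A M).inv.hom

theorem map_tres {V W : (Spec (CommRingCat.of A)).Opens} (h : W ≤ V) (m : M) :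
    (coneSec (A := A) (M := M)).map (homOfLE h).op (tres V m) = tres W m := by
  change (coneSec (A := A) (M := M)).map (homOfLE h).op
    ((coneSec (A := A) (M := M)).map (homOfLE (le_top : V ≤ ⊤)).op
      ((LocCohZ41.topIsoTilde A M).inv.hom m)) = _
  rw [← ConcreteCategory.comp_apply, ← Functor.map_comp]
  rfl

/-- The basic open of the cone. -/
abbrev D (g : A) : (Spec (CommRingCat.of A)).Opens :=
  (Spec (CommRingCat.of A)).basicOpen (LocCohZ41.specρ A g)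

theorem D_mul (g h : A) : D (g * h) = D g ⊓ D h := by
  rw [D, map_mul, Scheme.basicOpen_mul]

theorem isLocAt_top :
    IsLocAt (coneTilde (A := A) (M := M)) (⊤ : (Spec (CommRingCat.of A)).Opens) :=
  QCqs72.isLocAt_of_qcqs _ (by simpa using isCompact_univ)
    (IsQuasiSeparated.of_quasiSeparatedSpace _)

theorem exists_pow_of_tres_eq_zero {g : A} {m : M} (h : tres (D g) m = 0) :
    ∃ N : ℕ, g ^ N • m = 0 := by
  let x := (LocCohZ41.topIsoTilde A M).inv.hom m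
  obtain ⟨N, hN⟩ := (isLocAt_top (A := A) (M := M)).eq_zero_of (LocCohZ41.specρ A g) x h
  refine ⟨N, ?_⟩
  have h1 : (LocCohZ41.topIsoTilde A M).inv.hom (g ^ N • m) = 0 := by
    rw [map_smul]
    refine Eq.trans ?_ hN
    change resO _ (le_top : (⊤ : (Spec (CommRingCat.of A)).Opens) ≤ ⊤)
      (LocCohZ41.specρ A (g ^ N)) • (show Γ(coneTilde (A := A) (M := M), ⊤) from x) = _
    rw [map_pow, resO_self]
  have h2 := congrArg (LocCohZ41.topIsoTilde A M).hom.hom h1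
  rw [map_zero, ← ModuleCat.comp_apply, Iso.inv_hom_id] at h2
  exact h2

theorem exists_pow_smul_eq_tres (g : A) (y : (coneSec (A := A) (M := M)).obj (op (D g))) :
    ∃ (N : ℕ) (m : M), g ^ N • y = tres (D g) m := by
  obtain ⟨N, t, ht⟩ := (isLocAt_top (A := A) (M := M)).exists_of (LocCohZ41.specρ A g) y
  refine ⟨N, (LocCohZ41.topIsoTilde A M).hom.hom t, ?_⟩
  have e : (LocCohZ41.topIsoTilde A M).inv.hom ((LocCohZ41.topIsoTilde A M).hom.hom t) = t := by
    rw [← ModuleCat.comp_apply, Iso.hom_inv_id]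
    rfl
  refine Eq.trans ?_ (congrArg ((coneSec (A := A) (M := M)).map
    (homOfLE (le_top : D g ≤ ⊤)).op) e).symm
  refine Eq.trans ?_ ht.symm
  change resO _ (le_top : D g ≤ ⊤) (LocCohZ41.specρ A (g ^ N)) •
    (show Γ(coneTilde (A := A) (M := M), D g) from y) = _
  rw [map_pow, resO_pow]

theorem smul_pow_injective {g : A} {W : (Spec (CommRingCat.of A)).Opens} (hW : W ≤ D g) (N : ℕ) :
    Function.Injective fun y : (coneSec (A := A) (M := M)).obj (op W) => g ^ N • y := by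
  have hu : IsUnit (resO _ (le_top : W ≤ ⊤) (LocCohZ41.specρ A g)) := by
    rw [← resO_resO ((Spec (CommRingCat.of A)).basicOpen_le _) hW]
    exact (RingedSpace.isUnit_res_basicOpen _ _).map
      ((Spec (CommRingCat.of A)).presheaf.map (homOfLE hW).op).hom
  obtain ⟨v, hv⟩ := hu.pow N
  intro a b hab
  change resO _ (le_top : W ≤ ⊤) (LocCohZ41.specρ A (g ^ N)) •
      (show Γ(coneTilde (A := A) (M := M), W) from a) =
    resO _ (le_top : W ≤ ⊤) (LocCohZ41.specρ A (g ^ N)) •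
      (show Γ(coneTilde (A := A) (M := M), W) from b) at hab
  rw [map_pow, resO_pow, ← hv] at hab
  have key : Function.Bijective fun z : Γ(coneTilde (A := A) (M := M), W) => v • z :=
    MulAction.bijective v
  exact key.1 hab

variable (𝒜 : ℕ → Submodule R A) [GradedAlgebra 𝒜]
  (ℳ : ℕ → Submodule R M) [DirectSum.Decomposition ℳ] [SetLike.GradedSMul 𝒜 ℳ]

/-- The basic open of `Proj`. -/
abbrev Dp (g : A) : Opens (ProjectiveSpectrum.top 𝒜) := ProjectiveSpectrum.basicOpen 𝒜 g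

variable {𝒜 ℳ}

variable (𝒜 ℳ) in
/-- Sections of `M(n)~`, as a bundled group. -/
abbrev Sect (n : ℤ) (V : Opens (ProjectiveSpectrum.top 𝒜)) : AddCommGrpCat.{u} :=
  (GrTilde.tildePre 𝒜 ℳ n).obj (op V)

variable (𝒜 ℳ) in
/-- Restriction of sections of `M(n)~`. -/
abbrev sres (n : ℤ) {V W : Opens (ProjectiveSpectrum.top 𝒜)} (h : W ≤ V) :
    Sect 𝒜 ℳ n V →+ Sect 𝒜 ℳ n W :=
  ((GrTilde.tildePre 𝒜 ℳ n).map (homOfLE h).op).hom

/-- The value of a section at a point. -/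
def val {n : ℤ} {V : Opens (ProjectiveSpectrum.top 𝒜)} (s : Sect 𝒜 ℳ n V) (x : V) :
    GrTilde.LocMod 𝒜 (M := M) x.1 :=
  ((show GrTilde.sect 𝒜 ℳ n (op V) from s).1 x).1

omit [DirectSum.Decomposition ℳ] in
theorem val_ext {n : ℤ} {V : Opens (ProjectiveSpectrum.top 𝒜)} {s t : Sect 𝒜 ℳ n V}
    (h : ∀ x, val s x = val t x) : s = t :=
  Subtype.ext (funext fun x => Subtype.ext (h x))

variable {d : ℕ} {g : A} {n : ℤ}

/-- A fraction in degree `n` on `D₊(g)`. -/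
structure Rep (s : Sect 𝒜 ℳ n (Dp 𝒜 g)) where
  /-- degree of the denominator -/
  j : ℕ
  /-- degree of the numerator -/
  i : ℕ
  /-- denominator -/
  h : A
  /-- numerator -/
  m : M
  hh : h ∈ 𝒜 j
  hm : m ∈ ℳ i
  hij : (i : ℤ) = j + n
  nin : ∀ x : Dp 𝒜 g, h ∉ x.1.asHomogeneousIdeal
  eq : ∀ x : Dp 𝒜 g, val s x = EGA73.frac x.1 m h (nin x)

theorem rep_unique (hd : 0 < d) (hg : g ∈ 𝒜 d) {s : Sect 𝒜 ℳ n (Dp 𝒜 g)} (k : ℕ)
    {i₀ : ℕ} {m₀ : M} (hm₀ : m₀ ∈ ℳ i₀) (hi₀ : (i₀ : ℤ) = k * d + n)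
    (hs : ∀ x : Dp 𝒜 g, val s x = EGA73.frac x.1 m₀ (g ^ k) (EGA73.pow_notMem x.2 k))
    {t : (coneSec (A := A) (M := M)).obj (op (D g))} (ht : g ^ k • t = tres (D g) m₀)
    (r : Rep s) : r.h • t = tres (D g) r.m := by
  have hz : g ^ k • r.m - r.h • m₀ ∈ ℳ (k * d + r.i) := by
    refine sub_mem (EGA73.gsmul_mem 𝒜 ℳ (by simpa using SetLike.pow_mem_graded k hg) r.hm) ?_
    have : k * d + r.i = r.j + i₀ := by
      have h1 := r.hij
      have h2 : ((k * d : ℕ) : ℤ) = (k : ℤ) * d := by push_cast; rfl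
      omega
    rw [this]
    exact EGA73.gsmul_mem 𝒜 ℳ r.hh hm₀
  obtain ⟨N, hN⟩ := EGA73.exists_pow_smul_eq_zero 𝒜 ℳ hd hg hz fun x hx => by
    exact EGA73.frac_eq_iff.mp ((r.eq ⟨x, hx⟩).symm.trans (hs ⟨x, hx⟩))
  rw [smul_sub, sub_eq_zero, smul_smul, smul_smul, ← pow_add] at hN
  refine smul_pow_injective le_rfl (N + k) ?_
  change g ^ (N + k) • r.h • t = g ^ (N + k) • tres (D g) r.m
  rw [← map_smul, hN, map_smul, ← ht, smul_smul, smul_smul]
  congr 1
  ring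

theorem exists_psi (hd : 0 < d) (hg : g ∈ 𝒜 d) (s : Sect 𝒜 ℳ n (Dp 𝒜 g)) :
    ∃! t : (coneSec (A := A) (M := M)).obj (op (D g)), ∀ r : Rep s, r.h • t = tres (D g) r.m := by
  obtain ⟨k, i₀, m₀, hm₀, hi₀, hs⟩ := EGA73.exists_frac_eq hd hg s
  obtain ⟨N, hN⟩ : ∃ t : (coneSec (A := A) (M := M)).obj (op (D g)), g ^ k • t = tres (D g) m₀ := by
    have hu : IsUnit (resO _ (le_top : D g ≤ ⊤) (LocCohZ41.specρ A (g ^ k))) := by
      rw [map_pow, resO_pow]
      exact (RingedSpace.isUnit_res_basicOpen _ _).pow k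
    obtain ⟨v, hv⟩ := hu
    have key : Function.Bijective fun z : Γ(coneTilde (A := A) (M := M), D g) => v • z :=
      MulAction.bijective v
    obtain ⟨t, ht⟩ := key.2 (show Γ(coneTilde (A := A) (M := M), D g) from tres (D g) m₀)
    refine ⟨t, Eq.trans ?_ ht⟩
    change resO _ (le_top : D g ≤ ⊤) (LocCohZ41.specρ A (g ^ k)) •
      (show Γ(coneTilde (A := A) (M := M), D g) from t) = _
    rw [← hv]
    rfl
  refine ⟨N, rep_unique hd hg k hm₀ hi₀ hs hN, fun t' ht' => ?_⟩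
  exact smul_pow_injective le_rfl k ((ht'
    ⟨k * d, i₀, g ^ k, m₀, by simpa using SetLike.pow_mem_graded k hg, hm₀, by push_cast; exact hi₀,
      fun x => EGA73.pow_notMem x.2 k, hs⟩).trans hN.symm)

/-- A representative with a power of `g` as denominator. -/
theorem exists_rep_pow (hd : 0 < d) (hg : g ∈ 𝒜 d) (s : Sect 𝒜 ℳ n (Dp 𝒜 g)) :
    ∃ (k : ℕ) (r : Rep s), r.h = g ^ k ∧ r.j = k * d := by
  obtain ⟨k, i₀, m₀, hm₀, hi₀, hs⟩ := EGA73.exists_frac_eq hd hg s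
  exact ⟨k, ⟨k * d, i₀, g ^ k, m₀, by simpa using SetLike.pow_mem_graded k hg, hm₀,
    by push_cast; exact hi₀, fun x => EGA73.pow_notMem x.2 k, hs⟩, rfl, rfl⟩

/-- Raising the exponent of a representative. -/
theorem exists_rep_pow_le {s : Sect 𝒜 ℳ n (Dp 𝒜 g)} (hg : g ∈ 𝒜 d) {k : ℕ}
    (r : Rep s) (hr : r.h = g ^ k) (hj : r.j = k * d) (K : ℕ) (hK : k ≤ K) :
    ∃ r' : Rep s, r'.h = g ^ K ∧ r'.j = K * d := by
  refine ⟨⟨K * d, (K - k) * d + r.i, g ^ K, g ^ (K - k) • r.m,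
    by simpa using SetLike.pow_mem_graded K hg,
    EGA73.gsmul_mem 𝒜 ℳ (by simpa using SetLike.pow_mem_graded (K - k) hg) r.hm, ?_,
    fun x => EGA73.pow_notMem x.2 K, fun x => (r.eq x).trans (EGA73.frac_congr ?_)⟩, rfl, rfl⟩
  · have h1 := r.hij
    rw [hj] at h1
    obtain ⟨l, rfl⟩ := Nat.exists_eq_add_of_le hK
    rw [Nat.add_sub_cancel_left]
    push_cast at h1 ⊢
    linarith
  · rw [hr, smul_smul, ← pow_add, Nat.add_sub_cancel' hK]

variable (hd : 0 < d) (hg : g ∈ 𝒜 d)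

/-- Additivity of the section attached to a section of `M(n)~`. -/
theorem choose_psi_add (s s' : Sect 𝒜 ℳ n (Dp 𝒜 g)) :
    (exists_psi hd hg (s + s')).choose =
      (exists_psi hd hg s).choose + (exists_psi hd hg s').choose := by
  obtain ⟨k, r, hr, hj⟩ := exists_rep_pow hd hg s
  obtain ⟨k', r', hr', hj'⟩ := exists_rep_pow hd hg s'
  obtain ⟨a, ha, haj⟩ := exists_rep_pow_le hg r hr hj (k + k') (Nat.le_add_right _ _)
  obtain ⟨b, hb, hbj⟩ := exists_rep_pow_le hg r' hr' hj' (k + k') (Nat.le_add_left _ _)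
  have h2 := (exists_psi hd hg s).choose_spec.1 a
  have h3 := (exists_psi hd hg s').choose_spec.1 b
  have hi : b.i = a.i := by
    have h1 := a.hij
    have h2 := b.hij
    omega
  have hsum : ∀ x : Dp 𝒜 g, val (s + s') x =
      EGA73.frac x.1 (a.m + b.m) a.h (a.nin x) := fun x => by
    have e : val (s + s') x = val s x + val s' x := rfl
    rw [e, a.eq x, b.eq x, EGA73.frac, EGA73.frac, LocalizedModule.mk_add_mk]
    refine EGA73.frac_congr ?_
    simp only [Submonoid.smul_def, hb, ha, smul_add, smul_smul]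
  have h1 := (exists_psi hd hg (s + s')).choose_spec.1
    ⟨a.j, a.i, a.h, a.m + b.m, a.hh, add_mem a.hm (hi ▸ b.hm), a.hij, a.nin, hsum⟩
  generalize (exists_psi hd hg (s + s')).choose = t at h1 ⊢
  generalize (exists_psi hd hg s).choose = t₁ at h2 ⊢
  generalize (exists_psi hd hg s').choose = t₂ at h3 ⊢
  refine smul_pow_injective le_rfl (k + k') ?_
  show g ^ (k + k') • t = g ^ (k + k') • (t₁ + t₂)
  rw [smul_add]
  nth_rw 1 [← ha]
  nth_rw 1 [← ha]
  rw [h1, h2, ← hb, h3, map_add]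

/-- The section of `M~` on `D(g)` of a section of `M(n)~` on `D₊(g)`. -/
def psi (n : ℤ) :
    Sect 𝒜 ℳ n (Dp 𝒜 g) →+ (coneSec (A := A) (M := M)).obj (op (D g)) :=
  AddMonoidHom.mk' (fun s => (exists_psi hd hg s).choose) (choose_psi_add hd hg)

theorem psi_spec (s : Sect 𝒜 ℳ n (Dp 𝒜 g)) (r : Rep s) :
    r.h • psi hd hg n s = tres (D g) r.m :=
  (exists_psi hd hg s).choose_spec.1 r

/-- `psi` commutes with restriction. -/
theorem psi_res {d' : ℕ} {g' : A} (hd' : 0 < d') (hg' : g' ∈ 𝒜 d') (hD : D g' ≤ D g)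
    (hDp : Dp 𝒜 g' ≤ Dp 𝒜 g) (s : Sect 𝒜 ℳ n (Dp 𝒜 g)) :
    (coneSec (A := A) (M := M)).map (homOfLE hD).op (psi hd hg n s) =
      psi hd' hg' n (sres 𝒜 ℳ n hDp s) := by
  obtain ⟨k, r, hr, hj⟩ := exists_rep_pow hd hg s
  let r' : Rep (sres 𝒜 ℳ n hDp s) :=
    ⟨r.j, r.i, r.h, r.m, r.hh, r.hm, r.hij, fun x => r.nin ⟨x.1, hDp x.2⟩,
      fun x => r.eq ⟨x.1, hDp x.2⟩⟩
  have h1 := psi_spec hd' hg' _ r'
  have h2 := psi_spec hd hg s r
  refine smul_pow_injective hD k ?_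
  change g ^ k • _ = g ^ k • _
  rw [← hr, h1, ← map_smul, h2, map_tres]

theorem bijective_sum_psi :
    Function.Bijective (DirectSum.toAddMonoid
      (fun n : ℤ => psi (ℳ := ℳ) hd hg n)) := by
  classical
  constructor
  · rw [injective_iff_map_eq_zero]
    intro x hx
    choose k r hr hj using fun n => exists_rep_pow hd hg (x n)
    obtain ⟨K, hK⟩ : ∃ K, ∀ n ∈ x.support, k n ≤ K :=
      ⟨x.support.sup k, fun n hn => Finset.le_sup hn⟩
    choose r' hr' hj' using fun (n : x.support) =>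
      exists_rep_pow_le hg (r n.1) (hr n.1) (hj n.1) K (hK n.1 n.2)
    have hsum : tres (D g) (∑ n : x.support, (r' n).m) = 0 := by
      rw [map_sum]
      simp only [← fun n => psi_spec hd hg _ (r' n), hr']
      rw [← Finset.smul_sum,
        Finset.sum_coe_sort x.support (fun n => psi (ℳ := ℳ) hd hg n (x n))]
      have : DirectSum.toAddMonoid (fun n : ℤ => psi (ℳ := ℳ) hd hg n) x =
          ∑ n ∈ x.support, psi (ℳ := ℳ) hd hg n (x n) := by
        conv_lhs => rw [← DirectSum.sum_support_of x]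
        rw [map_sum]
        exact Finset.sum_congr rfl fun n _ => DirectSum.toAddMonoid_of _ _ _
      rw [← this, hx, smul_zero]
    obtain ⟨N, hN⟩ := exists_pow_of_tres_eq_zero hsum
    rw [Finset.smul_sum] at hN
    have hgN : g ^ N ∈ 𝒜 (N * d) := by simpa using SetLike.pow_mem_graded N hg
    have hzero : ∀ n : x.support, g ^ N • (r' n).m = 0 := fun n => by
      let π : M →+ M := AddMonoidHom.mk' (fun m => (DirectSum.decompose ℳ m (N * d + (r' n).i) : M))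
        (fun m m' => by simp)
      have key := congrArg π hN
      rw [map_sum, map_zero, Finset.sum_eq_single n] at key
      · refine Eq.trans ?_ key
        exact (DirectSum.decompose_of_mem_same ℳ (EGA73.gsmul_mem 𝒜 ℳ hgN (r' n).hm)).symm
      · intro l _ hl
        refine DirectSum.decompose_of_mem_ne ℳ (EGA73.gsmul_mem 𝒜 ℳ hgN (r' l).hm) fun e => hl ?_
        have h1 := (r' n).hij
        have h2 := (r' l).hij
        have h3 := hj' n
        have h4 := hj' l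
        exact Subtype.ext (by omega)
      · simp
    refine DFinsupp.ext fun n => ?_
    by_cases hn : n ∈ x.support
    · refine EGA73.sect_ext fun y => ?_
      refine Eq.trans ((r' ⟨n, hn⟩).eq y) ?_
      exact (EGA73.frac_eq_zero_iff.mpr ⟨g ^ N, EGA73.pow_notMem y.2 N, hzero ⟨n, hn⟩⟩).trans rfl
    · exact (DFinsupp.notMem_support_iff.1 hn).trans rfl
  · intro t
    obtain ⟨N, m, hm⟩ := exists_pow_smul_eq_tres g t
    let e : ℕ → ℤ := fun i => (i : ℤ) - N * d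
    let s : ∀ i, Sect 𝒜 ℳ (e i) (Dp 𝒜 g) := fun i =>
      EGA73.fracSect (SetLike.coe_mem (DirectSum.decompose ℳ m i))
        (show g ^ N ∈ 𝒜 (N * d) by simpa using SetLike.pow_mem_graded N hg)
        (fun x => EGA73.pow_notMem x.2 N) (by simp [e])
    refine ⟨∑ i ∈ (DirectSum.decompose ℳ m).support, DirectSum.of _ (e i) (s i),
      smul_pow_injective le_rfl N ?_⟩
    change g ^ N • _ = g ^ N • t
    rw [map_sum, Finset.smul_sum, hm]
    conv_rhs => rw [← DirectSum.sum_support_decompose ℳ m, map_sum]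
    refine Finset.sum_congr rfl fun i _ => ?_
    rw [DirectSum.toAddMonoid_of]
    exact psi_spec hd hg (s i) ⟨N * d, i, g ^ N, _,
      by simpa using SetLike.pow_mem_graded N hg, SetLike.coe_mem _, by simp [e],
      fun x => EGA73.pow_notMem x.2 N, fun x => rfl⟩

/-! ### The Cech complexes -/

section Cech

variable (𝒜 ℳ) (fs : List A) (hfs : ∀ a ∈ fs, ∃ d : ℕ, 0 < d ∧ a ∈ 𝒜 d)

/-- The product of a tuple of members of the family. -/
def G {q : ℕ} (a : Fin (q + 1) → ULift.{u} (Fin fs.length)) : A := ∏ k, fs.get (a k).down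

/-- The opens of `Proj`. -/
abbrev Up (i : ULift.{u} (Fin fs.length)) : (Proj 𝒜).Opens := Proj.basicOpen 𝒜 (fs.get i.down)

omit [DirectSum.Decomposition ℳ] [SetLike.GradedSMul 𝒜 ℳ] in
theorem inter_Up {q : ℕ} (a : Fin (q + 1) → ULift.{u} (Fin fs.length)) :
    TopCoh49.inter (X := (Proj 𝒜).toTopCat) (Up 𝒜 fs) a = Dp 𝒜 (G fs a) := by
  refine le_antisymm (fun y hy => ?_) (le_iInf fun k y hy => ?_)
  · intro hmem
    obtain ⟨k, -, hk⟩ := (y.isPrime.prod_mem_iff).1 hmem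
    exact (TopCoh49.inter_le (X := (Proj 𝒜).toTopCat) (Up 𝒜 fs) a k hy : _) hk
  · intro hmem
    exact hy ((y.isPrime.prod_mem_iff).2 ⟨k, Finset.mem_univ _, hmem⟩)

omit [DirectSum.Decomposition ℳ] [SetLike.GradedSMul 𝒜 ℳ] in
theorem inter_Us {q : ℕ} (a : Fin (q + 1) → ULift.{u} (Fin fs.length)) :
    TopCoh49.inter (X := (Spec (CommRingCat.of A)).toTopCat)
      (LocCohZ41.Ufam (LocCohZ41.specρ A) fs) a = D (G fs a) := by
  have h : ∀ (r : A) (p : Spec (CommRingCat.of A)), p ∈ D r ↔ r ∉ p.asIdeal := fun r p => by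
    have : D r = PrimeSpectrum.basicOpen r := basicOpen_eq_of_affine (R := CommRingCat.of A) r
    rw [this]
    exact PrimeSpectrum.mem_basicOpen r p
  refine le_antisymm (fun p hp => ?_) (le_iInf fun k p hp => ?_)
  · refine (h _ p).2 fun hmem => ?_
    obtain ⟨k, -, hk⟩ := (p.isPrime.prod_mem_iff).1 hmem
    exact (h _ p).1 (TopCoh49.inter_le (X := (Spec (CommRingCat.of A)).toTopCat)
      (LocCohZ41.Ufam (LocCohZ41.specρ A) fs) a k hp) hk
  · exact (h _ p).2 fun hmem => (h _ p).1 hp ((p.isPrime.prod_mem_iff).2 ⟨k, Finset.mem_univ _, hmem⟩)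

include hfs in
omit [DirectSum.Decomposition ℳ] [SetLike.GradedSMul 𝒜 ℳ] in
theorem exists_deg {q : ℕ} (a : Fin (q + 1) → ULift.{u} (Fin fs.length)) :
    ∃ e : ℕ, 0 < e ∧ G fs a ∈ 𝒜 e := by
  choose e he hmem using fun k => hfs (fs.get (a k).down) (List.get_mem fs _)
  refine ⟨∑ k, e k, lt_of_lt_of_le (he 0) (Finset.single_le_sum (fun k _ => Nat.zero_le _)
    (Finset.mem_univ 0)), ?_⟩
  exact SetLike.prod_mem_graded 𝒜 _ _ (fun k _ => hmem k)

/-- `M(n)~` as an abelian presheaf. -/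
abbrev Pn (n : ℤ) : (Opens (Proj 𝒜).toTopCat)ᵒᵖ ⥤ AddCommGrpCat.{u} :=
  (Coh.toAb (GrTilde.tilde 𝒜 ℳ n)).obj

/-- `M~` as an abelian presheaf. -/
abbrev Ps : (Opens (Spec (CommRingCat.of A)).toTopCat)ᵒᵖ ⥤ AddCommGrpCat.{u} :=
  coneSec (A := A) (M := M) ⋙ forget₂ (ModuleCat.{u} A) AddCommGrpCat.{u}

/-- The comparison of cochains. -/
def phi (q : ℕ) (n : ℤ) :
    TopCoh49.Coch (Pn 𝒜 ℳ n) (Up 𝒜 fs) q →+
      TopCoh49.Coch (Ps (A := A) (M := M)) (LocCohZ41.Ufam (LocCohZ41.specρ A) fs) q :=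
  AddMonoidHom.pi fun a =>
    (((Ps (A := A) (M := M)).map (homOfLE (inter_Us fs a).le).op).hom.comp
      ((psi (exists_deg 𝒜 fs hfs a).choose_spec.1 (exists_deg 𝒜 fs hfs a).choose_spec.2 n).comp
        (sres 𝒜 ℳ n (inter_Up 𝒜 fs a).ge))).comp (Pi.evalAddMonoidHom _ a)

theorem phi_d (q : ℕ) (n : ℤ) (c : TopCoh49.Coch (Pn 𝒜 ℳ n) (Up 𝒜 fs) q) :
    phi 𝒜 ℳ fs hfs (q + 1) n (TopCoh49.cochD (Pn 𝒜 ℳ n) (Up 𝒜 fs) q c) =
      TopCoh49.cochD (Ps (A := A) (M := M)) (LocCohZ41.Ufam (LocCohZ41.specρ A) fs) q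
        (phi 𝒜 ℳ fs hfs q n c) := by
  funext a
  rw [TopCoh49.cochD_apply]
  let T : (Pn 𝒜 ℳ n).obj (op (TopCoh49.inter (X := (Proj 𝒜).toTopCat) (Up 𝒜 fs) a)) →+
      (Ps (A := A) (M := M)).obj (op (TopCoh49.inter (X := (Spec (CommRingCat.of A)).toTopCat)
        (LocCohZ41.Ufam (LocCohZ41.specρ A) fs) a)) :=
    AddMonoidHom.comp ((Ps (A := A) (M := M)).map (homOfLE (inter_Us fs a).le).op).hom
      (AddMonoidHom.comp
        (psi (exists_deg 𝒜 fs hfs a).choose_spec.1 (exists_deg 𝒜 fs hfs a).choose_spec.2 n)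
        ((Pn 𝒜 ℳ n).map (homOfLE (inter_Up 𝒜 fs a).ge).op).hom)
  change T (TopCoh49.cochD (Pn 𝒜 ℳ n) (Up 𝒜 fs) q c a) = _
  rw [TopCoh49.cochD_apply, map_sum]
  refine Finset.sum_congr rfl fun j _ => ?_
  rw [map_zsmul]
  refine congrArg _ ?_
  have hDp : Dp 𝒜 (G fs a) ≤ Dp 𝒜 (G fs (a ∘ j.succAbove)) := by
    rw [← inter_Up, ← inter_Up]
    exact TopCoh49.inter_comp_le (X := (Proj 𝒜).toTopCat) (Up 𝒜 fs) a j.succAbove
  have hD : D (G fs a) ≤ D (G fs (a ∘ j.succAbove)) := by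
    rw [← inter_Us, ← inter_Us]
    exact TopCoh49.inter_comp_le (X := (Spec (CommRingCat.of A)).toTopCat)
      (LocCohZ41.Ufam (LocCohZ41.specρ A) fs) a j.succAbove
  have key := psi_res (exists_deg 𝒜 fs hfs (a ∘ j.succAbove)).choose_spec.1
    (exists_deg 𝒜 fs hfs (a ∘ j.succAbove)).choose_spec.2 (exists_deg 𝒜 fs hfs a).choose_spec.1
    (exists_deg 𝒜 fs hfs a).choose_spec.2 hD hDp
    (sres 𝒜 ℳ n (inter_Up 𝒜 fs (a ∘ j.succAbove)).ge (c (a ∘ j.succAbove)))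
  refine (congrArg ((Ps (A := A) (M := M)).map (homOfLE (inter_Us fs a).le).op) key.symm).trans ?_
  exact (ConcreteCategory.congr_hom ((Ps (A := A) (M := M)).map_comp (homOfLE hD).op
    (homOfLE (inter_Us fs a).le).op).symm _).trans
      (ConcreteCategory.congr_hom ((Ps (A := A) (M := M)).map_comp
        (homOfLE (inter_Us fs (a ∘ j.succAbove)).le).op (homOfLE (TopCoh49.inter_comp_le
          (X := (Spec (CommRingCat.of A)).toTopCat)
          (LocCohZ41.Ufam (LocCohZ41.specρ A) fs) a j.succAbove)).op) _)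

theorem bijective_phi (q : ℕ) :
    Function.Bijective (DirectSum.toAddMonoid (fun n : ℤ => phi 𝒜 ℳ fs hfs q n)) := by
  classical
  have hres : ∀ (n : ℤ) {V W : Opens (ProjectiveSpectrum.top 𝒜)} (e : V = W),
      Function.Bijective (sres 𝒜 ℳ n e.ge) := fun n V W e => by
    subst e
    exact ConcreteCategory.bijective_of_isIso ((GrTilde.tildePre 𝒜 ℳ n).map (𝟙 _))
  have hres' : ∀ {V W : (Spec (CommRingCat.of A)).Opens} (e : V = W),
      Function.Bijective ((Ps (A := A) (M := M)).map (homOfLE e.le).op) := fun {V W} e => by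
    subst e
    exact ConcreteCategory.bijective_of_isIso
      ((Ps (A := A) (M := M)).mapIso (Iso.refl (op V))).hom
  let rb : ∀ a : Fin (q + 1) → ULift.{u} (Fin fs.length),
      ∀ n : ℤ, (Pn 𝒜 ℳ n).obj (op (TopCoh49.inter (X := (Proj 𝒜).toTopCat) (Up 𝒜 fs) a)) →+
        Sect 𝒜 ℳ n (Dp 𝒜 (G fs a)) :=
    fun a n => ((Pn 𝒜 ℳ n).map (homOfLE (inter_Up 𝒜 fs a).ge).op).hom
  have hev : ∀ (x : ⨁ n, TopCoh49.Coch (Pn 𝒜 ℳ n) (Up 𝒜 fs) q)
      (a : Fin (q + 1) → ULift.{u} (Fin fs.length)),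
      DirectSum.toAddMonoid (fun n : ℤ => phi 𝒜 ℳ fs hfs q n) x a =
        (Ps (A := A) (M := M)).map (homOfLE (inter_Us fs a).le).op
          (DirectSum.toAddMonoid (fun n : ℤ => psi (ℳ := ℳ)
            (exists_deg 𝒜 fs hfs a).choose_spec.1 (exists_deg 𝒜 fs hfs a).choose_spec.2 n)
            (DirectSum.map (fun n => (rb a n).comp (Pi.evalAddMonoidHom _ a)) x)) := by
    intro x a
    induction x using DirectSum.induction_on with
    | zero =>
      simp only [map_zero, Pi.zero_apply]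
    | of i v => simp only [DirectSum.map_of, DirectSum.toAddMonoid_of]; rfl
    | add y z hy hz => simp only [map_add, Pi.add_apply, hy, hz]
  constructor
  · rw [injective_iff_map_eq_zero]
    intro x hx
    refine DFinsupp.ext fun n => funext fun a => ?_
    have h1 := hev x a
    rw [hx] at h1
    have h2 := (bijective_sum_psi (exists_deg 𝒜 fs hfs a).choose_spec.1
      (exists_deg 𝒜 fs hfs a).choose_spec.2).1
      (((hres' (inter_Us fs a)).1 (h1.symm.trans (map_zero _).symm)).trans (map_zero _).symm)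
    have h3 := congrArg (fun t => t n) h2
    rw [DirectSum.map_apply] at h3
    exact (hres n (inter_Up 𝒜 fs a)).1 (h3.trans (map_zero _).symm)
  · intro y
    choose y₁ hy₁ using fun a => (hres' (inter_Us fs a)).2 (y a)
    choose w hw using fun a => (bijective_sum_psi (ℳ := ℳ) (exists_deg 𝒜 fs hfs a).choose_spec.1
      (exists_deg 𝒜 fs hfs a).choose_spec.2).2 (y₁ a)
    choose v hv using fun a n => (hres n (inter_Up 𝒜 fs a)).2 (w a n)
    let S : Finset ℤ := Finset.univ.biUnion fun a => (w a).support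
    refine ⟨∑ n ∈ S, DirectSum.of (fun n => TopCoh49.Coch (Pn 𝒜 ℳ n) (Up 𝒜 fs) q) n
      (fun a => v a n), funext fun a => ?_⟩
    rw [hev, ← hy₁ a, ← hw a]
    refine congrArg _ (congrArg _ ?_)
    rw [map_sum]
    simp only [DirectSum.map_of]
    conv_rhs => rw [← DirectSum.sum_support_of (w a)]
    refine Eq.trans (Finset.sum_congr rfl fun n _ => congrArg (DirectSum.of _ n) (hv a n)) ?_
    exact (Finset.sum_subset
      (Finset.subset_biUnion_of_mem (fun a => (w a).support) (Finset.mem_univ a))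
      fun n _ hn => by rw [DFinsupp.notMem_support_iff.1 hn, map_zero]).symm

include hfs in
theorem nonempty_sum_HHon_equiv (p : ℕ) (hp : 1 ≤ p) :
    Nonempty (DirectSum ℤ (fun n : ℤ => Coh.HHon (Proj 𝒜) (GrTilde.tilde 𝒜 ℳ n)
        (⨆ i : Fin fs.length, Proj.basicOpen 𝒜 (fs.get i)) p) ≃+
      CohIII.koszulHLim fs (ModuleCat.of A M) (p + 1)) := by
  classical
  obtain ⟨q, rfl⟩ : ∃ q, p = q + 1 := ⟨p - 1, by omega⟩
  have hsup : (⨆ i : Fin fs.length, Proj.basicOpen 𝒜 (fs.get i)) = ⨆ i, Up 𝒜 fs i :=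
    le_antisymm (iSup_le fun i => le_iSup (Up 𝒜 fs) ⟨i⟩)
      (iSup_le fun i => le_iSup (fun j : Fin fs.length => Proj.basicOpen 𝒜 (fs.get j)) i.down)
  have hn : ∀ n : ℤ, Nonempty (Coh.HHon (Proj 𝒜) (GrTilde.tilde 𝒜 ℳ n)
      (⨆ i, Up 𝒜 fs i) (q + 1) ≃+
        SumHom.Hmid (TopCoh49.cochD (Pn 𝒜 ℳ n) (Up 𝒜 fs) q)
          (TopCoh49.cochD (Pn 𝒜 ℳ n) (Up 𝒜 fs) (q + 1))) := fun n => by
    haveI : (GrTilde.tilde 𝒜 ℳ n).IsQuasicoherent := EGA73.isQCoh_tilde 𝒜 ℳ n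
    have hac : ∀ (k : ℕ) (a : Fin (k + 1) → ULift.{u} (Fin fs.length)) (r : ℕ),
        Subsingleton (TopCoh49.E (X := (Proj 𝒜).toTopCat) (Coh.toAb (GrTilde.tilde 𝒜 ℳ n)) (r + 1)
          (TopCoh49.inter (X := (Proj 𝒜).toTopCat) (Up 𝒜 fs) a)) := fun k a r => by
      refine CechComp71.subsingleton_E_affine _ ?_ r
      obtain ⟨e, he, hG⟩ := exists_deg 𝒜 fs hfs a
      exact Eq.mpr (congrArg IsAffineOpen (inter_Up 𝒜 fs a))
        (Proj.isAffineOpen_basicOpen 𝒜 _ hG he)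
    obtain ⟨c⟩ := Coh69.nonempty_hhon (GrTilde.tilde 𝒜 ℳ n) (⨆ i, Up 𝒜 fs i) (q + 1)
    obtain ⟨a⟩ := TopCoh49.cech_equiv (U := Up 𝒜 fs) (q + 1) (Coh.toAb (GrTilde.tilde 𝒜 ℳ n)) hac
    obtain ⟨b⟩ := SumHom.nonempty_cechH_Hmid (Pn 𝒜 ℳ n) (Up 𝒜 fs) q
    exact ⟨(c.trans a.symm).trans b⟩
  let en := fun n => (hn n).some
  obtain ⟨eS⟩ := SumHom.nonempty_sum_Hmid
    (fun n : ℤ => TopCoh49.cochD (Pn 𝒜 ℳ n) (Up 𝒜 fs) q)
    (fun n : ℤ => TopCoh49.cochD (Pn 𝒜 ℳ n) (Up 𝒜 fs) (q + 1))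
    (TopCoh49.cochD (Ps (A := A) (M := M)) (LocCohZ41.Ufam (LocCohZ41.specρ A) fs) q)
    (TopCoh49.cochD (Ps (A := A) (M := M)) (LocCohZ41.Ufam (LocCohZ41.specρ A) fs) (q + 1))
    (phi 𝒜 ℳ fs hfs q) (phi 𝒜 ℳ fs hfs (q + 1)) (phi 𝒜 ℳ fs hfs (q + 1 + 1))
    (phi_d 𝒜 ℳ fs hfs q) (phi_d 𝒜 ℳ fs hfs (q + 1))
    (bijective_phi 𝒜 ℳ fs hfs q).2 (bijective_phi 𝒜 ℳ fs hfs (q + 1))
    (bijective_phi 𝒜 ℳ fs hfs (q + 1 + 1)).1
  obtain ⟨eC⟩ := SumHom.nonempty_cechH_Hmid (Ps (A := A) (M := M))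
    (LocCohZ41.Ufam (LocCohZ41.specρ A) fs) q
  obtain ⟨eK⟩ := KosCech41.nonempty_cech_koszul
    (LocCohZ41.sysR (coneTilde (A := A) (M := M)) (LocCohZ41.specρ A) fs) q
  obtain ⟨eT⟩ := KosCech41.nonempty_koszulHLim_congr (LocCohZ41.topIsoTilde A M) fs (q + 1 + 1)
  rw [hsup]
  exact ⟨((((DFinsupp.mapRange.addEquiv en).trans eS).trans eC.symm).trans eK).trans eT⟩

end Cech

end Groth.Agent.LC16.GradedCech
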