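import Mathlib.RingTheory.MvPolynomial.Homogeneous
import Mathlib.RingTheory.Filtration
import Mathlib.LinearAlgebra.TensorProduct.Basic
import Mathlib.RingTheory.Ideal.Maps

/-!
The graded map from the Veronese Rees algebra to a polynomial ring defined by partition maps
`φ j : I ^ c → A`, and its extension to modules.
-/

namespace Groth.Agent.LC16.GradedPhi

universe u

set_option autoImplicit false

open MvPolynomial
open scoped TensorProduct

variable {A : Type u} [CommRing A] {r : ℕ} {I : Ideal A} {c : ℕ} (φ : Fin r → (↥(I ^ c) →ₗ[A] A))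

theorem mem_of_mul {g h : A} (hg : g ∈ I ^ c) : g * h ∈ I ^ c := Ideal.mul_mem_right h _ hg

theorem phi_mul (j : Fin r) {g : A} (hg : g ∈ I ^ c) (h : A) :
    φ j ⟨g * h, mem_of_mul hg⟩ = φ j ⟨g, hg⟩ * h := by
  refine Eq.trans (congrArg (φ j) ?_) (((map_smul (φ j) h ⟨g, hg⟩).trans (smul_eq_mul ..)).trans
    (mul_comm _ _))
  exact Subtype.ext (mul_comm g h)

theorem pow_succ_mul (n : ℕ) : I ^ ((n + 1) * c) = I ^ c * I ^ (n * c) := by
  rw [← pow_add]; congr 1; ring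

theorem succ_le (n : ℕ) {g : A} (hg : g ∈ I ^ ((n + 1) * c)) : g ∈ I ^ c :=
  Ideal.pow_le_pow_right (Nat.le_mul_of_pos_left c (Nat.succ_pos n)) hg

theorem phi_mem (j : Fin r) (k : ℕ) {g : A} (hg : g ∈ I ^ c) (hgk : g ∈ I ^ c * I ^ k) :
    φ j ⟨g, hg⟩ ∈ I ^ k := by
  suffices ∃ hg' : g ∈ I ^ c, φ j ⟨g, hg'⟩ ∈ I ^ k from this.2
  induction hgk using Submodule.mul_induction_on' with
  | mem_mul_mem a ha b hb =>
    exact ⟨mem_of_mul ha, by rw [phi_mul φ j ha]; exact Ideal.mul_mem_left _ _ hb⟩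
  | add x hx y hy ihx ihy =>
    obtain ⟨h1, ex⟩ := ihx (Ideal.mul_le_inf hx).1
    obtain ⟨h2, ey⟩ := ihy (Ideal.mul_le_inf hy).1
    refine ⟨add_mem h1 h2, ?_⟩
    rw [show (⟨x + y, add_mem h1 h2⟩ : ↥(I ^ c)) = ⟨x, h1⟩ + ⟨y, h2⟩ from rfl, map_add]
    exact add_mem ex ey

theorem phi_mem_pow (j : Fin r) (n : ℕ) {g : A} (hg : g ∈ I ^ ((n + 1) * c)) :
    φ j ⟨g, succ_le n hg⟩ ∈ I ^ (n * c) :=
  phi_mem φ j _ _ (by rw [← pow_succ_mul]; exact hg)

open Classical in
/-- the graded map -/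
noncomputable def Phi : ℕ → A → MvPolynomial (Fin r) A
  | 0, a => C a
  | n + 1, g => if h : g ∈ I ^ c then ∑ j, X j * Phi n (φ j ⟨g, h⟩) else 0

theorem Phi_zero (a : A) : Phi φ 0 a = C a := by rw [Phi]

theorem Phi_succ (n : ℕ) {g : A} (hg : g ∈ I ^ c) :
    Phi φ (n + 1) g = ∑ j, X j * Phi φ n (φ j ⟨g, hg⟩) := by rw [Phi, dif_pos hg]

theorem Phi_add : ∀ (n : ℕ), ∀ g ∈ I ^ (n * c), ∀ h ∈ I ^ (n * c),
    Phi φ n (g + h) = Phi φ n g + Phi φ n h := by
  intro n
  induction n with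
  | zero => intro g _ h _; simp [Phi_zero]
  | succ n ih =>
    intro g hg h hh
    rw [Phi_succ φ n (add_mem (succ_le n hg) (succ_le n hh)), Phi_succ φ n (succ_le n hg),
      Phi_succ φ n (succ_le n hh), ← Finset.sum_add_distrib]
    refine Finset.sum_congr rfl fun j _ => ?_
    rw [show (⟨g + h, add_mem (succ_le n hg) (succ_le n hh)⟩ : ↥(I ^ c)) =
      ⟨g, succ_le n hg⟩ + ⟨h, succ_le n hh⟩ from rfl, map_add,
      ih _ (phi_mem_pow φ j n hg) _ (phi_mem_pow φ j n hh), mul_add]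

theorem Phi_smul : ∀ (n : ℕ) (a : A), ∀ g ∈ I ^ (n * c), Phi φ n (a * g) = a • Phi φ n g := by
  intro n
  induction n with
  | zero => intro a g _; simp [Phi_zero, MvPolynomial.smul_eq_C_mul]
  | succ n ih =>
    intro a g hg
    rw [Phi_succ φ n (Ideal.mul_mem_left _ a (succ_le n hg)), Phi_succ φ n (succ_le n hg),
      Finset.smul_sum]
    refine Finset.sum_congr rfl fun j _ => ?_
    rw [show (⟨a * g, Ideal.mul_mem_left _ a (succ_le n hg)⟩ : ↥(I ^ c)) =
      a • ⟨g, succ_le n hg⟩ from rfl, map_smul, smul_eq_mul, ih a _ (phi_mem_pow φ j n hg),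
      mul_smul_comm]

theorem Phi_homogeneous : ∀ (n : ℕ), ∀ g ∈ I ^ (n * c), (Phi φ n g).IsHomogeneous n := by
  intro n
  induction n with
  | zero => intro g _; rw [Phi_zero]; exact isHomogeneous_C _ g
  | succ n ih =>
    intro g hg
    rw [Phi_succ φ n (succ_le n hg)]
    refine IsHomogeneous.sum _ _ _ fun j _ => ?_
    rw [Nat.add_comm]
    exact (isHomogeneous_X A j).mul (ih _ (phi_mem_pow φ j n hg))

theorem Phi_mul : ∀ (n m : ℕ), ∀ g ∈ I ^ (n * c), ∀ h ∈ I ^ (m * c),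
    Phi φ (n + m) (g * h) = Phi φ n g * Phi φ m h := by
  intro n
  induction n with
  | zero =>
    intro m g _ h hh
    rw [Nat.zero_add, Phi_smul φ m g h hh, Phi_zero, MvPolynomial.smul_eq_C_mul]
  | succ n ih =>
    intro m g hg h hh
    rw [Nat.add_right_comm, Phi_succ φ (n + m) (mem_of_mul (succ_le n hg)),
      Phi_succ φ n (succ_le n hg), Finset.sum_mul]
    refine Finset.sum_congr rfl fun j _ => ?_
    rw [phi_mul φ j (succ_le n hg) h, ih m _ (phi_mem_pow φ j n hg) h hh, mul_assoc]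

theorem Phi_one {g : A} (hg : g ∈ I ^ c) : Phi φ 1 g = ∑ j, C (φ j ⟨g, hg⟩) * X j := by
  rw [Phi_succ φ 0 hg]
  exact Finset.sum_congr rfl fun j _ => by rw [Phi_zero, mul_comm]

theorem aeval_Phi {f : Fin r → A} (hφ : ∀ x : ↥(I ^ c), (x : A) = ∑ j, f j * φ j x) :
    ∀ (n : ℕ), ∀ g ∈ I ^ (n * c), MvPolynomial.aeval f (Phi φ n g) = g := by
  intro n
  induction n with
  | zero => intro g _; simp [Phi_zero]
  | succ n ih =>
    intro g hg
    rw [Phi_succ φ n (succ_le n hg), map_sum]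
    refine Eq.trans (Finset.sum_congr rfl fun j _ => ?_) (hφ ⟨g, succ_le n hg⟩).symm
    rw [map_mul, aeval_X, ih _ (phi_mem_pow φ j n hg)]

/-- the defining properties -/
def Props (Ψ : ℕ → A → MvPolynomial (Fin r) A) : Prop :=
  (∀ n : ℕ, ∀ g ∈ I ^ (n * c), ∀ h ∈ I ^ (n * c), Ψ n (g + h) = Ψ n g + Ψ n h) ∧
  (∀ (n : ℕ) (a : A), ∀ g ∈ I ^ (n * c), Ψ n (a * g) = a • Ψ n g) ∧
  (∀ n : ℕ, ∀ g ∈ I ^ (n * c), (Ψ n g).IsHomogeneous n) ∧
  (∀ n m : ℕ, ∀ g ∈ I ^ (n * c), ∀ h ∈ I ^ (m * c), Ψ (n + m) (g * h) = Ψ n g * Ψ m h) ∧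
  (∀ a : A, Ψ 0 a = C a) ∧
  (∀ (g : A) (hg : g ∈ I ^ c), Ψ 1 g = ∑ j, C (φ j ⟨g, hg⟩) * X j)

theorem props_Phi : Props φ (Phi φ) :=
  ⟨Phi_add φ, Phi_smul φ, Phi_homogeneous φ, Phi_mul φ, Phi_zero φ, fun _ hg => Phi_one φ hg⟩

theorem eq_Phi {Ψ : ℕ → A → MvPolynomial (Fin r) A} (h : Props φ Ψ) :
    ∀ (n : ℕ), ∀ g ∈ I ^ (n * c), Ψ n g = Phi φ n g := by
  obtain ⟨hadd, -, -, hmul, hzero, hone⟩ := h
  intro n
  induction n with
  | zero => intro g _; rw [hzero, Phi_zero]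
  | succ n ih =>
    intro g hg
    rw [pow_succ_mul] at hg
    induction hg using Submodule.mul_induction_on' with
    | mem_mul_mem a ha b hb =>
      have ha' : a ∈ I ^ (1 * c) := by rwa [one_mul]
      rw [Nat.add_comm, hmul 1 n a ha' b hb, Phi_mul φ 1 n a ha' b hb, hone a ha, Phi_one φ ha,
        ih b hb]
    | add x hx y hy ihx ihy =>
      rw [← pow_succ_mul] at hx hy
      rw [hadd _ x hx y hy, Phi_add φ _ x hx y hy, ihx, ihy]

section Module

variable {B : Type u} [CommRing B] [Algebra A B] {N : Type u} [AddCommGroup N] [Module B N]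

/-- the generators of a level -/
abbrev lev (k : ℕ) : Type u := {g : A // g ∈ I ^ k} × N

/-- the evaluation of a formal combination -/
noncomputable def val (k : ℕ) : (lev (I := I) (N := N) k →₀ B) →ₗ[B] N :=
  Finsupp.linearCombination B fun p => algebraMap A B p.1.1 • p.2

/-- the tensor map of a formal combination -/
noncomputable def img (Φn : A → MvPolynomial (Fin r) A) (k : ℕ) :
    (lev (I := I) (N := N) k →₀ B) →ₗ[B] (MvPolynomial (Fin r) B ⊗[B] N) :=
  Finsupp.linearCombination B fun p => MvPolynomial.map (algebraMap A B) (Φn p.1.1) ⊗ₜ[B] p.2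

theorem range_val (k : ℕ) : LinearMap.range (val (A := A) (B := B) (I := I) (N := N) k) =
    Submodule.span B {y : N | ∃ g ∈ I ^ k, ∃ x : N, y = algebraMap A B g • x} := by
  rw [val, Finsupp.range_linearCombination]
  congr 1
  ext y
  exact ⟨fun ⟨p, hp⟩ => ⟨p.1.1, p.1.2, p.2, hp.symm⟩, fun ⟨g, hg, x, hy⟩ => ⟨(⟨g, hg⟩, x), hy.symm⟩⟩

variable (B N) in
theorem exists_level [IsNoetherianRing B] [Module.Finite B N] (I : Ideal A) (c : ℕ) :
    ∃ k : ℕ, ∀ y ∈ Submodule.span B {y : N | ∃ g ∈ I ^ k, ∃ x : N, y = algebraMap A B g • x},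
      (∀ a ∈ I ^ c, algebraMap A B a • y = 0) → y = 0 := by
  let J := I.map (algebraMap A B)
  let T : Submodule B N :=
    { carrier := {y | ∀ a ∈ I ^ c, algebraMap A B a • y = 0}
      add_mem' := fun {x y} hx hy a ha => by rw [smul_add, hx a ha, hy a ha, add_zero]
      zero_mem' := fun a _ => smul_zero _
      smul_mem' := fun b x hx a ha => by rw [smul_comm, hx a ha, smul_zero] }
  have hT : J ^ c • T = ⊥ := by
    rw [eq_bot_iff, Submodule.smul_le]
    intro b hb y hy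
    rw [← Ideal.map_pow] at hb
    rw [Submodule.mem_bot]
    refine Submodule.span_induction (p := fun b _ => b • y = 0) ?_ (zero_smul _ _) ?_ ?_ hb
    · rintro _ ⟨a, ha, rfl⟩; exact hy a ha
    · intro x x' _ _ hx hx'; rw [add_smul, hx, hx', add_zero]
    · intro b x _ hx; rw [smul_eq_mul, mul_smul, hx, smul_zero]
  obtain ⟨k₀, hk₀⟩ := J.exists_pow_inf_eq_pow_smul T
  refine ⟨k₀ + c, fun y hy hyT => ?_⟩
  have h1 : y ∈ J ^ (k₀ + c) • (⊤ : Submodule B N) := by
    refine Submodule.span_le.2 ?_ hy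
    rintro _ ⟨g, hg, x, rfl⟩
    rw [SetLike.mem_coe]
    refine Submodule.smul_mem_smul ?_ Submodule.mem_top
    rw [← Ideal.map_pow]; exact Ideal.mem_map_of_mem _ hg
  have h2 : y ∈ J ^ (k₀ + c) • (⊤ : Submodule B N) ⊓ T := ⟨h1, hyT⟩
  rw [hk₀ (k₀ + c) (Nat.le_add_right _ _), Nat.add_sub_cancel_left] at h2
  have h3 : y ∈ J ^ c • T := Submodule.smul_mono le_rfl inf_le_right h2
  rwa [hT, Submodule.mem_bot] at h3

variable {φ}

/-- the relations lift -/
theorem img_eq_zero {c' : ℕ} {φ' : Fin r → (↥(I ^ c') →ₗ[A] A)} {Φ : ℕ → A → MvPolynomial (Fin r) A}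
    (hΦ : Props φ' Φ)
    (hw : ∀ j (a : A), a ∈ I ^ c → ∃ w : A, ∀ (g : A) (hg : g ∈ I ^ c'), a * φ' j ⟨g, hg⟩ = w * g)
    (k : ℕ) (hk : ∀ j (g : A) (hg : g ∈ I ^ c'), φ' j ⟨g, hg⟩ ∈ I ^ k)
    (hlev : ∀ y ∈ Submodule.span B {y : N | ∃ g ∈ I ^ k, ∃ x : N, y = algebraMap A B g • x},
      (∀ a ∈ I ^ c, algebraMap A B a • y = 0) → y = 0) :
    ∀ (n : ℕ) (l : lev (I := I) (N := N) (n * c') →₀ B),
      val (A := A) (B := B) (I := I) (N := N) (n * c') l = 0 → img (Φ n) (n * c') l = 0 := by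
  intro n
  induction n with
  | zero =>
    intro l hl
    rw [img, Finsupp.linearCombination_apply]
    rw [val, Finsupp.linearCombination_apply] at hl
    refine Eq.trans (Finsupp.sum_congr fun p _ => ?_)
      ((map_finsuppSum ((TensorProduct.mk B (MvPolynomial (Fin r) B) N) 1) l
        (fun p b => b • algebraMap A B p.1.1 • p.2)).symm.trans (by rw [hl, map_zero]))
    rw [hΦ.2.2.2.2.1, MvPolynomial.map_C, map_smul, map_smul]
    simp only [TensorProduct.mk_apply, ← TensorProduct.tmul_smul]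
    rw [MvPolynomial.C_eq_smul_one, TensorProduct.smul_tmul, smul_comm]
  | succ n ih =>
    intro l hl
    let step : Fin r → (lev (I := I) (N := N) ((n + 1) * c') → lev (I := I) (N := N) (n * c')) :=
      fun j p => (⟨φ' j ⟨p.1.1, succ_le n p.1.2⟩, phi_mem_pow φ' j n p.1.2⟩, p.2)
    have hstep : ∀ j, val (A := A) (B := B) (I := I) (N := N) (n * c') (l.mapDomain (step j)) = 0 := by
      intro j
      refine hlev _ ?_ fun a ha => ?_
      · rw [val, Finsupp.linearCombination_mapDomain, Finsupp.linearCombination_apply]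
        refine Submodule.sum_mem _ fun p _ => Submodule.smul_mem _ _ (Submodule.subset_span ?_)
        exact ⟨_, hk j _ _, p.2, rfl⟩
      · obtain ⟨w, hw⟩ := hw j a ha
        rw [val, Finsupp.linearCombination_mapDomain, Finsupp.linearCombination_apply,
          Finsupp.smul_sum]
        rw [val, Finsupp.linearCombination_apply] at hl
        refine Eq.trans (Finsupp.sum_congr fun p _ => ?_)
          ((Finsupp.smul_sum (c := algebraMap A B w) (v := l)
            (h := fun p b => b • algebraMap A B p.1.1 • p.2)).symm.trans (by rw [hl, smul_zero]))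
        simp only [Function.comp_apply, step]
        rw [smul_comm (algebraMap A B a), smul_comm (algebraMap A B w), smul_smul (algebraMap A B a),
          ← map_mul, hw, map_mul, mul_smul]
    have hsum : img (Φ (n + 1)) ((n + 1) * c') l =
        ∑ j, (TensorProduct.map (LinearMap.mulLeft B (MvPolynomial.X j : MvPolynomial (Fin r) B))
          LinearMap.id) (img (Φ n) (n * c') (l.mapDomain (step j))) := by
      simp only [img, Finsupp.linearCombination_mapDomain]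
      simp only [Finsupp.linearCombination_apply, Finsupp.sum, map_sum]
      rw [Finset.sum_comm]
      refine Finset.sum_congr rfl fun p _ => ?_
      simp only [Function.comp_apply, map_smul, TensorProduct.map_tmul, LinearMap.mulLeft_apply,
        LinearMap.id_apply, step]
      rw [← Finset.smul_sum, ← TensorProduct.sum_tmul, eq_Phi φ' hΦ (n + 1) p.1.1 p.1.2,
        Phi_succ φ' n (succ_le n p.1.2), map_sum]
      congr 2
      refine Finset.sum_congr rfl fun j _ => ?_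
      rw [map_mul, MvPolynomial.map_X, eq_Phi φ' hΦ n _ (phi_mem_pow φ' j n p.1.2)]
    rw [hsum]
    exact Finset.sum_eq_zero fun j _ => by rw [ih _ (hstep j), map_zero]

/-- evaluation of the image -/
theorem lift_img {c' : ℕ} {φ' : Fin r → (↥(I ^ c') →ₗ[A] A)} {f : Fin r → A}
    (hφ' : ∀ x : ↥(I ^ c'), (x : A) = ∑ j, f j * φ' j x) {Φ : ℕ → A → MvPolynomial (Fin r) A}
    (hΦ : Props φ' Φ) (n : ℕ) (l : lev (I := I) (N := N) (n * c') →₀ B) :
    TensorProduct.lift ((LinearMap.lsmul B N).comp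
        (MvPolynomial.aeval (fun j ↦ algebraMap A B (f j))).toLinearMap) (img (Φ n) (n * c') l) =
      val (n * c') l := by
  rw [img, val, Finsupp.linearCombination_apply, Finsupp.linearCombination_apply, map_finsuppSum]
  refine Finsupp.sum_congr fun p _ => ?_
  rw [map_smul, TensorProduct.lift.tmul, LinearMap.comp_apply, AlgHom.toLinearMap_apply,
    LinearMap.lsmul_apply, eq_Phi φ' hΦ n p.1.1 p.1.2, MvPolynomial.aeval_def,
    MvPolynomial.eval₂_map, Algebra.algebraMap_self, RingHom.id_comp]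
  have h1 : MvPolynomial.eval₂ (algebraMap A B) (fun j => algebraMap A B (f j)) (Phi φ' n p.1.1) =
      algebraMap A B (MvPolynomial.aeval f (Phi φ' n p.1.1)) := by
    rw [MvPolynomial.aeval_def, MvPolynomial.eval₂_comp_left, Algebra.algebraMap_self, RingHom.comp_id]
    rfl
  rw [h1, aeval_Phi φ' hφ' n p.1.1 p.1.2]

/-- the module map of one level -/
theorem exists_Psi {c' : ℕ} {φ' : Fin r → (↥(I ^ c') →ₗ[A] A)} {f : Fin r → A}
    (hφ' : ∀ x : ↥(I ^ c'), (x : A) = ∑ j, f j * φ' j x) {Φ : ℕ → A → MvPolynomial (Fin r) A}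
    (hΦ : Props φ' Φ) (n : ℕ)
    (hker : ∀ l : lev (I := I) (N := N) (n * c') →₀ B,
      val (A := A) (B := B) (I := I) (N := N) (n * c') l = 0 → img (Φ n) (n * c') l = 0) :
    ∃ Ψ : ↥(Submodule.span B {y : N | ∃ g ∈ I ^ (n * c'), ∃ x : N, y = algebraMap A B g • x}) →ₗ[B]
        (MvPolynomial (Fin r) B ⊗[B] N),
      (∀ (g : A) (hg : g ∈ I ^ (n * c')) (x : N),
        Ψ ⟨algebraMap A B g • x, Submodule.subset_span ⟨g, hg, x, rfl⟩⟩ =
          MvPolynomial.map (algebraMap A B) (Φ n g) ⊗ₜ[B] x) ∧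
      (∀ y : ↥(Submodule.span B {y : N | ∃ g ∈ I ^ (n * c'), ∃ x : N, y = algebraMap A B g • x}),
        TensorProduct.lift ((LinearMap.lsmul B N).comp
          (MvPolynomial.aeval (fun j ↦ algebraMap A B (f j))).toLinearMap) (Ψ y) = (y : N)) ∧
      (∀ Ψ' : ↥(Submodule.span B {y : N | ∃ g ∈ I ^ (n * c'), ∃ x : N, y = algebraMap A B g • x}) →ₗ[B]
          (MvPolynomial (Fin r) B ⊗[B] N),
        (∀ (g : A) (hg : g ∈ I ^ (n * c')) (x : N),
          Ψ' ⟨algebraMap A B g • x, Submodule.subset_span ⟨g, hg, x, rfl⟩⟩ =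
            MvPolynomial.map (algebraMap A B) (Φ n g) ⊗ₜ[B] x) → Ψ' = Ψ) := by
  let v := val (A := A) (B := B) (I := I) (N := N) (n * c')
  let w := img (B := B) (N := N) (I := I) (Φ n) (n * c')
  let Ψ := (LinearMap.ker v).liftQ w (fun l hl => hker l hl) ∘ₗ
    v.quotKerEquivRange.symm.toLinearMap ∘ₗ (LinearEquiv.ofEq _ _ (range_val (n * c')).symm).toLinearMap
  have key : ∀ (l : lev (I := I) (N := N) (n * c') →₀ B) (h : v l ∈ _), Ψ ⟨v l, h⟩ = w l := fun l h => by
    have e : v.quotKerEquivRange.symm ⟨v l, LinearMap.mem_range_self v l⟩ = Submodule.Quotient.mk l :=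
      (LinearEquiv.symm_apply_eq _).2 (Subtype.ext (LinearMap.quotKerEquivRange_apply_mk v l).symm)
    show (LinearMap.ker v).liftQ w (fun l hl => hker l hl)
      (v.quotKerEquivRange.symm ⟨v l, LinearMap.mem_range_self v l⟩) = w l
    rw [e]
    rfl
  have hgen : ∀ (g : A) (hg : g ∈ I ^ (n * c')) (x : N),
      Ψ ⟨algebraMap A B g • x, Submodule.subset_span ⟨g, hg, x, rfl⟩⟩ =
        MvPolynomial.map (algebraMap A B) (Φ n g) ⊗ₜ[B] x := fun g hg x => by
    have e : v (Finsupp.single (⟨g, hg⟩, x) 1) = algebraMap A B g • x := by simp [v, val]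
    have := key (Finsupp.single (⟨g, hg⟩, x) 1) (e.symm ▸ Submodule.subset_span ⟨g, hg, x, rfl⟩)
    rw [show w (Finsupp.single (⟨g, hg⟩, x) 1) =
      MvPolynomial.map (algebraMap A B) (Φ n g) ⊗ₜ[B] x by simp [w, img]] at this
    exact (congrArg Ψ (Subtype.ext e.symm)).trans this
  refine ⟨Ψ, hgen, fun ⟨y, hy⟩ => ?_, fun Ψ' hΨ' => ?_⟩
  · obtain ⟨l, rfl⟩ : y ∈ LinearMap.range v := by rw [range_val]; exact hy
    rw [key l hy]
    exact lift_img hφ' hΦ n l
  · let vR : (lev (I := I) (N := N) (n * c') →₀ B) →ₗ[B]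
        ↥(Submodule.span B {y : N | ∃ g ∈ I ^ (n * c'), ∃ x : N, y = algebraMap A B g • x}) :=
      v.codRestrict _ fun l => (range_val (A := A) (B := B) (I := I) (N := N) (n * c')).le
        (LinearMap.mem_range_self v l)
    have hgens : Ψ' ∘ₗ vR = Ψ ∘ₗ vR := by
      refine Finsupp.lhom_ext' fun ⟨⟨g, hg⟩, x⟩ => LinearMap.ext_ring ?_
      have e : vR (Finsupp.single (⟨g, hg⟩, x) 1) =
          ⟨algebraMap A B g • x, Submodule.subset_span ⟨g, hg, x, rfl⟩⟩ :=
        Subtype.ext (by simp [vR, v, val])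
      show Ψ' (vR (Finsupp.single (⟨g, hg⟩, x) 1)) = Ψ (vR (Finsupp.single (⟨g, hg⟩, x) 1))
      rw [e, hΨ' g hg x, hgen g hg x]
    refine LinearMap.ext fun ⟨y, hy⟩ => ?_
    obtain ⟨l, rfl⟩ : y ∈ LinearMap.range v := by rw [range_val]; exact hy
    exact LinearMap.congr_fun hgens l

end Module

section Final

variable {f : Fin r → A} (B : Type u) [CommRing B] [Algebra A B] [IsNoetherianRing B]
  (N : Type u) [AddCommGroup N] [Module B N] [Module.Finite B N]

/-- restriction of the partition maps to a higher power -/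
noncomputable def restr (c' : ℕ) (h : c ≤ c') (j : Fin r) : ↥(I ^ c') →ₗ[A] A :=
  (φ j).comp (Submodule.inclusion (Ideal.pow_le_pow_right h))

theorem exists_module_map (hφ : ∀ x : ↥(I ^ c), (x : A) = ∑ j, f j * φ j x) :
    ∃ (c' : ℕ) (hcc' : c ≤ c'), ∀ Φ : ℕ → A → MvPolynomial (Fin r) A,
      Props (restr φ c' hcc') Φ → ∀ n : ℕ,
        ∃ Ψ : ↥(Submodule.span B {y : N | ∃ g ∈ I ^ (n * c'), ∃ x : N, y = algebraMap A B g • x}) →ₗ[B]
          (MvPolynomial (Fin r) B ⊗[B] N),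
        (∀ (g : A) (hg : g ∈ I ^ (n * c')) (x : N),
          Ψ ⟨algebraMap A B g • x, Submodule.subset_span ⟨g, hg, x, rfl⟩⟩ =
            MvPolynomial.map (algebraMap A B) (Φ n g) ⊗ₜ[B] x) ∧
        (∀ y : ↥(Submodule.span B {y : N | ∃ g ∈ I ^ (n * c'), ∃ x : N, y = algebraMap A B g • x}),
          TensorProduct.lift ((LinearMap.lsmul B N).comp
            (MvPolynomial.aeval (fun j ↦ algebraMap A B (f j))).toLinearMap) (Ψ y) = (y : N)) ∧
        (∀ Ψ' : ↥(Submodule.span B {y : N | ∃ g ∈ I ^ (n * c'), ∃ x : N, y = algebraMap A B g • x}) →ₗ[B]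
            (MvPolynomial (Fin r) B ⊗[B] N),
          (∀ (g : A) (hg : g ∈ I ^ (n * c')) (x : N),
            Ψ' ⟨algebraMap A B g • x, Submodule.subset_span ⟨g, hg, x, rfl⟩⟩ =
              MvPolynomial.map (algebraMap A B) (Φ n g) ⊗ₜ[B] x) → Ψ' = Ψ) := by
  obtain ⟨k, hk⟩ := exists_level B N I c
  have hle : c ≤ k + c := Nat.le_add_left c k
  refine ⟨k + c, hle, fun Φ hΦ n => ?_⟩
  have hφ' : ∀ x : ↥(I ^ (k + c)), (x : A) = ∑ j, f j * restr φ (k + c) hle j x := fun x =>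
    hφ (Submodule.inclusion (Ideal.pow_le_pow_right hle) x)
  refine exists_Psi hφ' hΦ n (img_eq_zero hΦ (fun j a ha => ⟨φ j ⟨a, ha⟩, fun g hg => ?_⟩) k
    (fun j g hg => ?_) hk n)
  · have hgc : g ∈ I ^ c := Ideal.pow_le_pow_right hle hg
    show a * φ j ⟨g, hgc⟩ = φ j ⟨a, ha⟩ * g
    rw [mul_comm a, ← phi_mul φ j hgc a, ← phi_mul φ j ha g]
    exact congrArg (φ j) (Subtype.ext (mul_comm g a))
  · exact phi_mem φ j k _ (by rwa [← pow_add, add_comm c k])

end Final

end Groth.Agent.LC16.GradedPhi
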