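import Groth.Agent.LC17.HLVT
import Groth.Agent.AdicC27.Approx
import Mathlib.RingTheory.Ideal.GoingDown
import Mathlib.RingTheory.AdicCompletion.Noetherian

/-!
Hartshorne–Lichtenbaum vanishing for quotients by primes of an adically complete local ring.
-/

set_option autoImplicit false
set_option linter.style.haveILetI false

noncomputable section

universe u

open IsLocalRing

namespace Groth.Agent.LC16.HLPrime

/-- the hypothesis of Hartshorne–Lichtenbaum vanishing -/
theorem one_le_dim {B : Type u} [CommRing B] [IsDomain B] [IsLocalRing B] [IsNoetherianRing B]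
    (J : Ideal B) [IsAdicComplete J B] (r : PrimeSpectrum B) (hr : J ≤ r.asIdeal)
    (hr' : r.asIdeal ≠ maximalIdeal B) (P : Ideal (AdicCompletion (maximalIdeal B) B))
    (hP : P ∈ minimalPrimes (AdicCompletion (maximalIdeal B) B)) :
    1 ≤ ringKrullDim (AdicCompletion (maximalIdeal B) B ⧸
      (J.map (algebraMap B (AdicCompletion (maximalIdeal B) B)) ⊔ P)) := by
  set Bh := AdicCompletion (maximalIdeal B) B
  set a : Ideal Bh := J.map (algebraMap B Bh) ⊔ P
  haveI : IsNoetherianRing Bh := EGA4H10.isNoetherianRing_cpl (A := B)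
  haveI hPp : P.IsPrime := hP.1.1
  by_contra hdim
  have hJne : J ≠ ⊤ := fun h => r.2.ne_top (top_le_iff.1 (h ▸ hr))
  have hmle : (maximalIdeal B).map (algebraMap B Bh) = maximalIdeal Bh :=
    AdicCompletion.maximalIdeal_eq_map.symm
  have hale : a ≤ maximalIdeal Bh := sup_le (by rw [← hmle]; exact Ideal.map_mono (le_maximalIdeal hJne))
    (le_maximalIdeal hPp.ne_top)
  haveI : Nontrivial (Bh ⧸ a) := Ideal.Quotient.nontrivial_iff.2 fun h =>
    (maximalIdeal.isMaximal Bh).ne_top (top_le_iff.1 (h ▸ hale))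
  haveI : Ring.KrullDimLE 0 (Bh ⧸ a) := by
    rw [Ring.krullDimLE_iff]
    have h := not_le.1 hdim
    revert h
    generalize ringKrullDim (Bh ⧸ a) = D
    intro h
    induction D using WithBot.recBotCoe with
    | bot => exact bot_le
    | coe D =>
      have hD : D < 1 := WithBot.coe_lt_coe.1 h
      exact_mod_cast WithBot.coe_le_coe.2 (ENat.lt_one_iff_eq_zero.1 hD).le
  have hrad : maximalIdeal Bh ≤ a.radical := by
    rw [Ideal.radical_eq_sInf]
    refine le_sInf fun Q ⟨haQ, hQ⟩ => ?_
    haveI := hQ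
    haveI hQ' : (Q.map (Ideal.Quotient.mk a)).IsPrime :=
      Ideal.map_isPrime_of_surjective Ideal.Quotient.mk_surjective (by rwa [Ideal.mk_ker])
    have hmax : (Q.map (Ideal.Quotient.mk a)).IsMaximal := Ideal.IsPrime.isMaximal' hQ'
    have hc := Ideal.comap_isMaximal_of_surjective (Ideal.Quotient.mk a) Ideal.Quotient.mk_surjective
      (K := Q.map (Ideal.Quotient.mk a))
    rw [Ideal.comap_map_of_surjective _ Ideal.Quotient.mk_surjective, ← RingHom.ker_eq_comap_bot,
      Ideal.mk_ker, sup_eq_left.2 haQ] at hc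
    exact (eq_maximalIdeal hc).ge
  obtain ⟨k, hk⟩ := Ideal.exists_pow_le_of_le_radical_of_fg hrad (IsNoetherian.noetherian _)
  let f : B →+* Bh ⧸ P := (Ideal.Quotient.mk P).comp (algebraMap B Bh)
  have happrox : ∀ z : Bh, ∃ b : B, algebraMap B Bh b - z ∈ a := fun z => by
    obtain ⟨b, hb⟩ := Submodule.Quotient.mk_surjective _ (AdicCompletion.eval (maximalIdeal B) B k z)
    refine ⟨b, hk ?_⟩
    rw [← hmle, ← Ideal.map_pow, ← Submodule.restrictScalars_mem B, ← Ideal.smul_top_eq_map,
      AdicCompletion.pow_smul_top_eq_ker_eval (IsNoetherian.noetherian _), LinearMap.mem_ker,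
      map_sub, sub_eq_zero, ← hb]
    rfl
  have hJC : J.map f ≠ ⊤ := by
    intro h
    have h2 : a.map (Ideal.Quotient.mk P) = ⊤ := by
      rw [eq_top_iff, ← h, ← Ideal.map_map]
      exact Ideal.map_mono le_sup_left
    have h3 := congrArg (Ideal.comap (Ideal.Quotient.mk P)) h2
    rw [Ideal.comap_map_of_surjective _ Ideal.Quotient.mk_surjective, ← RingHom.ker_eq_comap_bot,
      Ideal.mk_ker, Ideal.comap_top, sup_eq_left.2 (le_sup_right : P ≤ a)] at h3
    exact (maximalIdeal.isMaximal Bh).ne_top (top_le_iff.1 (h3 ▸ hale))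
  haveI : IsHausdorff (J.map f) (Bh ⧸ P) := IsHausdorff.of_isDomain _ hJC
  have hsurj : Function.Surjective f := by
    refine surjective_of_mk_map_comp_surjective (I := J) f fun y => ?_
    obtain ⟨y, rfl⟩ := Ideal.Quotient.mk_surjective y
    obtain ⟨z, rfl⟩ := Ideal.Quotient.mk_surjective y
    obtain ⟨b, hb⟩ := happrox z
    refine ⟨b, Ideal.Quotient.eq.2 ?_⟩
    have h1 := Ideal.mem_map_of_mem (Ideal.Quotient.mk P) hb
    rw [Ideal.map_sup, Ideal.map_map, Ideal.map_quotient_self, sup_bot_eq, map_sub] at h1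
    exact h1
  have hinj : Function.Injective f := by
    rw [injective_iff_map_eq_zero]
    intro b hb
    have hbP : algebraMap B Bh b ∈ P := Ideal.Quotient.eq_zero_iff_mem.1 hb
    obtain ⟨Q, hQP, hQ, hover⟩ := P.exists_ideal_le_liesOver_of_le (p := (⊥ : Ideal B))
      (q := P.under B) bot_le
    have : P ≤ Q := hP.2 ⟨hQ, bot_le⟩ hQP
    have hb' : b ∈ Q.under B := this hbP
    rw [← hover.over] at hb'
    exact hb'
  -- now `r` is the maximal ideal
  apply hr'
  refine le_antisymm (le_maximalIdeal r.2.ne_top) fun x hx => r.2.mem_of_pow_mem k (hr ?_)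
  have hxa : algebraMap B Bh (x ^ k) ∈ a := hk (by
    rw [map_pow, ← hmle]
    exact Ideal.pow_mem_pow (Ideal.mem_map_of_mem _ hx) k)
  have h1 := Ideal.mem_map_of_mem (Ideal.Quotient.mk P) hxa
  rw [Ideal.map_sup, Ideal.map_map, Ideal.map_quotient_self, sup_bot_eq] at h1
  obtain ⟨j, hj, hjx⟩ := (Ideal.mem_map_iff_of_surjective f hsurj).1 h1
  rwa [← hinj hjx]

end Groth.Agent.LC16.HLPrime
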