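import Groth.Agent.LC16.ComplKill
import Groth.Agent.DR39.TensorMap

/-!
Comparison of `Hom(A[0], X⟦i⟧)` with `Hom(C, X⟦i⟧)` along a map `ε : C ⟶ A[0]`:
exactness bookkeeping.
-/

set_option autoImplicit false

noncomputable section

universe u

open CategoryTheory CategoryTheory.Limits CategoryTheory.Pretriangulated
attribute [local instance] HasDerivedCategory.standard

namespace Groth.Agent.LC16.HomGood

variable {A : Type u} [CommRing A] {C U : Dual.D A} (ε : C ⟶ U)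

/-- precomposition with `ε` is bijective in degrees `≤ n` -/
def Good (X : Dual.D A) (n : ℤ) : Prop :=
  ∀ i ≤ n, Function.Bijective fun g : U ⟶ X⟦i⟧ => ε ≫ g

/-- `L` kills both Hom modules in degrees `≤ n` -/
def Kills (_ε : C ⟶ U) (L : Ideal A) (X : Dual.D A) (n : ℤ) : Prop :=
  ∀ i ≤ n, ∀ a ∈ L, (∀ g : U ⟶ X⟦i⟧, a • g = 0) ∧ ∀ g : C ⟶ X⟦i⟧, a • g = 0

/-- exactness at the middle object -/
theorem exact₂ {T : Triangle (Dual.D A)} (hT : T ∈ distTriang (Dual.D A)) {K : Dual.D A} {i : ℤ}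
    (f : K ⟶ T.obj₂⟦i⟧) (h : f ≫ T.mor₂⟦i⟧' = 0) :
    ∃ g : K ⟶ T.obj₁⟦i⟧, f = g ≫ T.mor₁⟦i⟧' := by
  obtain ⟨g, hg⟩ := Triangle.coyoneda_exact₂ _ (Triangle.shift_distinguished T hT i) f (by
    show f ≫ (i.negOnePow • T.mor₂⟦i⟧') = 0
    rw [Linear.comp_units_smul, h, smul_zero])
  let g' : K ⟶ T.obj₁⟦i⟧ := g
  refine ⟨i.negOnePow • g', hg.trans ?_⟩
  show g' ≫ (i.negOnePow • T.mor₁⟦i⟧') = _
  rw [Linear.comp_units_smul, Linear.units_smul_comp]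

theorem comp_zero₁₂ {T : Triangle (Dual.D A)} (hT : T ∈ distTriang (Dual.D A)) (i : ℤ) :
    T.mor₁⟦i⟧' ≫ T.mor₂⟦i⟧' = 0 := by
  rw [← Functor.map_comp, comp_distTriang_mor_zero₁₂ T hT, Functor.map_zero]

variable {ε}

theorem Good.mono {X : Dual.D A} {n m : ℤ} (h : Good ε X n) (hm : m ≤ n) : Good ε X m :=
  fun i hi => h i (hi.trans hm)

theorem Kills.mono {X : Dual.D A} {n m : ℤ} {L L' : Ideal A} (h : Kills ε L X n) (hm : m ≤ n)
    (hL : L' ≤ L) : Kills ε L' X m :=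
  fun i hi a ha => h i (hi.trans hm) a (hL ha)

theorem Good.of_iso {X Y : Dual.D A} {n : ℤ} (h : Good ε X n) (e : X ≅ Y) : Good ε Y n := fun i hi => by
  have : (fun g : U ⟶ Y⟦i⟧ => ε ≫ g) = Iso.homToEquiv ((shiftFunctor _ i).mapIso e) ∘
      (fun g : U ⟶ X⟦i⟧ => ε ≫ g) ∘ (Iso.homToEquiv ((shiftFunctor _ i).mapIso e)).symm := by
    funext g
    simp
  rw [this]
  exact ((Equiv.bijective _).comp (h i hi)).comp (Equiv.bijective _)

theorem Kills.of_iso {X Y : Dual.D A} {n : ℤ} {L : Ideal A} (h : Kills ε L X n) (e : X ≅ Y) :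
    Kills ε L Y n := fun i hi a ha => by
  let e' := (shiftFunctor (Dual.D A) i).mapIso e
  exact ⟨fun g => by rw [← cancel_mono e'.inv, zero_comp, Linear.smul_comp]; exact (h i hi a ha).1 _,
    fun g => by rw [← cancel_mono e'.inv, zero_comp, Linear.smul_comp]; exact (h i hi a ha).2 _⟩

theorem Good.shift {X : Dual.D A} {n : ℤ} (h : Good ε X n) (k m : ℤ) (hm : m + k ≤ n) :
    Good ε (X⟦k⟧) m := fun i hi => by
  let e := ((shiftFunctorAdd' (Dual.D A) k i (k + i) rfl).app X)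
  have : (fun g : U ⟶ (X⟦k⟧)⟦i⟧ => ε ≫ g) = Iso.homToEquiv e ∘
      (fun g : U ⟶ X⟦k + i⟧ => ε ≫ g) ∘ (Iso.homToEquiv e).symm := by
    funext g
    simp
  rw [this]
  exact ((Equiv.bijective _).comp (h _ (by omega))).comp (Equiv.bijective _)

theorem Kills.shift {X : Dual.D A} {n : ℤ} {L : Ideal A} (h : Kills ε L X n) (k m : ℤ) (hm : m + k ≤ n) :
    Kills ε L (X⟦k⟧) m := fun i hi a ha => by
  let e := ((shiftFunctorAdd' (Dual.D A) k i (k + i) rfl).app X)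
  exact ⟨fun g => by rw [← cancel_mono e.inv, zero_comp, Linear.smul_comp]; exact (h _ (by omega) a ha).1 _,
    fun g => by rw [← cancel_mono e.inv, zero_comp, Linear.smul_comp]; exact (h _ (by omega) a ha).2 _⟩

theorem smul_eq_zero {T : Triangle (Dual.D A)} (hT : T ∈ distTriang (Dual.D A)) {L L' : Ideal A}
    {K : Dual.D A} {i : ℤ} (h₁ : ∀ a ∈ L, ∀ g : K ⟶ T.obj₁⟦i⟧, a • g = 0)
    (h₃ : ∀ a ∈ L', ∀ g : K ⟶ T.obj₃⟦i⟧, a • g = 0) :
    ∀ a ∈ L * L', ∀ g : K ⟶ T.obj₂⟦i⟧, a • g = 0 := by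
  intro a ha g
  induction ha using Submodule.mul_induction_on' with
  | mem_mul_mem a ha b hb =>
    obtain ⟨w, hw⟩ := exact₂ hT (b • g) (by rw [Linear.smul_comp]; exact h₃ b hb _)
    rw [mul_smul, hw, ← Linear.smul_comp, h₁ a ha, zero_comp]
  | add x _ y _ hx hy => rw [add_smul, hx, hy, add_zero]

theorem kills_obj₂ {T : Triangle (Dual.D A)} (hT : T ∈ distTriang (Dual.D A)) {L L' : Ideal A} {n : ℤ}
    (h₁ : Kills ε L T.obj₁ n) (h₃ : Kills ε L' T.obj₃ n) : Kills ε (L * L') T.obj₂ n :=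
  fun i hi a ha => ⟨smul_eq_zero hT (fun b hb => (h₁ i hi b hb).1) (fun b hb => (h₃ i hi b hb).1) a ha,
    smul_eq_zero hT (fun b hb => (h₁ i hi b hb).2) (fun b hb => (h₃ i hi b hb).2) a ha⟩

/-- injectivity in the middle -/
theorem injective_middle {T : Triangle (Dual.D A)} (hT : T ∈ distTriang (Dual.D A)) {i : ℤ}
    (hin₁ : Function.Injective fun g : U ⟶ T.obj₁⟦i⟧ => ε ≫ g)
    (hs₃ : Function.Surjective fun g : U ⟶ (T.obj₃⟦(-1 : ℤ)⟧)⟦i⟧ => ε ≫ g)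
    (f : U ⟶ T.obj₂⟦i⟧) (hf : ε ≫ f = 0) (hf₃ : f ≫ T.mor₂⟦i⟧' = 0) : f = 0 := by
  obtain ⟨g, rfl⟩ := exact₂ hT f hf₃
  obtain ⟨z, hz⟩ := exact₂ (T := T.invRotate) (inv_rot_of_distTriang _ hT) (ε ≫ g)
    ((Category.assoc _ _ _).trans hf)
  obtain ⟨z', rfl⟩ := hs₃ z
  obtain rfl : g = z' ≫ T.invRotate.mor₁⟦i⟧' := hin₁ (hz.trans (Category.assoc _ _ _))
  have h0 : T.invRotate.mor₁⟦i⟧' ≫ T.mor₁⟦i⟧' = 0 :=
    comp_zero₁₂ (T := T.invRotate) (inv_rot_of_distTriang _ hT) i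
  exact (Category.assoc _ _ _).trans ((congrArg (z' ≫ ·) h0).trans comp_zero)

/-- the four lemma for surjectivity -/
theorem surjective_middle {T : Triangle (Dual.D A)} (hT : T ∈ distTriang (Dual.D A)) {i : ℤ}
    (hs₁ : Function.Surjective fun g : U ⟶ T.obj₁⟦i⟧ => ε ≫ g)
    (f : C ⟶ T.obj₂⟦i⟧) (hf₃ : f ≫ T.mor₂⟦i⟧' = 0) : ∃ g : U ⟶ T.obj₂⟦i⟧, ε ≫ g = f := by
  obtain ⟨w, rfl⟩ := exact₂ hT f hf₃
  obtain ⟨w', rfl⟩ := hs₁ w
  exact ⟨w' ≫ T.mor₁⟦i⟧', (Category.assoc _ _ _).symm⟩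

/-- the five lemma -/
theorem good_obj₂ {T : Triangle (Dual.D A)} (hT : T ∈ distTriang (Dual.D A)) {n : ℤ}
    (h₁ : Good ε T.obj₁ (n + 1)) (h₃ : Good ε T.obj₃ n) : Good ε T.obj₂ n := fun i hi => by
  refine ⟨fun f f' h => sub_eq_zero.1 ?_, fun z => ?_⟩
  · have h0 : ε ≫ (f - f') = 0 := by rw [Preadditive.comp_sub, sub_eq_zero]; exact h
    refine injective_middle hT (h₁ i (by omega)).1 ((h₃.shift (-1) n (by omega)) i hi).2 _ h0 ?_
    refine (h₃ i hi).1 ?_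
    show ε ≫ _ = ε ≫ 0
    rw [← Category.assoc, h0, zero_comp, comp_zero]
  · obtain ⟨w, hw⟩ := (h₃ i hi).2 (z ≫ T.mor₂⟦i⟧')
    obtain ⟨f₀, hf₀⟩ := exact₂ (T := T.rotate) (rot_of_distTriang _ hT) w (by
      refine ((h₁.shift 1 n le_rfl) i hi).1 ?_
      show ε ≫ w ≫ T.mor₃⟦i⟧' = ε ≫ 0
      rw [← Category.assoc, show ε ≫ w = z ≫ T.mor₂⟦i⟧' from hw, Category.assoc, ← Functor.map_comp,
        comp_distTriang_mor_zero₂₃ T hT, Functor.map_zero, comp_zero, comp_zero])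
    let f : U ⟶ T.obj₂⟦i⟧ := f₀
    have hf : w = f ≫ T.mor₂⟦i⟧' := hf₀
    obtain ⟨g, hg⟩ := surjective_middle hT (h₁ i (by omega)).2 (z - ε ≫ f) (by
      rw [Preadditive.sub_comp, sub_eq_zero, Category.assoc, ← hw]
      exact congrArg (ε ≫ ·) hf)
    exact ⟨g + f, by simp [Preadditive.comp_add, hg]⟩

/-- the inductive step: a map killing everything in low degrees -/
theorem good_step {T : Triangle (Dual.D A)} (hT : T ∈ distTriang (Dual.D A)) {n : ℤ}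
    (h₁ : Good ε T.obj₁ n) (h₃ : Good ε T.obj₃ (n - 1))
    (hU : ∀ i ≤ n, ∀ f : U ⟶ T.obj₂⟦i⟧, f ≫ T.mor₂⟦i⟧' = 0)
    (hC : ∀ i ≤ n, ∀ f : C ⟶ T.obj₂⟦i⟧, f ≫ T.mor₂⟦i⟧' = 0) : Good ε T.obj₂ n := fun i hi => by
  refine ⟨fun f f' h => sub_eq_zero.1 ?_, fun z => surjective_middle hT (h₁ i hi).2 z (hC i hi z)⟩
  exact injective_middle hT (h₁ i hi).1 ((h₃.shift (-1) n (by omega)) i hi).2 _
    (by rw [Preadditive.comp_sub, sub_eq_zero]; exact h) (hU i hi _)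

end Groth.Agent.LC16.HomGood
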