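import Groth.Agent.QC70.HomStalk

set_option autoImplicit false
set_option backward.isDefEq.respectTransparency.types false
set_option linter.style.haveILetI false

/-!
The stalk of `𝓗om(M, N)` for finitely presented `M` and an arbitrary module `N`.
-/

noncomputable section

universe u

open CategoryTheory Limits AlgebraicGeometry TopologicalSpace Opposite
open Groth.Agent.QC70

namespace Groth.Agent.LC16.HomStalkGen

variable {X : Scheme.{u}} {M N : X.Modules} {U : X.Opens} {x : X}

theorem eq_zero_of_germ_gens [M.IsQuasicoherent] (hU : IsAffineOpen U)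
    {S : Set Γ(M, U)} (hS : Submodule.span Γ(X, U) S = ⊤) (hx : x ∈ U)
    (f : M.presheaf.stalk x →ₗ[X.presheaf.stalk x] N.presheaf.stalk x)
    (h : ∀ m ∈ S, f (germM M U x hx m) = 0) : f = 0 := by
  have hall : ∀ m : Γ(M, U), f (germM M U x hx m) = 0 := fun m => by
    have hm : m ∈ Submodule.span Γ(X, U) S := hS ▸ trivial
    induction hm using Submodule.span_induction with
    | mem s hs => exact h s hs
    | zero => rw [germM_zero, map_zero]
    | add a b _ _ ha hb => rw [germM_add, map_add, ha, hb, add_zero]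
    | smul r b _ hb => rw [germM_smul, map_smul, hb, smul_zero]
  refine LinearMap.ext fun e => ?_
  obtain ⟨a, t, hxa, ht⟩ := stalk_exists_smul (isLocAt_of_isQuasicoherent M hU) hU hx e
  rw [LinearMap.zero_apply, ← (isUnit_germ hxa).smul_eq_zero, ← map_smul, ht, hall]

theorem exists_le_forall_res_eq_zero {ι : Type*} [Finite ι] {W : X.Opens} (hxW : x ∈ W)
    (t : ι → Γ(N, W)) (h : ∀ i, germM N W x hxW (t i) = 0) :
    ∃ (W' : X.Opens) (hW' : W' ≤ W), x ∈ W' ∧ ∀ i, res N hW' (t i) = 0 := by
  classical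
  have := Fintype.ofFinite ι
  choose V hV hxV h0 using fun i => germM_eq_zero (h i)
  refine ⟨Finset.univ.inf V ⊓ W, inf_le_right, ⟨?_, hxW⟩, fun i => ?_⟩
  · change x ∈ ((Finset.univ.inf V : X.Opens) : Set X)
    rw [Opens.coe_finset_inf, Finset.inf_set_eq_iInter]
    exact Set.mem_iInter₂.2 fun i _ => hxV i
  · rw [← res_res (hV i) (inf_le_left.trans (Finset.inf_le (Finset.mem_univ i))) (t i), h0 i,
      res_zero]

theorem injective_evalStalk [M.IsQuasicoherent] (hU : IsAffineOpen U) (hx : x ∈ U)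
    [Module.Finite Γ(X, U) Γ(M, U)] : Function.Injective (evalStalk M N x) := by
  refine (injective_iff_map_eq_zero _).2 fun θ hθ => ?_
  obtain ⟨W, hxW, φ, rfl⟩ := germM_exist θ
  obtain ⟨n, s, hs⟩ := Module.Finite.exists_fin (R := Γ(X, U)) (M := Γ(M, U))
  let V := W ⊓ U
  have hxV : x ∈ V := ⟨hxW, hx⟩
  obtain ⟨O, hO, hxO, h0⟩ := exists_le_forall_res_eq_zero (N := N) hxV
    (fun i => (ofSec φ).app V inf_le_left (res M inf_le_right (s i))) fun i => by
      rw [← (ofSec φ).stalkMap_germ hxW inf_le_left hxV, ← evalStalk_germ, hθ]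
      rfl
  rw [← germM_res (hO.trans inf_le_left) hxO φ]
  suffices h : res (homMod M N) (hO.trans inf_le_left) φ = 0 by rw [h, germM_zero]
  refine HomOn.ext' fun T hT t => section_ext N _ _ fun q hq => ?_
  have hqU : q ∈ U := (hT.trans (hO.trans inf_le_right)) hq
  have hz : (ofSec φ).stalkMap ((hT.trans (hO.trans inf_le_left)) hq) = 0 := by
    refine eq_zero_of_germ_gens hU hs hqU _ ?_
    rintro _ ⟨i, rfl⟩
    rw [← germM_res (hO.trans inf_le_right) (hT hq) (s i),
      (ofSec φ).stalkMap_germ _ (hO.trans inf_le_left), ← res_res inf_le_right hO,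
      (ofSec φ).app_res inf_le_left hO]
    rw [h0 i, germM_zero]
  have key : germM N T q hq ((ofSec φ).app T (hT.trans (hO.trans inf_le_left)) t) = 0 := by
    rw [← (ofSec φ).stalkMap_germ ((hT.trans (hO.trans inf_le_left)) hq) _ hq, hz]
    rfl
  obtain ⟨T', hT', hqT', h1⟩ := germM_eq_zero key
  exact ⟨T', hT', hqT', h1.trans (res_zero hT').symm⟩

/-- Stalk maps out of a finitely presented module spread out to a basic open. -/
theorem exists_lift_basicOpen (hU : IsAffineOpen U) (hx : x ∈ U)
    [Module.FinitePresentation Γ(X, U) Γ(M, U)]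
    (ψ : M.presheaf.stalk x →ₗ[X.presheaf.stalk x] N.presheaf.stalk x) :
    ∃ (f : Γ(X, U)) (hf : x ∈ X.basicOpen f),
      letI := Module.compHom Γ(N, X.basicOpen f) (X.presheaf.map (homOfLE (X.basicOpen_le f)).op).hom
      ∃ h : Γ(M, U) →ₗ[Γ(X, U)] Γ(N, X.basicOpen f),
        ∀ m, germM N (X.basicOpen f) x hf (h m) = ψ (germM M U x hx m) := by
  classical
  obtain ⟨n, K, e, hK⟩ := Module.FinitePresentation.exists_fin Γ(X, U) Γ(M, U)
  obtain ⟨S, hS⟩ := hK
  let v : Fin n → Γ(M, U) := fun j => e.symm (Submodule.Quotient.mk (Pi.single j 1))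
  choose Wj hWj hxWj tj htj using fun j => exists_germ_le (M := N) hx (ψ (germM M U x hx (v j)))
  let W : X.Opens := Finset.univ.inf Wj ⊓ U
  have hxW : x ∈ W := ⟨by
    change x ∈ ((Finset.univ.inf Wj : X.Opens) : Set X)
    rw [Opens.coe_finset_inf, Finset.inf_set_eq_iInter]
    exact Set.mem_iInter₂.2 fun i _ => hxWj i, hx⟩
  have hWU : W ≤ U := inf_le_right
  let t : Fin n → Γ(N, W) := fun j =>
    res N (inf_le_left.trans (Finset.inf_le (Finset.mem_univ j))) (tj j)
  let L : (Fin n → Γ(X, U)) → Γ(N, W) := fun a => ∑ j, resO X hWU (a j) • t j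
  have hL : ∀ a : Fin n → Γ(X, U),
      germM N W x hxW (L a) = ψ (germM M U x hx (e.symm (Submodule.Quotient.mk a))) := by
    intro a
    have ha : e.symm (Submodule.Quotient.mk a) = ∑ j, a j • v j := by
      conv_lhs => rw [pi_eq_sum_univ' a]
      rw [← Submodule.mkQ_apply, map_sum, map_sum]
      refine Finset.sum_congr rfl fun j _ => ?_
      rw [map_smul, map_smul]
      rfl
    change (N.presheaf.germ W x hxW).hom (∑ j, resO X hWU (a j) • t j) = _
    rw [ha, map_sum]
    change _ = ψ ((M.presheaf.germ U x hx).hom (∑ j, a j • v j))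
    rw [map_sum, map_sum]
    refine Finset.sum_congr rfl fun j _ => ?_
    change germM N W x hxW (resO X hWU (a j) • t j) = ψ (germM M U x hx (a j • v j))
    rw [germM_smul, germM_smul, map_smul, germ_resO, germM_res, htj]
  obtain ⟨O, hO, hxO, h0⟩ := exists_le_forall_res_eq_zero (N := N) hxW
    (fun k : S => L k.1) fun k => by
      rw [hL, (Submodule.Quotient.mk_eq_zero K).2 (hS ▸ Submodule.subset_span k.2), map_zero,
        germM_zero, map_zero]
  obtain ⟨f, hfO, hxf⟩ := hU.exists_basicOpen_le (⟨x, hxO⟩ : O) hx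
  refine ⟨f, hxf, ?_⟩
  letI := Module.compHom Γ(N, X.basicOpen f) (X.presheaf.map (homOfLE (X.basicOpen_le f)).op).hom
  have hfW : X.basicOpen f ≤ W := hfO.trans hO
  let Lf : (Fin n → Γ(X, U)) →ₗ[Γ(X, U)] Γ(N, X.basicOpen f) :=
    { toFun := fun a => res N hfW (L a)
      map_add' := fun a b => by
        rw [← res_add, ← Finset.sum_add_distrib]
        exact congrArg _ (Finset.sum_congr rfl fun j _ => by
          rw [Pi.add_apply, resO, map_add, add_smul])
      map_smul' := fun r a => by
        change res N hfW (L (r • a)) = resO X (X.basicOpen_le f) r • res N hfW (L a)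
        rw [← resO_resO hWU hfW r, ← res_smul, Finset.smul_sum]
        exact congrArg _ (Finset.sum_congr rfl fun j _ => by
          rw [Pi.smul_apply, smul_eq_mul, resO, map_mul, mul_smul]) }
  have hker : K ≤ LinearMap.ker Lf := by
    rw [← hS, Submodule.span_le]
    intro k hk
    have h1 : res N hO (L k) = 0 := h0 ⟨k, hk⟩
    change res N hfW (L k) = 0
    rw [← res_res hO hfO (L k), h1, res_zero]
  refine ⟨(K.liftQ Lf hker).comp e.toLinearMap, fun m => ?_⟩
  obtain ⟨a, ha⟩ := Submodule.Quotient.mk_surjective K (e m)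
  have hm : m = e.symm (Submodule.Quotient.mk a) := by rw [ha, e.symm_apply_apply]
  change germM N _ x hxf (K.liftQ Lf hker (e m)) = _
  rw [← ha, Submodule.liftQ_apply]
  change germM N _ x hxf (res N hfW (L a)) = _
  rw [germM_res, hL, ← hm]

theorem surjective_evalStalk [M.IsQuasicoherent] (hU : IsAffineOpen U) (hx : x ∈ U)
    [Module.FinitePresentation Γ(X, U) Γ(M, U)] : Function.Surjective (evalStalk M N x) := by
  intro ψ
  obtain ⟨f, hf, h, hh⟩ := exists_lift_basicOpen hU hx ψ
  have hV : X.basicOpen f ≤ U := X.basicOpen_le f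
  let V := X.basicOpen f
  have hu : IsUnit (resO X hV f) := RingedSpace.isUnit_res_basicOpen _ f
  letI := Module.compHom Γ(N, V) (X.presheaf.map (homOfLE hV).op).hom
  letI := Module.compHom Γ(M, V) (X.presheaf.map (homOfLE hV).op).hom
  letI : Algebra Γ(X, U) Γ(X, V) := (X.presheaf.map (homOfLE hV).op).hom.toAlgebra
  haveI : IsScalarTower Γ(X, U) Γ(X, V) Γ(N, V) := IsScalarTower.of_algebraMap_smul fun _ _ => rfl
  haveI : IsScalarTower Γ(X, U) Γ(X, V) Γ(M, V) := IsScalarTower.of_algebraMap_smul fun _ _ => rfl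
  haveI : IsLocalization.Away f Γ(X, V) := hU.isLocalization_basicOpen f
  have hM := isLocAt_of_isQuasicoherent M hU
  let r : Γ(M, U) →ₗ[Γ(X, U)] Γ(M, V) :=
    { toFun := res M hV, map_add' := res_add hV, map_smul' := res_smul hV }
  haveI : IsLocalizedModule (Submonoid.powers f) r := by
    refine IsLocalizedModule.Away.mk_of_addCommGroup ?_ ?_ ?_
    · rw [Module.End.isUnit_iff]
      exact hu.smul_bijective
    · intro y
      obtain ⟨k, t, ht⟩ := hM.exists_of f y
      refine ⟨k, t, ?_⟩
      change resO X hV (f ^ k) • y = res M hV t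
      rw [resO_pow]
      exact ht.symm
    · intro y hy
      exact hM.eq_zero_of f y hy
  have hunit : ∀ y : Submonoid.powers f,
      IsUnit ((algebraMap Γ(X, U) (Module.End Γ(X, U) Γ(N, V))) y) := by
    rintro ⟨_, k, rfl⟩
    rw [Module.End.isUnit_iff]
    change Function.Bijective (fun z : Γ(N, V) => resO X hV (f ^ k) • z)
    rw [resO_pow]
    exact (hu.pow k).smul_bijective
  let l : Γ(M, V) →ₗ[Γ(X, V)] Γ(N, V) := LinearMap.extendScalarsOfIsLocalization
    (Submonoid.powers f) Γ(X, V) (IsLocalizedModule.lift (Submonoid.powers f) r h hunit)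
  have hV' : IsAffineOpen V := hU.basicOpen f
  refine ⟨germM (homMod M N) V x hf (HomOn.ofLinear hV' l).toSec, ?_⟩
  obtain ⟨S, hS⟩ := Module.Finite.fg_top (R := Γ(X, U)) (M := Γ(M, U))
  rw [← sub_eq_zero]
  refine eq_zero_of_germ_gens hU hS hx _ fun m _ => ?_
  rw [LinearMap.sub_apply, sub_eq_zero, ← germM_res hV hf m, evalStalk_germ,
    HomOn.stalkMap_germ _ hf le_rfl, germM_res hV hf m]
  refine Eq.trans ?_ (hh m)
  refine congrArg _ ?_
  change ((HomOn.ofLinear hV' l).app V le_rfl) (res M hV m) = h m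
  rw [HomOn.ofLinear_app_self]
  exact IsLocalizedModule.lift_apply (Submonoid.powers f) r h hunit m

/-- `𝓗om(M, N)_x ≅ Hom(M_x, N_x)` for finitely presented `M` and any `N`. -/
theorem bijective_evalStalk_gen [M.IsQuasicoherent] (hU : IsAffineOpen U) (hx : x ∈ U)
    [Module.FinitePresentation Γ(X, U) Γ(M, U)] : Function.Bijective (evalStalk M N x) :=
  ⟨injective_evalStalk hU hx, surjective_evalStalk hU hx⟩

end Groth.Agent.LC16.HomStalkGen
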