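import Groth.Agent.LC16.PrimeVanish
import Groth.Agent.LC16.DimBetween
import Groth.Agent.S8794
import Groth.Agent.DR39.LocalDual4

/-!
An ideal killing the maps from the Cech complex of `I` into `RΓ_m(M)` in low degrees.
-/

set_option autoImplicit false
set_option linter.style.haveILetI false
set_option maxHeartbeats 1600000

noncomputable section

universe u

open CategoryTheory CategoryTheory.Limits CategoryTheory.Pretriangulated
attribute [local instance] HasDerivedCategory.standard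

namespace Groth.Agent.LC16.KillHom

open Groth.Agent.DR39 Groth.Agent.LC16.CechTri

variable {A : Type u} [CommRing A] [IsNoetherianRing A]

omit [IsNoetherianRing A] in
/-- `a` kills maps into `N` when maps into `a N` vanish -/
theorem smul_eq_zero_of_range (C : Dual.D A) (n : ℤ) (N : Type u) [AddCommGroup N] [Module A N] (a : A)
    (h : Subsingleton (C ⟶ (Dual.inD A (LinearMap.range (LinearMap.lsmul A N a)))⟦n⟧))
    (g : C ⟶ (Dual.inD A N)⟦n⟧) : a • g = 0 := by
  let P := LinearMap.range (LinearMap.lsmul A N a)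
  let S := DerivedCategory.singleFunctor (ModuleCat.{u} A) 0 ⋙ shiftFunctor (Dual.D A) n
  let p : ModuleCat.of A N ⟶ ModuleCat.of A P := ModuleCat.ofHom (LinearMap.lsmul A N a).rangeRestrict
  let ι : ModuleCat.of A P ⟶ ModuleCat.of A N := ModuleCat.ofHom P.subtype
  have hp : p ≫ ι = a • 𝟙 (ModuleCat.of A N) := rfl
  have h1 : g ≫ S.map (p ≫ ι) = 0 := by
    rw [Functor.map_comp, ← Category.assoc]
    exact (congrArg (· ≫ S.map ι) (h.elim (g ≫ S.map p) 0)).trans zero_comp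
  rw [hp, show S.map (a • 𝟙 (ModuleCat.of A N)) = a • 𝟙 _ by
    simp only [S, Functor.comp_map, Functor.map_smul, CategoryTheory.Functor.map_id]; rfl] at h1
  exact (congrArg (a • ·) (Category.comp_id g)).symm.trans ((Linear.comp_smul _ _ _ g a _).symm.trans h1)

variable [IsLocalRing A] (I : Ideal A) [IsAdicComplete I A] {T : Set (PrimeSpectrum A)}

open DerivedCategory DerivedCategory.TStructure in
/-- The annihilating ideal. -/
theorem exists_kill {ω : Dual.D A} (hω : Dual.IsDualizing A ω) (M : Type u) [AddCommGroup M] [Module A M]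
    [Module.Finite A M] (fs : List A) (hfs : Ideal.span {x | x ∈ fs} = I) (ms : List A)
    (hms : Ideal.span {x | x ∈ ms} = IsLocalRing.maximalIdeal A) (d : ℕ) (hd : LocCoh.CdLE A I d) (s : ℕ)
    (hstab : ∀ Q r : PrimeSpectrum A, Q ≤ r → Q ∈ T → r ∈ T)
    (hT : ∀ Q : PrimeSpectrum A, Q ∉ T → ¬ I ≤ Q.asIdeal →
      ∃ r : PrimeSpectrum A, Q ≤ r ∧ I ≤ r.asIdeal ∧ r.asIdeal ≠ IsLocalRing.maximalIdeal A)
    (h4 : ∀ Q : PrimeSpectrum A, Q ∉ T → ¬ I ≤ Q.asIdeal → ∀ k : ℕ,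
      LocCoh.depth (Localization.AtPrime Q.asIdeal) (LocalizedModule Q.asIdeal.primeCompl M) = k →
      s ≤ k ∨ (((d + s : ℕ) : ℕ∞) : WithBot ℕ∞) <
        ((k : ℕ∞) : WithBot ℕ∞) + ringKrullDim (A ⧸ Q.asIdeal)) :
    ∃ K : Ideal A, PrimeSpectrum.zeroLocus (K : Set A) ⊆ T ∪ PrimeSpectrum.zeroLocus (I : Set A) ∧
      ∀ i : ℤ, i ≤ s → ∀ a ∈ K, ∀ g : XC (ModuleCat.of A A) fs ⟶ (XC (ModuleCat.of A M) ms)⟦i⟧,
        a • g = 0 := by
  classical
  let U := T ∪ PrimeSpectrum.zeroLocus (I : Set A)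
  let C := XC (ModuleCat.of A A) fs
  let Y := XC (ModuleCat.of A M) ms
  let R : Dual.D A → Prop := fun Z => ∃ K : Ideal A, PrimeSpectrum.zeroLocus (K : Set A) ⊆ U ∧
    ∀ i : ℤ, i ≤ s → ∀ a ∈ K, ∀ g : C ⟶ Z⟦i⟧, a • g = 0
  have hiso : ∀ {X Z : Dual.D A}, (X ≅ Z) → R X → R Z := by
    rintro X Z e ⟨K, hK, h⟩
    refine ⟨K, hK, fun i hi a ha g => ?_⟩
    rw [← cancel_mono ((shiftFunctor (Dual.D A) i).mapIso e.symm).hom, zero_comp, Linear.smul_comp]
    exact h i hi a ha _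
  have htop : ∀ X : Dual.D A, (∀ i : ℤ, i ≤ s → Subsingleton (C ⟶ X⟦i⟧)) → R X := fun X h =>
    ⟨⊤, by simp, fun i hi a _ g => (h i hi).elim _ _⟩
  haveI hCd : C.IsLE d := (DerivedCategory.isLE_iff C d).2 (ComplKill.isZero_HF_cech_of_cd I fs hfs hd)
  have hhigh : ∀ (X : Dual.D A) (b : ℤ), (d : ℤ) + s < b → X.IsGE b → ∀ i : ℤ, i ≤ s →
      Subsingleton (C ⟶ X⟦i⟧) := fun X b hb hX i hi => by
    haveI := hX
    haveI := t.isGE_shift X b i (b - i) (by omega)
    exact ⟨fun u v => (t.zero_of_isLE_of_isGE u d (b - i) (by omega) hCd inferInstance).trans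
      (t.zero_of_isLE_of_isGE v d (b - i) (by omega) hCd inferInstance).symm⟩
  -- the main degrees
  obtain ⟨n₀, hn⟩ := DR39.exists_normalized hω
  let ω' := ω⟦n₀⟧
  have hω' : Dual.IsDualizing A ω' := DR39.isDualizing_shift hω n₀
  let μ := DualAnn.mu hω'
  have hμm : μ (IsLocalRing.closedPoint A) = 0 := by
    by_contra hne
    have h1 : Subsingleton (Dual.inD A (A ⧸ IsLocalRing.maximalIdeal A) ⟶
        ω'⟦μ (IsLocalRing.closedPoint A)⟧) := hn _ hne
    rw [DR39.subsingleton_gm_iff] at h1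
    exact (IsLocalRing.maximalIdeal.isMaximal A).ne_top
      (top_le_iff.1 (h1 ▸ DualAnn.mu_spec hω' (IsLocalRing.closedPoint A)))
  have hmain : ∀ j : ℕ, j ≤ d + s → ∀ H : ModuleCat.{u} A, Nonempty (H ≅ (HF A j).obj Y) →
      ∃ K : Ideal A, PrimeSpectrum.zeroLocus (K : Set A) ⊆ U ∧ ∀ i : ℤ, i ≤ s → ∀ a ∈ K,
        ∀ g : C ⟶ (Dual.inD A H)⟦i - (j : ℤ)⟧, a • g = 0 := by
    intro j hj H ⟨eH⟩
    obtain ⟨e⟩ := CechFam.nonempty_equiv ms j M
    let eL : H ≃ₗ[A] LocCoh.H (Ideal.span {x | x ∈ ms}) j M :=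
      eH.toLinearEquiv ≪≫ₗ (HQIso (DerCA.extCech (ModuleCat.of A M) ms) j).toLinearEquiv ≪≫ₗ e
    let b : Ideal A := DualKill.P ω' j M ^ 2 ^ j
    have hb : ∀ a ∈ b, ∀ x : H, a • x = 0 := by
      have key : ∀ J : Ideal A, J = IsLocalRing.maximalIdeal A → ∀ a ∈ b, ∀ y : LocCoh.H J j M, a • y = 0 := by
        rintro J rfl a ha y
        exact DualKill.smul_H_eq_zero hω' hn j M a ha y
      exact fun a ha x => eL.injective (by rw [map_smul, map_zero]; exact key _ hms a ha _)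
    let Ps := (Ideal.finite_minimalPrimes_of_isNoetherianRing A b).toFinset
    let inU : Ideal A → Prop := fun Q => ∃ h : Q.IsPrime, (⟨Q, h⟩ : PrimeSpectrum A) ∈ U
    let B : Ideal A := ∏ Q ∈ Ps.filter inU, Q
    let G := Ps.filter fun Q => ¬ inU Q
    have hrad : B * ∏ Q ∈ G, Q ≤ b.radical := by
      rw [Finset.prod_filter_mul_prod_filter_not, ← Ideal.sInf_minimalPrimes]
      exact le_sInf fun Q hQ => Ideal.le_of_dvd (Finset.dvd_prod_of_mem _ ((Set.Finite.mem_toFinset _).2 hQ))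
    obtain ⟨N, hN⟩ := Ideal.exists_pow_le_of_le_radical_of_fg hrad (IsNoetherian.noetherian _)
    refine ⟨B ^ N, fun r hr => ?_, fun i hi a ha g => smul_eq_zero_of_range _ _ _ a ?_ g⟩
    · obtain ⟨Q, hQ, hQr⟩ := (r.isPrime.prod_le).1 (r.isPrime.le_of_pow_le (show B ^ N ≤ r.asIdeal from hr))
      obtain ⟨-, hQp, hQU⟩ := Finset.mem_filter.1 hQ
      rcases hQU with h | h
      · exact Or.inl (hstab ⟨Q, hQp⟩ r hQr h)
      · exact Or.inr fun x hx => hQr (h hx)
    · refine PrimeVanish.subsingleton_hom_of_prod I fs hfs _ (List.replicate N G.toList).flatten ?_ _ ?_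
      · intro Q hQl N' _ _ hN'
        obtain ⟨l, hl, hQl'⟩ := List.mem_flatten.1 hQl
        rw [List.eq_of_mem_replicate hl] at hQl'
        obtain ⟨hQP, hQU⟩ := Finset.mem_filter.1 (Finset.mem_toList.1 hQl')
        have hQmin := (Set.Finite.mem_toFinset _).1 hQP
        let q : PrimeSpectrum A := ⟨Q, hQmin.1.1⟩
        have hqT : q ∉ T := fun h => hQU ⟨hQmin.1.1, Or.inl h⟩
        have hqI : ¬ I ≤ Q := fun h => hQU ⟨hQmin.1.1, Or.inr h⟩
        obtain ⟨r, hqr, hIr, hr⟩ := hT q hqT hqI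
        obtain ⟨t, htj, ht⟩ : ∃ t ≤ j, LC17.gAnn ω' (ModuleCat.of A M) (-(t : ℤ)) ≤ Q := by
          obtain ⟨t, ht, htQ⟩ := (hQmin.1.1.prod_le).1
            (hQmin.1.1.le_of_pow_le (show DualKill.P ω' j M ^ 2 ^ j ≤ Q from hQmin.1.2))
          exact ⟨t, Nat.le_of_lt_succ (Finset.mem_range.1 ht), htQ⟩
        obtain ⟨k, hk, hkt⟩ := DualAnn.exists_depth_le hω' M (p := q) ht
        have hdim := S8794.dim_quotient_le hω' q
        have hmono := DualAnn.mu_mono hω'
          (show q ≤ IsLocalRing.closedPoint A from IsLocalRing.le_maximalIdeal q.2.ne_top)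
        change DualAnn.mu hω' q ≤ μ (IsLocalRing.closedPoint A) at hmono
        rw [show DualAnn.mu hω' (IsLocalRing.closedPoint A) = 0 from hμm] at hdim
        rw [hμm] at hmono
        have hsk : s ≤ k := by
          rcases h4 q hqT hqI k hk with h | h
          · exact h
          · have := DimBetween.lt_of_lt_add hdim h
            omega
        obtain ⟨n, hn'⟩ : ∃ n : ℕ, (n : ℤ) = j - i := ⟨((j : ℤ) - i).toNat, Int.toNat_of_nonneg (by omega)⟩
        rw [show i - (j : ℤ) = -(n : ℤ) by omega]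
        refine PrimeVanish.subsingleton_hom_of_prime I fs hfs q r hqr hIr hr n (hdim.trans ?_) N' hN'
        exact_mod_cast (show (0 - DualAnn.mu hω' q).toNat ≤ n by omega)
      · rintro c hc ⟨_, x, rfl⟩
        refine Subtype.ext ?_
        show c • a • x = 0
        rw [smul_smul]
        refine hb _ (hN ?_) x
        rw [List.prod_flatten, List.map_replicate, List.prod_replicate, Finset.prod_toList] at hc
        rw [mul_comm c a, mul_pow]
        exact Ideal.mul_mem_mul ha hc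
  -- dévissage
  let Tr := ((t : Triangulated.TStructure (Dual.D A)).triangleLTGE ((d + s : ℕ) + 1)).obj Y
  have hTr : Tr ∈ distinguishedTriangles := t.triangleLTGE_distinguished _ Y
  haveI : Tr.obj₁.IsLE ((d + s : ℕ) : ℤ) := by
    have : Tr.obj₁.IsLE (((d + s : ℕ) : ℤ) + 1 - 1) := inferInstanceAs (t.IsLE _ _)
    simpa using this
  haveI hGE : Tr.obj₃.IsGE (((d + s : ℕ) : ℤ) + 1) := inferInstanceAs (t.IsGE _ _)
  have hlow : ∀ i : ℤ, i ≤ (d + s : ℕ) → Nonempty ((HF A i).obj Tr.obj₁ ≅ (HF A i).obj Y) := fun i hi => by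
    haveI : Epi ((HF A i).map Tr.mor₁) := (HomologySequence.epi_homologyMap_mor₁_iff Tr hTr i).2
      ((Tr.obj₃.isZero_of_isGE (((d + s : ℕ) : ℤ) + 1) i (by omega)).eq_of_tgt _ _)
    haveI : Mono ((HF A i).map Tr.mor₁) :=
      (HomologySequence.mono_homologyMap_mor₁_iff Tr hTr (i - 1) i (by omega)).2
        ((Tr.obj₃.isZero_of_isGE (((d + s : ℕ) : ℤ) + 1) (i - 1) (by omega)).eq_of_src _ _)
    exact ⟨@asIso _ _ _ _ _ (isIso_of_mono_of_epi ((HF A i).map Tr.mor₁))⟩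
  have h₁ : R Tr.obj₁ := by
    refine induction_homology (P := R) hiso ?_ 0 Tr.obj₁ ?_ ?_ (((d + s : ℕ) : ℤ) + 1)
      (fun i hi => Tr.obj₁.isZero_of_isLE ((d + s : ℕ) : ℤ) i (by omega))
    · rintro T' hT' ⟨K₁, hK₁, h₁⟩ ⟨K₃, hK₃, h₃⟩
      refine ⟨K₁ * K₃, ?_, fun i hi => HomGood.smul_eq_zero hT' (h₁ i hi) (h₃ i hi)⟩
      rw [PrimeSpectrum.zeroLocus_mul]
      exact Set.union_subset hK₁ hK₃
    · intro Z hZ hlowZ
      refine htop Z fun i hi => ⟨fun u v => (Functor.map_isZero (shiftFunctor (Dual.D A) i)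
        (DR39.isZero_of_forall (X := Z) fun l => ?_)).eq_of_tgt u v⟩
      by_cases hl : 0 ≤ l
      · exact hZ l hl
      · obtain ⟨e⟩ := hlowZ l (by omega)
        obtain ⟨e'⟩ := hlow l (by omega)
        exact ((ComplKill.isZero_HF_cech_neg _ ms l (by omega)).of_iso e').of_iso e
    · intro i hi
      obtain ⟨j, rfl⟩ := Int.eq_ofNat_of_zero_le hi
      by_cases hj : j ≤ d + s
      · obtain ⟨K, hK, h⟩ := hmain j hj _ (hlow j (by omega))
        refine ⟨K, hK, fun l hl a ha g => ?_⟩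
        let e := (shiftFunctor (Dual.D A) l).mapIso
            (DR39.singleShiftIso ((HF A j).obj Tr.obj₁) j (-(j : ℤ)) (by omega)).symm ≪≫
          ((shiftFunctorAdd' (Dual.D A) (-(j : ℤ)) l (l - j) (by omega)).app _).symm
        rw [← cancel_mono e.hom, zero_comp, Linear.smul_comp]
        exact h l hl a ha _
      · exact htop _ fun l hl => hhigh _ j (by omega) inferInstance l hl
  obtain ⟨K, hK, h⟩ := h₁
  refine ⟨K, hK, fun i hi a ha g => ?_⟩
  haveI := hhigh Tr.obj₃ _ (by omega) hGE i hi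
  obtain ⟨w, rfl⟩ := HomGood.exact₂ hTr g
    (Subsingleton.elim (α := C ⟶ Tr.obj₃⟦i⟧) _ _)
  exact (Linear.smul_comp _ _ _ a w _).symm.trans ((congrArg (· ≫ Tr.mor₁⟦i⟧') (h i hi a ha w)).trans zero_comp)

end Groth.Agent.LC16.KillHom
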