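import Groth.Agent.LC16.KoszulPairs
import Groth.Agent.LC16.CechPairs
import Groth.Agent.LC16.InjLoc

/-!
For an injective module over a Noetherian ring the Koszul cohomology of the powers is pro-zero
outside the bottom degree.
-/

namespace Groth.Agent.LC16.KoszulExact

universe u

set_option autoImplicit false

open CategoryTheory CategoryTheory.Limits LC15 KoszulPairs

variable {R : Type u} [CommRing R] [IsNoetherianRing R]

theorem exists_boundary (fs : List R) (M : ModuleCat.{u} R) [Module.Injective R M] :
    ∀ (p q r : ℤ), p + 1 = q → q + 1 = r → q + fs.length ≠ 0 → ∀ (n : ℕ) (z : (K fs n M).X q),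
      ((K fs n M).d q r).hom z = 0 →
        ∃ (m : ℕ) (h : n ≤ m) (w : (K fs m M).X p),
          ((K fs m M).d p q).hom w = ((tr fs h M).f q).hom z := by
  induction fs with
  | nil =>
    intro p q r _ _ hq n z _
    have := subsingleton_nil n M (q := q) (by simpa using hq)
    exact ⟨n, le_rfl, 0, (Subsingleton.elim (α := (K [] n M).X q) _ _)⟩
  | cons f fs ih =>
    intro p q r hpq hqr hne n z hz
    simp only [List.length_cons, Nat.cast_add, Nat.cast_one] at hne
    obtain ⟨ha, hb⟩ := (cycle_iff f fs n M q r (r + 1) hqr rfl z).1 hz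
    set a := (pairs f fs n M q r hqr z).1
    set b := (pairs f fs n M q r hqr z).2
    obtain ⟨m, hm, w, hw⟩ := ih q r (r + 1) hqr rfl (by omega) n a ha
    let b' : (K fs m M).X q := f ^ (m - n) • ((tr fs hm M).f q).hom b + f ^ m • w
    have hcomm : ∀ (i j : ℤ) (x : (K fs n M).X i),
        ((K fs m M).d i j).hom (((tr fs hm M).f i).hom x) =
          ((tr fs hm M).f j).hom (((K fs n M).d i j).hom x) := fun i j x =>
      congrArg (fun ψ : (K fs n M).X i ⟶ (K fs m M).X j => ψ.hom x) ((tr fs hm M).comm i j)
    have hb' : ((K fs m M).d q r).hom b' = 0 := by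
      simp only [b', map_add, map_smul, hcomm, hw]
      rw [eq_neg_of_add_eq_zero_right hb, map_neg, map_smul, smul_neg, smul_smul, ← pow_add,
        show m - n + n = m by omega, neg_add_cancel]
    suffices main : ∃ (k : ℕ) (hk : m ≤ k) (u : (K fs k M).X q) (v : (K fs k M).X p),
        ((K fs k M).d q r).hom u = 0 ∧
          f ^ k • u + ((K fs k M).d p q).hom v = f ^ (k - m) • ((tr fs hk M).f q).hom b' by
      obtain ⟨k, hk, u, v, hu, hv⟩ := main
      refine ⟨k, hm.trans hk,
        (pairs f fs k M p q hpq).symm (u - ((tr fs hk M).f q).hom w, v),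
        (pairs f fs k M q r hqr).injective ?_⟩
      rw [pairs_d f fs k M p q r hpq hqr, LinearEquiv.apply_symm_apply,
        pairs_tr f fs (hm.trans hk) M q r hqr z]
      have hw' : ((K fs k M).d q r).hom (((tr fs hk M).f q).hom w) =
          ((tr fs (hm.trans hk) M).f r).hom a := by
        rw [← tr_trans fs hm hk M r a, ← hw]
        exact congrArg (fun ψ : (K fs m M).X q ⟶ (K fs k M).X r => ψ.hom w) ((tr fs hk M).comm q r)
      refine Prod.ext ?_ ?_
      · show -((K fs k M).d q r).hom (u - ((tr fs hk M).f q).hom w) = _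
        rw [map_sub, hu, hw', zero_sub, neg_neg]
      · show f ^ k • (u - ((tr fs hk M).f q).hom w) + ((K fs k M).d p q).hom v =
          f ^ (k - n) • ((tr fs (hm.trans hk) M).f q).hom b
        have e1 : ((tr fs hk M).f q).hom b' = f ^ (m - n) • ((tr fs (hm.trans hk) M).f q).hom b +
            f ^ m • ((tr fs hk M).f q).hom w := by
          simp only [b', map_add, map_smul, tr_trans fs hm hk M q]
        rw [e1, smul_add, smul_smul, smul_smul, ← pow_add, ← pow_add,
          show k - m + (m - n) = k - n by omega, show k - m + m = k by omega] at hv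
        linear_combination (norm := module) hv
    by_cases hq0 : q + (fs.length : ℤ) = 0
    · let I : Ideal R := Ideal.span {x | x ∈ fs}
      have hx : e0 m M fs q hq0 b' ∈ gamma I M :=
        (CechPairs.mem_gamma_span fs _).2 fun g hg =>
          ⟨m, (d_zero_iff fs m M q r hqr hq0 b').1 hb' g hg⟩
      have := injective_gamma I (M : Type u)
      obtain ⟨c, l, hc⟩ := InjLoc.exists_smul_eq (gamma I M) f m ⟨_, hx⟩
      obtain ⟨N, hN⟩ := c.2
      have hk : m ≤ N + l + m := Nat.le_add_left _ _
      have hcN : ∀ g ∈ fs, g ^ (N + l + m) • (c : M) = 0 := fun g hg => by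
        rw [show N + l + m = (l + m) + N by omega, pow_add, mul_smul,
          hN _ (Ideal.pow_mem_pow (Ideal.subset_span (s := {x | x ∈ fs}) hg) N), smul_zero]
      refine ⟨N + l + m, hk, (e0 _ M fs q hq0).symm (c : M), 0, ?_, ?_⟩
      · rw [d_zero_iff fs _ M q r hqr hq0]
        simpa only [LinearEquiv.apply_symm_apply] using hcN
      · refine (e0 _ M fs q hq0).injective ?_
        rw [map_zero, add_zero, map_smul, LinearEquiv.apply_symm_apply, map_smul, e0_tr,
          show N + l + m - m = N + l by omega]
        have := congrArg Subtype.val hc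
        simp only [Submodule.coe_smul] at this
        rw [pow_add, pow_add, mul_smul, mul_smul, mul_smul]
        exact congrArg (fun y => f ^ N • y) this
    · obtain ⟨k, hk, v, hv⟩ := ih p q r hpq hqr hq0 m b' hb'
      refine ⟨k, hk, 0, f ^ (k - m) • v, map_zero _, ?_⟩
      rw [smul_zero, zero_add, map_smul, hv]

end Groth.Agent.LC16.KoszulExact
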