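import Groth.Prelude.Def_ega3
import Groth.Agent.LC16.ConePair
import Groth.Agent.LC15.Gamma
import Mathlib.Algebra.Category.ModuleCat.Abelian

/-!
The Koszul cochain complexes `CohIII.koszulCx` of the powers of a list, elementwise.
-/

namespace Groth.Agent.LC16.KoszulPairs

universe u

set_option autoImplicit false

open CategoryTheory CategoryTheory.Limits ConePair

variable {R : Type u} [CommRing R]

/-- the complex of the `n`-th powers -/
noncomputable abbrev K (fs : List R) (n : ℕ) (M : ModuleCat.{u} R) : Cx R :=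
  CohIII.koszulCx M (fs.map (· ^ n))

/-- transition -/
noncomputable abbrev tr (fs : List R) {n m : ℕ} (h : n ≤ m) (M : ModuleCat.{u} R) :
    K fs n M ⟶ K fs m M := CohIII.koszulTrans M n m h fs

/-- terms of the complex of a longer list as pairs -/
noncomputable def pairs (f : R) (fs : List R) (n : ℕ) (M : ModuleCat.{u} R) (q q₁ : ℤ)
    (h : q + 1 = q₁) :
    ((K (f :: fs) n M).X q : Type u) ≃ₗ[R] ((K fs n M).X q₁ × (K fs n M).X q : Type u) :=
  cp (f ^ n • 𝟙 (K fs n M)) q q₁ h

theorem pairs_d (f : R) (fs : List R) (n : ℕ) (M : ModuleCat.{u} R) (q q₁ q₂ : ℤ) (h : q + 1 = q₁)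
    (h' : q₁ + 1 = q₂) (x : (K (f :: fs) n M).X q) :
    pairs f fs n M q₁ q₂ h' (((K (f :: fs) n M).d q q₁).hom x) =
      (-((K fs n M).d q₁ q₂).hom (pairs f fs n M q q₁ h x).1,
        f ^ n • (pairs f fs n M q q₁ h x).1 +
          ((K fs n M).d q q₁).hom (pairs f fs n M q q₁ h x).2) :=
  Prod.ext (cp_d_fst (f ^ n • 𝟙 (K fs n M)) q q₁ q₂ h h' x)
    (cp_d_snd (f ^ n • 𝟙 (K fs n M)) q q₁ q₂ h h' x)

theorem cycle_iff (f : R) (fs : List R) (n : ℕ) (M : ModuleCat.{u} R) (q q₁ q₂ : ℤ) (h : q + 1 = q₁)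
    (h' : q₁ + 1 = q₂) (x : (K (f :: fs) n M).X q) :
    ((K (f :: fs) n M).d q q₁).hom x = 0 ↔
      ((K fs n M).d q₁ q₂).hom (pairs f fs n M q q₁ h x).1 = 0 ∧
        f ^ n • (pairs f fs n M q q₁ h x).1 +
          ((K fs n M).d q q₁).hom (pairs f fs n M q q₁ h x).2 = 0 := by
  rw [← (pairs f fs n M q₁ q₂ h').map_eq_zero_iff, pairs_d f fs n M q q₁ q₂ h h' x,
    Prod.mk_eq_zero, neg_eq_zero]

theorem pairs_tr (f : R) (fs : List R) {n m : ℕ} (hnm : n ≤ m) (M : ModuleCat.{u} R) (q q₁ : ℤ)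
    (h : q + 1 = q₁) (x : (K (f :: fs) n M).X q) :
    pairs f fs m M q q₁ h (((tr (f :: fs) hnm M).f q).hom x) =
      (((tr fs hnm M).f q₁).hom (pairs f fs n M q q₁ h x).1,
        f ^ (m - n) • ((tr fs hnm M).f q).hom (pairs f fs n M q q₁ h x).2) :=
  cp_map (f ^ n • 𝟙 (K fs n M)) (f ^ m • 𝟙 (K fs m M)) (tr fs hnm M) (f ^ (m - n) • tr fs hnm M) _
    q q₁ h x

/-- the list of length zero: the degree zero term -/
noncomputable def nilEquiv (n : ℕ) (M : ModuleCat.{u} R) :
    ((K [] n M).X 0 : Type u) ≃ₗ[R] M :=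
  (HomologicalComplex.singleObjXSelf (ComplexShape.up ℤ) (0 : ℤ) M).toLinearEquiv

theorem subsingleton_nil (n : ℕ) (M : ModuleCat.{u} R) {q : ℤ} (hq : q ≠ 0) :
    Subsingleton ((K [] n M).X q : Type u) :=
  ModuleCat.subsingleton_of_isZero (HomologicalComplex.isZero_single_obj_X _ _ _ _ hq)

theorem subsingleton_X (fs : List R) (n : ℕ) (M : ModuleCat.{u} R) :
    ∀ q : ℤ, q + fs.length < 0 ∨ 0 < q → Subsingleton ((K fs n M).X q : Type u) := by
  induction fs with
  | nil => exact fun q hq => subsingleton_nil n M (by simp at hq; omega)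
  | cons f fs ih =>
    intro q hq
    simp only [List.length_cons, Nat.cast_add, Nat.cast_one] at hq
    have := ih q (by omega)
    have := ih (q + 1) (by omega)
    exact (pairs f fs n M q (q + 1) rfl).injective.subsingleton

/-- the bottom degree is the module -/
noncomputable def e0 (n : ℕ) (M : ModuleCat.{u} R) : ∀ (fs : List R) (q : ℤ),
    q + fs.length = 0 → (((K fs n M).X q : Type u) ≃ₗ[R] M)
  | [], q, hq =>
      ((K [] n M).XIsoOfEq (show q = 0 by simpa using hq)).toLinearEquiv ≪≫ₗ nilEquiv n M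
  | f :: fs, q, hq =>
      LinearEquiv.ofBijective ((e0 n M fs (q + 1) (by simp at hq; omega)).toLinearMap ∘ₗ
          LinearMap.fst R _ _ ∘ₗ (pairs f fs n M q (q + 1) rfl).toLinearMap)
        ⟨fun x y hxy => (pairs f fs n M q (q + 1) rfl).injective (Prod.ext
            ((e0 n M fs (q + 1) (by simp at hq; omega)).injective hxy)
            ((subsingleton_X fs n M q (by simp at hq; omega)).elim _ _)),
          fun m => ⟨(pairs f fs n M q (q + 1) rfl).symm
            ((e0 n M fs (q + 1) (by simp at hq; omega)).symm m, 0), by simp⟩⟩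

theorem e0_nil (n : ℕ) (M : ModuleCat.{u} R) (hq : (0 : ℤ) + ([] : List R).length = 0)
    (x : (K [] n M).X 0) : e0 n M [] 0 hq x = nilEquiv n M x := rfl

theorem e0_cons (f : R) (fs : List R) (n : ℕ) (M : ModuleCat.{u} R) (q q₁ : ℤ) (h : q + 1 = q₁)
    (hq : q + (f :: fs).length = 0) (hq' : q₁ + fs.length = 0) (x : (K (f :: fs) n M).X q) :
    e0 n M (f :: fs) q hq x = e0 n M fs q₁ hq' (pairs f fs n M q q₁ h x).1 := by
  subst h; rfl

theorem d_zero_iff (fs : List R) (n : ℕ) (M : ModuleCat.{u} R) :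
    ∀ (q q₁ : ℤ) (_ : q + 1 = q₁) (hq : q + fs.length = 0) (x : (K fs n M).X q),
      ((K fs n M).d q q₁).hom x = 0 ↔ ∀ f ∈ fs, f ^ n • e0 n M fs q hq x = 0 := by
  induction fs with
  | nil =>
    intro q q₁ h hq x
    have hq0 : q = 0 := by simpa using hq
    have := subsingleton_nil n M (q := q₁) (by omega)
    exact ⟨fun _ f hf => absurd hf List.not_mem_nil, fun _ => Subsingleton.elim _ _⟩
  | cons f fs ih =>
    intro q q₁ h hq x
    have hq' : q₁ + (fs.length : ℤ) = 0 := by simp at hq; omega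
    have := subsingleton_X fs n M q (Or.inl (by omega))
    rw [cycle_iff f fs n M q q₁ (q₁ + 1) h rfl,
      Subsingleton.elim (pairs f fs n M q q₁ h x).2 0, map_zero, add_zero,
      ih q₁ (q₁ + 1) rfl hq', List.forall_mem_cons, e0_cons f fs n M q q₁ h hq hq', and_comm,
      ← map_smul, LinearEquiv.map_eq_zero_iff]

theorem e0_tr (fs : List R) {n m : ℕ} (hnm : n ≤ m) (M : ModuleCat.{u} R) :
    ∀ (q : ℤ) (hq : q + fs.length = 0) (x : (K fs n M).X q),
      e0 m M fs q hq (((tr fs hnm M).f q).hom x) = e0 n M fs q hq x := by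
  induction fs with
  | nil =>
    intro q hq x
    obtain rfl : q = 0 := by simpa using hq
    rfl
  | cons f fs ih =>
    intro q hq x
    have hq' : q + 1 + (fs.length : ℤ) = 0 := by simp at hq; omega
    rw [e0_cons f fs m M q (q + 1) rfl hq hq', e0_cons f fs n M q (q + 1) rfl hq hq',
      pairs_tr f fs hnm M q (q + 1) rfl]
    exact ih _ hq' _

theorem tr_refl (fs : List R) (n : ℕ) (M : ModuleCat.{u} R) :
    ∀ (q : ℤ) (x : (K fs n M).X q), ((tr fs (le_refl n) M).f q).hom x = x := by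
  induction fs with
  | nil => exact fun q x => rfl
  | cons f fs ih =>
    intro q x
    refine (pairs f fs n M q (q + 1) rfl).injective ?_
    rw [pairs_tr, ih, ih, Nat.sub_self, pow_zero, one_smul]

theorem tr_trans (fs : List R) {n m k : ℕ} (h : n ≤ m) (h' : m ≤ k) (M : ModuleCat.{u} R) :
    ∀ (q : ℤ) (x : (K fs n M).X q), ((tr fs h' M).f q).hom (((tr fs h M).f q).hom x) =
      ((tr fs (h.trans h') M).f q).hom x := by
  induction fs with
  | nil => exact fun q x => rfl
  | cons f fs ih =>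
    intro q x
    refine (pairs f fs k M q (q + 1) rfl).injective ?_
    rw [pairs_tr, pairs_tr, pairs_tr]
    refine Prod.ext (ih _ _) ?_
    show f ^ (k - m) • ((tr fs h' M).f q).hom (f ^ (m - n) • _) = _
    rw [map_smul, ih, smul_smul, ← pow_add, show k - m + (m - n) = k - n by omega]

/-- functoriality in the module -/
noncomputable def Kmap (n : ℕ) {M N : ModuleCat.{u} R} (g : M →ₗ[R] N) :
    ∀ fs : List R, K fs n M ⟶ K fs n N
  | [] => (HomologicalComplex.single (ModuleCat.{u} R) (ComplexShape.up ℤ) 0).map (ModuleCat.ofHom g)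
  | f :: fs => CochainComplex.mappingCone.map (f ^ n • 𝟙 (K fs n M)) (f ^ n • 𝟙 (K fs n N))
      (Kmap n g fs) (Kmap n g fs) (by simp)

theorem pairs_Kmap (f : R) (fs : List R) (n : ℕ) {M N : ModuleCat.{u} R} (g : M →ₗ[R] N) (q q₁ : ℤ)
    (h : q + 1 = q₁) (x : (K (f :: fs) n M).X q) :
    pairs f fs n N q q₁ h (((Kmap n g (f :: fs)).f q).hom x) =
      (((Kmap n g fs).f q₁).hom (pairs f fs n M q q₁ h x).1,
        ((Kmap n g fs).f q).hom (pairs f fs n M q q₁ h x).2) :=
  cp_map (f ^ n • 𝟙 (K fs n M)) (f ^ n • 𝟙 (K fs n N)) (Kmap n g fs) (Kmap n g fs) _ q q₁ h x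

theorem e0_Kmap (fs : List R) (n : ℕ) {M N : ModuleCat.{u} R} (g : M →ₗ[R] N) :
    ∀ (q : ℤ) (hq : q + fs.length = 0) (x : (K fs n M).X q),
      e0 n N fs q hq (((Kmap n g fs).f q).hom x) = g (e0 n M fs q hq x) := by
  induction fs with
  | nil =>
    intro q hq x
    obtain rfl : q = 0 := by simpa using hq
    have := congrArg (fun ψ => ψ.hom x)
      (show ((HomologicalComplex.single (ModuleCat.{u} R) (ComplexShape.up ℤ) 0).map
            (ModuleCat.ofHom g)).f 0 ≫
          (HomologicalComplex.singleObjXSelf (ComplexShape.up ℤ) (0 : ℤ) N).hom =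
          (HomologicalComplex.singleObjXSelf (ComplexShape.up ℤ) (0 : ℤ) M).hom ≫
            ModuleCat.ofHom g by
        rw [HomologicalComplex.single_map_f_self]
        simp [HomologicalComplex.singleObjXSelf])
    exact this
  | cons f fs ih =>
    intro q hq x
    have hq' : q + 1 + (fs.length : ℤ) = 0 := by simp at hq; omega
    rw [e0_cons f fs n N q (q + 1) rfl hq hq', e0_cons f fs n M q (q + 1) rfl hq hq',
      pairs_Kmap f fs n g q (q + 1) rfl]
    exact ih _ hq' _

theorem Kmap_tr (fs : List R) {n m : ℕ} (h : n ≤ m) {M N : ModuleCat.{u} R} (g : M →ₗ[R] N) :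
    tr fs h M ≫ Kmap m g fs = Kmap n g fs ≫ tr fs h N := by
  suffices ∀ (q : ℤ) (x : (K fs n M).X q), ((Kmap m g fs).f q).hom (((tr fs h M).f q).hom x) =
      ((tr fs h N).f q).hom (((Kmap n g fs).f q).hom x) by
    apply HomologicalComplex.hom_ext
    intro q
    ext x
    exact this q x
  induction fs with
  | nil => exact fun q x => rfl
  | cons f fs ih =>
    intro q x
    refine (pairs f fs m N q (q + 1) rfl).injective ?_
    rw [pairs_Kmap, pairs_tr, pairs_tr, pairs_Kmap]
    refine Prod.ext (ih _ _) ?_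
    show ((Kmap m g fs).f q).hom (f ^ (m - n) • _) = _
    rw [map_smul, ih]

variable {M N L : ModuleCat.{u} R} (a : M →ₗ[R] N) (b : N →ₗ[R] L)

theorem degreewise (ha : Function.Injective a) (hab : Function.Exact a b)
    (hb : Function.Surjective b) (n : ℕ) (fs : List R) :
    ∀ q : ℤ, Function.Injective ((Kmap n a fs).f q).hom ∧
      Function.Exact ((Kmap n a fs).f q).hom ((Kmap n b fs).f q).hom ∧
      Function.Surjective ((Kmap n b fs).f q).hom := by
  induction fs with
  | nil =>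
    intro q
    rcases eq_or_ne q 0 with rfl | hq
    · have hA : ∀ x, nilEquiv n N (((Kmap n a []).f 0).hom x) = a (nilEquiv n M x) :=
        fun x => e0_Kmap [] n a 0 (by simp) x
      have hB : ∀ x, nilEquiv n L (((Kmap n b []).f 0).hom x) = b (nilEquiv n N x) :=
        fun x => e0_Kmap [] n b 0 (by simp) x
      refine ⟨fun x y hxy => ?_, fun y => ⟨fun hy => ?_, ?_⟩, fun z => ?_⟩
      · exact (nilEquiv n M).injective (ha (by rw [← hA, ← hA, hxy]))
      · obtain ⟨m, hm⟩ := (hab (nilEquiv n N y)).1 (by rw [← hB, hy, map_zero])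
        exact ⟨(nilEquiv n M).symm m, (nilEquiv n N).injective (by
          rw [hA, LinearEquiv.apply_symm_apply, hm])⟩
      · rintro ⟨x, rfl⟩
        exact (nilEquiv n L).injective (by rw [hB, hA, hab.apply_apply_eq_zero, map_zero])
      · obtain ⟨y, hy⟩ := hb (nilEquiv n L z)
        exact ⟨(nilEquiv n N).symm y, (nilEquiv n L).injective (by
          rw [hB, LinearEquiv.apply_symm_apply, hy])⟩
    · have := subsingleton_nil n M hq
      have := subsingleton_nil n N hq
      have := subsingleton_nil n L hq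
      exact ⟨fun x y _ => Subsingleton.elim x y,
        fun y => ⟨fun _ => ⟨0, Subsingleton.elim _ _⟩, fun _ => Subsingleton.elim _ _⟩,
        fun z => ⟨0, Subsingleton.elim _ _⟩⟩
  | cons f fs ih =>
    intro q
    obtain ⟨h1, h2, h3⟩ := ih (q + 1)
    obtain ⟨k1, k2, k3⟩ := ih q
    have pA := fun x => pairs_Kmap f fs n a q (q + 1) rfl x
    have pB := fun x => pairs_Kmap f fs n b q (q + 1) rfl x
    refine ⟨fun x y hxy => ?_, fun y => ⟨fun hy => ?_, ?_⟩, fun z => ?_⟩
    · have := congrArg (pairs f fs n N q (q + 1) rfl) hxy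
      rw [pA, pA, Prod.ext_iff] at this
      exact (pairs f fs n M q (q + 1) rfl).injective (Prod.ext (h1 this.1) (k1 this.2))
    · have := congrArg (pairs f fs n L q (q + 1) rfl) hy
      rw [pB, map_zero, Prod.mk_eq_zero] at this
      obtain ⟨u, hu⟩ := (h2 _).1 this.1
      obtain ⟨v, hv⟩ := (k2 _).1 this.2
      exact ⟨(pairs f fs n M q (q + 1) rfl).symm (u, v),
        (pairs f fs n N q (q + 1) rfl).injective (by
          rw [pA, LinearEquiv.apply_symm_apply, hu, hv])⟩
    · rintro ⟨x, rfl⟩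
      refine (pairs f fs n L q (q + 1) rfl).injective ?_
      rw [pB, pA, map_zero, Prod.mk_eq_zero]
      exact ⟨h2.apply_apply_eq_zero _, k2.apply_apply_eq_zero _⟩
    · obtain ⟨u, hu⟩ := h3 (pairs f fs n L q (q + 1) rfl z).1
      obtain ⟨v, hv⟩ := k3 (pairs f fs n L q (q + 1) rfl z).2
      exact ⟨(pairs f fs n N q (q + 1) rfl).symm (u, v),
        (pairs f fs n L q (q + 1) rfl).injective (by
          rw [pB, LinearEquiv.apply_symm_apply, hu, hv])⟩

end Groth.Agent.LC16.KoszulPairs
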