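import Groth.Agent.LC16.CocycleClass
import Groth.Agent.LC15.Cd
import Mathlib.RingTheory.Filtration

/-!
The Mayer–Vietoris sequence for local cohomology.
-/

namespace Groth.Agent.LC16.MayerVietoris

universe u

set_option autoImplicit false

open CategoryTheory LC15 CocycleClass

variable {R : Type u} [CommRing R] [IsNoetherianRing R] (A B : Ideal R)

lemma exists_pow_inf_le (k : ℕ) : ∃ t : ℕ, A ^ t ⊓ B ^ t ≤ (A ⊓ B) ^ k := by
  obtain ⟨c, hc⟩ := A.exists_pow_inf_eq_pow_smul (M := R) (B ^ k)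
  refine ⟨c + k, le_trans (inf_le_inf le_rfl (Ideal.pow_le_pow_right (Nat.le_add_left k c))) ?_⟩
  have h := hc (c + k) (Nat.le_add_right c k)
  simp only [smul_eq_mul, Ideal.mul_top, Nat.add_sub_cancel_left] at h
  rw [h]
  calc A ^ k * (A ^ c ⊓ B ^ k) ≤ A ^ k * B ^ k := Ideal.mul_mono le_rfl inf_le_right
    _ = (A * B) ^ k := (mul_pow A B k).symm
    _ ≤ (A ⊓ B) ^ k := Ideal.pow_right_mono Ideal.mul_le_inf k

/-- torsion for an intersection in an injective module decomposes -/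
lemma exists_decomp {E : Type u} [AddCommGroup E] [Module R E] [Module.Injective R E] {e : E}
    (he : e ∈ gamma (A ⊓ B) E) : ∃ a ∈ gamma A E, ∃ b ∈ gamma B E, e = a + b := by
  obtain ⟨n, hn⟩ := he
  obtain ⟨t, ht⟩ := exists_pow_inf_le A B n
  let f : (R ⧸ (A ^ t ⊓ B ^ t : Ideal R)) →ₗ[R] (R ⧸ A ^ t) × (R ⧸ B ^ t) :=
    (A ^ t ⊓ B ^ t : Ideal R).liftQ ((A ^ t).mkQ.prod (B ^ t).mkQ) (by
      rw [LinearMap.ker_prod, Submodule.ker_mkQ, Submodule.ker_mkQ])
  have hf : Function.Injective f := by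
    rw [← LinearMap.ker_eq_bot, Submodule.ker_liftQ, LinearMap.ker_prod, Submodule.ker_mkQ,
      Submodule.ker_mkQ, Submodule.mkQ_map_self]
  obtain ⟨h, hh⟩ := Module.Injective.out f hf
    ((A ^ t ⊓ B ^ t : Ideal R).liftQ (LinearMap.toSpanSingleton R E e) fun r hr => hn r (ht hr))
  refine ⟨h (Submodule.Quotient.mk 1, 0), ⟨t, fun a ha => ?_⟩,
    h (0, Submodule.Quotient.mk 1), ⟨t, fun b hb => ?_⟩, ?_⟩
  · rw [← map_smul, Prod.smul_mk, smul_zero, ← Submodule.Quotient.mk_smul, smul_eq_mul, mul_one,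
      (Submodule.Quotient.mk_eq_zero _).2 ha]
    exact map_zero h
  · rw [← map_smul, Prod.smul_mk, smul_zero, ← Submodule.Quotient.mk_smul, smul_eq_mul, mul_one,
      (Submodule.Quotient.mk_eq_zero _).2 hb]
    exact map_zero h
  · rw [← map_add, Prod.mk_add_mk, add_zero, zero_add]
    exact ((hh (Submodule.Quotient.mk 1)).trans (one_smul R e)).symm

variable {M : Type u} [AddCommGroup M] [Module R M] (J : InjectiveResolution (ModuleCat.of R M))

/-- the differential -/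
noncomputable abbrev d (i : ℕ) : J.cocomplex.X i →ₗ[R] J.cocomplex.X (i + 1) :=
  (J.cocomplex.d i (i + 1)).hom

omit [IsNoetherianRing R] in
lemma d_d (i : ℕ) (x : J.cocomplex.X i) : d J (i + 1) (d J i x) = 0 :=
  congr($(J.cocomplex.d_comp_d i (i + 1) (i + 1 + 1)).hom x)

lemma injective_X (i : ℕ) : Module.Injective R (J.cocomplex.X i) :=
  haveI : Injective (ModuleCat.of R (J.cocomplex.X i)) := J.injective i
  Module.injective_module_of_injective_object R _

lemma exists_decomp' (i : ℕ) (z : Z J (A ⊓ B) i) :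
    ∃ a ∈ gamma A (J.cocomplex.X i), ∃ b ∈ gamma B (J.cocomplex.X i), z.1 = a + b :=
  haveI := injective_X J i
  exists_decomp A B z.2.1

/-- the connecting relation -/
def Rel (i : ℕ) (y : LocCoh.H (A ⊓ B) i M) (w : LocCoh.H (A ⊔ B) (i + 1) M) : Prop :=
  ∃ (z : Z J (A ⊓ B) i) (c : Z J (A ⊔ B) (i + 1)) (a b : J.cocomplex.X i),
    a ∈ gamma A (J.cocomplex.X i) ∧ b ∈ gamma B (J.cocomplex.X i) ∧ z.1 = a + b ∧
      c.1 = d J i a ∧ clsL J (A ⊓ B) i z = y ∧ clsL J (A ⊔ B) (i + 1) c = w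

omit [IsNoetherianRing R] in
lemma mem_Z_sup (i : ℕ) (z : Z J (A ⊓ B) i) {a b : J.cocomplex.X i}
    (ha : a ∈ gamma A (J.cocomplex.X i)) (hb : b ∈ gamma B (J.cocomplex.X i)) (h : z.1 = a + b) :
    d J i a ∈ Z J (A ⊔ B) (i + 1) := by
  refine ⟨(mem_gamma_sup A B).2 ⟨map_mem_gamma _ ha, ?_⟩, LinearMap.mem_ker.mpr (d_d J i a)⟩
  have h0 : d J i a + d J i b = 0 := by
    rw [← map_add, ← h]
    exact LinearMap.mem_ker.mp z.2.2
  rw [eq_neg_of_add_eq_zero_left h0]
  exact neg_mem (map_mem_gamma _ hb)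

lemma rel_total (i : ℕ) (y : LocCoh.H (A ⊓ B) i M) : ∃ w, Rel A B J i y w := by
  obtain ⟨z, rfl⟩ := clsL_surjective J (A ⊓ B) i y
  obtain ⟨a, ha, b, hb, h⟩ := exists_decomp' A B J i z
  exact ⟨_, z, ⟨_, mem_Z_sup A B J i z ha hb h⟩, a, b, ha, hb, h, rfl, rfl, rfl⟩

lemma rel_unique (i : ℕ) {y : LocCoh.H (A ⊓ B) i M} {w w' : LocCoh.H (A ⊔ B) (i + 1) M}
    (h : Rel A B J i y w) (h' : Rel A B J i y w') : w = w' := by
  obtain ⟨z, c, a, b, ha, hb, hz, hc, rfl, rfl⟩ := h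
  obtain ⟨z', c', a', b', ha', hb', hz', hc', hy, rfl⟩ := h'
  rw [← sub_eq_zero, ← map_sub, clsL_eq_zero_iff]
  rw [eq_comm, ← sub_eq_zero, ← map_sub, clsL_eq_zero_iff] at hy
  have key : ∀ p q : J.cocomplex.X i, p ∈ gamma A (J.cocomplex.X i) → q ∈ gamma B (J.cocomplex.X i) →
      d J i p = 0 → z.1 - z'.1 = p + q →
      IsBd J (A ⊔ B) (i + 1) (c - c' : Z J (A ⊔ B) (i + 1)).1 := by
    intro p q hp hq hdp e
    refine ⟨a - a' - p, (mem_gamma_sup A B).2 ⟨sub_mem (sub_mem ha ha') hp, ?_⟩, ?_⟩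
    · have : a - a' - p = q - (b - b') := by
        rw [hz, hz'] at e
        linear_combination (norm := abel) e
      rw [this]
      exact sub_mem hq (sub_mem hb hb')
    · change d J i (a - a' - p) = c.1 - c'.1
      rw [map_sub, map_sub, hdp, sub_zero, hc, hc']
  rcases i with - | j
  · exact key 0 0 (zero_mem _) (zero_mem _) (map_zero _) (by rw [add_zero]; exact hy)
  · obtain ⟨e, he, hde⟩ := hy
    haveI := injective_X J j
    obtain ⟨p, hp, q, hq, rfl⟩ := exists_decomp A B he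
    refine key (d J j p) (d J j q) (map_mem_gamma _ hp) (map_mem_gamma _ hq) (d_d J j p) ?_
    rw [← map_add]
    exact hde.symm

omit [IsNoetherianRing R] in
lemma rel_add (i : ℕ) {y y' : LocCoh.H (A ⊓ B) i M} {w w' : LocCoh.H (A ⊔ B) (i + 1) M}
    (h : Rel A B J i y w) (h' : Rel A B J i y' w') : Rel A B J i (y + y') (w + w') := by
  obtain ⟨z, c, a, b, ha, hb, hz, hc, rfl, rfl⟩ := h
  obtain ⟨z', c', a', b', ha', hb', hz', hc', rfl, rfl⟩ := h'
  refine ⟨z + z', c + c', a + a', b + b', add_mem ha ha', add_mem hb hb', ?_, ?_,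
    map_add _ _ _, map_add _ _ _⟩
  · rw [Submodule.coe_add, hz, hz', add_add_add_comm]
  · rw [Submodule.coe_add, hc, hc', map_add]

omit [IsNoetherianRing R] in
lemma rel_smul (i : ℕ) (r : R) {y : LocCoh.H (A ⊓ B) i M} {w : LocCoh.H (A ⊔ B) (i + 1) M}
    (h : Rel A B J i y w) : Rel A B J i (r • y) (r • w) := by
  obtain ⟨z, c, a, b, ha, hb, hz, hc, rfl, rfl⟩ := h
  refine ⟨r • z, r • c, r • a, r • b, Submodule.smul_mem _ r ha, Submodule.smul_mem _ r hb, ?_, ?_,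
    map_smul _ _ _, map_smul _ _ _⟩
  · rw [Submodule.coe_smul, hz, smul_add]
  · rw [Submodule.coe_smul, hc, map_smul]

/-- the connecting map -/
noncomputable def δ (i : ℕ) : LocCoh.H (A ⊓ B) i M →ₗ[R] LocCoh.H (A ⊔ B) (i + 1) M where
  toFun y := (rel_total A B J i y).choose
  map_add' y y' := rel_unique A B J i (rel_total A B J i (y + y')).choose_spec
    (rel_add A B J i (rel_total A B J i y).choose_spec (rel_total A B J i y').choose_spec)
  map_smul' r y := rel_unique A B J i (rel_total A B J i (r • y)).choose_spec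
    (rel_smul A B J i r (rel_total A B J i y).choose_spec)

lemma δ_clsL (i : ℕ) (z : Z J (A ⊓ B) i) {a b : J.cocomplex.X i}
    (ha : a ∈ gamma A (J.cocomplex.X i)) (hb : b ∈ gamma B (J.cocomplex.X i)) (h : z.1 = a + b) :
    δ A B J i (clsL J (A ⊓ B) i z) =
      clsL J (A ⊔ B) (i + 1) ⟨_, mem_Z_sup A B J i z ha hb h⟩ :=
  rel_unique A B J i (rel_total A B J i _).choose_spec
    ⟨z, ⟨_, mem_Z_sup A B J i z ha hb h⟩, a, b, ha, hb, h, rfl, rfl, rfl⟩

/-- comparison maps -/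
noncomputable abbrev res {K K' : Ideal R} (h : K ≤ K') (i : ℕ) :
    LocCoh.H K' i M →ₗ[R] LocCoh.H K i M :=
  ((Dual2.HmapOfLE h i).app (ModuleCat.of R M)).hom

include J in
omit [IsNoetherianRing R] in
lemma res_pair_injective :
    Function.Injective (LinearMap.prod (res (M := M) (le_sup_left : A ≤ A ⊔ B) 0)
      (res (le_sup_right : B ≤ A ⊔ B) 0)) := by
  refine (injective_iff_map_eq_zero _).2 fun y hy => ?_
  obtain ⟨z, rfl⟩ := clsL_surjective J (A ⊔ B) 0 y
  have h1 : clsL J A 0 ⟨z.1, Z_antitone J le_sup_left 0 z.2⟩ = 0 :=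
    (HmapOfLE_clsL J le_sup_left 0 z).symm.trans (congrArg Prod.fst hy)
  rw [clsL_eq_zero_iff] at h1
  rw [show z = 0 from Subtype.ext h1, map_zero]

lemma ker_pair (i : ℕ) :
    LinearMap.ker (LinearMap.prod (res (M := M) (le_sup_left : A ≤ A ⊔ B) (i + 1))
      (res (le_sup_right : B ≤ A ⊔ B) (i + 1))) = LinearMap.range (δ A B J i) := by
  refine le_antisymm (fun y hy => ?_) ?_
  · obtain ⟨c, rfl⟩ := clsL_surjective J (A ⊔ B) (i + 1) y
    have h1 : clsL J A (i + 1) ⟨c.1, Z_antitone J le_sup_left _ c.2⟩ = 0 :=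
      (HmapOfLE_clsL J le_sup_left _ c).symm.trans (congrArg Prod.fst hy)
    have h2 : clsL J B (i + 1) ⟨c.1, Z_antitone J le_sup_right _ c.2⟩ = 0 :=
      (HmapOfLE_clsL J le_sup_right _ c).symm.trans (congrArg Prod.snd hy)
    rw [clsL_eq_zero_iff] at h1 h2
    obtain ⟨a, ha, hda⟩ := h1
    obtain ⟨b, hb, hdb⟩ := h2
    have hz : a - b ∈ Z J (A ⊓ B) i := by
      refine ⟨sub_mem (gamma_antitone inf_le_left _ ha) (gamma_antitone inf_le_right _ hb),
        LinearMap.mem_ker.mpr ?_⟩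
      rw [map_sub, hda, hdb, sub_self]
    refine ⟨clsL J (A ⊓ B) i ⟨a - b, hz⟩, ?_⟩
    rw [δ_clsL A B J i ⟨a - b, hz⟩ ha (neg_mem hb) (sub_eq_add_neg a b)]
    exact congrArg _ (Subtype.ext hda)
  · rintro _ ⟨y, rfl⟩
    obtain ⟨z, rfl⟩ := clsL_surjective J (A ⊓ B) i y
    obtain ⟨a, ha, b, hb, h⟩ := exists_decomp' A B J i z
    rw [LinearMap.mem_ker, δ_clsL A B J i z ha hb h]
    refine Prod.ext ?_ ?_
    · refine (HmapOfLE_clsL J le_sup_left _ _).trans ((clsL_eq_zero_iff J A _ _).2 ⟨a, ha, rfl⟩)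
    · refine (HmapOfLE_clsL J le_sup_right _ _).trans
        ((clsL_eq_zero_iff J B _ _).2 ⟨-b, neg_mem hb, ?_⟩)
      have h0 : d J i a + d J i b = 0 := by
        rw [← map_add, ← h]
        exact LinearMap.mem_ker.mp z.2.2
      rw [map_neg]
      exact neg_eq_of_add_eq_zero_left h0

/-- difference of the two comparison maps -/
noncomputable abbrev diffMap (i : ℕ) :
    LocCoh.H A i M × LocCoh.H B i M →ₗ[R] LocCoh.H (A ⊓ B) i M :=
  res (inf_le_left : A ⊓ B ≤ A) i ∘ₗ LinearMap.fst R (LocCoh.H A i M) (LocCoh.H B i M) -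
    res (inf_le_right : A ⊓ B ≤ B) i ∘ₗ LinearMap.snd R (LocCoh.H A i M) (LocCoh.H B i M)

omit [IsNoetherianRing R] in
lemma diffMap_clsL (i : ℕ) (a : Z J A i) (b : Z J B i) :
    diffMap A B i (clsL J A i a, clsL J B i b) =
      clsL J (A ⊓ B) i (⟨a.1, Z_antitone J inf_le_left i a.2⟩ - ⟨b.1, Z_antitone J inf_le_right i b.2⟩) := by
  rw [map_sub]
  exact congrArg₂ (· - ·) (HmapOfLE_clsL J inf_le_left i a) (HmapOfLE_clsL J inf_le_right i b)

include J in
lemma ker_diff (i : ℕ) :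
    LinearMap.ker (diffMap (M := M) A B i) =
      LinearMap.range (LinearMap.prod (res (M := M) (le_sup_left : A ≤ A ⊔ B) i)
        (res (le_sup_right : B ≤ A ⊔ B) i)) := by
  refine le_antisymm ?_ ?_
  · rintro ⟨x, y⟩ hxy
    obtain ⟨a, rfl⟩ := clsL_surjective J A i x
    obtain ⟨b, rfl⟩ := clsL_surjective J B i y
    rw [LinearMap.mem_ker, diffMap_clsL, clsL_eq_zero_iff] at hxy
    have key : ∀ p q : J.cocomplex.X i, p ∈ gamma A (J.cocomplex.X i) →
        q ∈ gamma B (J.cocomplex.X i) → d J i p = 0 → a.1 - b.1 = p + q →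
        IsBd J A i p → IsBd J B i q →
        (clsL J A i a, clsL J B i b) ∈ LinearMap.range
          (LinearMap.prod (res (M := M) (le_sup_left : A ≤ A ⊔ B) i)
            (res (le_sup_right : B ≤ A ⊔ B) i)) := by
      intro p q hp hq hdp e hbp hbq
      have hc : a.1 - p ∈ Z J (A ⊔ B) i := by
        refine ⟨(mem_gamma_sup A B).2 ⟨sub_mem a.2.1 hp, ?_⟩, ?_⟩
        · rw [show a.1 - p = b.1 + q by linear_combination (norm := abel) e]
          exact add_mem b.2.1 hq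
        · refine LinearMap.mem_ker.mpr ?_
          rw [map_sub, LinearMap.mem_ker.mp a.2.2, hdp, sub_zero]
      have hpZ : p ∈ Z J A i := ⟨hp, LinearMap.mem_ker.mpr hdp⟩
      have hqZ : q ∈ Z J B i := ⟨hq, by
        have h1 : q = a.1 - b.1 - p := by linear_combination (norm := abel) -e
        refine LinearMap.mem_ker.mpr ?_
        rw [h1, map_sub, map_sub, LinearMap.mem_ker.mp a.2.2,
          LinearMap.mem_ker.mp b.2.2, hdp, sub_zero, sub_zero]⟩
      refine ⟨clsL J (A ⊔ B) i ⟨_, hc⟩, Prod.ext ?_ ?_⟩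
      · refine (HmapOfLE_clsL J le_sup_left i _).trans ?_
        rw [show (⟨a.1 - p, Z_antitone J le_sup_left i hc⟩ : Z J A i) = a - ⟨p, hpZ⟩ from rfl,
          map_sub, (clsL_eq_zero_iff J A i ⟨p, hpZ⟩).2 hbp, sub_zero]
      · refine (HmapOfLE_clsL J le_sup_right i _).trans ?_
        rw [show (⟨a.1 - p, Z_antitone J le_sup_right i hc⟩ : Z J B i) = b + ⟨q, hqZ⟩ from
          Subtype.ext (show a.1 - p = b.1 + q by linear_combination (norm := abel) e),
          map_add, (clsL_eq_zero_iff J B i ⟨q, hqZ⟩).2 hbq, add_zero]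
    rcases i with - | j
    · exact key 0 0 (zero_mem _) (zero_mem _) (map_zero _) (by rw [add_zero]; exact hxy) rfl rfl
    · obtain ⟨e, he, hde⟩ := hxy
      haveI := injective_X J j
      obtain ⟨p, hp, q, hq, rfl⟩ := exists_decomp A B he
      refine key (d J j p) (d J j q) (map_mem_gamma _ hp) (map_mem_gamma _ hq) (d_d J j p) ?_
        ⟨p, hp, rfl⟩ ⟨q, hq, rfl⟩
      rw [← map_add]
      exact hde.symm
  · rintro _ ⟨y, rfl⟩
    obtain ⟨c, rfl⟩ := clsL_surjective J (A ⊔ B) i y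
    rw [LinearMap.mem_ker]
    refine (congrArg (diffMap A B i) (Prod.ext
      (y := (clsL J A i ⟨c.1, Z_antitone J le_sup_left i c.2⟩,
        clsL J B i ⟨c.1, Z_antitone J le_sup_right i c.2⟩))
      (HmapOfLE_clsL J le_sup_left i c) (HmapOfLE_clsL J le_sup_right i c))).trans ?_
    rw [diffMap_clsL, sub_self, map_zero]

lemma ker_δ (i : ℕ) : LinearMap.ker (δ A B J i) = LinearMap.range (diffMap (M := M) A B i) := by
  refine le_antisymm (fun y hy => ?_) ?_
  · obtain ⟨z, rfl⟩ := clsL_surjective J (A ⊓ B) i y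
    obtain ⟨a, ha, b, hb, h⟩ := exists_decomp' A B J i z
    rw [LinearMap.mem_ker, δ_clsL A B J i z ha hb h, clsL_eq_zero_iff] at hy
    obtain ⟨c, hc, hdc⟩ := hy
    obtain ⟨hcA, hcB⟩ := (mem_gamma_sup A B).1 hc
    have hA : a - c ∈ Z J A i := ⟨sub_mem ha hcA, LinearMap.mem_ker.mpr (by
      rw [map_sub, hdc, sub_self])⟩
    have hB : -(b + c) ∈ Z J B i := ⟨neg_mem (add_mem hb hcB), LinearMap.mem_ker.mpr (by
      rw [map_neg, map_add, hdc, ← map_add, add_comm b a, ← h,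
        LinearMap.mem_ker.mp z.2.2, neg_zero])⟩
    refine ⟨(clsL J A i ⟨_, hA⟩, clsL J B i ⟨_, hB⟩), ?_⟩
    rw [diffMap_clsL]
    exact congrArg _ (Subtype.ext (show a - c - -(b + c) = z.1 by rw [h]; abel))
  · rintro _ ⟨⟨x, y⟩, rfl⟩
    obtain ⟨a, rfl⟩ := clsL_surjective J A i x
    obtain ⟨b, rfl⟩ := clsL_surjective J B i y
    rw [LinearMap.mem_ker, diffMap_clsL, δ_clsL A B J i _ a.2.1 (neg_mem b.2.1)
      (show a.1 - b.1 = a.1 + -b.1 from sub_eq_add_neg _ _), clsL_eq_zero_iff]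
    exact ⟨0, zero_mem _, (map_zero _).trans (LinearMap.mem_ker.mp a.2.2).symm⟩

end Groth.Agent.LC16.MayerVietoris
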