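import Groth.Agent.LC16.HLPrime
import Groth.Agent.LC16.CechBoot
import Groth.Agent.LC16.LocBC
import Groth.Agent.DR40.BCAdj
import Groth.Agent.DR39.Existence
import Groth.Agent.S8934

/-!
Maps from the Cech complex of `I` to modules killed by primes.
-/

set_option autoImplicit false
set_option linter.style.haveILetI false
set_option maxHeartbeats 1000000

noncomputable section

universe u

open CategoryTheory CategoryTheory.Limits CategoryTheory.Pretriangulated
attribute [local instance] HasDerivedCategory.standard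

namespace Groth.Agent.LC16.PrimeVanish

open Groth.Agent.DR39 Groth.Agent.LC16.CechTri

variable {A : Type u} [CommRing A] [IsNoetherianRing A] [IsLocalRing A] (I : Ideal A) [IsAdicComplete I A]

/-- modules killed by a prime -/
theorem subsingleton_hom_of_prime (fs : List A) (hfs : Ideal.span {x | x ∈ fs} = I)
    (Q r : PrimeSpectrum A) (hQr : Q ≤ r) (hIr : I ≤ r.asIdeal)
    (hr : r.asIdeal ≠ IsLocalRing.maximalIdeal A) (n : ℕ)
    (hn : ringKrullDim (A ⧸ Q.asIdeal) ≤ ((n : ℕ∞) : WithBot ℕ∞))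
    (N : Type u) [AddCommGroup N] [Module A N] (hN : ∀ a ∈ Q.asIdeal, ∀ x : N, a • x = 0) :
    Subsingleton (XC (ModuleCat.of A A) fs ⟶ (Dual.inD A N)⟦-(n : ℤ)⟧) := by
  let B := A ⧸ Q.asIdeal
  let φ : A →+* B := Ideal.Quotient.mk Q.asIdeal
  haveI : IsLocalRing B := IsLocalRing.of_surjective' φ Ideal.Quotient.mk_surjective
  haveI hcB : IsAdicComplete (I.map φ) B :=
    (IsAdicComplete.map_algebraMap_iff (S := A ⧸ Q.asIdeal) I B).2 (AdicC27.isAdicComplete_of_finite B)
  obtain ⟨d', hd'⟩ : ∃ d' : ℕ, ringKrullDim B = (d' : WithBot ℕ∞) := by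
    generalize hD : ringKrullDim B = D at hn
    induction D using WithBot.recBotCoe with
    | bot =>
      have h0 := ringKrullDim_nonneg_of_nontrivial (R := B)
      rw [hD] at h0
      simp at h0
    | coe D =>
      have h1 : D ≤ (n : ℕ∞) := WithBot.coe_le_coe.1 hn
      lift D to ℕ using ne_top_of_le_ne_top (ENat.natCast_ne_top n) h1
      exact ⟨D, rfl⟩
  have hd'n : d' ≤ n := by
    rw [hd'] at hn
    exact_mod_cast hn
  -- the image of the bigger prime
  let r' : PrimeSpectrum B := ⟨r.asIdeal.map φ, Ideal.map_isPrime_of_surjective Ideal.Quotient.mk_surjective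
    (by rw [Ideal.mk_ker]; exact hQr)⟩
  have hr' : r'.asIdeal ≠ IsLocalRing.maximalIdeal B := by
    intro h
    apply hr
    have h2 := congrArg (Ideal.comap φ) h
    rw [Ideal.comap_map_of_surjective φ Ideal.Quotient.mk_surjective, ← RingHom.ker_eq_comap_bot,
      Ideal.mk_ker, sup_eq_left.2 (show Q.asIdeal ≤ r.asIdeal from hQr)] at h2
    haveI : (Ideal.comap φ (IsLocalRing.maximalIdeal B)).IsMaximal :=
      Ideal.comap_isMaximal_of_surjective φ Ideal.Quotient.mk_surjective
    exact h2.trans (IsLocalRing.eq_maximalIdeal inferInstance)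
  have hvan : ∀ (j : ℕ), d' ≤ j → Subsingleton (LocCoh.H (I.map φ) j B) := fun j hj =>
    LC17.hlvt B (I.map φ) d' hd' (fun P hP _ => HLPrime.one_le_dim (I.map φ) r'
      (Ideal.map_mono hIr) hr' P hP) B j hj
  -- the Cech complex over the quotient
  let gs := fs.map φ
  have hgs : Ideal.span {x | x ∈ gs} = I.map φ := by
    rw [← hfs, Ideal.map_span]
    congr 1
    ext; simp [gs]
  haveI hLE : (XC (ModuleCat.of B B) gs).IsLE ((d' : ℤ) - 1) := (DerivedCategory.isLE_iff _ _).2 fun i hi => by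
    rcases lt_or_ge i 0 with h | h
    · exact ComplKill.isZero_HF_cech_neg _ _ i h
    obtain ⟨j, rfl⟩ := Int.eq_ofNat_of_zero_le h
    obtain ⟨e⟩ := CechFam.nonempty_equiv gs j B
    haveI : Subsingleton (LocCoh.H (Ideal.span {x : B | x ∈ gs}) j B) := hgs.symm ▸ hvan j (by omega)
    exact (isZero_HF_iff _ _).2
      ((HQIso (DerCA.extCech (ModuleCat.of B B) gs) j).toLinearEquiv ≪≫ₗ e).toEquiv.subsingleton
  -- adjunction
  haveI := DR39.hasLBaseChange φ
  haveI := DTen43.hasLBase φ
  obtain ⟨adj⟩ := DR40.nonempty_LBaseChange_adjunction φ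
  letI : Module B N := Module.IsTorsionBySet.module (I := Q.asIdeal) fun x a => hN a.1 a.2 x
  let NB : ModuleCat.{u} B := ModuleCat.of B N
  let e₁ : (DRing.LBaseChange φ).obj (XC (ModuleCat.of A A) fs) ≅ XC (ModuleCat.of B B) gs :=
    LBaseChangeIso φ (DerCA.extCech (ModuleCat.of A A) fs)
        (isKFlat_of_flat fs.length (S8934.flat_extCech A fs).1 (S8934.flat_extCech A fs).2) ≪≫
      DerivedCategory.Q.mapIso (LocBC.extCechIso φ (ModuleCat.of A A) fs ≪≫
        S8934.extCechMapIso (S8934.extendSelfIso φ) gs)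
  let Y : Dual.D B := ((DerivedCategory.singleFunctor (ModuleCat.{u} B) 0).obj NB)⟦-(n : ℤ)⟧
  let eN : (ModuleCat.restrictScalars φ).obj NB ≅ ModuleCat.of A N :=
    { hom := ModuleCat.ofHom (X := (ModuleCat.restrictScalars φ).obj NB) (Y := N)
        { toFun := id, map_add' := fun _ _ => rfl, map_smul' := fun _ _ => rfl }
      inv := ModuleCat.ofHom (X := N) (Y := (ModuleCat.restrictScalars φ).obj NB)
        { toFun := id, map_add' := fun _ _ => rfl, map_smul' := fun _ _ => rfl }
      hom_inv_id := rfl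
      inv_hom_id := rfl }
  let e₂ : (DRing.restrictD φ).obj Y ≅ (Dual.inD A N)⟦-(n : ℤ)⟧ :=
    ((DRing.restrictD φ).commShiftIso (-(n : ℤ))).app _ ≪≫
      (shiftFunctor (Dual.D A) (-(n : ℤ))).mapIso
        (((ModuleCat.restrictScalars φ).mapDerivedCategorySingleFunctor 0).app NB ≪≫
          (DerivedCategory.singleFunctor (ModuleCat.{u} A) 0).mapIso eN)
  haveI : Subsingleton (XC (ModuleCat.of B B) gs ⟶ Y) := by
    haveI : ((DerivedCategory.singleFunctor (ModuleCat.{u} B) 0).obj NB).IsGE 0 := inferInstance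
    haveI := DerivedCategory.TStructure.t.isGE_shift ((DerivedCategory.singleFunctor (ModuleCat.{u} B) 0).obj NB)
      0 (-(n : ℤ)) n (by omega)
    exact ⟨fun a b =>
      (DerivedCategory.TStructure.t.zero_of_isLE_of_isGE a ((d' : ℤ) - 1) n (by omega) hLE inferInstance).trans
      (DerivedCategory.TStructure.t.zero_of_isLE_of_isGE b ((d' : ℤ) - 1) n (by omega) hLE inferInstance).symm⟩
  exact (((Iso.homCongr (Iso.refl _) e₂.symm).trans (adj.homEquiv _ _).symm).trans
    (Iso.homCongr e₁ (Iso.refl _))).subsingleton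

omit [IsNoetherianRing A] [IsLocalRing A] [IsAdicComplete I A] in
/-- dévissage along a product of primes -/
theorem subsingleton_hom_of_prod (fs : List A) (hfs : Ideal.span {x | x ∈ fs} = I) (n : ℤ) :
    ∀ (l : List (Ideal A)), (∀ Q ∈ l, ∀ (N : Type u) [AddCommGroup N] [Module A N],
        (∀ a ∈ Q, ∀ x : N, a • x = 0) → Subsingleton (XC (ModuleCat.of A A) fs ⟶ (Dual.inD A N)⟦n⟧)) →
      ∀ (N : Type u) [AddCommGroup N] [Module A N], (∀ a ∈ l.prod, ∀ x : N, a • x = 0) →
        Subsingleton (XC (ModuleCat.of A A) fs ⟶ (Dual.inD A N)⟦n⟧)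
  | [], _, N, _, _, hN => by
    haveI : Subsingleton N := ⟨fun a b => by
      rw [← one_smul A a, ← one_smul A b, hN 1 (by simp) a, hN 1 (by simp) b]⟩
    have hz : IsZero ((Dual.inD A N)⟦n⟧) := Functor.map_isZero _
      (Functor.map_isZero _ (ModuleCat.isZero_of_subsingleton _))
    exact ⟨fun a b => hz.eq_of_tgt a b⟩
  | Q :: l, hl, N, _, _, hN => by
    let P : Submodule A N := Q • ⊤
    have hS := LC17.shortExact_of_exact P.subtype P.mkQ P.injective_subtype (Submodule.mkQ_surjective _)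
      (LinearMap.exact_subtype_mkQ P)
    haveI h₁ : Subsingleton (XC (ModuleCat.of A A) fs ⟶ (Dual.inD A P)⟦n⟧) :=
      subsingleton_hom_of_prod fs hfs n l (fun R hR => hl R (List.mem_cons_of_mem _ hR)) P
        fun a ha p => Subtype.ext <| Submodule.smul_induction_on (p := fun y => a • y = 0) p.2
          (fun b hb m _ => by
            rw [smul_smul]
            exact hN _ (by rw [List.prod_cons, mul_comm a b]; exact Ideal.mul_mem_mul hb ha) m)
          (fun x y hx hy => by rw [smul_add, hx, hy, add_zero])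
    haveI h₃ : Subsingleton (XC (ModuleCat.of A A) fs ⟶ (Dual.inD A (N ⧸ P))⟦n⟧) :=
      hl Q (List.mem_cons_self ..) _ fun a ha y => by
        obtain ⟨m, rfl⟩ := Submodule.mkQ_surjective P y
        rw [← map_smul]
        exact (Submodule.Quotient.mk_eq_zero _).2 (Submodule.smul_mem_smul ha trivial)
    refine subsingleton_of_forall_eq 0 fun g => ?_
    obtain ⟨w, hw⟩ := HomGood.exact₂ hS.singleTriangle_distinguished (i := n) g
      (Subsingleton.elim (α := XC (ModuleCat.of A A) fs ⟶ (Dual.inD A (N ⧸ P))⟦n⟧) _ _)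
    rw [hw]
    exact (congrArg (· ≫ hS.singleTriangle.mor₁⟦n⟧')
      (Subsingleton.elim (α := XC (ModuleCat.of A A) fs ⟶ (Dual.inD A P)⟦n⟧) w 0)).trans zero_comp

end Groth.Agent.LC16.PrimeVanish
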