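import Groth.Agent.LC16.PunctH
import Groth.Agent.QCRes72.Basic
import Groth.Agent.LC15.Artin

/-!
# Cohomology of coherent sheaves on a punctured spectrum
-/

set_option autoImplicit false
set_option maxHeartbeats 400000
set_option backward.isDefEq.respectTransparency.types false

noncomputable section

universe u

open CategoryTheory Limits AlgebraicGeometry TopologicalSpace Opposite

namespace Groth.Agent.LC16.PH

open Groth.Agent.LC15

variable {A : Type u} [CommRing A] (I : Ideal A)

/-- Elements of a localization over a finitely generated submodule. -/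
theorem exists_fg_saturated {R : Type u} [CommRing R] (f : R) {B : Type u} [CommRing B] [Algebra R B]
    [IsLocalization (Submonoid.powers f) B] {T N : Type u} [AddCommGroup T] [Module R T]
    [AddCommGroup N] [Module R N] [Module B N] [IsScalarTower R B N] [Module.Finite B N]
    (t : T →ₗ[R] N) [IsLocalizedModule (Submonoid.powers f) t] :
    ∃ M : Submodule R T, M.FG ∧ ∀ x : T, ∃ n : ℕ, f ^ n • x ∈ M := by
  classical
  obtain ⟨S, hS⟩ := Module.Finite.fg_top (R := B) (M := N)
  choose num hnum using fun y : N => IsLocalizedModule.surj (Submonoid.powers f) t y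
  let M : Submodule R T := Submodule.span R ((S.image fun y => (num y).1 : Finset T) : Set T)
  have key : ∀ y : N, ∃ n : ℕ, ∃ m ∈ M, f ^ n • y = t m := by
    intro y
    have hy : y ∈ Submodule.span B (S : Set N) := by rw [hS]; trivial
    induction hy using Submodule.span_induction with
    | mem y hy =>
      obtain ⟨n, hn⟩ := (num y).2.2
      refine ⟨n, (num y).1, Submodule.subset_span (Finset.mem_image_of_mem _ hy), ?_⟩
      rw [show f ^ n = ((num y).2 : R) from hn, ← Submonoid.smul_def, hnum]
    | zero => exact ⟨0, 0, M.zero_mem, by rw [smul_zero, map_zero]⟩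
    | add y z _ _ hy hz =>
      obtain ⟨n, m, hm, hy⟩ := hy
      obtain ⟨k, l, hl, hz⟩ := hz
      refine ⟨n + k, f ^ k • m + f ^ n • l, M.add_mem (M.smul_mem _ hm) (M.smul_mem _ hl), ?_⟩
      rw [map_add, map_smul, map_smul, ← hy, ← hz, smul_smul, smul_smul, ← pow_add, ← pow_add,
        add_comm k n, smul_add]
    | smul b y _ hy =>
      obtain ⟨n, m, hm, hy⟩ := hy
      obtain ⟨⟨c, s⟩, hc⟩ := IsLocalization.surj (Submonoid.powers f) b
      obtain ⟨a, ha⟩ := s.2
      refine ⟨a + n, c • m, M.smul_mem _ hm, ?_⟩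
      rw [map_smul, ← hy, ← algebraMap_smul B c, ← hc, ← show f ^ a = (s : R) from ha, pow_add,
        mul_smul, smul_comm (f ^ n) b, ← algebraMap_smul B (f ^ a), smul_smul, mul_comm b]
  refine ⟨M, ⟨_, rfl⟩, fun x => ?_⟩
  obtain ⟨n, m, hm, h⟩ := key (t x)
  rw [← map_smul, IsLocalizedModule.eq_iff_exists (Submonoid.powers f)] at h
  obtain ⟨⟨_, k, rfl⟩, hk⟩ := h
  refine ⟨k + n, ?_⟩
  rw [pow_add, mul_smul]
  exact (show f ^ k • f ^ n • x = f ^ k • m from hk) ▸ M.smul_mem _ hm

theorem finite_sections_basicOpen (T : ModuleCat.{u} A) (F : (US I).Modules)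
    [F.IsQuasicoherent] [F.IsFiniteType] (e : F ≅ psi I T) {f : A} (hf : f ∈ I) :
    Module.Finite Γ(Spec (CommRingCat.of A), PrimeSpectrum.basicOpen f)
      Γ(tilde (R := CommRingCat.of A) T, PrimeSpectrum.basicOpen f) := by
  let U := UU I
  let D : (Spec (CommRingCat.of A)).Opens := PrimeSpectrum.basicOpen f
  have hDU : D ≤ U := fun q (hq : f ∉ q.asIdeal) => (LC15.PU.mem_UU I).2 fun h => hq (h hf)
  let W := U.ι ⁻¹ᵁ D
  have hD : IsAffineOpen D := IsAffineOpen.Spec_basicOpen (R := CommRingCat.of A) f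
  have himg : U.ι ''ᵁ W = D := QC70.HomOn.image_preimage hDU
  have hW : IsAffineOpen W := by
    rw [← U.ι.isAffineOpen_iff_of_isOpenImmersion, himg]
    exact hD
  haveI : Module.Finite ((US I).ringCatSheaf.obj.obj (op W)) (F.val.obj (op W)) :=
    QC70.finite_sections_of_isFiniteType F hW
  haveI : Module.Finite Γ(US I, W) Γ(psi I T, W) :=
    Module.Finite.of_surjective (e.hom.val.app (op W)).hom fun y =>
      ⟨e.inv.app W y, by
        show e.hom.app W (e.inv.app W y) = y
        rw [← ConcreteCategory.comp_apply, ← Scheme.Modules.Hom.comp_app, e.inv_hom_id,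
          Scheme.Modules.Hom.id_app]
        rfl⟩
  let e₀ : Γ(US I, W) ≃+* Γ(Spec (CommRingCat.of A), D) := ((Spec (CommRingCat.of A)).presheaf.mapIso
    (eqToIso (congrArg op himg))).commRingCatIsoToRingEquiv
  let eM : Γ(psi I T, W) →ₛₗ[(e₀ : Γ(US I, W) →+* Γ(Spec (CommRingCat.of A), D))]
      Γ(tilde (R := CommRingCat.of A) T, D) :=
    { toFun := fun x => (tilde (R := CommRingCat.of A) T).presheaf.map (eqToHom (congrArg op himg)) x
      map_add' := fun x y => map_add _ x y
      map_smul' := fun r x => by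
        refine ((tilde (R := CommRingCat.of A) T).val.map_smul (eqToHom (congrArg op himg))
          ((U.ι.appIso W).inv r) x).trans ?_
        rw [Scheme.Opens.ι_appIso]
        rfl }
  haveI : RingHomSurjective (e₀ : Γ(US I, W) →+* Γ(Spec (CommRingCat.of A), D)) := ⟨e₀.surjective⟩
  refine Module.Finite.of_surjective eM fun y => ?_
  refine ⟨(tilde (R := CommRingCat.of A) T).presheaf.map (eqToHom (congrArg op himg.symm)) y, ?_⟩
  show (tilde (R := CommRingCat.of A) T).presheaf.map _
    ((tilde (R := CommRingCat.of A) T).presheaf.map _ y) = y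
  rw [← ConcreteCategory.comp_apply, ← Functor.map_comp, eqToHom_trans, eqToHom_refl,
    CategoryTheory.Functor.map_id]
  rfl

theorem exists_fg_away {R : CommRingCat.{u}} (T : ModuleCat.{u} R) (f : R)
    (h : Module.Finite Γ(Spec R, PrimeSpectrum.basicOpen f) Γ(tilde T, PrimeSpectrum.basicOpen f)) :
    ∃ M : Submodule R T, M.FG ∧ ∀ x : T, ∃ n : ℕ, f ^ n • x ∈ M := by
  let D : (Spec R).Opens := PrimeSpectrum.basicOpen f
  let t : T →ₗ[R] Γ(tilde T, D) := (tilde.toOpen T D).hom
  haveI : IsLocalizedModule (Submonoid.powers f) t :=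
    inferInstanceAs (IsLocalizedModule.Away f (tilde.toOpen T (PrimeSpectrum.basicOpen f)).hom)
  haveI : IsLocalization (Submonoid.powers f) Γ(Spec R, D) :=
    inferInstanceAs (IsLocalization.Away f Γ(Spec R, PrimeSpectrum.basicOpen f))
  haveI : Module.Finite Γ(Spec R, D) Γ(tilde T, D) := h
  exact exists_fg_saturated (B := Γ(Spec R, D)) (N := Γ(tilde T, D)) f t

/-- `H^{p}(U, F)`, `p ≥ 1`, is a quotient of the local cohomology of a finite module. -/
theorem exists_surjective_H [IsNoetherianRing A] (F : (US I).Modules) (hF : Coh.IsCoh F) (p : ℕ) :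
    ∃ (M : Type u) (_ : AddCommGroup M) (_ : Module A M) (_ : Module.Finite A M)
      (φ : LocCoh.H I (p + 2) M →ₗ[A] Coh.HH (US I) F (p + 1)), Function.Surjective φ := by
  classical
  haveI := hF.1
  haveI := hF.2
  obtain ⟨T, ⟨e⟩⟩ := QCRes72.exists_iso_restrict_tilde (R := CommRingCat.of A)
    (LC15.PU.isCompact_UU I (IsNoetherian.noetherian I)) F
  obtain ⟨s, hs⟩ := IsNoetherian.noetherian I
  choose Mf hMfg hMf using fun f : s => exists_fg_away (R := CommRingCat.of A) T (f : A)
    (finite_sections_basicOpen I T F e (hs ▸ Submodule.subset_span f.2))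
  let M : Submodule A T := ⨆ f : s, Mf f
  haveI : Module.Finite A M := Module.Finite.iff_fg.mpr (Submodule.fg_iSup _ hMfg)
  have htors : LocCoh.IsPowerTorsion I (T ⧸ M) := by
    intro q
    obtain ⟨x, rfl⟩ := Submodule.Quotient.mk_surjective M q
    have hle : I ≤ (Submodule.span A {(Submodule.Quotient.mk x : T ⧸ M)}).annihilator.radical := by
      rw [← hs]
      refine Submodule.span_le.2 fun f hf => ?_
      obtain ⟨n, hn⟩ := hMf ⟨f, hf⟩ x
      refine ⟨n, (Submodule.mem_annihilator_span_singleton _ _).2 ?_⟩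
      rw [← Submodule.Quotient.mk_smul, Submodule.Quotient.mk_eq_zero]
      exact Submodule.mem_iSup_of_mem _ hn
    obtain ⟨n, hn⟩ := Ideal.exists_pow_le_of_le_radical_of_fg hle (IsNoetherian.noetherian I)
    exact ⟨n, fun a ha => (Submodule.mem_annihilator_span_singleton _ a).1 (hn ha)⟩
  obtain ⟨θ⟩ := nonempty_HH_equiv I p (T : Type u)
  let ε : Coh.HH (US I) F (p + 1) ≃ₗ[A] Coh.HH (US I) (psi I T) (p + 1) := Crv77.hEquiv A e (p + 1)
  refine ⟨M, inferInstance, inferInstance, inferInstance,
    (ε.trans θ).symm.toLinearMap.comp (Hmap I (p + 2) M.subtype), ?_⟩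
  refine (ε.trans θ).symm.surjective.comp fun y => ?_
  exact (H_exact₂ I (p + 2) M.injective_subtype (LinearMap.exact_subtype_mkQ M)
    (Submodule.mkQ_surjective M) y).1
    ((subsingleton_H_of_powerTorsion I htors (by omega)).elim _ _)

end Groth.Agent.LC16.PH
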