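import Groth.Agent.LC16.PunctH0

/-!
# `H^p(U, M~) ≅ H^{p+1}_I(M)` on a punctured spectrum
-/

set_option autoImplicit false
set_option maxHeartbeats 400000
set_option backward.isDefEq.respectTransparency.types false

noncomputable section

universe u

open CategoryTheory Limits AlgebraicGeometry TopologicalSpace Opposite

namespace Groth.Agent.LC16.PH

open Groth.Agent.LC15

variable {A : Type u} [CommRing A] (I : Ideal A)

section Seq

variable {M E C : Type u} [AddCommGroup M] [Module A M] [AddCommGroup E] [Module A E]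
  [AddCommGroup C] [Module A C] {f : M →ₗ[A] E} {g : E →ₗ[A] C}
  (hf : Function.Injective f) (hfg : Function.Exact f g) (hg : Function.Surjective g)

include hf hfg hg in
/-- The short exact sequence of sheaves. -/
theorem psiSC_shortExact : ((seqSC hfg).map (psiF I)).ShortExact :=
  psiF_shortExact I (seqSC_shortExact hf hfg hg)

/-- The connecting map. -/
def dlt (n : ℕ) : Coh.HH (US I) (psi I (ModuleCat.of A C)) n →ₗ[A]
    Coh.HH (US I) (psi I (ModuleCat.of A M)) (n + 1) :=
  Crv77.hδ A (psiSC_shortExact I hf hfg hg) n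

theorem dlt_surjective [IsNoetherianRing A] (hE : Module.Injective A E) (n : ℕ) :
    Function.Surjective (dlt I hf hfg hg n) := fun y =>
  haveI := subsingleton_HH_of_injective I (ModuleCat.of A E) hE n
  (Crv77.exact_δ_f A (psiSC_shortExact I hf hfg hg) n y).1 (Subsingleton.elim
    (α := Coh.HH (US I) (psi I (ModuleCat.of A E)) (n + 1)) _ _)

theorem dlt_bijective [IsNoetherianRing A] (hE : Module.Injective A E) (n : ℕ) :
    Function.Bijective (dlt I hf hfg hg (n + 1)) := by
  refine ⟨(injective_iff_map_eq_zero _).2 fun y hy => ?_, dlt_surjective I hf hfg hg hE (n + 1)⟩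
  obtain ⟨z, rfl⟩ := (Crv77.exact_g_δ A (psiSC_shortExact I hf hfg hg) (n + 1) y).1 hy
  haveI := subsingleton_HH_of_injective I (ModuleCat.of A E) hE n
  rw [Subsingleton.elim (α := Coh.HH (US I) (psi I (ModuleCat.of A E)) (n + 1)) z 0]
  exact map_zero _

theorem ker_dlt_zero [IsNoetherianRing A] (hE : Module.Injective A E) :
    LinearMap.ker (dlt I hf hfg hg 0) = LinearMap.range (eta I (ModuleCat.of A C)) := by
  ext y
  rw [LinearMap.mem_ker, LinearMap.mem_range]
  constructor
  · intro hy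
    obtain ⟨z, rfl⟩ := (Crv77.exact_g_δ A (psiSC_shortExact I hf hfg hg) 0 y).1 hy
    obtain ⟨e, rfl⟩ := eta_surjective_of_injective I (ModuleCat.of A E) hE z
    exact ⟨g e, (eta_natural I (ModuleCat.ofHom g) e).symm⟩
  · rintro ⟨c, rfl⟩
    obtain ⟨e, rfl⟩ := hg c
    refine (Crv77.exact_g_δ A (psiSC_shortExact I hf hfg hg) 0 _).2 ⟨eta I (ModuleCat.of A E) e, ?_⟩
    exact eta_natural I (ModuleCat.ofHom g) e

/-- `H^1` as the cokernel of the canonical map of the cokernel. -/
def oneEquiv [IsNoetherianRing A] (hE : Module.Injective A E) :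
    (Coh.HH (US I) (psi I (ModuleCat.of A C)) 0 ⧸ LinearMap.range (eta I (ModuleCat.of A C)))
      ≃ₗ[A] Coh.HH (US I) (psi I (ModuleCat.of A M)) 1 :=
  (Submodule.quotEquivOfEq _ _ (ker_dlt_zero I hf hfg hg hE).symm).trans
    ((dlt I hf hfg hg 0).quotKerEquivOfSurjective (dlt_surjective I hf hfg hg hE 0))

/-- Dimension shifting for sheaf cohomology. -/
def dltEquiv [IsNoetherianRing A] (hE : Module.Injective A E) (n : ℕ) :
    Coh.HH (US I) (psi I (ModuleCat.of A C)) (n + 1) ≃ₗ[A]
      Coh.HH (US I) (psi I (ModuleCat.of A M)) (n + 1 + 1) :=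
  LinearEquiv.ofBijective (dlt I hf hfg hg (n + 1)) (dlt_bijective I hf hfg hg hE n)

/-- The first map in degree zero. -/
def pF : Coh.HH (US I) (psi I (ModuleCat.of A M)) 0 →ₗ[A]
    Coh.HH (US I) (psi I (ModuleCat.of A E)) 0 :=
  Crv77.hmap A ((psiF I).map (seqSC hfg).f) 0

/-- The second map in degree zero. -/
def pG : Coh.HH (US I) (psi I (ModuleCat.of A E)) 0 →ₗ[A]
    Coh.HH (US I) (psi I (ModuleCat.of A C)) 0 :=
  Crv77.hmap A ((psiF I).map (seqSC hfg).g) 0

include hf hfg hg in
theorem pF_injective : Function.Injective (pF I hfg) := by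
  have hS := psiSC_shortExact I hf hfg hg
  intro x y h
  exact Crv77.injective_f_zero A hS h

include hf hfg hg in
theorem pF_pG_exact : Function.Exact (pF I hfg) (pG I hfg) :=
  Crv77.exact_f_g A (psiSC_shortExact I hf hfg hg) 0

theorem pF_eta (m : M) : pF I hfg (eta I (ModuleCat.of A M) m) = eta I (ModuleCat.of A E) (f m) :=
  eta_natural I (seqSC hfg).f m

theorem pG_eta (e : E) : pG I hfg (eta I (ModuleCat.of A E) e) = eta I (ModuleCat.of A C) (g e) :=
  eta_natural I (seqSC hfg).g e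

end Seq

/-- The cokernel of a map to "sections" is `H^1_I`: the algebra. -/
theorem nonempty_coker_alg {C E Q : Type u} [AddCommGroup C] [Module A C] [AddCommGroup E]
    [Module A E] [AddCommGroup Q] [Module A Q] [Module.Injective A E] {f : C →ₗ[A] E}
    {g : E →ₗ[A] Q} (hf : Function.Injective f) (hfg : Function.Exact f g)
    (hg : Function.Surjective g) {PC PE PQ : Type u} [AddCommGroup PC] [Module A PC]
    [AddCommGroup PE] [Module A PE] [AddCommGroup PQ] [Module A PQ] (Pf : PC →ₗ[A] PE)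
    (Pg : PE →ₗ[A] PQ) (hPf : Function.Injective Pf) (hPex : Function.Exact Pf Pg)
    (ηC : C →ₗ[A] PC) (ηE : E →ₗ[A] PE) (ηQ : Q →ₗ[A] PQ) (hηf : ∀ c, Pf (ηC c) = ηE (f c))
    (hηg : ∀ e, Pg (ηE e) = ηQ (g e)) (hsE : Function.Surjective ηE)
    (hkE : ∀ e, ηE e = 0 ↔ e ∈ gamma I E) (hkQ : ∀ q, ηQ q = 0 ↔ q ∈ gamma I Q) :
    Nonempty ((PC ⧸ LinearMap.range ηC) ≃ₗ[A] LocCoh.H I 1 C) := by
  let K : Submodule A E := (gamma I Q).comap g
  have hK : ∀ e : K, ηE (e : E) ∈ LinearMap.range Pf := fun e =>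
    (hPex _).1 ((hηg _).trans ((hkQ _).2 e.2))
  let lft : K →ₗ[A] PC := (LinearEquiv.ofInjective Pf hPf).symm.toLinearMap.comp
    ((ηE.comp K.subtype).codRestrict _ hK)
  have hlft : ∀ e : K, Pf (lft e) = ηE (e : E) := fun e =>
    LinearEquiv.ofInjective_symm_apply (h := hPf) _ ⟨_, hK e⟩
  have hlsurj : Function.Surjective lft := by
    intro y
    obtain ⟨e, he⟩ := hsE (Pf y)
    have heK : e ∈ K := (hkQ _).1
      ((hηg e).symm.trans ((congrArg Pg he).trans ((hPex _).2 ⟨y, rfl⟩)))
    exact ⟨⟨e, heK⟩, hPf ((hlft _).trans he)⟩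
  let ρ := (LinearMap.range ηC).mkQ.comp lft
  let inner : K →ₗ[A] gamma I Q := (g.comp K.subtype).codRestrict (gamma I Q) fun e => e.2
  let σ : K →ₗ[A] LocCoh.H I 1 C :=
    (Hδ I 0 hf hfg hg).comp ((H0equiv I Q).symm.toLinearMap.comp inner)
  have hρs : Function.Surjective ρ := (Submodule.mkQ_surjective _).comp hlsurj
  have hσs : Function.Surjective σ := by
    refine (Hδ_surjective I 0 hf hfg hg (subsingleton_H_of_injective I (M := E) Nat.one_pos)).comp
      ((H0equiv I Q).symm.surjective.comp ?_)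
    rintro ⟨q, hq⟩
    obtain ⟨e, rfl⟩ := hg q
    exact ⟨⟨e, hq⟩, rfl⟩
  have hh0 : ∀ e : K, h0 I Q ((H0equiv I Q).symm (inner e)) = g (e : E) := fun e => by
    rw [← H0equiv_coe, LinearEquiv.apply_symm_apply]
    rfl
  have hker : LinearMap.ker ρ = LinearMap.ker σ := by
    ext e
    simp only [LinearMap.mem_ker, ρ, σ, LinearMap.comp_apply, Submodule.mkQ_apply,
      Submodule.Quotient.mk_eq_zero, LinearMap.mem_range, LinearEquiv.coe_coe]
    constructor
    · rintro ⟨c, hc⟩
      have h2 : (e : E) - f c ∈ gamma I E :=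
        (hkE _).1 (by rw [map_sub, ← hηf, hc, hlft, sub_self])
      obtain ⟨z, hz⟩ := (H0equiv I E).surjective ⟨_, h2⟩
      refine (H_exact₃ I 0 hf hfg hg _).2 ⟨z, h0_injective I Q ?_⟩
      rw [h0_Hmap, hh0, ← H0equiv_coe, hz]
      show g ((e : E) - f c) = g (e : E)
      rw [map_sub, hfg.apply_apply_eq_zero, sub_zero]
    · intro he
      obtain ⟨z, hz⟩ := (H_exact₃ I 0 hf hfg hg _).1 he
      have h1 : g (h0 I E z) = g (e : E) := by rw [← h0_Hmap, hz, hh0]
      obtain ⟨c, hc⟩ := (hfg _).1 (show g ((e : E) - h0 I E z) = 0 by rw [map_sub, h1, sub_self])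
      refine ⟨c, hPf ?_⟩
      rw [hlft, hηf, hc, map_sub, (hkE (h0 I E z)).2 (by rw [← range_h0]; exact ⟨z, rfl⟩), sub_zero]
  exact ⟨(ρ.quotKerEquivOfSurjective hρs).symm.trans
    ((Submodule.quotEquivOfEq _ _ hker).trans (σ.quotKerEquivOfSurjective hσs))⟩

/-- The cokernel of the canonical map to `H^0` is `H^1_I`. -/
theorem nonempty_coker_eta [IsNoetherianRing A] (C : Type u) [AddCommGroup C] [Module A C] :
    Nonempty ((Coh.HH (US I) (psi I (ModuleCat.of A C)) 0 ⧸
      LinearMap.range (eta I (ModuleCat.of A C))) ≃ₗ[A] LocCoh.H I 1 C) := by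
  obtain ⟨E, _, _, f, hf, hE⟩ := exists_injective_embedding (R := A) C
  have hfg : Function.Exact f (LinearMap.range f).mkQ := LinearMap.exact_map_mkQ_range f
  have hg : Function.Surjective (LinearMap.range f).mkQ := Submodule.mkQ_surjective _
  exact nonempty_coker_alg I hf hfg hg (pF I hfg) (pG I hfg) (pF_injective I hf hfg hg)
    (pF_pG_exact I hf hfg hg) (eta I (ModuleCat.of A C)) (eta I (ModuleCat.of A E))
    (eta I (ModuleCat.of A (E ⧸ LinearMap.range f))) (pF_eta I hfg) (pG_eta I hfg)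
    (eta_surjective_of_injective I (ModuleCat.of A E) hE)
    (eta_eq_zero_iff I (ModuleCat.of A E)) (eta_eq_zero_iff I (ModuleCat.of A (E ⧸ LinearMap.range f)))

/-- `H^p(U, M~) ≅ H^{p+1}_I(M)` for `p ≥ 1`. -/
theorem nonempty_HH_equiv [IsNoetherianRing A] : ∀ (p : ℕ) (M : Type u) [AddCommGroup M] [Module A M],
    Nonempty (Coh.HH (US I) (psi I (ModuleCat.of A M)) (p + 1) ≃ₗ[A] LocCoh.H I (p + 2) M) := by
  intro p
  induction p with
  | zero =>
    intro M _ _
    obtain ⟨E, _, _, f, hf, hE⟩ := exists_injective_embedding (R := A) M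
    have hfg : Function.Exact f (LinearMap.range f).mkQ := LinearMap.exact_map_mkQ_range f
    have hg : Function.Surjective (LinearMap.range f).mkQ := Submodule.mkQ_surjective _
    obtain ⟨e⟩ := nonempty_coker_eta I (E ⧸ LinearMap.range f)
    exact ⟨(oneEquiv I hf hfg hg hE).symm.trans (e.trans (HδEquiv I 1 hf hfg hg
      (subsingleton_H_of_injective I (M := E) Nat.one_pos)
      (subsingleton_H_of_injective I (M := E) (by omega))))⟩
  | succ p ih =>
    intro M _ _
    obtain ⟨E, _, _, f, hf, hE⟩ := exists_injective_embedding (R := A) M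
    have hfg : Function.Exact f (LinearMap.range f).mkQ := LinearMap.exact_map_mkQ_range f
    have hg : Function.Surjective (LinearMap.range f).mkQ := Submodule.mkQ_surjective _
    obtain ⟨e⟩ := ih (E ⧸ LinearMap.range f)
    exact ⟨(dltEquiv I hf hfg hg hE p).symm.trans
      (e.trans (HδEquiv I (p + 2) hf hfg hg
        (subsingleton_H_of_injective I (M := E) (by omega))
        (subsingleton_H_of_injective I (M := E) (by omega))))⟩

end Groth.Agent.LC16.PH
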