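import Groth.Agent.LC16.ProjLocFree
import Groth.Agent.LC16.RelResolution
import Groth.Agent.Strict99.Basic

/-!
Relative `Ext` sheaves and twists by finite locally free modules.
-/

set_option autoImplicit false
set_option backward.isDefEq.respectTransparency.types false
set_option linter.style.haveILetI false

noncomputable section

universe u

open CategoryTheory CategoryTheory.Limits AlgebraicGeometry
open Groth.Agent.QC70 Groth.Agent.LC16.ProjLocFree

namespace Groth.Agent.LC16.RelTwist

variable {X Y : Scheme.{u}} (f : X ⟶ Y)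

/-- `f_* 𝓗om(F, -)`. -/
abbrev T (F : X.Modules) : X.Modules ⥤ Y.Modules := homFunctor F ⋙ Scheme.Modules.pushforward f

theorem additive_T (F : X.Modules) : (T f F).Additive :=
  haveI := additive_homFunctor F
  inferInstanceAs (homFunctor F ⋙ Scheme.Modules.pushforward f).Additive

/-- `𝓗om(F, M ⊗ P) ≅ 𝓗om(F, M) ⊗ P`. -/
def homTensCommIso (F : X.Modules) {P : X.Modules} (hP : FlatMod.IsFinLocFree P) :
    tensR P ⋙ homFunctor F ≅ homFunctor F ⋙ tensR P :=
  Functor.isoWhiskerRight (tensHomIso hP) (homFunctor F) ≪≫ (homTensorIso F (dualMod P)).symm ≪≫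
    homTensorIso' (dualMod P) F ≪≫ Functor.isoWhiskerLeft (homFunctor F) (tensHomIso hP).symm

/-- `f_* 𝓗om(F, M ⊗ f^*N) ≅ f_* 𝓗om(F, M) ⊗ N`. -/
def relTwistIso (F : X.Modules) {N : Y.Modules} (hN : FlatMod.IsFinLocFree N) :
    tensR ((Scheme.Modules.pullback f).obj N) ⋙ T f F ≅ T f F ⋙ tensR N :=
  Functor.isoWhiskerRight (homTensCommIso F (Strict99.isFinLocFree_pullback f hN))
      (Scheme.Modules.pushforward f) ≪≫
    Functor.isoWhiskerLeft (homFunctor F) (projNatIso f hN).symm

variable [HasInjectiveResolutions X.Modules]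

theorem nonempty_rightDerived_twist (F H : X.Modules) {N : Y.Modules} (hN : FlatMod.IsFinLocFree N)
    (p : ℕ) : haveI := additive_T f F
    Nonempty (((T f F).rightDerived p).obj ((tensR ((Scheme.Modules.pullback f).obj N)).obj H) ≅
      (tensR N).obj (((T f F).rightDerived p).obj H)) := by
  haveI := additive_T f F
  let P := (Scheme.Modules.pullback f).obj N
  have hP : FlatMod.IsFinLocFree P := Strict99.isFinLocFree_pullback f hN
  haveI := additive_tensR hN
  haveI := preservesFiniteLimits_tensR hN
  haveI := preservesFiniteColimits_tensR hN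
  haveI : (tensR N).PreservesHomology := Functor.preservesHomologyOfExact _
  haveI := additive_tensR hP
  haveI := preservesFiniteLimits_tensR hP
  haveI := preservesFiniteColimits_tensR hP
  exact ⟨((Mod48.rightDerivedPrecompIso (tensR P) (injective_tensR hP) (T f F) p).app H).symm ≪≫
    (Mod48.rightDerivedNatIso (relTwistIso f F hN) p).app H ≪≫
    (SiteCoh.rightDerivedCompExactIso (T f F) (tensR N) p).app H⟩

theorem nonempty_rightDerived_homTensor (F : X.Modules) {L : X.Modules}
    (hL : FlatMod.IsFinLocFree L) (H : X.Modules) (p : ℕ) :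
    haveI := additive_T f F; haveI := additive_T f (CohB1.tensorMod F L)
    Nonempty (((T f (CohB1.tensorMod F L)).rightDerived p).obj H ≅
      ((T f F).rightDerived p).obj ((homFunctor L).obj H)) := by
  haveI := additive_T f F
  haveI := additive_T f (CohB1.tensorMod F L)
  haveI := additive_homFunctor L
  haveI := preservesHomology_homFunctor hL
  haveI : PreservesFiniteLimits (homFunctor L) := preservesFiniteLimits_homFunctor L
  haveI : PreservesFiniteColimits (homFunctor L) :=
    Functor.preservesFiniteColimits_of_preservesHomology _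
  exact ⟨(Mod48.rightDerivedNatIso (show T f (CohB1.tensorMod F L) ≅ homFunctor L ⋙ T f F from
      Functor.isoWhiskerRight (homTensorIso F L) _) p).app H ≪≫
    (Mod48.rightDerivedPrecompIso (homFunctor L) (fun I hI => @injective_homMod X L hL I hI)
      (T f F) p).app H⟩

/-- `Ext^p_f(F ⊗ L, G ⊗ f^*N) ≅ Ext^p_f(F, G ⊗ L^∨) ⊗ N`. -/
theorem nonempty_relExt_twist (F G L : X.Modules) (N : Y.Modules) (hL : FlatMod.IsFinLocFree L)
    (hN : FlatMod.IsFinLocFree N) (p : ℕ) [ModSite.HasSheafHom (O := X.sheaf) F]
    [ModSite.HasSheafHom (O := X.sheaf) L] [ModSite.HasSheafHom (O := X.sheaf) (CohB1.tensorMod F L)]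
    [(RelExt.relHom f F).Additive] [(RelExt.relHom f (CohB1.tensorMod F L)).Additive] :
    Nonempty (((RelExt.relHom f (CohB1.tensorMod F L)).rightDerived p).obj
        (CohB1.tensorMod G ((Scheme.Modules.pullback f).obj N)) ≅
      CohB1.tensorMod (((RelExt.relHom f F).rightDerived p).obj
        (CohB1.tensorMod G ((ModSite.sheafHom (O := X.sheaf) L).obj (Coh.structureModule X)))) N) := by
  haveI := additive_T f F
  haveI := additive_T f (CohB1.tensorMod F L)
  haveI := additive_tensR hN
  let P := (Scheme.Modules.pullback f).obj N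
  let eF : RelExt.relHom f F ≅ T f F :=
    Functor.isoWhiskerRight (sheafHomIso' F) (Scheme.Modules.pushforward f)
  let eFL : RelExt.relHom f (CohB1.tensorMod F L) ≅ T f (CohB1.tensorMod F L) :=
    Functor.isoWhiskerRight (sheafHomIso' (CohB1.tensorMod F L)) (Scheme.Modules.pushforward f)
  let G' := CohB1.tensorMod G (dualMod L)
  obtain ⟨a⟩ := nonempty_rightDerived_homTensor f F hL (CohB1.tensorMod G P) p
  obtain ⟨b⟩ := nonempty_rightDerived_twist f F G' hN p
  let c : (homFunctor L).obj (CohB1.tensorMod G P) ≅ (tensR P).obj G' :=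
    ((tensDualIso hL).app (CohB1.tensorMod G P)).symm ≪≫
      EGA73.tensAssoc' G P (dualMod L) ≪≫
      EGA73.tensIso (Iso.refl G) (EGA73.tensComm P (dualMod L)) ≪≫
      (EGA73.tensAssoc' G (dualMod L) P).symm
  exact ⟨(Mod48.rightDerivedNatIso eFL p).app _ ≪≫ a ≪≫ ((T f F).rightDerived p).mapIso c ≪≫ b ≪≫
    (tensR N).mapIso (((Mod48.rightDerivedNatIso eF p).app G').symm ≪≫
      ((RelExt.relHom f F).rightDerived p).mapIso
        (EGA73.tensIso (Iso.refl G) ((sheafHomIso' L).app (Coh.structureModule X)).symm))⟩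

end Groth.Agent.LC16.RelTwist
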