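import Groth.Agent.LocCohZ41.Tilde
import Groth.Agent.LocCohZ46.Vanish
import Groth.Agent.S6026
import Groth.Agent.LC16.KoszulFam
import Groth.Agent.LC17.DepthLoc
import Groth.Agent.Div89.DepthTwo
import Groth.Agent.Coh69.RpushQCoh

/-! Cohomology with supports of a quasi-coherent module on an affine open, and the depth criterion. -/

set_option autoImplicit false
set_option linter.style.haveILetI false
set_option maxHeartbeats 1000000

universe u

open CategoryTheory CategoryTheory.Limits AlgebraicGeometry TopologicalSpace Opposite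

namespace Groth.Agent.LC16.SheafDepth

open TopCoh49 QC70 KosCech41 LocCohZ41 in
/-- Cohomology with supports on an affine scheme is the colimit of Koszul cohomology. -/
theorem nonempty_koszulHLim_HZc {Y : Scheme.{u}} [IsAffine Y] (G : Y.Modules) [G.IsQuasicoherent]
    (gs : List Γ(Y, ⊤)) (i : ℕ) :
    Nonempty (CohIII.koszulHLim gs (ModuleCat.of Γ(Y, ⊤) (G.val.obj (op ⊤))) i ≃+
      LocCohZ.HZc (X := Y.toTopCat) (Coh.toAb G) i
        (⨆ j : ULift.{u} (Fin gs.length), Y.basicOpen (gs.get j.down))) := by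
  let S := sys G gs
  obtain ⟨c⟩ := nonempty_koszulHLim_congr (topIso Y G) gs i
  suffices Nonempty (CohIII.koszulHLim gs (S.F.obj (op S.V₀)) i ≃+
      LocCohZ.HZc (X := Y.toTopCat) (Coh.toAb G) i
        (⨆ j : ULift.{u} (Fin gs.length), Y.basicOpen (gs.get j.down))) by
    obtain ⟨e⟩ := this
    exact ⟨c.symm.trans e⟩
  let W : Y.Opens := ⨆ j : ULift.{u} (Fin gs.length), Y.basicOpen (gs.get j.down)
  haveI hsub : ∀ j, Subsingleton (E (X := Y.toTopCat) (Coh.toAb G) (j + 1) (⊤ : Y.Opens)) :=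
    fun j => subsingleton_E_top G j
  obtain ⟨⟨e₀⟩, ⟨e₁⟩⟩ := nonempty_restriction S W
    (fun j => le_iSup (fun j : ULift.{u} (Fin gs.length) => Y.basicOpen (gs.get j.down)) j) le_rfl le_top
    (TopCat.Presheaf.isSheaf_of_iso (secIso G).symm (Coh.toAb G).property)
  match i with
  | 0 => exact ⟨e₀.symm.trans (LocCohZ.sect0Equiv (X := Y.toTopCat) (Coh.toAb G) le_top).symm⟩
  | 1 =>
    haveI := hsub 0
    obtain ⟨e⟩ := LocCohZ41.nonempty_one (X := Y.toTopCat) (Coh.toAb G) (le_top : W ≤ ⊤)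
    exact ⟨e₁.symm.trans e⟩
  | p + 2 =>
    haveI := hsub p
    haveI := hsub (p + 1)
    obtain ⟨e⟩ := nonempty_cech_koszul S p
    have hac : ∀ (n : ℕ) (a : Fin (n + 1) → ULift.{u} (Fin gs.length)) (r : ℕ),
        Subsingleton (E (X := Y.toTopCat) (Coh.toAb G) (r + 1)
          (inter (X := Y.toTopCat) (fun j => Y.basicOpen (gs.get j.down)) a)) := fun n a r => by
      obtain ⟨g, hg⟩ := exists_inter_eq gs a
      refine CechComp71.subsingleton_E_affine G ?_ r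
      exact Eq.mpr (congrArg IsAffineOpen hg) ((isAffineOpen_top Y).basicOpen g)
    obtain ⟨a⟩ := cech_equiv (U := fun j : ULift.{u} (Fin gs.length) => Y.basicOpen (gs.get j.down)) (p + 1)
      (Coh.toAb G) hac
    let ι : CohTop.cechH (S.F ⋙ forget₂ (ModuleCat.{u} Γ(Y, ⊤)) AddCommGrpCat.{u}) S.U (p + 1) ≅
        CohTop.cechH (Coh.toAb G).obj (fun j : ULift.{u} (Fin gs.length) => Y.basicOpen (gs.get j.down)) (p + 1) :=
      (HomologicalComplex.homologyFunctor AddCommGrpCat.{u} (ComplexShape.up ℕ) (p + 1)).mapIso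
        ((cechComplexFunctor (A := AddCommGrpCat.{u}) S.U).mapIso (secIso G))
    exact ⟨((e.symm.trans ι.addCommGroupIsoToAddEquiv).trans a).trans
      (AddEquiv.ofBijective _ (delta_bijective (X := Y.toTopCat) (Coh.toAb G) (le_top : W ≤ ⊤) (p + 1)))⟩

variable {X : Scheme.{u}}

/-- In a Noetherian affine open, cohomology with supports is local cohomology. -/
theorem exists_ideal_HZ [IsLocallyNoetherian X] (U : X.Opens) (M : X.Modules) (hM : M.IsQuasicoherent)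
    (V : X.Opens) (hV : IsAffineOpen V) :
    ∃ (hV' : IsAffineOpen (V.ι ''ᵁ ⊤)) (I : Ideal Γ(X, V.ι ''ᵁ ⊤)),
      (∀ (x : X) (hx : x ∈ V.ι ''ᵁ ⊤), x ∉ U ↔ I ≤ Div89.primeAt ⟨V.ι ''ᵁ ⊤, hV'⟩ x hx) ∧
      ∀ i, Nonempty (LocCohZ.HZ (X := X.toTopCat) (Coh.toAb M) i (inf_le_left : V ⊓ U ≤ V) ≃+
        LocCoh.H I i Γ(M, V.ι ''ᵁ ⊤)) := by
  haveI := hM
  have htop : V.ι ''ᵁ ⊤ = V := V.ι_image_top
  have hV' : IsAffineOpen (V.ι ''ᵁ ⊤) := htop.symm ▸ hV
  haveI : IsAffine (↑V : Scheme.{u}) := hV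
  haveI : IsNoetherianRing Γ(X, V.ι ''ᵁ ⊤) := IsLocallyNoetherian.component_noetherian ⟨V.ι ''ᵁ ⊤, hV'⟩
  let G : (↑V : Scheme.{u}).Modules := M.restrict V.ι
  haveI : G.IsQuasicoherent := inferInstance
  -- finitely many basic opens cover the trace of `U`
  let U' : (↑V : Scheme.{u}).Opens := V.ι ⁻¹ᵁ U
  haveI : IsNoetherian (↑V : Scheme.{u}) := ⟨⟩
  obtain ⟨t, ht⟩ := (NoetherianSpace.isCompact (U' : Set (↑V : Scheme.{u}))).elim_finite_subcover
    (fun g : {g : Γ((↑V : Scheme.{u}), ⊤) // (↑V : Scheme.{u}).basicOpen g ≤ U'} => ((↑V : Scheme.{u}).basicOpen g.1 : Set (↑V : Scheme.{u})))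
    (fun g => ((↑V : Scheme.{u}).basicOpen g.1).isOpen) (fun z hz => by
      obtain ⟨_, ⟨g, rfl⟩, hzg, hgU⟩ := Opens.isBasis_iff_nbhd.1 (isBasis_basicOpen (↑V : Scheme.{u})) hz
      exact Set.mem_iUnion.2 ⟨⟨g, hgU⟩, hzg⟩)
  let s : Set Γ((↑V : Scheme.{u}), ⊤) := Subtype.val '' (t : Set {g : Γ((↑V : Scheme.{u}), ⊤) // (↑V : Scheme.{u}).basicOpen g ≤ U'})
  have hsf : s.Finite := t.finite_toSet.image _
  have hs : U' = ⨆ g ∈ s, (↑V : Scheme.{u}).basicOpen g := by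
    refine le_antisymm (fun z hz => ?_) (iSup₂_le ?_)
    · obtain ⟨g, hg, hzg⟩ := Set.mem_iUnion₂.1 (ht hz)
      exact (le_iSup₂_of_le g.1 ⟨g, hg, rfl⟩ le_rfl : (↑V : Scheme.{u}).basicOpen g.1 ≤ _) hzg
    · rintro _ ⟨g, -, rfl⟩
      exact g.2
  let gs := hsf.toFinset.toList
  have hW : (⨆ j : ULift.{u} (Fin gs.length), (↑V : Scheme.{u}).basicOpen (gs.get j.down)) = U' := by
    rw [hs]
    refine le_antisymm (iSup_le fun j => le_iSup₂_of_le (gs.get j.down) ?_ le_rfl) (iSup₂_le fun g hg => ?_)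
    · exact hsf.mem_toFinset.1 (Finset.mem_toList.1 (List.get_mem gs j.down))
    · obtain ⟨k, hk⟩ := List.get_of_mem (Finset.mem_toList.2 (hsf.mem_toFinset.2 hg))
      exact le_iSup_of_le ⟨k⟩ (hk ▸ le_rfl)
  let I : Ideal Γ(X, V.ι ''ᵁ ⊤) := Ideal.span {a | a ∈ (gs : List Γ(X, V.ι ''ᵁ ⊤))}
  refine ⟨hV', I, fun x hx => ?_, fun i => ?_⟩
  · obtain ⟨z, -, rfl⟩ := hx
    have hxU : V.ι z ∈ U ↔ ∃ g ∈ gs, V.ι z ∈ X.basicOpen (g : Γ(X, V.ι ''ᵁ ⊤)) := by
      have h1 : z ∈ U' ↔ ∃ g ∈ gs, z ∈ (↑V : Scheme.{u}).basicOpen g := by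
        rw [← hW, Opens.mem_iSup]
        exact ⟨fun ⟨j, hj⟩ => ⟨_, List.get_mem gs j.down, hj⟩, fun ⟨g, hg, hzg⟩ => by
          obtain ⟨k, rfl⟩ := List.get_of_mem hg
          exact ⟨⟨k⟩, hzg⟩⟩
      refine h1.trans (exists_congr fun g => and_congr Iff.rfl ?_)
      rw [← V.ι_image_basicOpen]
      exact ⟨fun h => ⟨z, h, rfl⟩, fun ⟨w, hw, he⟩ => V.ι.isOpenEmbedding.injective he ▸ hw⟩
    rw [Ideal.span_le]
    constructor
    · intro hxn g hg
      exact (Div89.mem_primeAt_iff ⟨V.ι ''ᵁ ⊤, hV'⟩ _ _ g).2 fun h => hxn (hxU.2 ⟨g, hg, h⟩)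
    · intro h hxU'
      obtain ⟨g, hg, hgx⟩ := hxU.1 hxU'
      exact (Div89.mem_primeAt_iff ⟨V.ι ''ᵁ ⊤, hV'⟩ _ _ g).1 (h hg) hgx
  · obtain ⟨e, -⟩ := S6026.result (X := X.toTopCat) (inf_le_left : V ⊓ U ≤ V) i
    have heq : (Opens.map (CohCx.incl (X := X.toTopCat) V)).obj (V ⊓ U) =
        ⨆ j : ULift.{u} (Fin gs.length), (↑V : Scheme.{u}).basicOpen (gs.get j.down) := by
      rw [hW]
      exact Opens.ext (Set.ext fun z => ⟨fun h => h.2, fun h => ⟨z.2, h⟩⟩)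
    let gs' : List Γ(X, V.ι ''ᵁ ⊤) := gs
    obtain ⟨a⟩ := nonempty_koszulHLim_HZc G gs i
    letI mY : Module Γ((↑V : Scheme.{u}), ⊤) Γ(M, V.ι ''ᵁ ⊤) := inferInstanceAs (Module Γ(X, V.ι ''ᵁ ⊤) Γ(M, V.ι ''ᵁ ⊤))
    let μ : ModuleCat.of Γ((↑V : Scheme.{u}), ⊤) (G.val.obj (op ⊤)) ≅ ModuleCat.of Γ((↑V : Scheme.{u}), ⊤) Γ(M, V.ι ''ᵁ ⊤) :=
      LinearEquiv.toModuleIso
        { (M.restrictAppIso V.ι (⊤ : (↑V : Scheme.{u}).Opens)).addCommGroupIsoToAddEquiv with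
          map_smul' := fun r x => Coh69.restrict_smul V M ⊤ r x }
    obtain ⟨c₀⟩ := KosCech41.nonempty_koszulHLim_congr μ gs i
    obtain ⟨b⟩ := KoszulFam.nonempty_equiv gs' i Γ(M, V.ι ''ᵁ ⊤)
    refine ⟨(e (Coh.toAb M)).trans ?_⟩
    rw [heq]
    let c := LinearEquiv.toAddEquiv b.symm
    exact a.symm.trans (c₀.trans c)

/-- The local cohomology sheaves vanish below `n` iff the depth is at least `n` along the support. -/
theorem isZero_HZsh_below_iff [IsLocallyNoetherian X] (U : X.Opens) (M : X.Modules) (hM : Coh.IsCoh M) (n : ℕ) :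
    (∀ i : ℕ, i < n → IsZero ((LocCohZ.HZsh (X := X.toTopCat) U i).obj (Coh.toAb M))) ↔
      ∀ x : X, x ∉ (U : Set X) →
        (n : ℕ∞) ≤ LocCoh.depth (X.presheaf.stalk x) (M.presheaf.stalk x) := by
  haveI := hM.1
  haveI := hM.2
  constructor
  · intro h x hx
    obtain ⟨V, hV, hxV, -⟩ := exists_isAffineOpen_mem_and_subset (X := X) (x := x) (U := ⊤) trivial
    obtain ⟨hV', I, hI, he⟩ := exists_ideal_HZ U M hM.1 V hV
    have hxV' : x ∈ V.ι ''ᵁ ⊤ := by rw [V.ι_image_top]; exact hxV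
    haveI : IsNoetherianRing Γ(X, V.ι ''ᵁ ⊤) := IsLocallyNoetherian.component_noetherian ⟨_, hV'⟩
    haveI := QC70.finite_sections_of_isFiniteType M hV'
    haveI := Div89.primeAt_isPrime ⟨_, hV'⟩ x hxV'
    rw [← Div89.depth_localized_eq_stalk M hM ⟨_, hV'⟩ x hxV']
    refine le_trans ?_ (LC17.idealDepth_le_depth_loc _ ((hI x hxV').1 hx))
    rw [LC17.natCast_le_idealDepth_iff]
    intro i hi
    obtain ⟨e⟩ := he i
    haveI := (LocCohZ46.locZero_iff_subsingleton (X := X.toTopCat) (U := U) (Coh.toAb M) n).1 h V i hi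
    exact e.symm.toEquiv.subsingleton
  · intro h i hi
    refine (LocCohZ46.locZero_iff (X := X.toTopCat) (U := U) (Coh.toAb M) i).2 fun W z p hp => ?_
    obtain ⟨V, hV, hpV, hVW⟩ := exists_isAffineOpen_mem_and_subset (X := X) (x := p) (U := W) hp
    refine ⟨V, hVW, hpV, ?_⟩
    obtain ⟨hV', I, hI, he⟩ := exists_ideal_HZ U M hM.1 V hV
    haveI : IsNoetherianRing Γ(X, V.ι ''ᵁ ⊤) := IsLocallyNoetherian.component_noetherian ⟨_, hV'⟩
    haveI := QC70.finite_sections_of_isFiniteType M hV'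
    obtain ⟨e⟩ := he i
    haveI : Subsingleton (LocCoh.H I i Γ(M, V.ι ''ᵁ ⊤)) := by
      refine (LC17.natCast_le_idealDepth_iff I _ n).1 (LC17.natCast_le_idealDepth_of_forall I n _ fun q hq => ?_) i hi
      let x := hV'.fromSpec q
      have hxV' : x ∈ V.ι ''ᵁ ⊤ := by
        have : x ∈ Set.range hV'.fromSpec := ⟨q, rfl⟩
        rwa [hV'.range_fromSpec] at this
      have hq' : hV'.primeIdealOf ⟨x, hxV'⟩ = q :=
        hV'.fromSpec.isOpenEmbedding.injective (hV'.fromSpec_primeIdealOf ⟨x, hxV'⟩)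
      have hd := Div89.depth_localized_eq_stalk M hM ⟨_, hV'⟩ x hxV'
      have hxU : x ∉ U := (hI x hxV').2 (by rw [Div89.primeAt, hq']; exact hq)
      have := h x hxU
      rw [← hd] at this
      rw [← hq']
      exact this
    exact e.toEquiv.subsingleton.elim _ _

end Groth.Agent.LC16.SheafDepth
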