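import Groth.Agent.TopCoh49.Cech
import Mathlib.Algebra.DirectSum.Module
import Mathlib.GroupTheory.QuotientGroup.Basic

/-!
Homology of three-term complexes and Cech cohomology, elementwise; direct sums.
-/

set_option autoImplicit false

noncomputable section

universe u v

open CategoryTheory Limits TopologicalSpace Opposite DirectSum

namespace Groth.Agent.LC16.SumHom

section Algebra

variable {A₀ A₁ A₂ : Type u} [AddCommGroup A₀] [AddCommGroup A₁] [AddCommGroup A₂]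

/-- The homology of `A₀ → A₁ → A₂` at the middle. -/
abbrev Hmid (d₁ : A₀ →+ A₁) (d₂ : A₁ →+ A₂) : Type u :=
  d₂.ker ⧸ d₁.range.addSubgroupOf d₂.ker

theorem mk_eq_zero_iff (d₁ : A₀ →+ A₁) (d₂ : A₁ →+ A₂) (z : d₂.ker) :
    (QuotientAddGroup.mk z : Hmid d₁ d₂) = 0 ↔ ∃ w, d₁ w = z.1 := by
  rw [QuotientAddGroup.eq_zero_iff, AddSubgroup.mem_addSubgroupOf]
  rfl

/-- Transport of homology along isomorphisms. -/
theorem nonempty_Hmid_congr {B₀ B₁ B₂ : Type u} [AddCommGroup B₀] [AddCommGroup B₁] [AddCommGroup B₂]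
    (d₁ : A₀ →+ A₁) (d₂ : A₁ →+ A₂) (e₁ : B₀ →+ B₁) (e₂ : B₁ →+ B₂)
    (α₀ : A₀ ≃+ B₀) (α₁ : A₁ ≃+ B₁) (α₂ : A₂ ≃+ B₂)
    (h₁ : ∀ x, α₁ (d₁ x) = e₁ (α₀ x)) (h₂ : ∀ x, α₂ (d₂ x) = e₂ (α₁ x)) :
    Nonempty (Hmid d₁ d₂ ≃+ Hmid e₁ e₂) := by
  let f : d₂.ker →+ Hmid e₁ e₂ := AddMonoidHom.mk'
    (fun z => QuotientAddGroup.mk ⟨α₁ z.1, by
      change e₂ (α₁ z.1) = 0
      rw [← h₂, show d₂ z.1 = 0 from z.2, map_zero]⟩)
    (fun x y => congrArg QuotientAddGroup.mk (Subtype.ext (map_add α₁ x.1 y.1)))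
  have hs : Function.Surjective f := fun y => by
    obtain ⟨z, rfl⟩ := QuotientAddGroup.mk_surjective y
    refine ⟨⟨α₁.symm z.1, α₂.injective ?_⟩, ?_⟩
    · rw [h₂, α₁.apply_symm_apply, show e₂ z.1 = 0 from z.2, map_zero]
    · exact congrArg QuotientAddGroup.mk (Subtype.ext (α₁.apply_symm_apply z.1))
  have hk : f.ker = d₁.range.addSubgroupOf d₂.ker := by
    ext z
    rw [AddMonoidHom.mem_ker, AddSubgroup.mem_addSubgroupOf]
    refine (mk_eq_zero_iff e₁ e₂ _).trans ⟨?_, ?_⟩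
    · rintro ⟨w, hw⟩
      refine ⟨α₀.symm w, α₁.injective ?_⟩
      rw [h₁, α₀.apply_symm_apply]
      exact hw
    · rintro ⟨w, hw⟩
      exact ⟨α₀ w, by rw [← h₁, hw]⟩
  exact ⟨(QuotientAddGroup.quotientAddEquivOfEq hk.symm).trans
    (QuotientAddGroup.quotientKerEquivOfSurjective f hs)⟩

variable {κ : Type v} [DecidableEq κ] {B₀ B₁ B₂ : κ → Type u} [∀ n, AddCommGroup (B₀ n)]
  [∀ n, AddCommGroup (B₁ n)] [∀ n, AddCommGroup (B₂ n)]

theorem toAddMonoid_map {B B' : κ → Type u} [∀ n, AddCommGroup (B n)] [∀ n, AddCommGroup (B' n)]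
    {A A' : Type u} [AddCommGroup A] [AddCommGroup A'] (d : A →+ A') (e : ∀ n, B n →+ B' n)
    (φ : ∀ n, B n →+ A) (φ' : ∀ n, B' n →+ A') (h : ∀ n x, φ' n (e n x) = d (φ n x))
    (x : ⨁ n, B n) :
    DirectSum.toAddMonoid φ' (DirectSum.map e x) = d (DirectSum.toAddMonoid φ x) := by
  induction x using DirectSum.induction_on with
  | zero => simp
  | of i v => simp [h]
  | add a b ha hb => simp only [map_add, ha, hb]

/-- Homology commutes with direct sums. -/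
theorem nonempty_sum_Hmid (e₁ : ∀ n, B₀ n →+ B₁ n) (e₂ : ∀ n, B₁ n →+ B₂ n)
    (d₁ : A₀ →+ A₁) (d₂ : A₁ →+ A₂)
    (φ₀ : ∀ n, B₀ n →+ A₀) (φ₁ : ∀ n, B₁ n →+ A₁) (φ₂ : ∀ n, B₂ n →+ A₂)
    (h₁ : ∀ n x, φ₁ n (e₁ n x) = d₁ (φ₀ n x)) (h₂ : ∀ n x, φ₂ n (e₂ n x) = d₂ (φ₁ n x))
    (hs₀ : Function.Surjective (DirectSum.toAddMonoid φ₀))
    (hb₁ : Function.Bijective (DirectSum.toAddMonoid φ₁))
    (hi₂ : Function.Injective (DirectSum.toAddMonoid φ₂)) :
    Nonempty ((⨁ n, Hmid (e₁ n) (e₂ n)) ≃+ Hmid d₁ d₂) := by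
  classical
  let ψ : ∀ n, (e₂ n).ker →+ Hmid d₁ d₂ := fun n => AddMonoidHom.mk'
    (fun z => QuotientAddGroup.mk ⟨φ₁ n z.1, by
      change d₂ (φ₁ n z.1) = 0
      rw [← h₂, show e₂ n z.1 = 0 from z.2, map_zero]⟩)
    (fun x y => congrArg QuotientAddGroup.mk (Subtype.ext (map_add (φ₁ n) x.1 y.1)))
  let Φ : ∀ n, Hmid (e₁ n) (e₂ n) →+ Hmid d₁ d₂ := fun n => QuotientAddGroup.lift _ (ψ n)
    (fun z hz => by
      obtain ⟨w, hw⟩ := hz
      refine (mk_eq_zero_iff d₁ d₂ _).2 ⟨φ₀ n w, ?_⟩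
      rw [← h₁, hw]
      rfl)
  have hlift : ∀ x : ⨁ n, Hmid (e₁ n) (e₂ n), ∃ z : ⨁ n, (e₂ n).ker,
      DirectSum.map (fun n => QuotientAddGroup.mk' _) z = x := fun x => by
    induction x using DirectSum.induction_on with
    | zero => exact ⟨0, map_zero _⟩
    | of i v =>
      obtain ⟨z, rfl⟩ := QuotientAddGroup.mk_surjective v
      exact ⟨DirectSum.of _ i z, by simp⟩
    | add a b ha hb =>
      obtain ⟨za, rfl⟩ := ha
      obtain ⟨zb, rfl⟩ := hb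
      exact ⟨za + zb, map_add _ _ _⟩
  have hval : ∀ z : ⨁ n, (e₂ n).ker, ∃ hz,
      DirectSum.toAddMonoid Φ (DirectSum.map (fun n => QuotientAddGroup.mk' _) z) =
        QuotientAddGroup.mk
          ⟨DirectSum.toAddMonoid φ₁ (DirectSum.map (fun n => (e₂ n).ker.subtype) z), hz⟩ := fun z => by
    induction z using DirectSum.induction_on with
    | zero =>
      refine ⟨by simp, ?_⟩
      simp only [map_zero]
      exact (QuotientAddGroup.mk_zero _).symm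
    | of i v =>
      refine ⟨by simp [← h₂, show e₂ i v.1 = 0 from v.2], ?_⟩
      simp only [DirectSum.map_of, DirectSum.toAddMonoid_of]
      rfl
    | add a b ha hb =>
      obtain ⟨p, ha⟩ := ha
      obtain ⟨q, hb⟩ := hb
      refine ⟨by simp only [map_add]; exact add_mem p q, ?_⟩
      simp only [map_add, ha, hb]
      rfl
  refine ⟨AddEquiv.ofBijective (DirectSum.toAddMonoid Φ) ⟨?_, fun y => ?_⟩⟩
  · rw [injective_iff_map_eq_zero]
    intro x hx
    obtain ⟨z, rfl⟩ := hlift x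
    obtain ⟨hz, hv⟩ := hval z
    rw [hv, mk_eq_zero_iff] at hx
    obtain ⟨w, hw⟩ := hx
    obtain ⟨w', rfl⟩ := hs₀ w
    rw [← toAddMonoid_map d₁ e₁ φ₀ φ₁ h₁] at hw
    have hw' := hb₁.1 hw
    ext n
    rw [DirectSum.map_apply, DFinsupp.zero_apply]
    refine (mk_eq_zero_iff (e₁ n) (e₂ n) _).2 ⟨w' n, ?_⟩
    have := congrArg (fun t => t n) hw'
    simp only [DirectSum.map_apply] at this
    exact this
  · obtain ⟨z, rfl⟩ := QuotientAddGroup.mk_surjective y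
    obtain ⟨x, hx⟩ := hb₁.2 z.1
    have hker : DirectSum.map e₂ x = 0 := hi₂ (by
      rw [toAddMonoid_map d₂ e₂ φ₁ φ₂ h₂, hx, map_zero]
      exact z.2)
    have hk : ∀ n, e₂ n (x n) = 0 := fun n => by
      rw [← DirectSum.map_apply, hker]
      rfl
    let z' : ⨁ n, (e₂ n).ker :=
      DFinsupp.mk (DFinsupp.support x) fun n => (⟨x n.1, hk n.1⟩ : (e₂ n.1).ker)
    have hz' : DirectSum.map (fun n => (e₂ n).ker.subtype) z' = x := by
      ext n
      rw [DirectSum.map_apply]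
      by_cases hn : n ∈ DFinsupp.support x
      · simp [z', DFinsupp.mk_apply, hn]
      · simp [z', DFinsupp.mk_apply, hn, DFinsupp.notMem_support_iff.1 hn]
    obtain ⟨hz, hv⟩ := hval z'
    refine ⟨_, hv.trans (congrArg QuotientAddGroup.mk (Subtype.ext ?_))⟩
    change DirectSum.toAddMonoid φ₁ (DirectSum.map (fun n => (e₂ n).ker.subtype) z') = z.1
    rw [hz', hx]

end Algebra

open TopCoh49

/-- Cech cohomology in positive degrees from explicit cochains. -/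
theorem nonempty_cechH_Hmid {X : TopCat.{u}} {ι : Type u} (P : (Opens X)ᵒᵖ ⥤ AddCommGrpCat.{u})
    (U : ι → Opens X) (p : ℕ) :
    Nonempty (CohTop.cechH P U (p + 1) ≃+ Hmid (cochD P U p) (cochD P U (p + 1))) := by
  let K := cechCx P U
  let S := K.sc' p (p + 1) (p + 1 + 1)
  let e : K.homology (p + 1) ≅ S.homology :=
    ShortComplex.homologyMapIso (K.isoSc' p (p + 1) (p + 1 + 1) (by simp) (by simp))
  let e' : S.homology ≅ S.abLeftHomologyData.H := S.abLeftHomologyData.homologyIso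
  have hiso : Nonempty (Hmid S.f.hom S.g.hom ≃+ Hmid (cochD P U p) (cochD P U (p + 1))) :=
    nonempty_Hmid_congr _ _ _ _ (cochEquiv P U p) (cochEquiv P U (p + 1))
      (cochEquiv P U (p + 1 + 1)) (cochEquiv_d P U p) (cochEquiv_d P U (p + 1))
  obtain ⟨c⟩ := hiso
  have hr : S.abToCycles.range = S.f.hom.range.addSubgroupOf S.g.hom.ker := by
    ext z
    rw [AddSubgroup.mem_addSubgroupOf]
    constructor
    · rintro ⟨w, rfl⟩
      exact ⟨w, rfl⟩
    · rintro ⟨w, hw⟩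
      exact ⟨w, Subtype.ext hw⟩
  exact ⟨((e ≪≫ e').addCommGroupIsoToAddEquiv.trans
    (QuotientAddGroup.quotientAddEquivOfEq hr)).trans c⟩

end Groth.Agent.LC16.SumHom
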