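import Groth.Agent.LC16.LocH
import Groth.Agent.LC15.LocGlobal
import Groth.Agent.LC16.InjLoc
import Groth.Agent.LC16.Colim
import Groth.Prelude.Def_DualLC
import Mathlib.RingTheory.Ideal.MinimalPrime.Noetherian

/-!
# Local cohomology with supports in a set of primes

`HT T i M` is the union of the images of `H^i_I(M)`, `V(I) ⊆ T`.  Passing from `T` to the set `T'` of its
non-minimal points, the error is measured by the local cohomology of the localizations at minimal points.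
-/

set_option autoImplicit false
set_option maxHeartbeats 400000

noncomputable section

universe u

open CategoryTheory CategoryTheory.Limits Opposite

namespace Groth.Agent.LC16.SuppT

open Groth.Agent.LC15

variable {A : Type u} [CommRing A] (T : Set (PrimeSpectrum A))

/-- An ideal of the diagram. -/
def mkI (J : Ideal A) (h : PrimeSpectrum.zeroLocus (J : Set A) ⊆ T) : Dual2.IdealsIn T := ⟨J, h⟩

theorem zeroLocus_inf_subset {I J : Ideal A} (hI : PrimeSpectrum.zeroLocus (I : Set A) ⊆ T)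
    (hJ : PrimeSpectrum.zeroLocus (J : Set A) ⊆ T) :
    PrimeSpectrum.zeroLocus ((I ⊓ J : Ideal A) : Set A) ⊆ T := by
  rw [PrimeSpectrum.zeroLocus_inf]
  exact Set.union_subset hI hJ

theorem zeroLocus_pow_subset {I : Ideal A} (hI : PrimeSpectrum.zeroLocus (I : Set A) ⊆ T) (n : ℕ) :
    PrimeSpectrum.zeroLocus ((I ^ n : Ideal A) : Set A) ⊆ T := by
  intro p hp
  rw [PrimeSpectrum.mem_zeroLocus] at hp
  rcases n with - | n
  · exact absurd (hp (show (1 : A) ∈ (I ^ 0 : Ideal A) by simp))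
      ((Ideal.ne_top_iff_one _).1 p.isPrime.ne_top)
  · exact hI ((PrimeSpectrum.mem_zeroLocus _ _).2
      ((Ideal.IsPrime.pow_le_iff n.succ_ne_zero).1 hp))

/-- Morphisms of the diagram. -/
def homI {J J' : Dual2.IdealsIn T} (h : J.obj ≤ J'.obj) : J ⟶ J' := ⟨homOfLE h⟩

instance subsingleton_hom (J J' : Dual2.IdealsIn T) : Subsingleton (J ⟶ J') :=
  ⟨fun f g => InducedCategory.hom_ext (Subsingleton.elim _ _)⟩

instance isFiltered_op : IsFiltered (Dual2.IdealsIn T)ᵒᵖ where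
  nonempty := ⟨op (mkI T ⊤ (by simp [PrimeSpectrum.zeroLocus_univ]))⟩
  cocone_objs := fun a b => ⟨op (mkI T (a.unop.obj ⊓ b.unop.obj)
      (zeroLocus_inf_subset T a.unop.property b.unop.property)),
    (homI T inf_le_left).op, (homI T inf_le_right).op, trivial⟩
  cocone_maps := fun a b f g => ⟨b, 𝟙 b, by rw [Quiver.Hom.unop_inj (Subsingleton.elim f.unop g.unop)]⟩

variable (i : ℕ) (M : Type u) [AddCommGroup M] [Module A M]

/-- The diagram whose colimit is `HT T i M`. -/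
abbrev tDiag : (Dual2.IdealsIn T)ᵒᵖ ⥤ ModuleCat.{u} A :=
  localCohomology.diagram (Dual2.idealsInDiagram T) i ⋙ (evaluation _ _).obj (ModuleCat.of A M)

/-- `HT T i M` as a cocone. -/
def tCocone : Cocone (tDiag T i M) :=
  ((evaluation _ _).obj (ModuleCat.of A M)).mapCocone
    (colimit.cocone (localCohomology.diagram (Dual2.idealsInDiagram T) i))

/-- The cocone is a colimit. -/
def tIsColimit : IsColimit (tCocone T i M) := isColimitOfPreserves _ (colimit.isColimit _)

instance preservesForget : PreservesColimit (tDiag T i M) (forget (ModuleCat.{u} A)) :=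
  inferInstance

/-- The map from one stage. -/
def iota (J : Ideal A) (h : PrimeSpectrum.zeroLocus (J : Set A) ⊆ T) :
    Abelian.Ext (ModuleCat.of A (A ⧸ J)) (ModuleCat.of A M) i →ₗ[A] Dual2.HT T i M :=
  ((tCocone T i M).ι.app (op (mkI T J h))).hom.comp
    (extEquiv (ModuleCat.of A (A ⧸ J)) (ModuleCat.of A M) i).symm.toLinearMap

/-- The projection between cyclic modules. -/
def proj {J J' : Ideal A} (h : J ≤ J') : ModuleCat.of A (A ⧸ J) ⟶ ModuleCat.of A (A ⧸ J') :=
  ModuleCat.ofHom (Submodule.factor h)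

theorem tDiag_map {J J' : Ideal A} (hJ : PrimeSpectrum.zeroLocus (J : Set A) ⊆ T)
    (hJ' : PrimeSpectrum.zeroLocus (J' : Set A) ⊆ T) (h : J ≤ J')
    (f : op (mkI T J' hJ') ⟶ op (mkI T J hJ)) (z : (tDiag T i M).obj (op (mkI T J' hJ'))) :
    extEquiv (ModuleCat.of A (A ⧸ J)) (ModuleCat.of A M) i ((tDiag T i M).map f z) =
      (Abelian.Ext.mk₀ (proj h)).comp
        (extEquiv (ModuleCat.of A (A ⧸ J')) (ModuleCat.of A M) i z) (zero_add i) := by
  have hp : (localCohomology.ringModIdeals (Dual2.idealsInDiagram T)).map f.unop = proj h :=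
    ModuleCat.hom_ext (LinearMap.ext fun q => by
      obtain ⟨r, rfl⟩ := Submodule.Quotient.mk_surjective _ q
      rfl)
  rw [← hp]
  exact extEquiv_naturality_left _ (ModuleCat.of A M) i z

theorem iota_apply (J : Ideal A) (h : PrimeSpectrum.zeroLocus (J : Set A) ⊆ T)
    (z : (tDiag T i M).obj (op (mkI T J h))) :
    iota T i M J h (extEquiv (ModuleCat.of A (A ⧸ J)) (ModuleCat.of A M) i z) =
      (tCocone T i M).ι.app (op (mkI T J h)) z :=
  congrArg ((tCocone T i M).ι.app (op (mkI T J h))).hom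
    ((extEquiv (ModuleCat.of A (A ⧸ J)) (ModuleCat.of A M) i).symm_apply_apply z)

theorem tCocone_w {J J' : Ideal A} (hJ : PrimeSpectrum.zeroLocus (J : Set A) ⊆ T)
    (hJ' : PrimeSpectrum.zeroLocus (J' : Set A) ⊆ T) (f : op (mkI T J' hJ') ⟶ op (mkI T J hJ))
    (z : (tDiag T i M).obj (op (mkI T J' hJ'))) :
    (tCocone T i M).ι.app (op (mkI T J hJ)) ((tDiag T i M).map f z) =
      (tCocone T i M).ι.app (op (mkI T J' hJ')) z :=
  ConcreteCategory.congr_hom ((tCocone T i M).w f) z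

theorem iota_step {J J' : Ideal A} (hJ : PrimeSpectrum.zeroLocus (J : Set A) ⊆ T)
    (hJ' : PrimeSpectrum.zeroLocus (J' : Set A) ⊆ T) (h : J ≤ J')
    (z : (tDiag T i M).obj (op (mkI T J' hJ'))) :
    iota T i M J hJ ((Abelian.Ext.mk₀ (proj h)).comp
        (extEquiv (ModuleCat.of A (A ⧸ J')) (ModuleCat.of A M) i z) (zero_add i)) =
      iota T i M J hJ (extEquiv (ModuleCat.of A (A ⧸ J)) (ModuleCat.of A M) i
        ((tDiag T i M).map (homI T (J := mkI T J hJ) (J' := mkI T J' hJ') h).op z)) :=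
  congrArg (iota T i M J hJ)
    (tDiag_map T i M hJ hJ' h (homI T (J := mkI T J hJ) (J' := mkI T J' hJ') h).op z).symm

theorem iota_precomp {J J' : Ideal A} (hJ : PrimeSpectrum.zeroLocus (J : Set A) ⊆ T)
    (hJ' : PrimeSpectrum.zeroLocus (J' : Set A) ⊆ T) (h : J ≤ J')
    (x : Abelian.Ext (ModuleCat.of A (A ⧸ J')) (ModuleCat.of A M) i) :
    iota T i M J hJ ((Abelian.Ext.mk₀ (proj h)).comp x (zero_add i)) = iota T i M J' hJ' x := by
  obtain ⟨z, rfl⟩ := (extEquiv (ModuleCat.of A (A ⧸ J')) (ModuleCat.of A M) i).surjective x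
  rw [iota_step T i M hJ hJ' h z, iota_apply T i M J hJ, iota_apply T i M J' hJ',
    tCocone_w T i M hJ hJ' _ z]

/-- The map from local cohomology at an ideal with `V(I) ⊆ T`. -/
def toT (I : Ideal A) (hI : PrimeSpectrum.zeroLocus (I : Set A) ⊆ T) :
    LocCoh.H I i M →ₗ[A] Dual2.HT T i M :=
  descH I i M (fun n => iota T i M (I ^ n) (zeroLocus_pow_subset T hI n)) fun n m h x => by
    refine Eq.trans ?_ (iota_precomp T i M (zeroLocus_pow_subset T hI m)
      (zeroLocus_pow_subset T hI n) (Ideal.pow_le_pow_right h) x)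
    congr 3

theorem toT_toH (I : Ideal A) (hI : PrimeSpectrum.zeroLocus (I : Set A) ⊆ T) (n : ℕ)
    (x : Abelian.Ext (quotPow I n) (ModuleCat.of A M) i) :
    toT T i M I hI (toH I i M n x) = iota T i M (I ^ n) (zeroLocus_pow_subset T hI n) x :=
  descH_toH I i M _ _ n x

theorem toT_surj (y : Dual2.HT T i M) :
    ∃ (I : Ideal A) (hI : PrimeSpectrum.zeroLocus (I : Set A) ⊆ T) (z : LocCoh.H I i M),
      toT T i M I hI z = y := by
  obtain ⟨⟨J, hJ⟩, z, hz⟩ := Concrete.isColimit_exists_rep (tDiag T i M) (tIsColimit T i M) y |>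
    fun ⟨j, z, h⟩ => (⟨j.unop, z, h⟩ : ∃ (j : Dual2.IdealsIn T) (z : (tDiag T i M).obj (op j)),
      (tCocone T i M).ι.app (op j) z = y)
  have h1 : J ^ 1 ≤ J := (pow_one J).le
  refine ⟨J, hJ, toH J i M 1 ((Abelian.Ext.mk₀ (proj h1)).comp
    (extEquiv (ModuleCat.of A (A ⧸ J)) (ModuleCat.of A M) i z) (zero_add i)), ?_⟩
  rw [toT_toH, iota_precomp T i M (zeroLocus_pow_subset T hJ 1) hJ h1]
  exact (iota_apply T i M J hJ z).trans hz

theorem toT_HofLE {I J : Ideal A} (h : J ≤ I) (hI : PrimeSpectrum.zeroLocus (I : Set A) ⊆ T)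
    (hJ : PrimeSpectrum.zeroLocus (J : Set A) ⊆ T) (z : LocCoh.H I i M) :
    toT T i M J hJ (HofLE h i M z) = toT T i M I hI z := by
  obtain ⟨n, x, rfl⟩ := toH_surj I i M z
  rw [HofLE_toH, toT_toH, toT_toH]
  refine Eq.trans ?_ (iota_precomp T i M (zeroLocus_pow_subset T hJ n)
    (zeroLocus_pow_subset T hI n) (Ideal.pow_right_mono h n) x)
  congr 3

theorem iota_eq_zero {J' : Ideal A} (hJ' : PrimeSpectrum.zeroLocus (J' : Set A) ⊆ T)
    (w : (tDiag T i M).obj (op (mkI T J' hJ')))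
    (h : (tCocone T i M).ι.app (op (mkI T J' hJ')) w = 0) :
    ∃ (J : Ideal A) (h : J ≤ J'), PrimeSpectrum.zeroLocus (J : Set A) ⊆ T ∧
      (Abelian.Ext.mk₀ (proj h)).comp
        (extEquiv (ModuleCat.of A (A ⧸ J')) (ModuleCat.of A M) i w) (zero_add i) = 0 := by
  obtain ⟨⟨⟨J, hJ⟩⟩, f, g, hfg⟩ := (Concrete.isColimit_rep_eq_iff_exists (tDiag T i M)
    (tIsColimit T i M) (i := op (mkI T J' hJ')) (j := op (mkI T J' hJ')) w 0).1
      (h.trans (map_zero _).symm)
  have hle : J ≤ J' := leOfHom f.unop.hom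
  refine ⟨J, hle, hJ, ?_⟩
  rw [← tDiag_map T i M hJ hJ' hle f w]
  exact (congrArg (extEquiv (ModuleCat.of A (A ⧸ J)) (ModuleCat.of A M) i)
    (hfg.trans (map_zero _))).trans (map_zero _)

theorem qOfLE_eq_proj {I J : Ideal A} (hJI : J ≤ I) {n : ℕ} (hle : J ≤ I ^ n) (hn : J ^ n ≤ J) :
    qOfLE hJI n = proj hn ≫ proj hle :=
  ModuleCat.hom_ext (LinearMap.ext fun q => by
    obtain ⟨r, rfl⟩ := Submodule.Quotient.mk_surjective _ q
    rfl)

theorem toT_eq_zero {I : Ideal A} (hI : PrimeSpectrum.zeroLocus (I : Set A) ⊆ T)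
    {z : LocCoh.H I i M} (hz : toT T i M I hI z = 0) :
    ∃ (J : Ideal A) (h : J ≤ I), PrimeSpectrum.zeroLocus (J : Set A) ⊆ T ∧ HofLE h i M z = 0 := by
  obtain ⟨n, hn, x, rfl⟩ := toH_surj_ge I i M z 1
  rw [toT_toH] at hz
  obtain ⟨w, rfl⟩ := (extEquiv (quotPow I n) (ModuleCat.of A M) i).surjective x
  obtain ⟨J, hle, hJ, h0⟩ := iota_eq_zero T i M (zeroLocus_pow_subset T hI n) w
    ((iota_apply T i M (I ^ n) (zeroLocus_pow_subset T hI n) w).symm.trans hz)
  have hJI : J ≤ I := hle.trans (Ideal.pow_le_self (by omega))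
  refine ⟨J, hJI, hJ, ?_⟩
  rw [HofLE_toH, qOfLE_eq_proj hJI hle (Ideal.pow_le_self (by omega)),
    ← Abelian.Ext.mk₀_comp_mk₀_assoc, h0, Abelian.Ext.comp_zero, map_zero]

variable {M} {N : Type u} [AddCommGroup N] [Module A N]

/-- Functoriality. -/
def HTmap (f : M →ₗ[A] N) : Dual2.HT T i M →ₗ[A] Dual2.HT T i N :=
  ((localCohomology.ofDiagram (Dual2.idealsInDiagram T) i).map (ModuleCat.ofHom f)).hom

theorem HTmap_toT (f : M →ₗ[A] N) {I : Ideal A} (hI : PrimeSpectrum.zeroLocus (I : Set A) ⊆ T)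
    (z : LocCoh.H I i M) :
    HTmap T i f (toT T i M I hI z) = toT T i N I hI (Hmap I i f z) := by
  obtain ⟨n, x, rfl⟩ := toH_surj I i M z
  rw [Hmap_toH, toT_toH, toT_toH]
  obtain ⟨w, rfl⟩ := (extEquiv (quotPow I n) (ModuleCat.of A M) i).surjective x
  rw [← extEquiv_naturality_right]
  refine (congrArg (HTmap T i f) (iota_apply T i M (I ^ n) (zeroLocus_pow_subset T hI n) w)).trans ?_
  refine Eq.trans ?_ (iota_apply T i N (I ^ n) (zeroLocus_pow_subset T hI n) _).symm
  exact (ConcreteCategory.congr_hom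
    ((colimit.ι (localCohomology.diagram (Dual2.idealsInDiagram T) i)
      (op (mkI T (I ^ n) (zeroLocus_pow_subset T hI n)))).naturality (ModuleCat.ofHom f)) w).symm

end Groth.Agent.LC16.SuppT
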