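import Groth.Agent.LC16.SuppT

/-!
# Dévissage of `H_T` along the minimal points of `T`
-/

set_option autoImplicit false
set_option maxHeartbeats 1000000

noncomputable section

universe u

open CategoryTheory

namespace Groth.Agent.LC16.SuppT

open Groth.Agent.LC15 Groth.Agent.LC16.LocH

variable {A : Type u} [CommRing A] [IsNoetherianRing A]

section point

variable (p : PrimeSpectrum A)

theorem IS_le_maximal {I : Ideal A} (hI : I ≤ p.asIdeal) :
    IS p.asIdeal.primeCompl I ≤ IsLocalRing.maximalIdeal (Localization.AtPrime p.asIdeal) := by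
  rw [← IsLocalization.AtPrime.map_eq_maximalIdeal p.asIdeal (Localization.AtPrime p.asIdeal)]
  exact Ideal.map_mono hI

theorem maximal_le_radical {I : Ideal A}
    (hmin : ∀ q : PrimeSpectrum A, I ≤ q.asIdeal → q ≤ p → q = p) :
    IsLocalRing.maximalIdeal (Localization.AtPrime p.asIdeal) ≤ (IS p.asIdeal.primeCompl I).radical := by
  rw [Ideal.radical_eq_sInf]
  refine le_sInf ?_
  rintro P ⟨hP, hPp⟩
  haveI := hPp
  have h1 : P.comap (algebraMap A (Localization.AtPrime p.asIdeal)) ≤ p.asIdeal := fun a ha => by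
    by_contra hna
    exact hPp.ne_top (Ideal.eq_top_of_isUnit_mem P ha (IsLocalization.map_units _
      (⟨a, hna⟩ : p.asIdeal.primeCompl)))
  have h2 := hmin ⟨_, Ideal.IsPrime.comap (algebraMap A (Localization.AtPrime p.asIdeal))⟩
    (Ideal.map_le_iff_le_comap.1 hP) h1
  rw [← IsLocalization.AtPrime.map_eq_maximalIdeal p.asIdeal (Localization.AtPrime p.asIdeal)]
  refine Ideal.map_le_iff_le_comap.2 (le_of_eq ?_)
  exact (congrArg PrimeSpectrum.asIdeal h2).symm

/-- A class killed on the local cohomology of the localization is killed off the prime. -/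
theorem exists_smul_eq_zero_of_local {I : Ideal A} (hI : I ≤ p.asIdeal)
    (hmin : ∀ q : PrimeSpectrum A, I ≤ q.asIdeal → q ≤ p → q = p) (i : ℕ) {N : Type u}
    [AddCommGroup N] [Module A N] (y : LocCoh.H I i N)
    (h : ∀ w, HofLE (IS_le_maximal p hI) i (LocalizedModule p.asIdeal.primeCompl N) w =
      L p.asIdeal.primeCompl I i N y → w = 0) :
    ∃ a, a ∉ p.asIdeal ∧ a • y = 0 := by
  obtain ⟨w, hw⟩ := (HofLE_bijective_radical (IS_le_maximal p hI) i (maximal_le_radical p hmin)).2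
    (L p.asIdeal.primeCompl I i N y)
  obtain ⟨a, ha, hay⟩ := (L_eq_zero_iff p.asIdeal.primeCompl I i y).1 (by rw [← hw, h w hw, map_zero])
  exact ⟨a, ha, hay⟩

end point

/-- Prime avoidance. -/
theorem exists_avoid {κ : Type*} (s : Finset κ) (P : κ → PrimeSpectrum A) (J : Ideal A)
    (h : ∀ k ∈ s, ¬ J ≤ (P k).asIdeal) : ∃ a ∈ J, ∀ k ∈ s, a ∉ (P k).asIdeal := by
  by_contra hcon
  push Not at hcon
  have hsub : (J : Set A) ⊆ ⋃ k ∈ (s : Set κ), ((P k).asIdeal : Set A) := fun a ha => by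
    obtain ⟨k, hk, hak⟩ := hcon a ha
    exact Set.mem_biUnion hk hak
  rcases s.eq_empty_or_nonempty with rfl | ⟨k₀, hk₀⟩
  · obtain ⟨k, hk, -⟩ := hcon 0 J.zero_mem
    exact absurd hk (Finset.notMem_empty k)
  · obtain ⟨k, hk, hle⟩ := (Ideal.subset_union_prime k₀ k₀ fun k _ _ _ => (P k).isPrime).1 hsub
    exact h k hk hle

variable (T : Set (PrimeSpectrum A))

/-- The non-minimal points. -/
def drop : Set (PrimeSpectrum A) := {q | q ∈ T ∧ ∃ p ∈ T, p < q}

/-- The minimal points of `T` in `V(I)` are finite in number. -/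
theorem exists_finset_minimal {I : Ideal A} (hI : PrimeSpectrum.zeroLocus (I : Set A) ⊆ T) :
    ∃ s : Finset (PrimeSpectrum A), (∀ p ∈ s, p ∈ T ∧ p ∉ drop T ∧ I ≤ p.asIdeal ∧
      ∀ q : PrimeSpectrum A, I ≤ q.asIdeal → q ≤ p → q = p) ∧
      ∀ q : PrimeSpectrum A, I ≤ q.asIdeal → q ∉ drop T → q ∈ s := by
  classical
  have hfin : {q : PrimeSpectrum A | I ≤ q.asIdeal ∧ q ∉ drop T}.Finite := by
    refine Set.Finite.of_finite_image (f := PrimeSpectrum.asIdeal)
      ((I.finite_minimalPrimes_of_isNoetherianRing A).subset ?_)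
      (fun a _ b _ h => PrimeSpectrum.ext h)
    rintro _ ⟨q, ⟨hq, hqd⟩, rfl⟩
    refine ⟨⟨q.isPrime, hq⟩, fun r ⟨hr, hIr⟩ hrq => ?_⟩
    by_contra hne
    exact hqd ⟨hI hq, ⟨r, hr⟩, hI hIr, lt_of_le_of_ne hrq fun e => hne (e ▸ le_rfl)⟩
  refine ⟨hfin.toFinset, fun p hp => ?_, fun q h1 h2 => hfin.mem_toFinset.2 ⟨h1, h2⟩⟩
  obtain ⟨hIp, hpd⟩ := hfin.mem_toFinset.1 hp
  refine ⟨hI hIp, hpd, hIp, fun q hq hqp => ?_⟩
  by_contra hne
  exact hpd ⟨hI hIp, q, hI hq, lt_of_le_of_ne hqp hne⟩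

theorem subset_drop {I : Ideal A} (hI : PrimeSpectrum.zeroLocus (I : Set A) ⊆ T)
    {s : Finset (PrimeSpectrum A)}
    (hs : ∀ q : PrimeSpectrum A, I ≤ q.asIdeal → q ∉ drop T → q ∈ s) {a : A}
    (ha : ∀ p ∈ s, a ∉ p.asIdeal) :
    PrimeSpectrum.zeroLocus ((I ⊔ Ideal.span {a} : Ideal A) : Set A) ⊆ drop T := by
  intro q hq
  rw [PrimeSpectrum.mem_zeroLocus] at hq
  by_contra hqd
  exact ha q (hs q (le_sup_left.trans hq) hqd)
    (hq (Submodule.mem_sup_right (Ideal.mem_span_singleton_self a)))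

theorem exists_killer {i : ℕ} {N : Type u} [AddCommGroup N] [Module A N] {I : Ideal A}
    (y : LocCoh.H I i N) (s : Finset (PrimeSpectrum A))
    (h : ∀ p ∈ s, ∃ a, a ∉ p.asIdeal ∧ a • y = 0) :
    ∃ a, (∀ p ∈ s, a ∉ p.asIdeal) ∧ a • y = 0 := by
  obtain ⟨a, ha, hav⟩ := exists_avoid s id (Submodule.span A {y}).annihilator fun p hp hle => by
    obtain ⟨b, hb, hby⟩ := h p hp
    exact hb (hle ((Submodule.mem_annihilator_span_singleton y b).2 hby))
  exact ⟨a, hav, (Submodule.mem_annihilator_span_singleton y a).1 ha⟩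

/-- A class killed by `a` comes from `I + (a)`. -/
theorem exists_preimage {i : ℕ} {N : Type u} [AddCommGroup N] [Module A N] {I : Ideal A}
    (y : LocCoh.H I i N) (a : A) (hay : a • y = 0) :
    ∃ w, HofLE (le_sup_left : I ≤ I ⊔ Ideal.span {a}) i N w = y := by
  refine mem_range_HofLE _ a Ideal.le_radical N y ?_
  let e := LinearEquiv.ofBijective (LinearMap.lsmul A _ a) (smul_bijective_loc a N)
  apply (Hequiv I i e).injective
  show Hmap I i e.toLinearMap (Hmap I i (locMap a N) y) = Hmap I i e.toLinearMap 0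
  rw [show e.toLinearMap = LinearMap.lsmul A _ a from rfl, Hmap_lsmul, ← map_smul, hay, map_zero,
    map_zero]

/-- A kernel element dies after a map which is zero on the previous degree up to injectives. -/
theorem exists_shrink (S : Submonoid A) (I : Ideal A) (s : A) (hs : s ∈ S) :
    ∀ (j : ℕ) (M N : Type u) [AddCommGroup M] [Module A M] [AddCommGroup N] [Module A N]
      (φ : M →ₗ[A] N),
      (∀ c : LocCoh.H I j M, ∃ t ∈ S, ∃ (E : Type u) (_ : AddCommGroup E) (_ : Module A E)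
        (_ : Module.Injective A E) (h : E →ₗ[A] N) (e : LocCoh.H I j E),
          t • Hmap I j φ c = Hmap I j h e) →
      ∀ v : LocCoh.H (I ⊔ Ideal.span {s}) (j + 1) M,
        HofLE (le_sup_left : I ≤ I ⊔ Ideal.span {s}) (j + 1) M v = 0 →
        ∃ t ∈ S, ∃ hle : I ⊔ Ideal.span {s * t} ≤ I ⊔ Ideal.span {s},
          HofLE hle (j + 1) N (Hmap (I ⊔ Ideal.span {s}) (j + 1) φ v) = 0 := by
  have hmono : ∀ t : A, I ⊔ Ideal.span {s * t} ≤ I ⊔ Ideal.span {s} := fun t =>
    sup_le_sup le_rfl (Ideal.span_singleton_le_span_singleton.2 (dvd_mul_right s t))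
  intro j
  induction j with
  | zero =>
    intro M N _ _ _ _ φ hyp v hv
    obtain ⟨E, _, _, f, hf, hE⟩ := exists_injective_embedding (R := A) M
    obtain ⟨E', _, _, f', hf', hE'⟩ := exists_injective_embedding (R := A) N
    obtain ⟨ψ, hψ⟩ := Module.Injective.out f hf (f'.comp φ)
    let g := (LinearMap.range f).mkQ
    let g' := (LinearMap.range f').mkQ
    let χ := Submodule.mapQ (LinearMap.range f) (LinearMap.range f') ψ (by
      rintro _ ⟨m, rfl⟩; exact ⟨φ m, (hψ m).symm⟩)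
    obtain ⟨z, rfl⟩ := Hδ_surjective (I ⊔ Ideal.span {s}) 0 hf (LinearMap.exact_map_mkQ_range f)
      (Submodule.mkQ_surjective _) (subsingleton_H_succ_of_injective _ 0) v
    rw [HofLE_Hδ] at hv
    obtain ⟨w, hw⟩ := (H_exact₃ I 0 _ _ _ _).1 hv
    have hge : g (h0 I E w) = h0 (I ⊔ Ideal.span {s}) (E ⧸ LinearMap.range f) z := by
      rw [← h0_Hmap, hw, h0_HofLE]
    obtain ⟨N₁, hN₁⟩ := (range_h0 (I ⊔ Ideal.span {s}) (E ⧸ LinearMap.range f)).le ⟨z, rfl⟩
    obtain ⟨m, hm⟩ := (LinearMap.exact_map_mkQ_range f (s ^ N₁ • h0 I E w)).1 (by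
      show g (s ^ N₁ • h0 I E w) = 0
      rw [map_smul, hge, hN₁ _ (Ideal.pow_mem_pow
        (Submodule.mem_sup_right (Ideal.mem_span_singleton_self s)) N₁)])
    have hmI : m ∈ gamma I M := by
      obtain ⟨n, hn⟩ := (range_h0 I E).le ⟨w, rfl⟩
      refine ⟨n, fun a ha => hf ?_⟩
      rw [map_smul, hm, map_zero, smul_comm, hn a ha, smul_zero]
    obtain ⟨c, hc⟩ := (range_h0 I M).ge hmI
    obtain ⟨t, ht, E₁, _, _, _, h, e, he⟩ := hyp c
    have h1 : t • φ m = h (h0 I E₁ e) := by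
      rw [← hc, ← h0_Hmap, ← h0_Hmap, ← map_smul, he]
    set q := s * t
    haveI : Module.Injective A (gamma I E₁) := injective_gamma I E₁
    obtain ⟨e₁, k, hk⟩ := InjLoc.exists_smul_eq (gamma I E₁) q (N₁ + 1)
      (s • t ^ N₁ • (⟨h0 I E₁ e, (range_h0 I E₁).le ⟨e, rfl⟩⟩ : gamma I E₁))
    have hk' : q ^ k • q ^ (N₁ + 1) • (e₁ : E₁) = q ^ k • s • t ^ N₁ • h0 I E₁ e :=
      congrArg Subtype.val hk
    let u : E' := ψ (h0 I E w) - f' (h (e₁ : E₁))
    have hku : q ^ (k + (N₁ + 1)) • u = 0 := by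
      have h2 : s ^ N₁ • ψ (h0 I E w) = f' (φ m) := by rw [← map_smul, ← hm, hψ]; rfl
      have h3 : q ^ (k + (N₁ + 1)) • ψ (h0 I E w) = q ^ k • s • t ^ N₁ • f' (h (h0 I E₁ e)) := by
        rw [← h1, map_smul, ← h2, smul_smul, smul_smul, smul_smul, smul_smul]
        congr 1
        simp only [q]
        ring
      have h4 : q ^ (k + (N₁ + 1)) • f' (h (e₁ : E₁)) = q ^ k • s • t ^ N₁ • f' (h (h0 I E₁ e)) := by
        rw [pow_add, mul_smul, ← map_smul, ← map_smul, ← map_smul, ← map_smul, hk', map_smul,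
          map_smul, map_smul, map_smul, map_smul, map_smul]
      show q ^ (k + (N₁ + 1)) • (ψ (h0 I E w) - f' (h (e₁ : E₁))) = 0
      rw [smul_sub, h3, h4, sub_self]
    have huI : u ∈ gamma I E' :=
      Submodule.sub_mem _ (map_mem_gamma ψ ((range_h0 I E).le ⟨w, rfl⟩))
        (map_mem_gamma (f'.comp h) e₁.2)
    have hu : u ∈ gamma (I ⊔ Ideal.span {q}) E' := by
      refine (mem_gamma_sup I _).2 ⟨huI, k + (N₁ + 1), fun a ha => ?_⟩
      rw [Ideal.span_singleton_pow, Ideal.mem_span_singleton'] at ha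
      obtain ⟨b, rfl⟩ := ha
      rw [mul_smul, hku, smul_zero]
    obtain ⟨w', hw'⟩ := (range_h0 (I ⊔ Ideal.span {q}) E').ge hu
    refine ⟨t, ht, hmono t, ?_⟩
    have hsq : g'.comp ψ = χ.comp g := LinearMap.ext fun x => rfl
    rw [Colim.Hδ_naturality (I ⊔ Ideal.span {s}) 0 hf (LinearMap.exact_map_mkQ_range f)
      (Submodule.mkQ_surjective _) hf' (LinearMap.exact_map_mkQ_range f')
      (Submodule.mkQ_surjective _) φ ψ χ (LinearMap.ext hψ) hsq.symm, HofLE_Hδ]
    refine (H_exact₃ _ 0 _ _ _ _).2 ⟨w', h0_injective _ _ ?_⟩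
    rw [h0_Hmap, hw', h0_HofLE, h0_Hmap, ← hge]
    show g' (ψ (h0 I E w) - f' (h (e₁ : E₁))) = χ (g (h0 I E w))
    rw [map_sub, (LinearMap.exact_map_mkQ_range f').apply_apply_eq_zero, sub_zero]
    rfl
  | succ j ih =>
    intro M N _ _ _ _ φ hyp v hv
    obtain ⟨E, _, _, f, hf, hE⟩ := exists_injective_embedding (R := A) M
    obtain ⟨E', _, _, f', hf', hE'⟩ := exists_injective_embedding (R := A) N
    obtain ⟨ψ, hψ⟩ := Module.Injective.out f hf (f'.comp φ)
    let g := (LinearMap.range f).mkQ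
    let g' := (LinearMap.range f').mkQ
    let χ := Submodule.mapQ (LinearMap.range f) (LinearMap.range f') ψ (by
      rintro _ ⟨m, rfl⟩; exact ⟨φ m, (hψ m).symm⟩)
    have hsq : χ.comp g = g'.comp ψ := LinearMap.ext fun x => rfl
    have nat := fun (K : Ideal A) (k : ℕ) => Colim.Hδ_naturality K k hf
      (LinearMap.exact_map_mkQ_range f) (Submodule.mkQ_surjective _) hf'
      (LinearMap.exact_map_mkQ_range f') (Submodule.mkQ_surjective _) φ ψ χ (LinearMap.ext hψ) hsq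
    obtain ⟨z, rfl⟩ := Hδ_surjective (I ⊔ Ideal.span {s}) (j + 1) hf (LinearMap.exact_map_mkQ_range f)
      (Submodule.mkQ_surjective _) (subsingleton_H_succ_of_injective _ (j + 1)) v
    rw [HofLE_Hδ] at hv
    obtain ⟨w, hw⟩ := (H_exact₃ I (j + 1) _ _ _ _).1 hv
    rw [(subsingleton_H_succ_of_injective (M := E) I j).elim w 0, map_zero] at hw
    obtain ⟨t, ht, hle, h0⟩ := ih _ _ χ (fun c => by
      obtain ⟨t, ht, E₁, _, _, _, h, e, he⟩ := hyp (Hδ I j hf (LinearMap.exact_map_mkQ_range f)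
        (Submodule.mkQ_surjective _) c)
      rw [(subsingleton_H_succ_of_injective (M := E₁) I j).elim e 0, map_zero, nat, ← map_smul] at he
      obtain ⟨e', he'⟩ := (H_exact₃ I j _ _ _ _).1 he
      exact ⟨t, ht, E', _, _, hE', g', e', he'.symm⟩) z hw.symm
    refine ⟨t, ht, hle, ?_⟩
    rw [nat, HofLE_Hδ, h0, map_zero]

end Groth.Agent.LC16.SuppT
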