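import Groth.Prelude.Def_Wider
import Mathlib.Algebra.Category.ModuleCat.Abelian
import Mathlib.Algebra.DirectSum.Module
import Mathlib.Algebra.Homology.ShortComplex.ModuleCat
import Mathlib.CategoryTheory.Abelian.Projective.Resolution

/-!
Left resolutions of torsion modules by sums of quotients by powers.
-/

namespace Groth.Agent.LC16.TorsionLeftRes

universe u

set_option autoImplicit false

open CategoryTheory CategoryTheory.Limits
open scoped DirectSum

variable {R : Type u} [CommRing R] (I : Ideal R)

/-- torsion modules -/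
abbrev Tors : Type (u + 1) := {M : ModuleCat.{u} R // LocCoh.IsPowerTorsion I M}

variable {I}

/-- exponent killing an element -/
noncomputable def expo (S : Tors I) (m : S.1) : ℕ := (S.2 m).choose

/-- the covering sum -/
noncomputable abbrev cover (S : Tors I) : ModuleCat.{u} R :=
  ModuleCat.of R (⨁ m : S.1, R ⧸ I ^ expo S m)

/-- the covering map -/
noncomputable def proj (S : Tors I) : cover S →ₗ[R] S.1 :=
  haveI := Classical.decEq (S.1 : Type u)
  DirectSum.toModule R _ _ fun m =>
    Submodule.liftQ (I ^ expo S m) (LinearMap.toSpanSingleton R _ m) fun a ha =>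
      (S.2 m).choose_spec a ha

theorem proj_surjective (S : Tors I) : Function.Surjective (proj S) := fun m => by
  classical
  refine ⟨DirectSum.lof R _ (fun m : S.1 => R ⧸ I ^ expo S m) m (Submodule.Quotient.mk 1), ?_⟩
  rw [proj, DirectSum.toModule_lof]
  exact one_smul R m

theorem isPowerTorsion_cover (S : Tors I) : LocCoh.IsPowerTorsion I (cover S) := fun x => by
  classical
  change (⨁ m : S.1, R ⧸ I ^ expo S m) at x
  change ∃ n, ∀ a ∈ I ^ n, a • x = 0
  induction x using DirectSum.induction_on with
  | zero => exact ⟨0, fun a _ => smul_zero a⟩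
  | of m r =>
    refine ⟨expo S m, fun a ha => ?_⟩
    obtain ⟨r, rfl⟩ := Submodule.Quotient.mk_surjective _ r
    rw [← DirectSum.lof_eq_of R, ← map_smul, ← Submodule.Quotient.mk_smul,
      (Submodule.Quotient.mk_eq_zero _).2 (show a • r ∈ I ^ expo S m from (I ^ expo S m).mul_mem_right r ha),
      map_zero]
  | add x y hx hy =>
    obtain ⟨n, hn⟩ := hx
    obtain ⟨k, hk⟩ := hy
    refine ⟨max n k, fun a ha => ?_⟩
    rw [smul_add, hn a (Ideal.pow_le_pow_right (le_max_left n k) ha),
      hk a (Ideal.pow_le_pow_right (le_max_right n k) ha), add_zero]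

/-- the syzygy -/
noncomputable def next (S : Tors I) : Tors I :=
  ⟨ModuleCat.of R (LinearMap.ker (proj S)), fun x => by
    obtain ⟨n, hn⟩ := isPowerTorsion_cover S x.1
    exact ⟨n, fun a ha => Subtype.ext (hn a ha)⟩⟩

/-- the syzygies -/
noncomputable def syz (S : Tors I) : ℕ → Tors I
  | 0 => S
  | n + 1 => next (syz S n)

/-- the differential -/
noncomputable def dd (S : Tors I) (n : ℕ) : cover (syz S (n + 1)) ⟶ cover (syz S n) :=
  ModuleCat.ofHom ((LinearMap.ker (proj (syz S n))).subtype ∘ₗ proj (syz S (n + 1)))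

theorem dd_apply (S : Tors I) (n : ℕ) (x : cover (syz S (n + 1))) :
    (dd S n).hom x = (proj (syz S (n + 1)) x).1 := rfl

theorem range_dd (S : Tors I) (n : ℕ) :
    LinearMap.range (dd S n).hom = LinearMap.ker (proj (syz S n)) := by
  ext y
  refine ⟨fun ⟨x, hx⟩ => hx ▸ ((dd_apply S n x) ▸ (proj (syz S (n + 1)) x).2), fun hy => ?_⟩
  obtain ⟨x, hx⟩ := proj_surjective (syz S (n + 1)) ⟨y, hy⟩
  exact ⟨x, (dd_apply S n x).trans (congrArg Subtype.val hx)⟩

theorem ker_dd (S : Tors I) (n : ℕ) :
    LinearMap.ker (dd S n).hom = LinearMap.ker (proj (syz S (n + 1))) := by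
  ext x
  exact ⟨fun h => Subtype.ext h, fun h => congrArg Subtype.val h⟩

theorem dd_dd (S : Tors I) (n : ℕ) : dd S (n + 1) ≫ dd S n = 0 := by
  apply ModuleCat.hom_ext
  refine LinearMap.ext fun x => ?_
  have : (dd S (n + 1)).hom x ∈ LinearMap.ker (dd S n).hom := by
    rw [ker_dd, ← range_dd]; exact ⟨x, rfl⟩
  exact this

/-- the complex -/
noncomputable def cx (S : Tors I) : ChainComplex (ModuleCat.{u} R) ℕ :=
  ChainComplex.of (fun n => cover (syz S n)) (dd S) (dd_dd S)

theorem cx_d (S : Tors I) (n : ℕ) : (cx S).d (n + 1) n = dd S n := by simp [cx]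

/-- the augmentation -/
noncomputable def aug (S : Tors I) : cx S ⟶ (ChainComplex.single₀ _).obj S.1 :=
  (ChainComplex.toSingle₀Equiv _ _).symm ⟨ModuleCat.ofHom (proj S), by
    rw [cx_d]
    apply ModuleCat.hom_ext
    refine LinearMap.ext fun x => ?_
    have : (dd S 0).hom x ∈ LinearMap.ker (proj S) := by
      change _ ∈ LinearMap.ker (proj (syz S 0))
      rw [← range_dd]; exact ⟨x, rfl⟩
    exact this⟩

theorem aug_f_zero (S : Tors I) : (aug S).f 0 = ModuleCat.ofHom (proj S) :=
  ChainComplex.toSingle₀Equiv_symm_apply_f_zero _ _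

theorem quasiIso_aug (S : Tors I) : QuasiIso (aug S) := ⟨fun n => by
  cases n with
  | zero =>
    rw [ChainComplex.quasiIsoAt₀_iff, ShortComplex.quasiIso_iff_of_zeros']
    · refine (ShortComplex.exact_and_epi_g_iff_of_iso
        (S₂ := ShortComplex.mk (dd S 0) (ModuleCat.ofHom (proj S)) (by
          apply ModuleCat.hom_ext
          refine LinearMap.ext fun x => ?_
          have : (dd S 0).hom x ∈ LinearMap.ker (proj (syz S 0)) := by
            rw [← range_dd]; exact ⟨x, rfl⟩
          exact this)) ?_).2 ⟨?_, ?_⟩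
      · exact ShortComplex.isoMk (Iso.refl _) (Iso.refl _) (Iso.refl _)
          (by
            refine (Category.id_comp _).trans ?_
            exact (cx_d S 0).symm.trans (Category.comp_id _).symm)
          (by
            refine (Category.id_comp _).trans ?_
            exact (aug_f_zero S).symm.trans (Category.comp_id _).symm)
      · rw [ShortComplex.ShortExact.moduleCat_exact_iff_function_exact]
        exact LinearMap.exact_iff.2 (range_dd S 0).symm
      · exact (ModuleCat.epi_iff_surjective _).2 (proj_surjective S)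
    all_goals rfl
  | succ n =>
    rw [quasiIsoAt_iff_exactAt']
    · rw [HomologicalComplex.exactAt_iff' _ (n + 2) (n + 1) n (by simp) (by simp)]
      rw [ShortComplex.ShortExact.moduleCat_exact_iff_function_exact]
      show Function.Exact ((cx S).d (n + 1 + 1) (n + 1)).hom ((cx S).d (n + 1) n).hom
      rw [cx_d, cx_d]
      exact LinearMap.exact_iff.2 ((ker_dd S n).trans (range_dd S (n + 1)).symm)
    · exact ChainComplex.exactAt_succ_single_obj _ _⟩

end Groth.Agent.LC16.TorsionLeftRes
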